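import Groth.Agent.H15Site.ModTensor
import Mathlib.LinearAlgebra.DirectSum.TensorProduct

/-!
Extension by zero for presheaves of modules on a localised site: `(j M)(V) = ⨁_{φ : V ⟶ U} M(φ)`,
adjoint to restriction, with the projection formula.
-/

universe u
open CategoryTheory CategoryTheory.Limits MonoidalCategory Opposite

namespace Groth.Agent.H15Site.OverPre

open scoped DirectSum

variable {C : Type u} [SmallCategory C] (R : Cᵒᵖ ⥤ CommRingCat.{u}) (U : C)

/-- Presheaves of modules over `R`. -/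
abbrev PR := PresheafOfModules.{u} (R ⋙ forget₂ CommRingCat.{u} RingCat.{u})

/-- Presheaves of modules on `C/U`. -/
abbrev PRU := PresheafOfModules.{u}
  (((Over.forget U).op ⋙ R) ⋙ forget₂ CommRingCat.{u} RingCat.{u})

/-- Restriction to `C/U`. -/
noncomputable abbrev resP : PR R ⥤ PRU R U :=
  PresheafOfModules.pushforward₀OfCommRingCat (Over.forget U) R

variable {R U}

attribute [local instance] Classical.decEq

instance modFib (M : PRU R U) {X : Cᵒᵖ} (φ : X.unop ⟶ U) :
    Module (R.obj X) (M.obj (op (Over.mk φ))) :=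
  (M.obj (op (Over.mk φ))).isModule

/-- The value of `M` at `φ : X ⟶ U`, as a module over `R(X)`. -/
abbrev fib (M : PRU R U) {X : Cᵒᵖ} (φ : X.unop ⟶ U) : ModuleCat.{u} (R.obj X) :=
  ModuleCat.of (R.obj X) (M.obj (op (Over.mk φ)))

/-- The sections of the extension by zero. -/
noncomputable abbrev jObjX (M : PRU R U) (X : Cᵒᵖ) : ModuleCat.{u} (R.obj X) :=
  ModuleCat.of (R.obj X) (⨁ φ : X.unop ⟶ U, fib M φ)

/-- The inclusion of a summand. -/
noncomputable def inc (M : PRU R U) {X : Cᵒᵖ} (φ : X.unop ⟶ U) : fib M φ ⟶ jObjX M X :=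
  ModuleCat.ofHom (DirectSum.lof (R.obj X) _ (fun φ => fib M φ) φ)

/-- Maps out of the direct sum. -/
noncomputable def jDesc (M : PRU R U) {X : Cᵒᵖ} {A : ModuleCat.{u} (R.obj X)}
    (g : ∀ φ : X.unop ⟶ U, fib M φ ⟶ A) : jObjX M X ⟶ A :=
  ModuleCat.ofHom (DirectSum.toModule (R.obj X) _ A fun φ => (g φ).hom)

/-- The projection to a summand. -/
noncomputable def proj (M : PRU R U) {X : Cᵒᵖ} (φ : X.unop ⟶ U) : jObjX M X ⟶ fib M φ :=
  ModuleCat.ofHom (DirectSum.component (R.obj X) _ (fun φ => fib M φ) φ)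

@[reassoc (attr := simp)]
lemma inc_jDesc (M : PRU R U) {X : Cᵒᵖ} {A : ModuleCat.{u} (R.obj X)}
    (g : ∀ φ : X.unop ⟶ U, fib M φ ⟶ A) (φ : X.unop ⟶ U) : inc M φ ≫ jDesc M g = g φ := by
  ext m
  exact DirectSum.toModule_lof (R := R.obj X) (M := fun φ => fib M φ) (N := A)
    (φ := fun φ => (g φ).hom) φ m

lemma jDesc_ext (M : PRU R U) {X : Cᵒᵖ} {A : ModuleCat.{u} (R.obj X)} {g g' : jObjX M X ⟶ A}
    (h : ∀ φ : X.unop ⟶ U, inc M φ ≫ g = inc M φ ≫ g') : g = g' := by
  classical
  refine ModuleCat.hom_ext (DirectSum.linearMap_ext _ fun φ => ?_)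
  exact LinearMap.ext fun m => congrArg (fun k => k.hom m) (h φ)

lemma jDesc_apply_inc (M : PRU R U) {X : Cᵒᵖ} {A : ModuleCat.{u} (R.obj X)}
    (g : ∀ φ : X.unop ⟶ U, fib M φ ⟶ A) (φ : X.unop ⟶ U) (m : fib M φ) :
    (jDesc M g).hom ((inc M φ).hom m) = (g φ).hom m :=
  congr($(inc_jDesc M g φ) m)

lemma proj_inc_self (M : PRU R U) {X : Cᵒᵖ} (φ : X.unop ⟶ U) (m : fib M φ) :
    (proj M φ).hom ((inc M φ).hom m) = m := by
  classical
  exact DirectSum.component.lof_self (R := R.obj X) (M := fun φ => fib M φ) φ m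

lemma proj_inc_ne (M : PRU R U) {X : Cᵒᵖ} {φ ψ : X.unop ⟶ U} (h : φ ≠ ψ) (m : fib M φ) :
    (proj M ψ).hom ((inc M φ).hom m) = 0 := by
  classical
  exact (DirectSum.component.of _ _ _ _).trans (dif_neg (Ne.symm h.symm))

lemma proj_ext (M : PRU R U) {X : Cᵒᵖ} {x y : jObjX M X}
    (h : ∀ φ, (proj M φ).hom x = (proj M φ).hom y) : x = y :=
  DirectSum.ext_component _ h

/-- Restriction maps. -/
noncomputable def jMap (M : PRU R U) {X Y : Cᵒᵖ} (f : X ⟶ Y) :
    jObjX M X ⟶ (ModuleCat.restrictScalars (R.map f).hom).obj (jObjX M Y) :=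
  jDesc M fun φ =>
    M.map (Over.homMk f.unop : Over.mk (f.unop ≫ φ) ⟶ Over.mk φ).op ≫
      (ModuleCat.restrictScalars (R.map f).hom).map (inc M (f.unop ≫ φ))

lemma jMap_inc (M : PRU R U) {X Y : Cᵒᵖ} (f : X ⟶ Y) {φ : X.unop ⟶ U} {ψ : Y.unop ⟶ U}
    (e : Over.mk ψ ⟶ Over.mk φ) (he : e.left = f.unop) (m : fib M φ) :
    (jMap M f).hom ((inc M φ).hom m) = (inc M ψ).hom (M.map e.op m) := by
  obtain rfl : ψ = f.unop ≫ φ := by rw [← he]; exact (Over.w e).symm
  obtain rfl : e = Over.homMk f.unop := by ext; exact he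
  exact jDesc_apply_inc M _ φ m

lemma jMap_ext (M : PRU R U) {X : Cᵒᵖ} {A : ModuleCat.{u} (R.obj X)}
    {g g' : jObjX M X ⟶ A}
    (h : ∀ φ (m : fib M φ), g.hom ((inc M φ).hom m) = g'.hom ((inc M φ).hom m)) : g = g' :=
  jDesc_ext M fun φ => ModuleCat.hom_ext (LinearMap.ext (h φ))

/-- Extension by zero of a presheaf of modules. -/
noncomputable def jObj (M : PRU R U) : PR R where
  obj X := jObjX M X
  map f := jMap M f
  map_id X := jMap_ext M fun φ m => by
    refine (jMap_inc M (𝟙 X) (𝟙 (Over.mk φ)) rfl m).trans ?_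
    exact congrArg (inc M φ).hom (ConcreteCategory.congr_hom (M.presheaf.map_id _) m)
  map_comp {X Y Z} f g := jMap_ext M fun φ m => by
    let e₁ : Over.mk (f.unop ≫ φ) ⟶ Over.mk φ := Over.homMk f.unop
    let e₂ : Over.mk (g.unop ≫ f.unop ≫ φ) ⟶ Over.mk (f.unop ≫ φ) := Over.homMk g.unop
    refine (jMap_inc M (f ≫ g) (e₂ ≫ e₁) rfl m).trans ?_
    refine Eq.trans ?_ (congrArg (fun t => (jMap M g).hom t) (jMap_inc M f e₁ rfl m)).symm
    refine Eq.trans ?_ (jMap_inc M g e₂ rfl _).symm
    exact congrArg (inc M _).hom (PresheafOfModules.map_comp_apply M e₁.op e₂.op m)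

/-- Functoriality of the extension by zero. -/
noncomputable def jMapHom {M N : PRU R U} (u : M ⟶ N) : jObj M ⟶ jObj N where
  app X := jDesc M fun φ => u.app (op (Over.mk φ)) ≫ inc N φ
  naturality {X Y} f := jMap_ext M fun φ m => by
    let e : Over.mk (f.unop ≫ φ) ⟶ Over.mk φ := Over.homMk f.unop
    show (jDesc M fun ψ => u.app (op (Over.mk ψ)) ≫ inc N ψ).hom ((jMap M f).hom ((inc M φ).hom m)) =
      (jMap N f).hom ((jDesc M fun ψ => u.app (op (Over.mk ψ)) ≫ inc N ψ).hom ((inc M φ).hom m))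
    rw [jDesc_apply_inc]
    refine (congrArg _ (jMap_inc M f e rfl m)).trans ?_
    refine Eq.trans ?_ (jMap_inc N f e rfl _).symm
    refine (jDesc_apply_inc M _ _ _).trans ?_
    exact congrArg (inc N _).hom (PresheafOfModules.naturality_apply u e.op m)

lemma jMapHom_inc {M N : PRU R U} (u : M ⟶ N) {X : Cᵒᵖ} (φ : X.unop ⟶ U) (m : fib M φ) :
    ((jMapHom u).app X).hom ((inc M φ).hom m) = (inc N φ).hom ((u.app (op (Over.mk φ))).hom m) :=
  jDesc_apply_inc M _ φ m

variable (R U)

/-- The extension by zero functor on presheaves of modules. -/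
noncomputable def jP : PRU R U ⥤ PR R where
  obj := jObj
  map := jMapHom
  map_id M := PresheafOfModules.hom_ext fun X => jMap_ext M fun φ m =>
    jMapHom_inc (𝟙 M) φ m
  map_comp {M N P} u v := PresheafOfModules.hom_ext fun X => jMap_ext M fun φ m => by
    refine (jMapHom_inc (u ≫ v) φ m).trans ?_
    exact (((congrArg _ (jMapHom_inc u φ m)).trans (jMapHom_inc v φ _))).symm

/-- The unit: a section goes to its summand. -/
noncomputable def jUnit : 𝟭 _ ⟶ jP R U ⋙ resP R U :=
    { app := fun M =>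
        { app := fun Y => inc M (X := op Y.unop.left) Y.unop.hom
          naturality := fun {Y Z} f => by
            refine ModuleCat.hom_ext (LinearMap.ext fun m => ?_)
            exact (jMap_inc M (X := op Y.unop.left) (Y := op Z.unop.left) f.unop.left.op f.unop rfl m).symm }
      naturality := fun {M N} u => PresheafOfModules.hom_ext fun Y => by
        refine ModuleCat.hom_ext (LinearMap.ext fun m => ?_)
        exact (jMapHom_inc u (X := op Y.unop.left) Y.unop.hom m).symm }

/-- The counit: sum up. -/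
noncomputable def jCounit : resP R U ⋙ jP R U ⟶ 𝟭 _ :=
    { app := fun N =>
        { app := fun X => jDesc ((resP R U).obj N) fun φ => 𝟙 (N.obj X)
          naturality := fun {X Y} f => jMap_ext _ fun φ m => by
            show (jDesc ((resP R U).obj N) fun _ => 𝟙 (N.obj Y)).hom
                ((jMap ((resP R U).obj N) f).hom ((inc ((resP R U).obj N) φ).hom m)) =
              (N.map f).hom ((jDesc ((resP R U).obj N) fun _ => 𝟙 (N.obj X)).hom
                ((inc ((resP R U).obj N) φ).hom m))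
            refine (congrArg _ (jMap_inc ((resP R U).obj N) f (Over.homMk f.unop :
              Over.mk (f.unop ≫ φ) ⟶ Over.mk φ) rfl m)).trans ?_
            refine (jDesc_apply_inc ((resP R U).obj N) _ _ _).trans ?_
            exact (congrArg (N.map f).hom
              (jDesc_apply_inc ((resP R U).obj N) (fun _ => 𝟙 (N.obj X)) φ m)).symm }
      naturality := fun {M N} u => PresheafOfModules.hom_ext fun X => jMap_ext _ fun φ m => by
        show (jDesc ((resP R U).obj N) fun _ => 𝟙 (N.obj X)).hom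
            (((jMapHom ((resP R U).map u)).app X).hom ((inc ((resP R U).obj M) φ).hom m)) =
          (u.app X).hom ((jDesc ((resP R U).obj M) fun _ => 𝟙 (M.obj X)).hom
            ((inc ((resP R U).obj M) φ).hom m))
        refine (congrArg _ (jMapHom_inc ((resP R U).map u) φ m)).trans ?_
        refine (jDesc_apply_inc ((resP R U).obj N) _ _ _).trans ?_
        exact (congrArg (u.app X).hom
          (jDesc_apply_inc ((resP R U).obj M) (fun _ => 𝟙 (M.obj X)) φ m)).symm }

lemma jUnit_apply (M : PRU R U) (Y : (Over U)ᵒᵖ) (m : M.obj Y) :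
    (((jUnit R U).app M).app Y).hom m = (inc M (X := op Y.unop.left) Y.unop.hom).hom m := rfl

lemma jCounit_inc (N : PR R) {X : Cᵒᵖ} (φ : X.unop ⟶ U) (m : fib ((resP R U).obj N) φ) :
    (((jCounit R U).app N).app X).hom ((inc ((resP R U).obj N) φ).hom m) = m :=
  jDesc_apply_inc ((resP R U).obj N) (fun _ => 𝟙 (N.obj X)) φ m

/-- `jP ⊣ resP`. -/
noncomputable def jAdj : jP R U ⊣ resP R U where
  unit := jUnit R U
  counit := jCounit R U
  left_triangle_components M := PresheafOfModules.hom_ext fun X => jMap_ext M fun φ m => by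
    show (((jCounit R U).app (jObj M)).app X).hom
      (((jMapHom ((jUnit R U).app M)).app X).hom ((inc M φ).hom m)) = (inc M φ).hom m
    exact (congrArg _ (jMapHom_inc ((jUnit R U).app M) φ m)).trans (jCounit_inc R U (jObj M) φ _)
  right_triangle_components N := PresheafOfModules.hom_ext fun Y => by
    refine ModuleCat.hom_ext (LinearMap.ext fun m => ?_)
    exact jCounit_inc R U N (X := op Y.unop.left) Y.unop.hom m

variable {R U}

lemma proj_jMapHom {M N : PRU R U} (u : M ⟶ N) {X : Cᵒᵖ} (ψ : X.unop ⟶ U) (x : jObjX M X) :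
    (proj N ψ).hom (((jMapHom u).app X).hom x) =
      (u.app (op (Over.mk ψ))).hom ((proj M ψ).hom x) := by
  refine congr($(jMap_ext M (g := (jMapHom u).app X ≫ proj N ψ)
    (g' := proj M ψ ≫ (u.app (op (Over.mk ψ)) : fib M ψ ⟶ fib N ψ)) fun φ m => ?_) x)
  show (proj N ψ).hom (((jMapHom u).app X).hom ((inc M φ).hom m)) =
    (u.app (op (Over.mk ψ))).hom ((proj M ψ).hom ((inc M φ).hom m))
  rw [jMapHom_inc]
  rcases eq_or_ne φ ψ with rfl | h
  · exact (proj_inc_self N φ _).trans (congrArg _ (proj_inc_self M φ m)).symm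
  · exact (proj_inc_ne N h _).trans ((congrArg _ (proj_inc_ne M h m)).trans (map_zero _)).symm

variable (R U)

instance : (jP R U).PreservesMonomorphisms where
  preserves {M N} u hu := PresheafOfModules.mono_of_injective fun X x y hxy =>
    proj_ext M fun φ => PresheafOfModules.injective_of_mono u (op (Over.mk φ))
      ((proj_jMapHom u φ x).symm.trans ((congrArg (proj N φ).hom hxy).trans (proj_jMapHom u φ y)))

instance mono_jAdj_unit (M : PRU R U) : Mono ((jAdj R U).unit.app M) :=
  PresheafOfModules.mono_of_injective fun Y m m' h => by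
    have h' := congrArg (proj M (X := op Y.unop.left) Y.unop.hom).hom h
    exact (proj_inc_self M (X := op Y.unop.left) Y.unop.hom m).symm.trans
      (h'.trans (proj_inc_self M (X := op Y.unop.left) Y.unop.hom m'))

/-- Restriction commutes with the sectionwise tensor product. -/
noncomputable def resTensor (A B : PR R) :
    (resP R U).obj A ⊗ (resP R U).obj B ≅ (resP R U).obj (A ⊗ B) :=
  PresheafOfModules.isoMk (fun _ => Iso.refl _)
    (fun _ _ _ => ModuleCat.MonoidalCategory.tensor_ext fun _ _ => rfl)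

lemma resTensor_naturality {A A' B B' : PR R} (a : A ⟶ A') (b : B ⟶ B') :
    ((resP R U).map a ⊗ₘ (resP R U).map b) ≫ (resTensor R U A' B').hom =
      (resTensor R U A B).hom ≫ (resP R U).map (a ⊗ₘ b) :=
  PresheafOfModules.hom_ext fun _ => ModuleCat.MonoidalCategory.tensor_ext fun _ _ => rfl

/-- The comparison map of the projection formula. -/
noncomputable def projHom (M : PRU R U) (N : PR R) :
    (jP R U).obj (M ⊗ (resP R U).obj N) ⟶ (jP R U).obj M ⊗ N :=
  ((jAdj R U).homEquiv _ _).symm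
    (((jAdj R U).unit.app M ▷ (resP R U).obj N) ≫ (resTensor R U _ N).hom)

lemma projHom_naturality {M M' : PRU R U} {N N' : PR R} (a : M ⟶ M') (b : N ⟶ N') :
    (jP R U).map (a ⊗ₘ (resP R U).map b) ≫ projHom R U M' N' =
      projHom R U M N ≫ ((jP R U).map a ⊗ₘ b) := by
  rw [projHom, projHom, ← Adjunction.homEquiv_naturality_left_symm,
    ← Adjunction.homEquiv_naturality_right_symm]
  congr 1
  rw [Category.assoc, ← resTensor_naturality, ← tensorHom_id, ← tensorHom_id,
    tensorHom_comp_tensorHom_assoc, tensorHom_comp_tensorHom_assoc, Category.id_comp,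
    Category.comp_id]
  congr 2
  exact (jAdj R U).unit.naturality a

lemma projHom_inc (M : PRU R U) (N : PR R) {X : Cᵒᵖ} (φ : X.unop ⟶ U) (m : fib M φ) (n : N.obj X) :
    ((projHom R U M N).app X).hom
      ((inc (M ⊗ (resP R U).obj N) φ).hom (m ⊗ₜ[R.obj X] n)) =
      ((inc M φ).hom m) ⊗ₜ[R.obj X] n := by
  rw [projHom, Adjunction.homEquiv_counit]
  refine (congrArg (((jCounit R U).app ((jP R U).obj M ⊗ N)).app X).hom
    (jMapHom_inc (((jAdj R U).unit.app M ▷ (resP R U).obj N) ≫ (resTensor R U _ N).hom) φ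
      (m ⊗ₜ[R.obj X] n))).trans ?_
  exact jCounit_inc R U ((jP R U).obj M ⊗ N) φ _

/-- The inverse of the projection formula on sections. -/
noncomputable def projInv (M : PRU R U) (N : PR R) (X : Cᵒᵖ) :
    ((jP R U).obj M ⊗ N).obj X ⟶ ((jP R U).obj (M ⊗ (resP R U).obj N)).obj X :=
  ModuleCat.ofHom (R := R.obj X) (X := TensorProduct (R.obj X) (jObjX M X) (N.obj X))
    (Y := jObjX (M ⊗ (resP R U).obj N) X) (TensorProduct.lift
    (DirectSum.toModule (R.obj X) _ _ fun φ : X.unop ⟶ U =>
      ((TensorProduct.mk (R.obj X) (fib M φ) (N.obj X)).compr₂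
        (inc (M ⊗ (resP R U).obj N) φ).hom)))

lemma projInv_inc (M : PRU R U) (N : PR R) {X : Cᵒᵖ} (φ : X.unop ⟶ U) (m : fib M φ) (n : N.obj X) :
    (projInv R U M N X).hom (((inc M φ).hom m) ⊗ₜ[R.obj X] n) =
      (inc (M ⊗ (resP R U).obj N) φ).hom (m ⊗ₜ[R.obj X] n) := by
  refine (TensorProduct.lift.tmul (M := jObjX M X) (N := N.obj X)
    (P₂ := jObjX (M ⊗ (resP R U).obj N) X) _ _).trans ?_
  exact congrArg (fun k => k n) (DirectSum.toModule_lof (R := R.obj X)
    (M := fun φ => fib M φ)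
    (φ := fun φ : X.unop ⟶ U => ((TensorProduct.mk (R.obj X) (fib M φ) (N.obj X)).compr₂
      (inc (M ⊗ (resP R U).obj N) φ).hom)) φ m)

theorem isIso_projHom (M : PRU R U) (N : PR R) : IsIso (projHom R U M N) := by
  have h : ∀ X : Cᵒᵖ, IsIso ((projHom R U M N).app X) := fun X => by
    refine ⟨projInv R U M N X, jDesc_ext _ fun φ => ?_, ?_⟩
    · refine ModuleCat.MonoidalCategory.tensor_ext (R := R.obj X) (M₁ := fib M φ)
        (M₂ := N.obj X) fun m n => ?_
      exact (congrArg _ (projHom_inc R U M N φ m n)).trans (projInv_inc R U M N φ m n)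
    · exact ModuleCat.hom_ext (TensorProduct.ext (DirectSum.linearMap_ext _ fun φ =>
        LinearMap.ext fun m => LinearMap.ext fun n =>
          (congrArg _ (projInv_inc R U M N φ m n)).trans (projHom_inc R U M N φ m n)))
  exact ⟨(PresheafOfModules.isoMk (fun X => @asIso _ _ _ _ ((projHom R U M N).app X) (h X))
    (fun _ _ f => (projHom R U M N).naturality f)).inv,
    (PresheafOfModules.isoMk (fun X => @asIso _ _ _ _ ((projHom R U M N).app X) (h X))
    (fun _ _ f => (projHom R U M N).naturality f)).hom_inv_id,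
    (PresheafOfModules.isoMk (fun X => @asIso _ _ _ _ ((projHom R U M N).app X) (h X))
    (fun _ _ f => (projHom R U M N).naturality f)).inv_hom_id⟩

/-- The projection formula `j(M ⊗ N|U) ≅ j M ⊗ N`. -/
noncomputable def projIso (M : PRU R U) (N : PR R) :
    (jP R U).obj (M ⊗ (resP R U).obj N) ≅ (jP R U).obj M ⊗ N :=
  @asIso _ _ _ _ (projHom R U M N) (isIso_projHom R U M N)

end Groth.Agent.H15Site.OverPre
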