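import Groth.Agent.H15Site.ModKFlat
import Groth.Agent.H15Site.OverPre

/-!
Extension by zero `j_!` and restriction for sheaves of modules on a localised ringed site.
-/

universe u
open CategoryTheory CategoryTheory.Limits MonoidalCategory Opposite

namespace Groth.Agent.H15Site.ModOver

open Groth.Agent.H15Site.ModTensor Groth.Agent.H15Site.OverPre

attribute [local instance 10000] SiteInst.hasSheafifySite SiteInst.hasWeakSheafifySite

variable {C : Type u} [SmallCategory C] {J : GrothendieckTopology C} (O : Sheaf J CommRingCat.{u})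
  (U : C)

/-- Presheaf level extension by zero, typed on the localised site. -/
noncomputable def jp : PMod (O.over U) ⥤ PMod O := jP O.obj U

/-- Presheaf level restriction, typed on the localised site. -/
noncomputable def rp : PMod O ⥤ PMod (O.over U) := resP O.obj U

/-- The adjunction. -/
noncomputable def jpAdj : jp O U ⊣ rp O U := jAdj O.obj U

instance : (jp O U).PreservesMonomorphisms := inferInstanceAs (jP O.obj U).PreservesMonomorphisms

/-- Restriction of sheaves is restriction of presheaves. -/
noncomputable def forgRestr : ModSite.restr O U ⋙ forg (O.over U) ≅ forg O ⋙ rp O U :=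
  NatIso.ofComponents (fun _ => Iso.refl _)
    (fun _ => (Category.comp_id _).trans (Category.id_comp _).symm)

/-- The composite adjunction `a jp ⊣ forg rp`. -/
noncomputable def jaAdj : jp O U ⋙ aSh O ⊣ forg O ⋙ rp O U := (jpAdj O U).comp (adj O)

/-- `j_! a = a jp`. -/
noncomputable def jaSh : aSh (O.over U) ⋙ ModSite.extZero O U ≅ jp O U ⋙ aSh O :=
  Adjunction.leftAdjointUniq
    (((adj (O.over U)).comp (ModSite.extZeroAdj O U)).ofNatIsoRight (forgRestr O U)) (jaAdj O U)

theorem counit_isIso : IsIso (adj O).counit := by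
  have : (forg O).Full := (SheafOfModules.fullyFaithfulForget (ModSite.ringSh O)).full
  have : (forg O).Faithful := (SheafOfModules.fullyFaithfulForget (ModSite.ringSh O)).faithful
  exact Adjunction.counit_isIso_of_R_fully_faithful _

/-- `j_! = a jp forg`. -/
noncomputable def jIso : ModSite.extZero O U ≅ forg (O.over U) ⋙ jp O U ⋙ aSh O :=
  (ModSite.extZero O U).leftUnitor.symm ≪≫
    Functor.isoWhiskerRight (@asIso _ _ _ _ (adj (O.over U)).counit (counit_isIso _)).symm
      (ModSite.extZero O U) ≪≫
    Functor.associator _ _ _ ≪≫ Functor.isoWhiskerLeft (forg (O.over U)) (jaSh O U)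

theorem preservesMonomorphisms_forg : (forg O).PreservesMonomorphisms := by
  have : (forg O).IsRightAdjoint := (adj O).isRightAdjoint
  infer_instance

theorem preservesMonomorphisms_extZero : (ModSite.extZero O U).PreservesMonomorphisms := by
  have := preservesMonomorphisms_forg (O.over U)
  have : (aSh O).PreservesMonomorphisms := preservesMonomorphisms_of_preservesLimitsOfShape _
  exact Functor.PreservesMonomorphisms.of_iso (jIso O U).symm

theorem preservesColimits_extZero :
    PreservesColimitsOfSize.{u, u} (ModSite.extZero O U) :=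
  (ModSite.extZeroAdj O U).leftAdjoint_preservesColimits

theorem preservesFiniteColimits_extZero : PreservesFiniteColimits (ModSite.extZero O U) :=
  have := preservesColimits_extZero O U
  PreservesColimitsOfSize.preservesFiniteColimits _

theorem additive_extZero : (ModSite.extZero O U).Additive :=
  have := preservesFiniteColimits_extZero O U
  additive_of_preservesFiniteColimits _

theorem preservesFiniteLimits_extZero : PreservesFiniteLimits (ModSite.extZero O U) := by
  have := preservesFiniteColimits_extZero O U
  have := additive_extZero O U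
  have := preservesMonomorphisms_extZero O U
  refine (Functor.preservesFiniteLimits_iff_forall_exact_map_and_mono _).2 fun S hS => ?_
  have := hS.mono_f
  exact ⟨(exact_and_epi_map _ hS).1, inferInstance⟩

variable {O U} in
lemma locBij_rp {P Q : PMod O} (φ : P ⟶ Q)
    (h : Presheaf.IsLocallyInjective J ((PresheafOfModules.toPresheaf _).map φ) ∧
      Presheaf.IsLocallySurjective J ((PresheafOfModules.toPresheaf _).map φ)) :
    Presheaf.IsLocallyInjective (J.over U) ((PresheafOfModules.toPresheaf _).map ((rp O U).map φ)) ∧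
      Presheaf.IsLocallySurjective (J.over U)
        ((PresheafOfModules.toPresheaf _).map ((rp O U).map φ)) := by
  obtain ⟨hi, hs⟩ := h
  refine ⟨⟨fun {Y} x y e => ?_⟩, ⟨fun {Y} s => ?_⟩⟩
  · rw [GrothendieckTopology.mem_over_iff]
    refine J.superset_covering ?_ (Presheaf.equalizerSieve_mem J
      ((PresheafOfModules.toPresheaf _).map φ) (X := op Y.unop.left) x y e)
    intro Z g hg
    exact (Sieve.overEquiv_iff _ g).2 hg
  · rw [GrothendieckTopology.mem_over_iff]
    refine J.superset_covering ?_ (Presheaf.imageSieve_mem J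
      ((PresheafOfModules.toPresheaf _).map φ) (U := op Y.left) s)
    intro Z g hg
    exact (Sieve.overEquiv_iff _ g).2 hg

theorem isIso_aSh_map_rp {P Q : PMod O} (φ : P ⟶ Q) [IsIso ((aSh O).map φ)] :
    IsIso ((aSh (O.over U)).map ((rp O U).map φ)) :=
  (isIso_aSh_map_iff _).2 (locBij_rp φ ((isIso_aSh_map_iff φ).1 ‹_›))

/-- Sheafification commutes with restriction. -/
noncomputable def restrASh : aSh O ⋙ ModSite.restr O U ≅ rp O U ⋙ aSh (O.over U) :=
  (NatIso.ofComponents (F := rp O U ⋙ aSh (O.over U)) (G := aSh O ⋙ ModSite.restr O U) (fun P =>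
      @asIso _ _ _ _
        ((aSh (O.over U)).map ((rp O U).map ((adj O).unit.app P)) ≫
          (adj (O.over U)).counit.app ((ModSite.restr O U).obj ((aSh O).obj P)))
        (by
          have := isIso_aSh_map_rp O U ((adj O).unit.app P)
          have hc := counit_isIso (O.over U)
          exact IsIso.comp_isIso' this (@NatIso.isIso_app_of_isIso _ _ _ _ _ _ _ hc _)))
    (fun {P Q} f => by
      show (aSh (O.over U)).map ((rp O U).map f) ≫ _ ≫ _ =
        (_ ≫ _) ≫ (ModSite.restr O U).map ((aSh O).map f)
      refine Eq.trans ?_ (Category.assoc _ _ _).symm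
      refine Eq.trans ?_ (congrArg ((aSh (O.over U)).map ((rp O U).map ((adj O).unit.app P)) ≫ ·)
        ((adj (O.over U)).counit.naturality ((ModSite.restr O U).map ((aSh O).map f))))
      refine (Category.assoc _ _ _).symm.trans (Eq.trans ?_ (Category.assoc _ _ _))
      refine congrArg (· ≫ _) ?_
      refine ((aSh (O.over U)).map_comp _ _).symm.trans
        (Eq.trans (congrArg (aSh (O.over U)).map ?_) ((aSh (O.over U)).map_comp _ _))
      refine ((rp O U).map_comp _ _).symm.trans ?_
      exact (congrArg (rp O U).map ((adj O).unit.naturality f)).trans ((rp O U).map_comp _ _))).symm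

theorem mono_jaAdj_unit (M : ModSite.Mod (O.over U)) :
    Mono ((jaAdj O U).unit.app ((forg (O.over U)).obj M)) := by
  refine PresheafOfModules.mono_of_injective fun Y x y h => ?_
  obtain ⟨hi, -⟩ := (isIso_aSh_map_iff _).1 (isIso_aSh_map_unit (O := O)
    ((jp O U).obj ((forg (O.over U)).obj M)))
  rw [jaAdj, Adjunction.comp_unit_app] at h
  let ι := inc ((forg (O.over U)).obj M) (X := op Y.unop.left) Y.unop.hom
  have hs := Presheaf.equalizerSieve_mem J ((PresheafOfModules.toPresheaf _).map
    ((adj O).unit.app ((jp O U).obj ((forg (O.over U)).obj M)))) (X := op Y.unop.left)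
      (ι.hom x) (ι.hom y) h
  refine separated_forg M ((Sieve.overEquiv Y.unop).symm _)
    (J.overEquiv_symm_mem_over _ _ hs) x y fun Z g hg => ?_
  have hg' : rs ((jp O U).obj ((forg (O.over U)).obj M)) g.left.op (ι.hom x) =
      rs ((jp O U).obj ((forg (O.over U)).obj M)) g.left.op (ι.hom y) := hg
  have key : ∀ t : ((forg (O.over U)).obj M).obj Y,
      rs ((jp O U).obj ((forg (O.over U)).obj M)) g.left.op (ι.hom t) =
        (inc ((forg (O.over U)).obj M) (X := op Z.left) Z.hom).hom
          (rs ((forg (O.over U)).obj M) g.op t) := fun t =>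
    jMap_inc ((forg (O.over U)).obj M) (X := op Y.unop.left) (Y := op Z.left) g.left.op
      (φ := Y.unop.hom) (ψ := Z.hom) g rfl t
  rw [key, key] at hg'
  have := congrArg (proj ((forg (O.over U)).obj M) (X := op Z.left) Z.hom).hom hg'
  exact (proj_inc_self _ (X := op Z.left) Z.hom _).symm.trans
    (this.trans (proj_inc_self _ (X := op Z.left) Z.hom _))

theorem faithful_extZero : (ModSite.extZero O U).Faithful := by
  refine ⟨fun {M N} f g h => ?_⟩
  have h' : (jp O U ⋙ aSh O).map ((forg (O.over U)).map f) =
      (jp O U ⋙ aSh O).map ((forg (O.over U)).map g) := by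
    have e1 := NatIso.naturality_1 (jIso O U) f
    have e2 := NatIso.naturality_1 (jIso O U) g
    rw [h, e2] at e1
    exact e1.symm
  have : (forg (O.over U)).Faithful :=
    (SheafOfModules.fullyFaithfulForget (ModSite.ringSh (O.over U))).faithful
  have := mono_jaAdj_unit O U N
  apply (forg (O.over U)).map_injective
  rw [← cancel_mono ((jaAdj O U).unit.app ((forg (O.over U)).obj N))]
  refine ((jaAdj O U).unit.naturality ((forg (O.over U)).map f)).trans ?_
  refine Eq.trans ?_ ((jaAdj O U).unit.naturality ((forg (O.over U)).map g)).symm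
  exact congrArg (fun k => _ ≫ (forg O ⋙ rp O U).map k) h'

end Groth.Agent.H15Site.ModOver

namespace Groth.Agent.H15Site.ModOver

open Groth.Agent.H15Site.ModTensor Groth.Agent.H15Site.OverPre

attribute [local instance 10000] SiteInst.hasSheafifySite SiteInst.hasWeakSheafifySite

variable {C : Type u} [SmallCategory C] {J : GrothendieckTopology C} (O : Sheaf J CommRingCat.{u})
  (U : C)

/-- Restriction commutes with the tensor product, typed on the localised site. -/
noncomputable def rpTensor (A B : PMod O) :
    (rp O U).obj A ⊗ (rp O U).obj B ≅ (rp O U).obj (A ⊗ B) := resTensor O.obj U A B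

/-- `(F ⊗ G)|U = F|U ⊗ G|U`. -/
noncomputable def restrTensor (F G : ModSite.Mod O) :
    (ModSite.restr O U).obj (((ModSite.tensorBi O).obj F).obj G) ≅
      ((ModSite.tensorBi (O.over U)).obj ((ModSite.restr O U).obj F)).obj
        ((ModSite.restr O U).obj G) :=
  (restrASh O U).app _ ≪≫
    (aSh (O.over U)).mapIso (rpTensor O U ((forg O).obj F) ((forg O).obj G)).symm

/-- The projection formula, typed on the localised site. -/
noncomputable def jpProjIso (M : PMod (O.over U)) (N : PMod O) :
    (jp O U).obj (M ⊗ (rp O U).obj N) ≅ (jp O U).obj M ⊗ N := projIso O.obj U M N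

lemma jpProjIso_naturality {M M' : PMod (O.over U)} {N N' : PMod O} (a : M ⟶ M') (b : N ⟶ N') :
    (jp O U).map (a ⊗ₘ (rp O U).map b) ≫ (jpProjIso O U M' N').hom =
      (jpProjIso O U M N).hom ≫ ((jp O U).map a ⊗ₘ b) :=
  projHom_naturality O.obj U a b

/-- The sheafified projection formula on presheaves, natural in the first variable. -/
noncomputable def aShProjL (Q : PMod O) :
    tensorRight ((rp O U).obj Q) ⋙ jp O U ⋙ aSh O ≅ jp O U ⋙ tensorRight Q ⋙ aSh O :=
  NatIso.ofComponents (fun M => (aSh O).mapIso (jpProjIso O U M Q)) fun {M M'} a => by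
    have h := jpProjIso_naturality O U a (𝟙 Q)
    rw [CategoryTheory.Functor.map_id, tensorHom_id, tensorHom_id] at h
    exact ((aSh O).map_comp _ _).symm.trans
      ((congrArg (aSh O).map h).trans ((aSh O).map_comp _ _))

/-- The sheafified projection formula on presheaves, natural in the second variable. -/
noncomputable def aShProjR (M : PMod (O.over U)) :
    rp O U ⋙ tensorLeft M ⋙ jp O U ⋙ aSh O ≅ tensorLeft ((jp O U).obj M) ⋙ aSh O :=
  NatIso.ofComponents (fun Q => (aSh O).mapIso (jpProjIso O U M Q)) fun {Q Q'} b => by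
    have h := jpProjIso_naturality O U (𝟙 M) b
    rw [CategoryTheory.Functor.map_id, id_tensorHom, id_tensorHom] at h
    exact ((aSh O).map_comp _ _).symm.trans
      ((congrArg (aSh O).map h).trans ((aSh O).map_comp _ _))

/-- The components of `extProjL`. -/
noncomputable def extProjApp (P : ModSite.Mod (O.over U)) (N : ModSite.Mod O) :
    (ModSite.extZero O U).obj ((tR ((ModSite.restr O U).obj N)).obj P) ≅
      (aSh O).obj ((jp O U).obj ((forg (O.over U)).obj P) ⊗ (forg O).obj N) :=
  (jaSh O U).app ((forg (O.over U)).obj P ⊗ (rp O U).obj ((forg O).obj N)) ≪≫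
    (aSh O).mapIso (jpProjIso O U ((forg (O.over U)).obj P) ((forg O).obj N))

/-- The components of `jIso`, typed. -/
noncomputable def jApp (P : ModSite.Mod (O.over U)) :
    (aSh O).obj ((jp O U).obj ((forg (O.over U)).obj P)) ≅ (ModSite.extZero O U).obj P :=
  ((jIso O U).app P).symm

lemma jApp_naturality {P P' : ModSite.Mod (O.over U)} (a : P ⟶ P') :
    (aSh O).map ((jp O U).map ((forg (O.over U)).map a)) ≫ (jApp O U P').hom =
      (jApp O U P).hom ≫ (ModSite.extZero O U).map a :=
  (jIso O U).inv.naturality a

/-- The components of `aShTR`, typed. -/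
noncomputable def tRApp (X : PMod O) (N : ModSite.Mod O) :
    (aSh O).obj (X ⊗ (forg O).obj N) ≅ (tR N).obj ((aSh O).obj X) :=
  ((aShTR N).app X).symm

lemma tRApp_naturality {X X' : PMod O} (a : X ⟶ X') (N : ModSite.Mod O) :
    (aSh O).map (a ▷ (forg O).obj N) ≫ (tRApp O X' N).hom =
      (tRApp O X N).hom ≫ (tR N).map ((aSh O).map a) :=
  (aShTR N).inv.naturality a

lemma tRApp_hom (X : PMod O) (N : ModSite.Mod O) :
    (tRApp O X N).hom = (aSh O).map ((adj O).unit.app X ▷ (forg O).obj N) := rfl

/-- The components of `aShTR`, typed in the second variable. -/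
noncomputable def tLApp (X : PMod O) (N : ModSite.Mod O) :
    (aSh O).obj (X ⊗ (forg O).obj N) ≅ ((ModSite.tensorBi O).obj ((aSh O).obj X)).obj N :=
  @asIso _ _ _ _ ((aSh O).map ((adj O).unit.app X ▷ (forg O).obj N))
    (isIso_aSh_map_whiskerRight _ _)

lemma tLApp_naturality (X : PMod O) {N N' : ModSite.Mod O} (b : N ⟶ N') :
    (aSh O).map (X ◁ (forg O).map b) ≫ (tLApp O X N').hom =
      (tLApp O X N).hom ≫ ((ModSite.tensorBi O).obj ((aSh O).obj X)).map b := by
  show (aSh O).map _ ≫ (aSh O).map _ = (aSh O).map _ ≫ (aSh O).map (_ ◁ (forg O).map b)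
  rw [← Functor.map_comp, ← Functor.map_comp, whisker_exchange]

/-- The components of the projection formula. -/
noncomputable def extProj (P : ModSite.Mod (O.over U)) (N : ModSite.Mod O) :
    (ModSite.extZero O U).obj ((tR ((ModSite.restr O U).obj N)).obj P) ≅
      (tR N).obj ((ModSite.extZero O U).obj P) :=
  extProjApp O U P N ≪≫ tRApp O _ N ≪≫ (tR N).mapIso (jApp O U P)

lemma extProjApp_naturality_left {P P' : ModSite.Mod (O.over U)} (a : P ⟶ P') (N : ModSite.Mod O) :
    (ModSite.extZero O U).map ((tR ((ModSite.restr O U).obj N)).map a) ≫ (extProjApp O U P' N).hom =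
      (extProjApp O U P N).hom ≫
        (aSh O).map ((jp O U).map ((forg (O.over U)).map a) ▷ (forg O).obj N) := by
  have h1 := (jaSh O U).hom.naturality
    ((forg (O.over U)).map a ▷ (rp O U).obj ((forg O).obj N))
  have h2 := (aShProjL O U ((forg O).obj N)).hom.naturality ((forg (O.over U)).map a)
  refine (Category.assoc _ _ _).symm.trans (Eq.trans (congrArg (· ≫ _) h1) ?_)
  exact (Category.assoc _ _ _).trans ((congrArg (_ ≫ ·) h2).trans (Category.assoc _ _ _).symm)

set_option maxHeartbeats 800000 in
lemma extProjApp_naturality_right (P : ModSite.Mod (O.over U)) {N N' : ModSite.Mod O} (b : N ⟶ N') :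
    (ModSite.extZero O U).map (((ModSite.tensorBi (O.over U)).obj P).map
        ((ModSite.restr O U).map b)) ≫ (extProjApp O U P N').hom =
      (extProjApp O U P N).hom ≫
        (aSh O).map ((jp O U).obj ((forg (O.over U)).obj P) ◁ (forg O).map b) := by
  have h1 := (jaSh O U).hom.naturality
    ((forg (O.over U)).obj P ◁ (rp O U).map ((forg O).map b))
  have h2 := (aShProjR O U ((forg (O.over U)).obj P)).hom.naturality ((forg O).map b)
  refine (Category.assoc _ _ _).symm.trans (Eq.trans (congrArg (· ≫ _) h1) ?_)
  exact (Category.assoc _ _ _).trans ((congrArg (_ ≫ ·) h2).trans (Category.assoc _ _ _).symm)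

/-- `j_!(P ⊗ N|U) = j_! P ⊗ N`, natural in `P`. -/
noncomputable def extProjL (N : ModSite.Mod O) :
    tR ((ModSite.restr O U).obj N) ⋙ ModSite.extZero O U ≅ ModSite.extZero O U ⋙ tR N :=
  NatIso.ofComponents (fun P => extProj O U P N) fun {P P'} a => by
    refine Eq.trans ?_ (Category.assoc _ _ _).symm
    refine (Category.assoc _ _ _).symm.trans
      ((congrArg (· ≫ _) (extProjApp_naturality_left O U a N)).trans ?_)
    refine (Category.assoc _ _ _).trans (congrArg ((extProjApp O U P N).hom ≫ ·) ?_)
    refine Eq.trans ?_ (Category.assoc _ _ _).symm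
    refine (Category.assoc _ _ _).symm.trans
      ((congrArg (· ≫ _) (tRApp_naturality O _ N)).trans ?_)
    refine (Category.assoc _ _ _).trans (congrArg ((tRApp O _ N).hom ≫ ·) ?_)
    exact ((tR N).map_comp _ _).symm.trans
      ((congrArg (tR N).map (jApp_naturality O U a)).trans ((tR N).map_comp _ _))

/-- The components of `extProjR`. -/
noncomputable def extProjRApp (P : ModSite.Mod (O.over U)) (N : ModSite.Mod O) :
    (ModSite.restr O U ⋙ (ModSite.tensorBi (O.over U)).obj P ⋙ ModSite.extZero O U).obj N ≅
      ((ModSite.tensorBi O).obj ((aSh O).obj ((jp O U).obj ((forg (O.over U)).obj P)))).obj N :=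
  extProjApp O U P N ≪≫ tLApp O _ N

set_option maxHeartbeats 800000 in
/-- `j_!(P ⊗ N|U) = j_! P ⊗ N`, natural in `N`. -/
noncomputable def extProjR (P : ModSite.Mod (O.over U)) :
    ModSite.restr O U ⋙ (ModSite.tensorBi (O.over U)).obj P ⋙ ModSite.extZero O U ≅
      (ModSite.tensorBi O).obj ((ModSite.extZero O U).obj P) :=
  NatIso.ofComponents (F := ModSite.restr O U ⋙ (ModSite.tensorBi (O.over U)).obj P ⋙
      ModSite.extZero O U)
    (G := (ModSite.tensorBi O).obj ((aSh O).obj ((jp O U).obj ((forg (O.over U)).obj P))))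
    (fun N => extProjRApp O U P N) (fun {N N'} b => by
    refine (Category.assoc _ _ _).symm.trans
      ((congrArg (· ≫ _) (extProjApp_naturality_right O U P b)).trans ?_)
    refine (Category.assoc _ _ _).trans
      (Eq.trans (congrArg ((extProjApp O U P N).hom ≫ ·) (tLApp_naturality O _ b)) ?_)
    exact (Category.assoc _ _ _).symm) ≪≫
  (ModSite.tensorBi O).mapIso (jApp O U P)

/-- Tensoring with the structure sheaf. -/
noncomputable def tensorUnitIso {D : Type u} [SmallCategory D] {K : GrothendieckTopology D}
    (R : Sheaf K CommRingCat.{u}) :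
    (ModSite.tensorBi R).obj (ModSite.unit R) ≅ 𝟭 (ModSite.Mod R) :=
  Functor.isoWhiskerLeft (forg R)
      (Functor.isoWhiskerRight (leftUnitorNatIso (PMod R)) (aSh R)) ≪≫
    @asIso _ _ _ _ (adj R).counit (counit_isIso R)

/-- The structure sheaf is flat. -/
theorem isFlat_unit {D : Type u} [SmallCategory D] {K : GrothendieckTopology D}
    (R : Sheaf K CommRingCat.{u}) : ModSite.IsFlat (ModSite.unit R) := by
  rw [isFlat_iff]
  exact Functor.PreservesMonomorphisms.of_iso
    ((tensorUnitIso R).symm ≪≫ tLIso (ModSite.unit R))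

theorem preservesMonomorphisms_restr : (ModSite.restr O U).PreservesMonomorphisms := by
  have := ModSite.isRightAdjoint_restr O U
  infer_instance

/-- Extension by zero preserves flatness. -/
theorem isFlat_extZero {P : ModSite.Mod (O.over U)} (hP : ModSite.IsFlat P) :
    ModSite.IsFlat ((ModSite.extZero O U).obj P) := by
  rw [isFlat_iff]
  have := preservesMonomorphisms_restr O U
  have := preservesMonomorphisms_extZero O U
  have := preservesMono_tL_of_isFlat hP
  exact Functor.PreservesMonomorphisms.of_iso
    (extProjR O U P ≪≫ tLIso ((ModSite.extZero O U).obj P))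

theorem isFlat_freeOn : ModSite.IsFlat (ModSite.freeOn O U) :=
  isFlat_extZero O U (isFlat_unit (O.over U))

/-- Restriction preserves flatness. -/
theorem isFlat_restr {N : ModSite.Mod O} (hN : ModSite.IsFlat N) :
    ModSite.IsFlat ((ModSite.restr O U).obj N) := by
  rw [isFlat_iff] at hN ⊢
  refine ⟨fun {A B} f _ => ?_⟩
  have := preservesMonomorphisms_extZero O U
  have := faithful_extZero O U
  have h : Mono ((ModSite.extZero O U).map ((tR ((ModSite.restr O U).obj N)).map f)) := by
    have : (tR ((ModSite.restr O U).obj N) ⋙ ModSite.extZero O U).PreservesMonomorphisms :=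
      Functor.PreservesMonomorphisms.of_iso (extProjL O U N).symm
    exact this.preserves f
  exact (ModSite.extZero O U).mono_of_mono_map h

/-- `A_U ⊗ N = j_! (N|U)`. -/
noncomputable def freeOnTensor :
    (ModSite.tensorBi O).obj (ModSite.freeOn O U) ≅ ModSite.restr O U ⋙ ModSite.extZero O U :=
  (extProjR O U (ModSite.unit (O.over U))).symm ≪≫
    Functor.isoWhiskerLeft (ModSite.restr O U)
      (Functor.isoWhiskerRight (tensorUnitIso (O.over U)) (ModSite.extZero O U) ≪≫
        (ModSite.extZero O U).leftUnitor)

end Groth.Agent.H15Site.ModOver
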