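import Groth.Agent.H15Site.PullFree
import Groth.Agent.H15Site.ModOver

/-!
Inverse image along a morphism of ringed sites commutes with tensor products.
-/

universe u

open CategoryTheory CategoryTheory.Limits MonoidalCategory Opposite

namespace Groth.Agent.H15Site.PullTensor

open ModTensor

attribute [local instance 10000] SiteInst.hasSheafifySite SiteInst.hasWeakSheafifySite

section Generic

variable {A B : Type*} [Category A] [Category B]

theorem isIso_app_of_isColimit {S : Type*} [Category S] {G₁ G₂ : A ⥤ B} (τ : G₁ ⟶ G₂) {F : S ⥤ A}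
    {c : Cocone F} (hc : IsColimit c) [PreservesColimit F G₁] [PreservesColimit F G₂]
    (h : ∀ s, IsIso (τ.app (F.obj s))) : IsIso (τ.app c.pt) := by
  let φ : F ⋙ G₁ ≅ F ⋙ G₂ :=
    NatIso.ofComponents (fun s => asIso (τ.app (F.obj s))) (fun g => τ.naturality (F.map g))
  have heq : τ.app c.pt = (IsColimit.coconePointsIsoOfNatIso (isColimitOfPreserves G₁ hc)
      (isColimitOfPreserves G₂ hc) φ).hom := by
    refine (isColimitOfPreserves G₁ hc).hom_ext (fun s => ?_)
    rw [IsColimit.comp_coconePointsIsoOfNatIso_hom]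
    exact τ.naturality (c.ι.app s)
  rw [heq]
  infer_instance

end Generic

theorem isIso_app_of_separating {A B : Type*} [Category.{u} A] [Category B] [Abelian A]
    [HasCoproducts.{u} A] {ι : Type u} (g : ι → A)
    (hg : ∀ ⦃M M' : A⦄ (a b : M ⟶ M'), (∀ i (h : g i ⟶ M), h ≫ a = h ≫ b) → a = b)
    {G₁ G₂ : A ⥤ B} [PreservesColimitsOfSize.{u, u} G₁] [PreservesColimitsOfSize.{u, u} G₂]
    (τ : G₁ ⟶ G₂) (h : ∀ i, IsIso (τ.app (g i))) (M : A) : IsIso (τ.app M) := by
  have hS : ∀ N : A, IsIso (τ.app (∐ fun p : Σ i, (g i ⟶ N) => g p.1)) := fun N =>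
    isIso_app_of_isColimit τ
      (colimit.isColimit (Discrete.functor fun p : Σ i, (g i ⟶ N) => g p.1)) fun s => h s.as.1
  have he : ∀ N : A, Epi (Sigma.desc fun p : Σ i, (g i ⟶ N) => p.2) := fun N =>
    ⟨fun a b hab => hg a b fun i x => by
      simpa using Sigma.ι (fun p : Σ i, (g i ⟶ N) => g p.1) ⟨i, x⟩ ≫= hab⟩
  let π := Sigma.desc fun p : Σ i, (g i ⟶ M) => p.2
  let π' := Sigma.desc fun p : Σ i, (g i ⟶ kernel π) => p.2
  have := he M
  have := he (kernel π)
  have hw : (π' ≫ kernel.ι π) ≫ π = 0 := by simp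
  have hc : IsColimit (CokernelCofork.ofπ π hw) :=
    isCokernelEpiComp (Abelian.epiIsCokernelOfKernel (KernelFork.ofι (kernel.ι π) (by simp))
      (kernelIsKernel π)) π' (h := π' ≫ kernel.ι π) rfl
  have : PreservesFiniteColimits G₁ := PreservesColimitsOfSize.preservesFiniteColimits G₁
  have : PreservesFiniteColimits G₂ := PreservesColimitsOfSize.preservesFiniteColimits G₂
  exact isIso_app_of_isColimit τ hc (fun s => by cases s <;> exact hS _)

variable {C D : Type u} [SmallCategory C] [SmallCategory D] {J : GrothendieckTopology C}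
  {K : GrothendieckTopology D} {O_C : Sheaf J CommRingCat.{u}} {O_D : Sheaf K CommRingCat.{u}}

/-- The generators `a free yU`. -/
noncomputable abbrev gen (O : Sheaf J CommRingCat.{u}) (U : C) : ModSite.Mod O :=
  (aSh O).obj (fr O (yoneda.obj U))

theorem gen_separating (O : Sheaf J CommRingCat.{u}) ⦃M M' : ModSite.Mod O⦄ (a b : M ⟶ M')
    (hab : ∀ (U : C) (h : gen O U ⟶ M), h ≫ a = h ≫ b) : a = b := by
  refine SheafOfModules.hom_ext (PresheafOfModules.hom_ext (fun X => ?_))
  refine ModuleCat.hom_ext (LinearMap.ext (fun s => ?_))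
  let g : fr O (yoneda.obj X.unop) ⟶ (forg O).obj M :=
    PresheafOfModules.freeHomEquiv.symm (yonedaEquiv.symm s)
  have hg : g ≫ (forg O).map a = g ≫ (forg O).map b := by
    have := congrArg ((adj O).homEquiv _ _) (hab X.unop (((adj O).homEquiv _ _).symm g))
    simpa [Adjunction.homEquiv_naturality_right] using this
  have e := ConcreteCategory.congr_hom
    (congrArg (fun k => PresheafOfModules.Hom.app k X) hg) (dl O (𝟙 X.unop))
  have hs : (g.app X).hom (dl O (𝟙 X.unop)) = s := by
    refine (ConcreteCategory.congr_hom (congr_app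
      (PresheafOfModules.freeHomEquiv.apply_symm_apply (yonedaEquiv.symm s)) X) (𝟙 X.unop)).trans ?_
    exact rs_id ((forg O).obj M) s
  show (a.val.app X).hom s = (b.val.app X).hom s
  rw [← hs]
  exact e

variable (f : ModSite.RMor O_C O_D)

/-- The unit `M ⟶ f_* f^* M` on presheaves. -/
noncomputable abbrev η (M : ModSite.Mod O_D) :
    (forg O_D).obj M ⟶ (pushP f).obj ((forg O_C).obj (f.pull.obj M)) :=
  (forg O_D).map (f.adj.unit.app M)

lemma η_naturality {M M' : ModSite.Mod O_D} (φ : M ⟶ M') :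
    η f M ≫ (pushP f).map ((forg O_C).map (f.pull.map φ)) = (forg O_D).map φ ≫ η f M' :=
  ((forg O_D).map_comp _ _).symm.trans
    ((congrArg (forg O_D).map (f.adj.unit.naturality φ)).symm.trans ((forg O_D).map_comp _ _))

/-- The comparison `f^*(M ⊗ N) ⟶ f^*M ⊗ f^*N`. -/
noncomputable def c (M N : ModSite.Mod O_D) :
    f.pull.obj (((ModSite.tensorBi O_D).obj M).obj N) ⟶
      ((ModSite.tensorBi O_C).obj (f.pull.obj M)).obj (f.pull.obj N) :=
  Φ (η f M) (η f N)

lemma c_naturality {M M' N N' : ModSite.Mod O_D} (φ : M ⟶ M') (ψ : N ⟶ N') :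
    f.pull.map ((aSh O_D).map ((forg O_D).map φ ⊗ₘ (forg O_D).map ψ)) ≫ c f M' N' =
      c f M N ≫ (aSh O_C).map
        ((forg O_C).map (f.pull.map φ) ⊗ₘ (forg O_C).map (f.pull.map ψ)) :=
  (Φ_naturality (η_naturality f φ) (η_naturality f ψ)).symm

/-- `c` as a transformation in the first variable. -/
noncomputable def cL (N : ModSite.Mod O_D) : tR N ⋙ f.pull ⟶ f.pull ⋙ tR (f.pull.obj N) where
  app M := c f M N
  naturality M M' φ := by
    refine (congrArg (fun k => f.pull.map ((aSh O_D).map k) ≫ c f M' N) ?_).trans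
      ((c_naturality f φ (𝟙 N)).trans (congrArg (fun k => c f M N ≫ (aSh O_C).map k) ?_))
    · exact ((congrArg (fun t => (forg O_D).map φ ⊗ₘ t) ((forg O_D).map_id N)).trans
        (MonoidalCategory.tensorHom_id _ _)).symm
    · exact (congrArg (fun t => (forg O_C).map (f.pull.map φ) ⊗ₘ t)
        ((congrArg (forg O_C).map (f.pull.map_id N)).trans ((forg O_C).map_id _))).trans
          (MonoidalCategory.tensorHom_id _ _)

/-- `c` as a transformation in the second variable. -/
noncomputable def cR (M : ModSite.Mod O_D) :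
    (ModSite.tensorBi O_D).obj M ⋙ f.pull ⟶
      f.pull ⋙ (ModSite.tensorBi O_C).obj (f.pull.obj M) where
  app N := c f M N
  naturality N N' ψ := by
    refine (congrArg (fun k => f.pull.map ((aSh O_D).map k) ≫ c f M N') ?_).trans
      ((c_naturality f (𝟙 M) ψ).trans (congrArg (fun k => c f M N ≫ (aSh O_C).map k) ?_))
    · exact ((congrArg (fun t => t ⊗ₘ (forg O_D).map ψ) ((forg O_D).map_id M)).trans
        (MonoidalCategory.id_tensorHom _ _)).symm
    · exact (congrArg (fun t => t ⊗ₘ (forg O_C).map (f.pull.map ψ))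
        ((congrArg (forg O_C).map (f.pull.map_id M)).trans ((forg O_C).map_id _))).trans
          (MonoidalCategory.id_tensorHom _ _)

variable {f}

theorem exists_compare {A : PMod O_D} {A' : PMod O_C} {σ : A ⟶ (pushP f).obj A'} (hσ : Univ f σ) :
    ∃ u' : A' ⟶ (forg O_C).obj (f.pull.obj ((aSh O_D).obj A)),
      σ ≫ (pushP f).map u' = (adj O_D).unit.app A ≫ η f ((aSh O_D).obj A) ∧
        IsIso ((aSh O_C).map u') := by
  obtain ⟨u', hu⟩ := (hσ _).2 ((adj O_D).unit.app A ≫ η f ((aSh O_D).obj A))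
  refine ⟨u', hu, ?_⟩
  have hU : Univ f ((adj O_D).unit.app A ≫ η f ((aSh O_D).obj A)) := by
    rw [univ_iff_isIso]
    have hp : psi ((adj O_D).unit.app A ≫ η f ((aSh O_D).obj A)) ≫
        (adj O_C).counit.app ((FP f).obj A) = 𝟙 ((FP f).obj A) := by
      apply ((fpAdj f).homEquiv A _).injective
      refine (homEquiv_psi_comp _ _ _).trans ?_
      refine (congrArg (fun k => ((adj O_D).unit.app A ≫ η f ((aSh O_D).obj A)) ≫ (pushP f).map k)
        (((adj O_C).homEquiv_unit _ _ _).trans
          ((adj O_C).right_triangle_components ((FP f).obj A)))).trans ?_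
      refine (congrArg (fun k => ((adj O_D).unit.app A ≫ η f ((aSh O_D).obj A)) ≫ k)
        ((pushP f).map_id _)).trans ?_
      refine (Category.comp_id _).trans ?_
      refine Eq.trans ?_ (((fpAdj f).homEquiv_unit _ _ _).trans
        ((congrArg (fun k => (fpAdj f).unit.app A ≫ k) ((forg O_C ⋙ pushP f).map_id _)).trans
          (Category.comp_id _))).symm
      exact (Adjunction.comp_unit_app (adj O_D) f.adj A).symm
    have : IsIso ((adj O_C).counit.app ((FP f).obj A)) := by
      have := ModOver.counit_isIso (O := O_C)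
      infer_instance
    have : IsIso (psi ((adj O_D).unit.app A ≫ η f ((aSh O_D).obj A)) ≫
        (adj O_C).counit.app ((FP f).obj A)) := by rw [hp]; infer_instance
    exact IsIso.of_isIso_comp_right _ ((adj O_C).counit.app ((FP f).obj A))
  have hn : psi σ ≫ (aSh O_C).map u' =
      psi ((adj O_D).unit.app A ≫ η f ((aSh O_D).obj A)) :=
    (psi_naturality σ _ (𝟙 A) u' (hu.trans (Category.id_comp _).symm)).trans
      ((congrArg (fun k => k ≫ psi ((adj O_D).unit.app A ≫ η f ((aSh O_D).obj A)))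
        ((FP f).map_id A)).trans (Category.id_comp _))
  rw [univ_iff_isIso] at hU hσ
  rw [← hn] at hU
  exact IsIso.of_isIso_comp_left (psi σ) ((aSh O_C).map u')

theorem isIso_c_aSh {A B : PMod O_D} {A' B' : PMod O_C} {σ : A ⟶ (pushP f).obj A'}
    {τ : B ⟶ (pushP f).obj B'} (hσ : Univ f σ) (hτ : Univ f τ) (h : Univ f (tσ σ τ)) :
    IsIso (c f ((aSh O_D).obj A) ((aSh O_D).obj B)) := by
  obtain ⟨u', hu, iu⟩ := exists_compare hσ
  obtain ⟨v', hv, iv⟩ := exists_compare hτ
  have := isIso_aSh_map_tensorHom ((adj O_D).unit.app A) ((adj O_D).unit.app B)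
  have := isIso_aSh_map_tensorHom u' v'
  have : IsIso (Φ σ τ) := (univ_iff_isIso _).1 h
  have he := Φ_naturality (σ := σ) (τ := τ) (σ₁ := η f ((aSh O_D).obj A))
    (τ₁ := η f ((aSh O_D).obj B)) hu hv
  have hc2 : IsIso ((FP f).map ((adj O_D).unit.app A ⊗ₘ (adj O_D).unit.app B) ≫
      Φ (η f ((aSh O_D).obj A)) (η f ((aSh O_D).obj B))) := by rw [← he]; infer_instance
  have h3 : IsIso ((FP f).map ((adj O_D).unit.app A ⊗ₘ (adj O_D).unit.app B)) :=
    inferInstanceAs (IsIso (f.pull.map _))
  exact @IsIso.of_isIso_comp_left _ _ _ _ _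
    ((FP f).map ((adj O_D).unit.app A ⊗ₘ (adj O_D).unit.app B))
    (Φ (η f ((aSh O_D).obj A)) (η f ((aSh O_D).obj B))) h3 hc2

variable (f)

theorem isIso_c_gen (U V : D) : IsIso (c f (gen O_D U) (gen O_D V)) :=
  isIso_c_aSh (univ_freeσ f (PullSets.univ_yMap f.fn U)) (univ_freeσ f (PullSets.univ_yMap f.fn V))
    (univ_tσ_freeσ f (PullSets.univ_yMap f.fn U) (PullSets.univ_yMap f.fn V))

theorem preservesColimits_pull : PreservesColimitsOfSize.{u, u} f.pull :=
  f.adj.leftAdjoint_preservesColimits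

theorem isIso_c (M N : ModSite.Mod O_D) : IsIso (c f M N) := by
  have := H10Coh.isGrothendieckAbelian_sheafOfModules (ModSite.ringSh O_D)
  have := preservesColimits_pull f
  have h1 : ∀ (U : D) (N : ModSite.Mod O_D), IsIso (c f (gen O_D U) N) := fun U N => by
    have := preservesColimits_tL (gen O_D U)
    have := preservesColimits_tL (f.pull.obj (gen O_D U))
    exact isIso_app_of_separating (gen O_D) (gen_separating O_D) (cR f (gen O_D U))
      (fun V => isIso_c_gen f U V) N
  have := preservesColimits_tR N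
  have := preservesColimits_tR (f.pull.obj N)
  exact isIso_app_of_separating (gen O_D) (gen_separating O_D) (cL f N) (fun U => h1 U N) M

/-- `f^*(- ⊗ N) ≅ f^* - ⊗ f^*N`. -/
noncomputable def cLIso (N : ModSite.Mod O_D) :
    tR N ⋙ f.pull ≅ f.pull ⋙ tR (f.pull.obj N) :=
  haveI : ∀ M, IsIso ((cL f N).app M) := fun M => isIso_c f M N
  haveI := NatIso.isIso_of_isIso_app (cL f N)
  asIso (cL f N)

end Groth.Agent.H15Site.PullTensor
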