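import Groth.Agent.H15Site.PullFree
import Mathlib.Algebra.Category.ModuleCat.Sheaf.PullbackFree

/-!
# The inverse image of the structure sheaf is the structure sheaf
-/

universe u

open CategoryTheory CategoryTheory.Limits Opposite

set_option linter.style.haveILetI false
set_option backward.isDefEq.respectTransparency false

namespace Groth.Agent.H15Site.PullUnit

open ModTensor PullTensor

attribute [local instance 10000] SiteInst.hasSheafifySite SiteInst.hasWeakSheafifySite

variable {C D : Type u} [SmallCategory C] [SmallCategory D] {J : GrothendieckTopology C}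
  {K : GrothendieckTopology D} {O_C : Sheaf J CommRingCat.{u}} {O_D : Sheaf K CommRingCat.{u}}

/-- Inverse image preserves the final sheaf of sets. -/
theorem univ_pt (fn : D ⥤ C) [fn.IsContinuous K J]
    [PreservesFiniteLimits (fn.sheafPullback (Type u) K J)] :
    PullSets.Univ J fn (show (Functor.const Dᵒᵖ).obj PUnit.{u+1} ⟶
      fn.op ⋙ (Functor.const Cᵒᵖ).obj PUnit.{u+1} from { app := fun _ => ↾id }) := by
  rw [PullSets.univ_iff_isIso (K := K)]
  have hD : IsTerminal ((Functor.const Dᵒᵖ).obj PUnit.{u+1}) :=
    Functor.isTerminal fun _ => Types.isTerminalPUnit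
  have hC : IsTerminal ((Functor.const Cᵒᵖ).obj PUnit.{u+1}) :=
    Functor.isTerminal fun _ => Types.isTerminalPUnit
  exact isIso_of_isTerminal
    ((hD.isTerminalObj (presheafToSheaf K (Type u))).isTerminalObj (fn.sheafPullback (Type u) K J))
    (hC.isTerminalObj (presheafToSheaf J (Type u))) _

/-- Global sections of a direct image. -/
theorem bijective_pushforwardSections (f : ModSite.RMor O_C O_D) (M : ModSite.Mod O_C) :
    Function.Bijective (SheafOfModules.pushforwardSections f.sharpR (M := M)) := by
  obtain h := univ_pt (J := J) (K := K) f.fn (setSh M)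
  constructor
  · intro s s' hss
    let g : ∀ _ : M.sections, (Functor.const Cᵒᵖ).obj PUnit.{u+1} ⟶ (setSh M).obj := fun t =>
      { app := fun X => ↾fun _ => t.val X
        naturality := fun X Y a => by ext; exact (t.property a).symm }
    have := h.1 (a₁ := g s) (a₂ := g s') (by
      ext X
      exact congrArg (fun t => t.val X) hss)
    exact Subtype.ext (funext fun X => congrArg (fun k => k.app X PUnit.unit) this)
  · intro t
    let k : (Functor.const Dᵒᵖ).obj PUnit.{u+1} ⟶ f.fn.op ⋙ (setSh M).obj :=
      { app := fun X => ↾fun _ => t.val X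
        naturality := fun X Y a => by ext; exact (t.property a).symm }
    obtain ⟨g, hg⟩ := h.2 k
    refine ⟨⟨fun X => g.app X PUnit.unit, fun {X Y} a => (NatTrans.naturality_apply g a PUnit.unit).symm⟩, ?_⟩
    exact Subtype.ext (funext fun X => congrArg (fun k => k.app X PUnit.unit) hg)

/-- `f^* O_D ≅ O_C`. -/
theorem isIso_pullUnit (f : ModSite.RMor O_C O_D) :
    IsIso (SheafOfModules.pullbackObjUnitToUnit.{u} f.sharpR) := by
  rw [isIso_iff_coyoneda_map_bijective]
  intro M
  rw [← ((SheafOfModules.pullbackPushforwardAdjunction.{u} f.sharpR).homEquiv _ _).bijective.of_comp_iff',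
    ← (SheafOfModules.unitHomEquiv _).bijective.of_comp_iff']
  convert! (bijective_pushforwardSections f M).comp (SheafOfModules.unitHomEquiv _).bijective
  ext g : 1
  dsimp
  rw [SheafOfModules.pushforwardSections_unitHomEquiv, EmbeddingLike.apply_eq_iff_eq,
    Adjunction.homEquiv_naturality_right,
    SheafOfModules.pullbackPushforwardAdjunction_homEquiv_pullbackObjUnitToUnit]

end Groth.Agent.H15Site.PullUnit
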