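import Groth.Agent.H15Site.ModAssoc
import Groth.Agent.H15Site.PullTensor
import Groth.Agent.H15Site.PullUnit

/-!
# Invertible sheaves of modules

`isEquivalence_of_iso_unit`: `L ⊗ N ≅ O` makes tensoring with `L` an equivalence;
`exists_iso_unit`; inverse image and tensor products of invertible modules.
-/

universe u

open CategoryTheory CategoryTheory.Limits Opposite

set_option linter.style.haveILetI false
set_option backward.isDefEq.respectTransparency false

namespace Groth.Agent.H15Site.Invertible

open ModTensor

attribute [local instance 10000] SiteInst.hasSheafifySite SiteInst.hasWeakSheafifySite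

variable {C : Type u} [SmallCategory C] {J : GrothendieckTopology C} {O : Sheaf J CommRingCat.{u}}

/-- `L ⊗ N` acts as `L ⊗ (N ⊗ -)`. -/
noncomputable def tLComp (L N : ModSite.Mod O) :
    (ModSite.tensorBi O).obj N ⋙ (ModSite.tensorBi O).obj L ≅
      (ModSite.tensorBi O).obj (((ModSite.tensorBi O).obj L).obj N) :=
  (((tAssoc (O := O)).app L).app N).symm

/-- `L ⊗ N ≅ N ⊗ L`. -/
noncomputable def symmIso (L N : ModSite.Mod O) :
    ((ModSite.tensorBi O).obj L).obj N ≅ ((ModSite.tensorBi O).obj N).obj L :=
  (tLIso L).app N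

/-- A module with an inverse is invertible. -/
theorem isEquivalence_of_iso_unit {L N : ModSite.Mod O}
    (e : ((ModSite.tensorBi O).obj L).obj N ≅ ModSite.unit O) :
    ((ModSite.tensorBi O).obj L).IsEquivalence :=
  (CategoryTheory.Equivalence.mk ((ModSite.tensorBi O).obj L) ((ModSite.tensorBi O).obj N)
    ((ModOver.tensorUnitIso O).symm ≪≫ (ModSite.tensorBi O).mapIso (e.symm ≪≫ symmIso L N) ≪≫
      (tLComp N L).symm)
    (tLComp L N ≪≫ (ModSite.tensorBi O).mapIso e ≪≫
      ModOver.tensorUnitIso O)).isEquivalence_functor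

/-- An invertible module has an inverse. -/
theorem exists_iso_unit {L : ModSite.Mod O} (hL : ((ModSite.tensorBi O).obj L).IsEquivalence) :
    ∃ N : ModSite.Mod O, Nonempty (((ModSite.tensorBi O).obj L).obj N ≅ ModSite.unit O) :=
  ⟨_, ⟨((ModSite.tensorBi O).obj L).objObjPreimageIso (ModSite.unit O)⟩⟩

/-- Tensor products of invertible modules are invertible. -/
theorem isEquivalence_tensor {L N : ModSite.Mod O}
    (hL : ((ModSite.tensorBi O).obj L).IsEquivalence)
    (hN : ((ModSite.tensorBi O).obj N).IsEquivalence) :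
    ((ModSite.tensorBi O).obj (((ModSite.tensorBi O).obj L).obj N)).IsEquivalence :=
  Functor.isEquivalence_of_iso (tLComp L N)

theorem isEquivalence_tR {L : ModSite.Mod O} (hL : ((ModSite.tensorBi O).obj L).IsEquivalence) :
    (tR L).IsEquivalence :=
  Functor.isEquivalence_of_iso (tLIso L)

variable {D : Type u} [SmallCategory D] {K : GrothendieckTopology D}
  {O_D : Sheaf K CommRingCat.{u}}

/-- Inverse image of an invertible module is invertible. -/
theorem isEquivalence_pull (f : ModSite.RMor O O_D) {L : ModSite.Mod O_D}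
    (hL : ((ModSite.tensorBi O_D).obj L).IsEquivalence) :
    ((ModSite.tensorBi O).obj (f.pull.obj L)).IsEquivalence := by
  obtain ⟨N, ⟨e⟩⟩ := exists_iso_unit hL
  haveI := PullUnit.isIso_pullUnit f
  exact isEquivalence_of_iso_unit (((PullTensor.cLIso f N).app L).symm ≪≫ f.pull.mapIso e ≪≫
    asIso (SheafOfModules.pullbackObjUnitToUnit.{u} f.sharpR))

end Groth.Agent.H15Site.Invertible
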