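import Groth.Agent.H15Site.ModInjAcyclic
import Groth.Agent.H10Coh.ToSheaf
import Groth.Agent.H10Coh.ExtMap
import Mathlib.Algebra.Category.ModuleCat.Sheaf.Abelian
import Mathlib.CategoryTheory.Sites.SheafCohomology.Basic

/-!
# Injective modules are totally acyclic; Ext out of the structure sheaf is sheaf cohomology
-/

set_option linter.style.haveILetI false

universe u

open CategoryTheory CategoryTheory.Limits Opposite CategoryTheory.Abelian

namespace Groth.Agent.H15Site.ModExtH

attribute [local instance 10000] SiteInst.hasSheafifySite SiteInst.hasWeakSheafifySite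
  SiteInst.hasExtSite SiteInst.enoughInjSite

variable {C : Type u} [SmallCategory C] {J : GrothendieckTopology C} (R : Sheaf J RingCat.{u})

/-- An injective sheaf of modules is totally acyclic. -/
theorem isTotallyAcyclic_toSheaf (I : SheafOfModules.{u} R) [Injective I] :
    CohCx.IsTotallyAcyclic ((SheafOfModules.toSheaf R).obj I) := fun K p =>
  ModInjAcyclic.subsingleton_ext R I p _ (TorsionFree.tf_sheafify_free K.obj)

theorem tf_constZ : TorsionFree.TF (J := J)
    ((constantSheaf J AddCommGrpCat.{u}).obj (AddCommGrpCat.of (ULift ℤ))) := by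
  intro n hn
  haveI : Mono (n • 𝟙 (AddCommGrpCat.of (ULift.{u} ℤ))) := by
    rw [AddCommGrpCat.mono_iff_injective]
    intro (a : ULift ℤ) (b : ULift ℤ) (h : n • a = n • b)
    exact ULift.ext _ _ (mul_left_cancel₀ hn (congrArg ULift.down h))
  haveI : (constantSheaf J AddCommGrpCat.{u}).PreservesMonomorphisms := by
    unfold constantSheaf
    infer_instance
  haveI : (constantSheaf J AddCommGrpCat.{u}).Additive := by
    unfold constantSheaf
    infer_instance
  rw [← (constantSheaf J AddCommGrpCat.{u}).map_id, ← Functor.map_zsmul]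
  infer_instance

/-- The section `1`. -/
noncomputable def oneNT :
    (Functor.const Cᵒᵖ).obj (AddCommGrpCat.of (ULift.{u} ℤ)) ⟶
      ((SheafOfModules.toSheaf R).obj (SheafOfModules.unit R)).obj where
  app X := AddCommGrpCat.ofHom ((zmultiplesHom _ (1 : R.obj.obj X)).comp AddEquiv.ulift.toAddMonoidHom)
  naturality X Y f := by
    apply AddCommGrpCat.hom_ext
    refine AddMonoidHom.ext fun n => ?_
    change n.down • (1 : R.obj.obj Y) = (R.obj.map f).hom (n.down • (1 : R.obj.obj X))
    rw [map_zsmul, map_one]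

/-- `ℤ ⟶ 𝒪`. -/
noncomputable def oneHom : (constantSheaf J AddCommGrpCat.{u}).obj (AddCommGrpCat.of (ULift.{u} ℤ)) ⟶
    (SheafOfModules.toSheaf R).obj (SheafOfModules.unit R) :=
  ((sheafificationAdjunction J AddCommGrpCat.{u}).homEquiv _ _).symm (oneNT R)

theorem bijective_oneHom (M : SheafOfModules.{u} R) :
    Function.Bijective fun φ : SheafOfModules.unit R ⟶ M =>
      oneHom R ≫ (SheafOfModules.toSheaf R).map φ := by
  let A := (sheafificationAdjunction J AddCommGrpCat.{u}).homEquiv
    ((Functor.const Cᵒᵖ).obj (AddCommGrpCat.of (ULift.{u} ℤ))) ((SheafOfModules.toSheaf R).obj M)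
  have h : ∀ φ : SheafOfModules.unit R ⟶ M, A (oneHom R ≫ (SheafOfModules.toSheaf R).map φ) =
      oneNT R ≫ ((SheafOfModules.toSheaf R).map φ).hom := fun φ =>
    ((sheafificationAdjunction J AddCommGrpCat.{u}).homEquiv_naturality_right _ _).trans
      (congrArg (fun t => t ≫ _) (Equiv.apply_symm_apply _ _))
  refine (Function.Bijective.of_comp_iff' A.bijective _).1 ?_
  refine (congrArg Function.Bijective (funext h : (fun φ => A (oneHom R ≫
    (SheafOfModules.toSheaf R).map φ)) = _)).mpr ?_
  refine ⟨fun φ ψ hφψ => M.unitHomEquiv.injective ?_, fun ψ => ?_⟩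
  · refine Subtype.ext (funext fun X => ?_)
    have hX := ConcreteCategory.congr_hom (congrArg (fun t => NatTrans.app t X) hφψ)
      (ULift.up (1 : ℤ))
    have e : ∀ χ : SheafOfModules.unit R ⟶ M,
        (oneNT R ≫ ((SheafOfModules.toSheaf R).map χ).hom).app X (ULift.up (1 : ℤ)) =
          χ.val.app X (1 : R.obj.obj X) := fun χ =>
      congrArg (χ.val.app X) (one_zsmul (1 : R.obj.obj X))
    exact (e φ).symm.trans (hX.trans (e ψ))
  · let s : M.sections := PresheafOfModules.sectionsMk
      (fun X => (show M.val.obj X from (ψ.app X).hom (ULift.up (1 : ℤ))))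
      (fun {X Y} f => (ConcreteCategory.congr_hom (ψ.naturality f) (ULift.up (1 : ℤ))).symm)
    refine ⟨M.unitHomEquiv.symm s, NatTrans.ext (funext fun X => AddCommGrpCat.hom_ext ?_)⟩
    refine AddMonoidHom.ext fun n => ?_
    have h1 : (M.unitHomEquiv.symm s).val.app X (1 : R.obj.obj X) =
        (show M.val.obj X from (ψ.app X).hom (ULift.up (1 : ℤ))) :=
      congrFun (congrArg Subtype.val (M.unitHomEquiv.apply_symm_apply s)) X
    change (M.unitHomEquiv.symm s).val.app X (n.down • (1 : R.obj.obj X)) = (ψ.app X).hom n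
    refine (map_zsmul ((M.unitHomEquiv.symm s).val.app X).hom n.down (1 : R.obj.obj X)).trans ?_
    refine (congrArg (n.down • ·) h1).trans ?_
    refine (map_zsmul (ψ.app X).hom n.down (ULift.up (1 : ℤ))).symm.trans ?_
    exact congrArg (ψ.app X).hom (ULift.ext _ _ (mul_one n.down))

/-- `Extⁿ(𝒪, M) ≅ Hⁿ(C, M)`. -/
theorem nonempty_ext_unit_addEquiv [HasExt.{u} (SheafOfModules.{u} R)]
    [EnoughInjectives (SheafOfModules.{u} R)] (M : SheafOfModules.{u} R) (n : ℕ) :
    Nonempty (Ext.{u} (SheafOfModules.unit R) M n ≃+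
      Sheaf.H.{u} ((SheafOfModules.toSheaf R).obj M) n) :=
  haveI := H10Coh.preservesFiniteColimits_toSheaf R
  ⟨H10Coh.extMapEquiv (SheafOfModules.toSheaf R) (oneHom R) (bijective_oneHom R)
    (fun I _ m => ModInjAcyclic.subsingleton_ext R I m _ tf_constZ) n M⟩

end Groth.Agent.H15Site.ModExtH
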