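import Groth.Agent.H15Site.ModTensor
import Groth.Agent.H10Coh.ModGroth
import Mathlib.RingTheory.Flat.CategoryTheory
import Mathlib.CategoryTheory.Abelian.Refinements
import Mathlib.Algebra.Homology.ShortComplex.ExactFunctor

/-!
Tensor product of sheaves of modules on a ringed site: compatibility with sheafification,
right exactness, and flatness.
-/

universe u
open CategoryTheory CategoryTheory.Limits MonoidalCategory Opposite

namespace Groth.Agent.H15Site.ModTensor

attribute [local instance 10000] SiteInst.hasSheafifySite SiteInst.hasWeakSheafifySite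

variable {C : Type u} [SmallCategory C] {J : GrothendieckTopology C} {O : Sheaf J CommRingCat.{u}}

/-- `G ↦ G ⊗ F`. -/
noncomputable abbrev tR (F : ModSite.Mod O) : ModSite.Mod O ⥤ ModSite.Mod O :=
  (ModSite.tensorBi O).flip.obj F

noncomputable def tRIso (F : ModSite.Mod O) :
    tR F ≅ forg O ⋙ tensorRight ((forg O).obj F) ⋙ aSh O :=
  NatIso.ofComponents (fun _ => Iso.refl _) (fun _ => (Category.comp_id _).trans (Category.id_comp _).symm)

/-- `a(P) ⊗ F = a(P ⊗ F)`. -/
noncomputable def aShTR (F : ModSite.Mod O) :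
    aSh O ⋙ tR F ≅ tensorRight ((forg O).obj F) ⋙ aSh O :=
  (NatIso.ofComponents (fun M =>
      (@asIso _ _ _ _ ((aSh O).map ((adj O).unit.app M ▷ (forg O).obj F))
          (isIso_aSh_map_whiskerRight _ _) :
        (tensorRight ((forg O).obj F) ⋙ aSh O).obj M ≅ (aSh O ⋙ tR F).obj M))
    fun {M N} f => by
      show (aSh O).map (f ▷ _) ≫ (aSh O).map _ =
        (aSh O).map _ ≫ (aSh O).map ((forg O).map ((aSh O).map f) ▷ _)
      rw [← Functor.map_comp, ← Functor.map_comp, ← comp_whiskerRight, ← comp_whiskerRight]
      congr 2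
      exact (adj O).unit.naturality f).symm

/-- `G ⊗ a(P) = a(G ⊗ P)`. -/
noncomputable def tRaSh (P : PMod O) :
    tR ((aSh O).obj P) ≅ forg O ⋙ tensorRight P ⋙ aSh O :=
  (NatIso.ofComponents (fun G =>
      (@asIso _ _ _ _ ((aSh O).map ((forg O).obj G ◁ (adj O).unit.app P))
          (isIso_aSh_map_whiskerLeft _ _) :
        (forg O ⋙ tensorRight P ⋙ aSh O).obj G ≅ (tR ((aSh O).obj P)).obj G))
    fun {M N} f => by
      show (aSh O).map ((forg O).map f ▷ _) ≫ (aSh O).map _ =
        (aSh O).map _ ≫ (aSh O).map ((forg O).map f ▷ _)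
      rw [← Functor.map_comp, ← Functor.map_comp, whisker_exchange]).symm

/-- The symmetry `F ⊗ G = G ⊗ F`. -/
noncomputable def tLIso (F : ModSite.Mod O) : (ModSite.tensorBi O).obj F ≅ tR F :=
  NatIso.ofComponents (fun G => (aSh O).mapIso (β_ ((forg O).obj F) ((forg O).obj G)))
    fun {G H} g => by
      show (aSh O).map _ ≫ (aSh O).map _ = (aSh O).map _ ≫ (aSh O).map _
      rw [← Functor.map_comp, ← Functor.map_comp]
      congr 1
      exact BraidedCategory.braiding_naturality_right _ _

/-- A functor out of sheaves of modules preserves colimits if it does after sheafification. -/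
theorem preservesColimitsOfShape_of_aSh {A : Type*} [Category A] (K : Type u) [SmallCategory K]
    (G : ModSite.Mod O ⥤ A) [PreservesColimitsOfShape K (aSh O ⋙ G)] :
    PreservesColimitsOfShape K G := by
  refine ⟨fun {D} => ?_⟩
  have : (forg O).Full := (SheafOfModules.fullyFaithfulForget (ModSite.ringSh O)).full
  have : (forg O).Faithful := (SheafOfModules.fullyFaithfulForget (ModSite.ringSh O)).faithful
  have : IsIso (adj O).counit := Adjunction.counit_isIso_of_R_fully_faithful _
  have := (adj O).leftAdjoint_preservesColimits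
  let P := D ⋙ forg O
  have : PreservesColimit (P ⋙ aSh O) G :=
    preservesColimit_of_preserves_colimit_cocone (isColimitOfPreserves (aSh O) (colimit.isColimit P))
      (isColimitOfPreserves (aSh O ⋙ G) (colimit.isColimit P))
  exact preservesColimit_of_iso_diagram _
    (Functor.isoWhiskerLeft D (asIso (adj O).counit) ≪≫ D.rightUnitor : P ⋙ aSh O ≅ D)

instance preservesColimits_aSh : PreservesColimitsOfSize.{u, u} (aSh O) :=
  (adj O).leftAdjoint_preservesColimits

instance preservesFiniteLimits_aSh : PreservesFiniteLimits (aSh O) :=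
  inferInstanceAs (PreservesFiniteLimits
    (PresheafOfModules.sheafification.{u} (𝟙 (ModSite.ringSh O).obj)))

theorem preservesColimits_tR (F : ModSite.Mod O) : PreservesColimitsOfSize.{u, u} (tR F) := by
  refine ⟨fun {K} _ => ?_⟩
  have := preservesColimitsOfShape_of_natIso (J := K) (aShTR F).symm
  exact preservesColimitsOfShape_of_aSh K _

theorem preservesFiniteColimits_tR (F : ModSite.Mod O) : PreservesFiniteColimits (tR F) :=
  have := preservesColimits_tR F
  PreservesColimitsOfSize.preservesFiniteColimits (tR F)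

theorem preservesColimits_tL (F : ModSite.Mod O) :
    PreservesColimitsOfSize.{u, u} ((ModSite.tensorBi O).obj F) :=
  have := preservesColimits_tR F
  preservesColimits_of_natIso (tLIso F).symm

theorem additive_of_preservesFiniteColimits {A B : Type*} [Category A] [Category B] [Abelian A]
    [Abelian B] (G : A ⥤ B) [PreservesFiniteColimits G] : G.Additive := by
  have := preservesBinaryBiproducts_of_preservesBinaryCoproducts G
  exact Functor.additive_of_preservesBinaryBiproducts G

theorem exact_and_epi_map {A B : Type*} [Category A] [Category B] [Abelian A] [Abelian B]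
    (G : A ⥤ B) [G.Additive] [PreservesFiniteColimits G] {S : ShortComplex A} (hS : S.ShortExact) :
    (S.map G).Exact ∧ Epi (G.map S.g) :=
  have := hS.epi_g
  ⟨hS.exact.map_of_epi_of_preservesCokernel G hS.epi_g inferInstance, inferInstance⟩

theorem additive_tR (F : ModSite.Mod O) : (tR F).Additive :=
  have := preservesFiniteColimits_tR F
  additive_of_preservesFiniteColimits _

theorem isFlat_iff (F : ModSite.Mod O) : ModSite.IsFlat F ↔ (tR F).PreservesMonomorphisms := by
  refine ⟨fun h => ?_, fun h => ⟨?_, preservesFiniteColimits_tR F⟩⟩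
  · have := h.1
    exact preservesMonomorphisms_of_preservesLimitsOfShape (tR F)
  · have := additive_tR F
    have := preservesFiniteColimits_tR F
    refine (Functor.preservesFiniteLimits_iff_forall_exact_map_and_mono (tR F)).2 fun S hS => ?_
    have := hS.mono_f
    exact ⟨(exact_and_epi_map _ hS).1, inferInstance⟩

theorem isFlat_of_iso {F F' : ModSite.Mod O} (e : F ≅ F') (h : ModSite.IsFlat F) :
    ModSite.IsFlat F' := by
  rw [isFlat_iff] at h ⊢
  exact Functor.PreservesMonomorphisms.of_iso ((ModSite.tensorBi O).flip.mapIso e)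

/-- A presheaf of modules with flat sections. -/
def SectFlat (P : PMod O) : Prop := ∀ X : Cᵒᵖ, Module.Flat (O.obj.obj X) (P.obj X)

theorem preservesMono_tensorRight {C : Type u} [SmallCategory C] {R : Cᵒᵖ ⥤ CommRingCat.{u}}
    (P : PresheafOfModules.{u} (R ⋙ forget₂ CommRingCat.{u} RingCat.{u}))
    (hP : ∀ X : Cᵒᵖ, Module.Flat (R.obj X) (P.obj X)) :
    (tensorRight P).PreservesMonomorphisms where
  preserves {M N} f hf := by
    refine PresheafOfModules.mono_of_injective fun X => ?_
    have := hP X
    exact Module.Flat.rTensor_preserves_injective_linearMap (R := R.obj X) (M := P.obj X)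
      (f.app X).hom (PresheafOfModules.injective_of_mono f X)

theorem isFlat_aSh {P : PMod O} (hP : SectFlat P) : ModSite.IsFlat ((aSh O).obj P) := by
  rw [isFlat_iff]
  have : (tensorRight P).PreservesMonomorphisms := preservesMono_tensorRight P hP
  have : (forg O).IsRightAdjoint := (adj O).isRightAdjoint
  have : (forg O).PreservesMonomorphisms := inferInstance
  have : (aSh O).PreservesMonomorphisms := preservesMonomorphisms_of_preservesLimitsOfShape _
  exact Functor.PreservesMonomorphisms.of_iso (tRaSh P).symm

/-- Every sheaf of modules receives an epimorphism from the sheafification of a presheaf of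
modules with free sections. -/
theorem exists_epi_aSh_sectFlat (G : ModSite.Mod O) :
    ∃ (P : PMod O) (_ : SectFlat P) (p : (aSh O).obj P ⟶ G), Epi p := by
  let S : Cᵒᵖ ⥤ Type u := ((forg O).obj G).presheaf ⋙ forget _
  let q : (PresheafOfModules.free _).obj S ⟶ (forg O).obj G :=
    PresheafOfModules.freeObjDesc (𝟙 S)
  refine ⟨_, fun X => ?_, ((adj O).homEquiv _ _).symm q, ?_⟩
  · show Module.Flat (O.obj.obj X) (S.obj X →₀ O.obj.obj X)
    infer_instance
  · have : Epi q := PresheafOfModules.epi_of_surjective fun X x => by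
      refine ⟨ModuleCat.freeMk (show S.obj X from x), ?_⟩
      exact ModuleCat.freeDesc_apply _ _
    have : (forg O).Full := (SheafOfModules.fullyFaithfulForget (ModSite.ringSh O)).full
    have : (forg O).Faithful := (SheafOfModules.fullyFaithfulForget (ModSite.ringSh O)).faithful
    rw [Adjunction.homEquiv_counit]
    infer_instance

/-- Generic chase: for a right exact biadditive bifunctor, tensoring preserves the mono of a short
exact sequence whose right-hand term is flat, provided there are enough flat objects. -/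
theorem mono_map_of_flat_cover {A : Type*} [Category A] [Abelian A] (B : A ⥤ A ⥤ A)
    [∀ X, (B.obj X).Additive] [∀ X, PreservesFiniteColimits (B.obj X)]
    [∀ X, (B.flip.obj X).Additive] [∀ X, PreservesFiniteColimits (B.flip.obj X)]
    {S : ShortComplex A} (hS : S.ShortExact) (h3 : (B.obj S.X₃).PreservesMonomorphisms)
    {G P : A} (p : P ⟶ G) [Epi p] (hP : (B.flip.obj P).PreservesMonomorphisms) :
    Mono ((B.flip.obj G).map S.f) := by
  let T := ShortComplex.mk (kernel.ι p) p (kernel.condition p)
  have hT : T.ShortExact := { exact := ShortComplex.exact_kernel p }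
  have hcol : ∀ X : A, (T.map (B.obj X)).Exact ∧ Epi ((B.obj X).map p) := fun X =>
    exact_and_epi_map (B.obj X) hT
  have hrow : (S.map (B.flip.obj (kernel p))).Exact ∧ Epi ((B.flip.obj (kernel p)).map S.g) :=
    exact_and_epi_map (B.flip.obj (kernel p)) hS
  have := hS.mono_f
  have : Mono ((B.flip.obj P).map S.f) := inferInstance
  have : Mono ((B.obj S.X₃).map (kernel.ι p)) := inferInstance
  have nat : ∀ {X Y : A} (a : X ⟶ Y) {K L : A} (b : K ⟶ L),
      (B.flip.obj K).map a ≫ (B.obj Y).map b = (B.obj X).map b ≫ (B.flip.obj L).map a :=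
    fun a _ _ b => ((B.map a).naturality b).symm
  refine Preadditive.mono_of_cancel_zero _ fun {W} t ht => ?_
  have := (hcol S.X₁).2
  obtain ⟨A₁, π₁, _, t₁, ht₁⟩ := surjective_up_to_refinements_of_epi ((B.obj S.X₁).map p) t
  have h2 : (t₁ ≫ (B.flip.obj P).map S.f) ≫ (B.obj S.X₂).map p = 0 := by
    rw [Category.assoc, nat S.f p, ← reassoc_of% ht₁, ht, comp_zero]
  obtain ⟨A₂, π₂, _, w', hw'⟩ := (hcol S.X₂).1.exact_up_to_refinements _ h2
  obtain ⟨w, hw⟩ : ∃ w : A₂ ⟶ (B.flip.obj (kernel p)).obj S.X₂,
      π₂ ≫ t₁ ≫ (B.flip.obj P).map S.f = w ≫ (B.obj S.X₂).map (kernel.ι p) := ⟨w', hw'⟩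
  have h3' : w ≫ (B.flip.obj (kernel p)).map S.g = 0 := by
    rw [← cancel_mono ((B.obj S.X₃).map (kernel.ι p)), zero_comp, Category.assoc, nat S.g]
    rw [← reassoc_of% hw]
    rw [← Functor.map_comp, S.zero, Functor.map_zero, comp_zero, comp_zero]
  obtain ⟨A₃, π₃, _, v', hv'⟩ := hrow.1.exact_up_to_refinements _ h3'
  obtain ⟨v, hv⟩ : ∃ v : A₃ ⟶ (B.flip.obj (kernel p)).obj S.X₁,
      π₃ ≫ w = v ≫ (B.flip.obj (kernel p)).map S.f := ⟨v', hv'⟩
  have h4 : π₃ ≫ π₂ ≫ t₁ = v ≫ (B.obj S.X₁).map (kernel.ι p) := by
    rw [← cancel_mono ((B.flip.obj P).map S.f), Category.assoc, Category.assoc, Category.assoc]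
    rw [hw, reassoc_of% hv, nat S.f]
  have : π₃ ≫ π₂ ≫ π₁ ≫ t = 0 := by
    rw [ht₁, reassoc_of% h4, ← Functor.map_comp, kernel.condition, Functor.map_zero, comp_zero]
  simpa only [← cancel_epi π₁, ← cancel_epi π₂, ← cancel_epi π₃, comp_zero] using this

theorem preservesMono_tL_of_isFlat {F : ModSite.Mod O} (hF : ModSite.IsFlat F) :
    ((ModSite.tensorBi O).obj F).PreservesMonomorphisms :=
  have := (isFlat_iff F).1 hF
  Functor.PreservesMonomorphisms.of_iso (tLIso F).symm

/-- If the right-hand term of a short exact sequence is flat, tensoring it preserves the mono. -/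
theorem mono_tR_map_of_flat {S : ShortComplex (ModSite.Mod O)} (hS : S.ShortExact)
    (hF : ModSite.IsFlat S.X₃) (G : ModSite.Mod O) : Mono ((tR G).map S.f) := by
  obtain ⟨Q, hQ, p, hp⟩ := exists_epi_aSh_sectFlat G
  let B := ModSite.tensorBi O
  have := fun X : ModSite.Mod O => preservesColimits_tL X
  have := fun X : ModSite.Mod O => PreservesColimitsOfSize.preservesFiniteColimits (B.obj X)
  have := fun X : ModSite.Mod O => additive_of_preservesFiniteColimits (B.obj X)
  have := fun X : ModSite.Mod O => preservesFiniteColimits_tR X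
  have := fun X : ModSite.Mod O => additive_tR X
  exact mono_map_of_flat_cover B hS (preservesMono_tL_of_isFlat hF) p
    ((isFlat_iff _).1 (isFlat_aSh hQ))

theorem shortExact_tR_map_of_flat {S : ShortComplex (ModSite.Mod O)} (hS : S.ShortExact)
    (hF : ModSite.IsFlat S.X₃) (G : ModSite.Mod O) [(tR G).PreservesZeroMorphisms] :
    (S.map (tR G)).ShortExact := by
  have := additive_tR G
  have := preservesFiniteColimits_tR G
  obtain ⟨h1, h2⟩ := exact_and_epi_map (tR G) hS
  exact { exact := h1, mono_f := mono_tR_map_of_flat hS hF G, epi_g := h2 }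

/-- Tensoring with a flat module on the left, of a short exact sequence with flat right-hand term. -/
theorem shortExact_tL_map_of_flat {S : ShortComplex (ModSite.Mod O)} (hS : S.ShortExact)
    (hF : ModSite.IsFlat S.X₃) (G : ModSite.Mod O)
    [((ModSite.tensorBi O).obj G).PreservesZeroMorphisms] :
    (S.map ((ModSite.tensorBi O).obj G)).ShortExact := by
  have := additive_tR G
  exact ShortComplex.shortExact_of_iso (S.mapNatIso (tLIso G)).symm
    (shortExact_tR_map_of_flat hS hF G)

theorem mono_app_of_isColimit {A B : Type*} [Category A] [Category B] [Abelian B] {K : Type u}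
    [SmallCategory K] [HasColimitsOfShape K B] [HasExactColimitsOfShape K B] {D : K ⥤ A}
    (c : Cocone D) (hc : IsColimit c) {G G' : A ⥤ B} [PreservesColimit D G] [PreservesColimit D G']
    (τ : G ⟶ G') (h : ∀ k, Mono (τ.app (D.obj k))) : Mono (τ.app c.pt) := by
  have : ∀ k, Mono ((Functor.whiskerLeft D τ).app k) := h
  have : Mono (Functor.whiskerLeft D τ) := NatTrans.mono_of_mono_app _
  exact colim.map_mono' (Functor.whiskerLeft D τ) (isColimitOfPreserves G hc)
    (isColimitOfPreserves G' hc) (τ.app c.pt) (fun k => τ.naturality (c.ι.app k))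

/-- A colimit of flat modules is flat when colimits of that shape are exact. -/
theorem isFlat_of_isColimit {K : Type u} [SmallCategory K]
    [HasExactColimitsOfShape K (ModSite.Mod O)] {D : K ⥤ ModSite.Mod O}
    (hD : ∀ k, ModSite.IsFlat (D.obj k)) (c : Cocone D) (hc : IsColimit c) :
    ModSite.IsFlat c.pt := by
  rw [isFlat_iff]
  refine ⟨fun {X Y} f hf => ?_⟩
  have := preservesColimits_tL X
  have := preservesColimits_tL Y
  exact mono_app_of_isColimit c hc ((ModSite.tensorBi O).map f) fun k =>
    ((isFlat_iff _).1 (hD k)).preserves f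

end Groth.Agent.H15Site.ModTensor

namespace Groth.Agent.H15Site.PreTensor

open Groth.Agent.H15Site.ModTensor

variable {C : Type u} [SmallCategory C] {R : Cᵒᵖ ⥤ CommRingCat.{u}}

theorem preservesFiniteColimits_tensorRight
    (P : PresheafOfModules.{u} (R ⋙ forget₂ CommRingCat.{u} RingCat.{u})) :
    PreservesFiniteColimits (tensorRight P) :=
  PreservesColimitsOfSize.preservesFiniteColimits _

theorem exists_epi_sectFlat
    (G : PresheafOfModules.{u} (R ⋙ forget₂ CommRingCat.{u} RingCat.{u})) :
    ∃ (P : PresheafOfModules.{u} (R ⋙ forget₂ CommRingCat.{u} RingCat.{u})) (q : P ⟶ G),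
      Epi q ∧ (tensorRight P).PreservesMonomorphisms := by
  let S : Cᵒᵖ ⥤ Type u := G.presheaf ⋙ forget _
  refine ⟨(PresheafOfModules.free _).obj S, PresheafOfModules.freeObjDesc (𝟙 S),
    PresheafOfModules.epi_of_surjective fun X x => ⟨ModuleCat.freeMk (show S.obj X from x), ?_⟩,
    preservesMono_tensorRight _ fun X => ?_⟩
  · exact ModuleCat.freeDesc_apply _ _
  · show Module.Flat (R.obj X) (S.obj X →₀ R.obj X)
    infer_instance

theorem preservesFiniteLimits_tensorRight
    (P : PresheafOfModules.{u} (R ⋙ forget₂ CommRingCat.{u} RingCat.{u}))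
    [(tensorRight P).PreservesMonomorphisms] : PreservesFiniteLimits (tensorRight P) := by
  have := preservesFiniteColimits_tensorRight P
  have := additive_of_preservesFiniteColimits (tensorRight P)
  refine (Functor.preservesFiniteLimits_iff_forall_exact_map_and_mono _).2 fun S hS => ?_
  have := hS.mono_f
  exact ⟨(exact_and_epi_map _ hS).1, inferInstance⟩

theorem shortExact_tensorRight_map
    {S : ShortComplex (PresheafOfModules.{u} (R ⋙ forget₂ CommRingCat.{u} RingCat.{u}))}
    (hS : S.ShortExact) [hF : PreservesFiniteLimits (tensorRight S.X₃)]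
    (G : PresheafOfModules.{u} (R ⋙ forget₂ CommRingCat.{u} RingCat.{u}))
    [(tensorRight G).PreservesZeroMorphisms] : (S.map (tensorRight G)).ShortExact := by
  let B := curriedTensor (PresheafOfModules.{u} (R ⋙ forget₂ CommRingCat.{u} RingCat.{u}))
  have h1 : ∀ X, PreservesFiniteColimits (B.obj X) := fun X =>
    inferInstanceAs (PreservesFiniteColimits (tensorLeft X))
  have h2 : ∀ X, (B.obj X).Additive := fun X => additive_of_preservesFiniteColimits _
  have h3 : ∀ X, PreservesFiniteColimits (B.flip.obj X) := fun X =>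
    preservesFiniteColimits_tensorRight X
  have h4 : ∀ X, (B.flip.obj X).Additive := fun X => additive_of_preservesFiniteColimits _
  have h5 : (B.obj S.X₃).PreservesMonomorphisms := by
    have : (tensorRight S.X₃).PreservesMonomorphisms :=
      preservesMonomorphisms_of_preservesLimitsOfShape _
    exact Functor.PreservesMonomorphisms.of_iso (BraidedCategory.tensorLeftIsoTensorRight S.X₃).symm
  obtain ⟨P, q, hq, hP⟩ := exists_epi_sectFlat G
  obtain ⟨e1, e2⟩ := @exact_and_epi_map _ _ _ _ _ _ (B.flip.obj G) (h4 G) (h3 G) S hS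
  exact { exact := e1, mono_f := mono_map_of_flat_cover B hS h5 q hP, epi_g := e2 }

end Groth.Agent.H15Site.PreTensor
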