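import Groth.Agent.H15Site.ModKFlat
import Mathlib.Algebra.Homology.BifunctorAssociator

/-!
Associativity of the tensor product of sheaves of modules on a ringed site and of total complexes.
-/

universe u
open CategoryTheory CategoryTheory.Limits MonoidalCategory Opposite

namespace Groth.Agent.H15Site.ModTensor

attribute [local instance 10000] SiteInst.hasSheafifySite SiteInst.hasWeakSheafifySite

variable {C : Type u} [SmallCategory C] {J : GrothendieckTopology C} {O : Sheaf J CommRingCat.{u}}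

/-- The tensor product in terms of sheafification. -/
noncomputable abbrev tt (F G : ModSite.Mod O) : ModSite.Mod O :=
  (aSh O).obj ((forg O).obj F ⊗ (forg O).obj G)

/-- The tensor product of morphisms. -/
noncomputable abbrev ttMap {F F' G G' : ModSite.Mod O} (f : F ⟶ F') (g : G ⟶ G') :
    tt F G ⟶ tt F' G' :=
  (aSh O).map ((forg O).map f ⊗ₘ (forg O).map g)

/-- From `a((F ⊗ G) ⊗ H)` to `(F ⊗ G) ⊗ H`. -/
noncomputable abbrev e12 (F G H : ModSite.Mod O) :
    (aSh O).obj (((forg O).obj F ⊗ (forg O).obj G) ⊗ (forg O).obj H) ⟶ tt (tt F G) H :=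
  (aSh O).map ((adj O).unit.app _ ▷ _)

/-- From `a((F ⊗ G) ⊗ H)` to `F ⊗ (G ⊗ H)`. -/
noncomputable abbrev e23 (F G H : ModSite.Mod O) :
    (aSh O).obj (((forg O).obj F ⊗ (forg O).obj G) ⊗ (forg O).obj H) ⟶ tt F (tt G H) :=
  (aSh O).map ((α_ _ _ _).hom ≫ (forg O).obj F ◁ (adj O).unit.app _)

theorem isIso_e12 (F G H : ModSite.Mod O) : IsIso (e12 F G H) := isIso_aSh_map_whiskerRight _ _

theorem isIso_e23 (F G H : ModSite.Mod O) : IsIso (e23 F G H) := by
  have := isIso_aSh_map_whiskerLeft ((adj O).unit.app ((forg O).obj G ⊗ (forg O).obj H))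
    ((forg O).obj F)
  rw [e23, Functor.map_comp]
  infer_instance

/-- `(F ⊗ G) ⊗ H ≅ F ⊗ (G ⊗ H)`. -/
noncomputable def assocApp (F G H : ModSite.Mod O) : tt (tt F G) H ≅ tt F (tt G H) :=
  (@asIso _ _ _ _ (e12 F G H) (isIso_e12 F G H)).symm ≪≫
    @asIso _ _ _ _ (e23 F G H) (isIso_e23 F G H)

lemma e12_assocApp (F G H : ModSite.Mod O) : e12 F G H ≫ (assocApp F G H).hom = e23 F G H := by
  simp [assocApp]

lemma assocApp_naturality {F F' G G' H H' : ModSite.Mod O} (f : F ⟶ F') (g : G ⟶ G') (h : H ⟶ H') :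
    ttMap (ttMap f g) h ≫ (assocApp F' G' H').hom =
      (assocApp F G H).hom ≫ ttMap f (ttMap g h) := by
  have := isIso_e12 F G H
  have u : ∀ {P Q : PMod O} (w : P ⟶ Q),
      w ≫ (adj O).unit.app Q = (adj O).unit.app P ≫ (forg O).map ((aSh O).map w) := fun w =>
    (adj O).unit.naturality w
  have h12 : e12 F G H ≫ ttMap (ttMap f g) h =
      (aSh O).map (((forg O).map f ⊗ₘ (forg O).map g) ⊗ₘ (forg O).map h) ≫ e12 F' G' H' := by
    rw [e12, e12, ← Functor.map_comp, ← Functor.map_comp]
    congr 1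
    rw [← tensorHom_id, ← tensorHom_id, tensorHom_comp_tensorHom, tensorHom_comp_tensorHom,
      Category.id_comp, Category.comp_id]
    exact congrArg (· ⊗ₘ _) (u _).symm
  have h23 : e23 F G H ≫ ttMap f (ttMap g h) =
      (aSh O).map (((forg O).map f ⊗ₘ (forg O).map g) ⊗ₘ (forg O).map h) ≫ e23 F' G' H' := by
    rw [e23, e23, ← Functor.map_comp, ← Functor.map_comp]
    congr 1
    rw [associator_naturality_assoc, Category.assoc]
    congr 1
    rw [← id_tensorHom, ← id_tensorHom, tensorHom_comp_tensorHom, tensorHom_comp_tensorHom,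
      Category.id_comp, Category.comp_id]
    exact congrArg (_ ⊗ₘ ·) (u _).symm
  rw [← cancel_epi (e12 F G H), ← Category.assoc, h12, Category.assoc, e12_assocApp,
    ← Category.assoc, e12_assocApp, h23]

lemma map_tensorHom_id {F F' G : ModSite.Mod O} (f : F ⟶ F') :
    ttMap f (𝟙 G) = (aSh O).map ((forg O).map f ▷ (forg O).obj G) := by
  rw [ttMap, CategoryTheory.Functor.map_id, tensorHom_id]

lemma map_id_tensorHom {F G G' : ModSite.Mod O} (g : G ⟶ G') :
    ttMap (𝟙 F) g = (aSh O).map ((forg O).obj F ◁ (forg O).map g) := by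
  rw [ttMap, CategoryTheory.Functor.map_id, id_tensorHom]

lemma ttMap_id (F G : ModSite.Mod O) : ttMap (𝟙 F) (𝟙 G) = 𝟙 (tt F G) := by
  rw [map_tensorHom_id, CategoryTheory.Functor.map_id, id_whiskerRight, CategoryTheory.Functor.map_id]

/-- The associator of the tensor product of sheaves of modules. -/
noncomputable def tAssoc :
    bifunctorComp₁₂ (ModSite.tensorBi O) (ModSite.tensorBi O) ≅
      bifunctorComp₂₃ (ModSite.tensorBi O) (ModSite.tensorBi O) :=
  NatIso.ofComponents (fun F => NatIso.ofComponents (fun G => NatIso.ofComponents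
    (fun H => assocApp F G H) (fun {H H'} h => by
      have := assocApp_naturality (𝟙 F) (𝟙 G) h
      rw [ttMap_id, map_id_tensorHom (F := F) (ttMap (𝟙 G) h), map_id_tensorHom h,
        map_id_tensorHom h] at this
      exact this)) (fun {G G'} g => by
      ext1; funext H
      have := assocApp_naturality (𝟙 F) g (𝟙 H)
      rw [map_id_tensorHom g, map_tensorHom_id g, map_id_tensorHom, map_tensorHom_id] at this
      exact this)) (fun {F F'} f => by
      ext1; funext G; ext1; funext H
      have := assocApp_naturality f (𝟙 G) (𝟙 H)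
      rw [ttMap_id, map_tensorHom_id f, map_tensorHom_id, map_tensorHom_id] at this
      exact this)

end Groth.Agent.H15Site.ModTensor

namespace Groth.Agent.H15Site.ModKFlat

open Groth.Agent.H15Site.ModTensor Groth.Agent.H16Derived

attribute [local instance 10000] SiteInst.hasSheafifySite SiteInst.hasWeakSheafifySite

variable {C : Type u} [SmallCategory C] {J : GrothendieckTopology C} {O : Sheaf J CommRingCat.{u}}

/-- `(K₁ ⊗ K₂) ⊗ K₃ ≅ K₁ ⊗ (K₂ ⊗ K₃)` for complexes. -/
noncomputable def totAssoc (K₁ K₂ K₃ : CochainComplex (ModSite.Mod O) ℤ) :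
    ((ModSite.tensorCx O).obj (((ModSite.tensorCx O).obj K₁).obj K₂)).obj K₃ ≅
      ((ModSite.tensorCx O).obj K₁).obj (((ModSite.tensorCx O).obj K₂).obj K₃) :=
  have h0 : ∀ N : ModSite.Mod O, PreservesColimitsOfSize.{0, 0} (tR N) := fun N =>
    have := preservesColimits_tR N
    preservesColimitsOfSize_shrink.{0, u, 0, u} _
  have h1 : ∀ N : ModSite.Mod O, PreservesColimitsOfSize.{0, 0} ((ModSite.tensorBi O).obj N) :=
    fun N =>
    have := preservesColimits_tL N
    preservesColimitsOfSize_shrink.{0, u, 0, u} _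
  haveI : HomologicalComplex.HasGoodTrifunctor₁₂Obj (ModSite.tensorBi O) (ModSite.tensorBi O)
      K₁ K₂ K₃ (ComplexShape.up ℤ) (ComplexShape.up ℤ) := fun _ i₃ =>
    have := h0 (K₃.X i₃)
    inferInstance
  haveI : HomologicalComplex.HasGoodTrifunctor₂₃Obj (ModSite.tensorBi O) (ModSite.tensorBi O)
      K₁ K₂ K₃ (ComplexShape.up ℤ) (ComplexShape.up ℤ) (ComplexShape.up ℤ) := fun i₁ _ =>
    have := h1 (K₁.X i₁)
    inferInstance
  HomologicalComplex.mapBifunctorAssociator (tAssoc (O := O)) K₁ K₂ K₃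
    (ComplexShape.up ℤ) (ComplexShape.up ℤ) (ComplexShape.up ℤ)

end Groth.Agent.H15Site.ModKFlat

namespace Groth.Agent.H15Site.ModKFlat

open Groth.Agent.H15Site.ModTensor Groth.Agent.H16Derived

attribute [local instance 10000] SiteInst.hasSheafifySite SiteInst.hasWeakSheafifySite

variable {C : Type u} [SmallCategory C] {J : GrothendieckTopology C} {O : Sheaf J CommRingCat.{u}}

/-- The tensor product of K-flat complexes is K-flat. -/
theorem isKFlat_tensorCx {K L : CochainComplex (ModSite.Mod O) ℤ} (hK : ModSite.IsKFlat K)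
    (hL : ModSite.IsKFlat L) : ModSite.IsKFlat (((ModSite.tensorCx O).obj K).obj L) := by
  rw [isKFlat_iff] at hK hL ⊢
  exact fun F hF => KFlat.acyclic_of_iso (totAssoc F K L) (hL _ (hK F hF))

end Groth.Agent.H15Site.ModKFlat
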