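import Mathlib.CategoryTheory.Abelian.RightDerived
import Mathlib.Algebra.Homology.HomologySequence
import Mathlib.Algebra.Homology.HomologySequenceLemmas
import Mathlib.Algebra.Homology.HomologicalComplexAbelian
import Mathlib.Algebra.Homology.ShortComplex.ExactFunctor
import Mathlib.CategoryTheory.Limits.Shapes.Kernels

/-!
# The long exact sequence of right derived functors of a short exact sequence of functors
-/

set_option linter.style.haveILetI false
set_option linter.unusedSectionVars false
set_option backward.isDefEq.respectTransparency false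

universe v v' u u'

open CategoryTheory CategoryTheory.Limits

namespace Groth.Agent.H15Site.RDSeq

variable {A : Type u} [Category.{v} A] [Abelian A] [HasInjectiveResolutions A]
  {B : Type u'} [Category.{v'} B] [Abelian B]
  {Γ H P : A ⥤ B} [Γ.Additive] [H.Additive] [P.Additive] (a : Γ ⟶ H) (b : H ⟶ P)
  (w : a ≫ b = 0)
  (hI : ∀ (I : A) [Injective I],
    (ShortComplex.mk (a.app I) (b.app I) (by rw [← NatTrans.comp_app, w]; rfl)).ShortExact)

/-- The three complexes of a resolution. -/
noncomputable def sc {X : A} (R : InjectiveResolution X) : ShortComplex (CochainComplex B ℕ) :=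
  ShortComplex.mk ((NatTrans.mapHomologicalComplex a (ComplexShape.up ℕ)).app R.cocomplex)
    ((NatTrans.mapHomologicalComplex b (ComplexShape.up ℕ)).app R.cocomplex) (by
      ext i
      exact congr_app w (R.cocomplex.X i))

include hI in
lemma shortExact_sc {X : A} (R : InjectiveResolution X) : (sc a b w R).ShortExact :=
  HomologicalComplex.shortExact_of_degreewise_shortExact _ fun i => hI (R.cocomplex.X i)

/-- A map of resolutions gives a map of the three complexes. -/
noncomputable def scMap {X Y : A} {R : InjectiveResolution X} {S : InjectiveResolution Y}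
    (φ : R.cocomplex ⟶ S.cocomplex) : sc a b w R ⟶ sc a b w S where
  τ₁ := (Γ.mapHomologicalComplex _).map φ
  τ₂ := (H.mapHomologicalComplex _).map φ
  τ₃ := (P.mapHomologicalComplex _).map φ
  comm₁₂ := (NatTrans.mapHomologicalComplex a (ComplexShape.up ℕ)).naturality φ
  comm₂₃ := (NatTrans.mapHomologicalComplex b (ComplexShape.up ℕ)).naturality φ

lemma δ_naturality' {C ι : Type*} [Category C] [Abelian C] {c : ComplexShape ι}
    {S₁ S₂ : ShortComplex (HomologicalComplex C c)} (φ : S₁ ⟶ S₂) (hS₁ : S₁.ShortExact)
    (hS₂ : S₂.ShortExact) (i j : ι) (hij : c.Rel i j) :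
    hS₁.δ i j hij ≫ HomologicalComplex.homologyMap φ.τ₁ _ =
      HomologicalComplex.homologyMap φ.τ₃ _ ≫ hS₂.δ i j hij :=
  HomologicalComplex.HomologySequence.δ_naturality φ hS₁ hS₂ i j hij

/-- The connecting map, for a resolution. -/
noncomputable def δR {X : A} (R : InjectiveResolution X) (n : ℕ) :
    (P.rightDerived n).obj X ⟶ (Γ.rightDerived (n + 1)).obj X :=
  (R.isoRightDerivedObj P n).hom ≫ (shortExact_sc a b w hI R).δ n (n + 1) (by simp) ≫
    (R.isoRightDerivedObj Γ (n + 1)).inv

/-- The connecting natural transformation. -/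
noncomputable def δNat (n : ℕ) : P.rightDerived n ⟶ Γ.rightDerived (n + 1) where
  app X := δR a b w hI (injectiveResolution X) n
  naturality {X Y} f := by
    let φ := InjectiveResolution.desc f (injectiveResolution Y) (injectiveResolution X)
    have hc : (injectiveResolution X).ι.f 0 ≫ φ.f 0 = f ≫ (injectiveResolution Y).ι.f 0 := by
      simp [φ]
    simp only [δR, Category.assoc]
    rw [InjectiveResolution.isoRightDerivedObj_hom_naturality_assoc f _ _ φ hc P n,
      InjectiveResolution.isoRightDerivedObj_inv_naturality f _ _ φ hc Γ (n + 1)]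
    congr 1
    exact ((reassoc_of% (δ_naturality' (scMap a b w φ) (shortExact_sc a b w hI (injectiveResolution X))
      (shortExact_sc a b w hI (injectiveResolution Y)) n (n + 1) (by simp))) _).symm

/-- The connecting map is an isomorphism when the middle derived functors vanish. -/
lemma isIso_δNat_app (n : ℕ) (X : A) (h₁ : IsZero ((H.rightDerived n).obj X))
    (h₂ : IsZero ((H.rightDerived (n + 1)).obj X)) : IsIso ((δNat a b w hI n).app X) := by
  let R := injectiveResolution X
  haveI := (shortExact_sc a b w hI R).isIso_δ n (n + 1) (by simp)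
    (h₁.of_iso (R.isoRightDerivedObj H n).symm) (h₂.of_iso (R.isoRightDerivedObj H (n + 1)).symm)
  change IsIso ((R.isoRightDerivedObj P n).hom ≫ (shortExact_sc a b w hI R).δ n (n + 1) (by simp) ≫
    (R.isoRightDerivedObj Γ (n + 1)).inv)
  infer_instance

/-- `P.rightDerived n ≅ Γ.rightDerived (n+1)`. -/
noncomputable def δIsoNat (n : ℕ) (h₁ : ∀ X, IsZero ((H.rightDerived n).obj X))
    (h₂ : ∀ X, IsZero ((H.rightDerived (n + 1)).obj X)) :
    P.rightDerived n ≅ Γ.rightDerived (n + 1) :=
  haveI : ∀ X, IsIso ((δNat a b w hI n).app X) := fun X => isIso_δNat_app a b w hI n X (h₁ X) (h₂ X)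
  haveI : IsIso (δNat a b w hI n) := NatIso.isIso_of_isIso_app _
  asIso (δNat a b w hI n)

variable [PreservesFiniteLimits H] [PreservesFiniteLimits P]

/-- `P ⟶ R¹Γ`. -/
noncomputable def ψ : P ⟶ Γ.rightDerived 1 := P.toRightDerivedZero ≫ δNat a b w hI 0

/-- `G X ≅ H⁰(G R)`. -/
noncomputable def zeroIso (G : A ⥤ B) [G.Additive] [PreservesFiniteLimits G] {X : A}
    (R : InjectiveResolution X) :
    G.obj X ≅ ((G.mapHomologicalComplex (ComplexShape.up ℕ)).obj R.cocomplex).homology 0 :=
  asIso (R.toRightDerivedZero' G) ≪≫ CochainComplex.isoHomologyπ₀ _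

lemma zeroIso_naturality {X : A} (R : InjectiveResolution X) :
    b.app X ≫ (zeroIso P R).hom =
      (zeroIso H R).hom ≫ HomologicalComplex.homologyMap (sc a b w R).g 0 := by
  have h1 : b.app X ≫ R.toRightDerivedZero' P =
      R.toRightDerivedZero' H ≫ HomologicalComplex.cyclesMap (sc a b w R).g 0 := by
    rw [← cancel_mono (HomologicalComplex.iCycles _ 0)]
    simp only [Category.assoc]
    erw [HomologicalComplex.cyclesMap_i]
    erw [InjectiveResolution.toRightDerivedZero'_comp_iCycles,
      InjectiveResolution.toRightDerivedZero'_comp_iCycles_assoc]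
    exact (b.naturality (R.ι.f 0)).symm
  simp only [zeroIso, Iso.trans_hom, asIso_hom, CochainComplex.isoHomologyπ₀]
  erw [reassoc_of% h1, Category.assoc]
  congr 1
  exact (HomologicalComplex.homologyπ_naturality (sc a b w R).g 0).symm

lemma ψ_app (X : A) : (ψ a b w hI).app X = (zeroIso P (injectiveResolution X)).hom ≫
    (shortExact_sc a b w hI (injectiveResolution X)).δ 0 1 (by simp) ≫
      ((injectiveResolution X).isoRightDerivedObj Γ 1).inv := by
  show P.toRightDerivedZero.app X ≫ δR a b w hI (injectiveResolution X) 0 = _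
  rw [(injectiveResolution X).toRightDerivedZero_eq P, δR]
  simp only [zeroIso, Iso.trans_hom, asIso_hom, Category.assoc, Iso.inv_hom_id_assoc]

lemma comp_ψ_app (X : A) : b.app X ≫ (ψ a b w hI).app X = 0 := by
  rw [ψ_app, reassoc_of% (zeroIso_naturality a b w (injectiveResolution X))]
  erw [(shortExact_sc a b w hI (injectiveResolution X)).comp_δ_assoc]
  simp

lemma exact_ψ_app (X : A) :
    (ShortComplex.mk (b.app X) ((ψ a b w hI).app X) (comp_ψ_app a b w hI X)).Exact := by
  let R := injectiveResolution X
  refine (ShortComplex.exact_iff_of_iso ?_).2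
    ((shortExact_sc a b w hI R).homology_exact₃ 0 1 (by simp))
  refine ShortComplex.isoMk (zeroIso H R) (zeroIso P R) (R.isoRightDerivedObj Γ 1) ?_ ?_
  · exact (zeroIso_naturality a b w R).symm
  · show (zeroIso P R).hom ≫ (shortExact_sc a b w hI R).δ 0 1 _ =
      (ψ a b w hI).app X ≫ (R.isoRightDerivedObj Γ 1).hom
    refine Eq.trans ?_ (congrArg (· ≫ (R.isoRightDerivedObj Γ 1).hom) (ψ_app a b w hI X)).symm
    simp [R]

lemma epi_ψ_app (X : A) (h : IsZero ((H.rightDerived 1).obj X)) : Epi ((ψ a b w hI).app X) := by
  let R := injectiveResolution X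
  haveI : Epi ((shortExact_sc a b w hI R).δ 0 1 (by simp)) :=
    ((shortExact_sc a b w hI R).homology_exact₁ 0 1 (by simp)).epi_f
      ((h.of_iso (R.isoRightDerivedObj H 1).symm).eq_of_tgt _ _)
  rw [ψ_app]
  infer_instance

include hI in
/-- `R¹Γ` is the cokernel of `H ⟶ P`. -/
theorem nonempty_cokernelIso (h : ∀ X, IsZero ((H.rightDerived 1).obj X)) :
    Nonempty (Γ.rightDerived 1 ≅ cokernel b) := by
  haveI : ∀ X, Epi ((ψ a b w hI).app X) := fun X => epi_ψ_app a b w hI X (h X)
  haveI : Epi (ψ a b w hI) := NatTrans.epi_of_epi_app _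
  have hw : b ≫ ψ a b w hI = 0 := by ext X; exact comp_ψ_app a b w hI X
  refine ⟨IsColimit.coconePointUniqueUpToIso (t := Cofork.ofπ (cokernel.π b) (by
      rw [cokernel.condition, zero_comp]))
    (CokernelCofork.IsColimit.ofπ' (ψ a b w hI) hw fun {Z} k hk => ?_) (cokernelIsCokernel b)⟩
  refine ⟨{ app := fun X => (exact_ψ_app a b w hI X).desc (k.app X) (congr_app hk X), naturality := ?_ }, ?_⟩
  · intro X Y f
    apply (cancel_epi ((ψ a b w hI).app X)).1
    have hY := (exact_ψ_app a b w hI Y).g_desc (k.app Y) (congr_app hk Y)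
    have hX := (exact_ψ_app a b w hI X).g_desc (k.app X) (congr_app hk X)
    dsimp at hX hY
    rw [← NatTrans.naturality_assoc, hY, reassoc_of% hX, k.naturality]
  · ext X
    exact (exact_ψ_app a b w hI X).g_desc (k.app X) (congr_app hk X)

section Precomp

variable {C : Type*} [Category C] [Abelian C] [HasInjectiveResolutions C]
  {E : Type*} [Category E] [Abelian E]
  (R : A ⥤ C) [R.Additive] [PreservesFiniteLimits R] [PreservesFiniteColimits R]
  (G : C ⥤ E) [G.Additive] (hR : ∀ (I : A) [Injective I], Injective (R.obj I))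

/-- The image of a resolution by an exact functor preserving injectives. -/
noncomputable def mapResolution {X : A} (I : InjectiveResolution X) :
    InjectiveResolution (R.obj X) where
  cocomplex := (R.mapHomologicalComplex _).obj I.cocomplex
  injective n := hR (I.cocomplex.X n)
  ι := (HomologicalComplex.singleMapHomologicalComplex R (ComplexShape.up ℕ) 0).inv.app X ≫
    (R.mapHomologicalComplex _).map I.ι

lemma mapResolution_ι_zero {X : A} (I : InjectiveResolution X) :
    (mapResolution R hR I).ι.f 0 = R.map (I.ι.f 0) := by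
  simp [mapResolution]

/-- Right derived functors of a composition with an exact functor preserving injectives. -/
noncomputable def precompIso (n : ℕ) : (R ⋙ G).rightDerived n ≅ R ⋙ G.rightDerived n :=
  NatIso.ofComponents (fun X => (injectiveResolution X).isoRightDerivedObj (R ⋙ G) n ≪≫
      ((mapResolution R hR (injectiveResolution X)).isoRightDerivedObj G n).symm) fun {X Y} f => by
    let φ := InjectiveResolution.desc f (injectiveResolution Y) (injectiveResolution X)
    have hc : (injectiveResolution X).ι.f 0 ≫ φ.f 0 = f ≫ (injectiveResolution Y).ι.f 0 := by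
      simp [φ]
    have hc' : (mapResolution R hR (injectiveResolution X)).ι.f 0 ≫
        ((R.mapHomologicalComplex _).map φ).f 0 =
        R.map f ≫ (mapResolution R hR (injectiveResolution Y)).ι.f 0 := by
      simp only [mapResolution_ι_zero, Functor.mapHomologicalComplex_map_f]
      exact (R.map_comp _ _).symm.trans ((congrArg R.map hc).trans (R.map_comp _ _))
    simp only [Iso.trans_hom, Iso.symm_hom, Category.assoc]
    rw [InjectiveResolution.isoRightDerivedObj_hom_naturality_assoc f _ _ φ hc (R ⋙ G) n]
    congr 1
    exact (InjectiveResolution.isoRightDerivedObj_inv_naturality (R.map f)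
      (mapResolution R hR (injectiveResolution X)) (mapResolution R hR (injectiveResolution Y))
      ((R.mapHomologicalComplex _).map φ) hc' G n).symm

end Precomp

end Groth.Agent.H15Site.RDSeq
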