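import Groth.Agent.H10Coh.AbInst
import Groth.Prelude.Def_CohTop
import Mathlib.Algebra.Homology.ShortComplex.Ab

/-!
# Elementwise description of the Čech complex of a family of opens
-/

universe u

open CategoryTheory CategoryTheory.Limits Opposite TopologicalSpace

namespace Groth.Agent.H15Site.CechTop

variable {X : TopCat.{u}} {ι : Type u} (U : ι → Opens X) (P : (Opens X)ᵒᵖ ⥤ AddCommGrpCat.{u})

/-- `U_{a 0} ⊓ … ⊓ U_{a n}`. -/
noncomputable abbrev cap {n : ℕ} (a : Fin (n + 1) → ι) : Opens X := ⨅ k, U (a k)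

/-- Restriction. -/
noncomputable abbrev res {V W : Opens X} (h : W ≤ V) : P.obj (op V) →+ P.obj (op W) :=
  (P.map (homOfLE h).op).hom

theorem res_res {A B C : Opens X} (h : B ≤ A) (h' : C ≤ B) (x : P.obj (op A)) :
    res P h' (res P h x) = res P (h'.trans h) x := by
  change (P.map _ ≫ P.map _).hom x = _
  rw [← P.map_comp]
  rfl

theorem res_self {A : Opens X} (h : A ≤ A) (x : P.obj (op A)) : res P h x = x := by
  change (P.map _).hom x = x
  rw [show (homOfLE h).op = 𝟙 (op A) from Subsingleton.elim _ _, P.map_id]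
  rfl

theorem res_map {P' : (Opens X)ᵒᵖ ⥤ AddCommGrpCat.{u}} (α : P ⟶ P') {V W : Opens X} (h : W ≤ V)
    (x : P.obj (op V)) : res P' h ((α.app (op V)).hom x) = (α.app (op W)).hom (res P h x) :=
  (ConcreteCategory.congr_hom (α.naturality (homOfLE h).op) x).symm

theorem prod_eq {n : ℕ} (a : Fin (n + 1) → ι) :
    (∏ᶜ (U ∘ a) : Opens X) = cap U a :=
  le_antisymm (le_iInf fun k => (Pi.π (U ∘ a) k).le) (Pi.lift fun k => homOfLE (iInf_le _ k)).le

/-- The family of values in degree `n`. -/
noncomputable abbrev val (n : ℕ) : (Fin (n + 1) → ι) → AddCommGrpCat.{u} :=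
  fun i => P.obj (op (∏ᶜ (U ∘ i)))

/-- Degree `n` of the Čech complex. -/
noncomputable abbrev C (n : ℕ) : AddCommGrpCat.{u} := ∏ᶜ (val U P n)

/-- The projection from degree `n` to the value at `cap U a`. -/
noncomputable def proj {n : ℕ} (a : Fin (n + 1) → ι) : C U P n ⟶ P.obj (op (cap U a)) :=
  Pi.π (val U P n) a ≫ P.map (homOfLE (prod_eq U a).ge).op

theorem proj_apply {n : ℕ} (a : Fin (n + 1) → ι) (x : C U P n) :
    (proj U P a).hom x = res P (prod_eq U a).ge ((Pi.π (val U P n) a).hom x) := rfl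

theorem hom_ext {n : ℕ} {x y : C U P n}
    (h : ∀ a : Fin (n + 1) → ι, (proj U P a).hom x = (proj U P a).hom y) : x = y := by
  apply (Concrete.productEquiv (val U P n)).injective
  funext a
  rw [Concrete.productEquiv_apply_apply, Concrete.productEquiv_apply_apply]
  have h' := congrArg (res P (prod_eq U a).le) (h a)
  rw [proj_apply, proj_apply, res_res, res_res, res_self, res_self] at h'
  exact h'

theorem exists_proj_eq {n : ℕ} (v : ∀ a : Fin (n + 1) → ι, P.obj (op (cap U a))) :
    ∃ x : C U P n, ∀ a, (proj U P a).hom x = v a := by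
  refine ⟨(Concrete.productEquiv (val U P n)).symm
    (fun a => res P (prod_eq U a).le (v a)), fun a => ?_⟩
  have h : (Pi.π (val U P n) a).hom ((Concrete.productEquiv (val U P n)).symm
      (fun a => res P (prod_eq U a).le (v a))) = res P (prod_eq U a).le (v a) :=
    Concrete.productEquiv_symm_apply_π (val U P n) _ a
  rw [proj_apply, h, res_res, res_self]

/-- The differential. -/
noncomputable abbrev d (n : ℕ) : C U P n ⟶ C U P (n + 1) :=
  ((cechComplexFunctor U).obj P).d n (n + 1)

theorem cap_comp_le {n m : ℕ} (c : Fin (n + 1) → ι) (f : Fin (m + 1) → Fin (n + 1)) :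
    cap U c ≤ cap U (c ∘ f) :=
  le_iInf fun k => iInf_le (fun l => U (c l)) (f k)

/-- The face maps. -/
noncomputable def face (n : ℕ) (j : Fin (n + 2)) : C U P n ⟶ C U P (n + 1) :=
  Pi.lift fun i : Fin (n + 2) → ι =>
    Pi.π (val U P n) (i ∘ j.succAbove) ≫
      P.map (homOfLE (((prod_eq U i).le.trans (cap_comp_le U i j.succAbove)).trans
        (prod_eq U (i ∘ j.succAbove)).ge)).op

theorem d_eq (n : ℕ) : d U P n = ∑ j : Fin (n + 2), ((-1 : ℤ) ^ (j : ℕ)) • face U P n j := by
  let E := (FormalCoproduct.cosimplicialObjectFunctor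
    (A := AddCommGrpCat.{u}) (FormalCoproduct.mk _ U).cech).obj P
  have h : d U P n = AlgebraicTopology.AlternatingCofaceMapComplex.objD E n :=
    CochainComplex.of_d (fun n => E.obj (SimplexCategory.mk n))
      (AlgebraicTopology.AlternatingCofaceMapComplex.objD E) n
  rw [h]
  rfl

theorem proj_face {n : ℕ} (j : Fin (n + 2)) (x : C U P n) (c : Fin (n + 2) → ι) :
    (proj U P c).hom ((face U P n j).hom x) =
      res P (cap_comp_le U c j.succAbove) ((proj U P (c ∘ j.succAbove)).hom x) := by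
  have h : face U P n j ≫ Pi.π (val U P (n + 1)) c = _ := Pi.lift_π _ _
  rw [proj_apply, proj_apply]
  refine (congrArg (res P (prod_eq U c).ge) (ConcreteCategory.congr_hom h x)).trans ?_
  change res P _ (res P _ _) = _
  rw [res_res, res_res]
  rfl

theorem proj_d {n : ℕ} (x : C U P n) (c : Fin (n + 2) → ι) :
    (proj U P c).hom ((d U P n).hom x) = ∑ j : Fin (n + 2),
      ((-1 : ℤ) ^ (j : ℕ)) • res P (cap_comp_le U c j.succAbove)
        ((proj U P (c ∘ j.succAbove)).hom x) := by
  rw [d_eq]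
  have : ((∑ j : Fin (n + 2), ((-1 : ℤ) ^ (j : ℕ)) • face U P n j) : C U P n ⟶ C U P (n + 1)).hom x =
      ∑ j : Fin (n + 2), ((-1 : ℤ) ^ (j : ℕ)) • (face U P n j).hom x := by
    let ev : (C U P n ⟶ C U P (n + 1)) →+ C U P (n + 1) :=
      AddMonoidHom.mk' (fun f => f.hom x) (fun f g => rfl)
    exact (map_sum ev _ _).trans (Finset.sum_congr rfl fun j _ => map_zsmul ev _ _)
  rw [this, map_sum]
  refine Finset.sum_congr rfl fun j _ => ?_
  rw [map_zsmul, proj_face]

theorem d_d {n : ℕ} (x : C U P n) : (d U P (n + 1)).hom ((d U P n).hom x) = 0 :=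
  ConcreteCategory.congr_hom (((cechComplexFunctor U).obj P).d_comp_d n (n + 1) (n + 2)) x

/-- Functoriality. -/
noncomputable abbrev mapC {P' : (Opens X)ᵒᵖ ⥤ AddCommGrpCat.{u}} (α : P ⟶ P') (n : ℕ) :
    C U P n ⟶ C U P' n := ((cechComplexFunctor U).map α).f n

theorem proj_mapC {P' : (Opens X)ᵒᵖ ⥤ AddCommGrpCat.{u}} (α : P ⟶ P') {n : ℕ} (x : C U P n)
    (a : Fin (n + 1) → ι) :
    (proj U P' a).hom ((mapC U P α n).hom x) = (α.app (op (cap U a))).hom ((proj U P a).hom x) := by
  have h : Limits.Pi.map (f := val U P n) (g := val U P' n) (fun i => α.app _) ≫ Pi.π (val U P' n) a =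
      Pi.π (val U P n) a ≫ α.app _ := Pi.map_π _ _
  rw [proj_apply, proj_apply]
  refine (congrArg (res P' (prod_eq U a).ge) (ConcreteCategory.congr_hom h x)).trans ?_
  exact res_map P α _ _

theorem d_mapC {P' : (Opens X)ᵒᵖ ⥤ AddCommGrpCat.{u}} (α : P ⟶ P') {n : ℕ} (x : C U P n) :
    (d U P' n).hom ((mapC U P α n).hom x) = (mapC U P α (n + 1)).hom ((d U P n).hom x) :=
  ConcreteCategory.congr_hom (((cechComplexFunctor U).map α).comm n (n + 1)) x

theorem isZero_cechH_succ {n : ℕ}
    (h : ∀ x : C U P (n + 1), (d U P (n + 1)).hom x = 0 → ∃ y, (d U P n).hom y = x) :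
    IsZero (CohTop.cechH P U (n + 1)) := by
  refine (HomologicalComplex.exactAt_iff_isZero_homology _ _).1 ?_
  rw [HomologicalComplex.exactAt_iff' _ n (n + 1) (n + 2) (by simp) (by simp),
    ShortComplex.ab_exact_iff]
  exact h

theorem exists_of_isZero_cechH_succ {n : ℕ} (h : IsZero (CohTop.cechH P U (n + 1)))
    (x : C U P (n + 1)) (hx : (d U P (n + 1)).hom x = 0) : ∃ y, (d U P n).hom y = x := by
  have h' := (HomologicalComplex.exactAt_iff_isZero_homology _ _).2 h
  rw [HomologicalComplex.exactAt_iff' _ n (n + 1) (n + 2) (by simp) (by simp),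
    ShortComplex.ab_exact_iff] at h'
  exact h' x hx

/-! ## The contracting homotopy attached to an index -/

theorem cons_comp_succAbove_succ {α : Type*} {n : ℕ} (i : α) (a : Fin (n + 2) → α) (j : Fin (n + 2)) :
    (Fin.cons i a : Fin (n + 3) → α) ∘ j.succ.succAbove = Fin.cons i (a ∘ j.succAbove) := by
  funext k
  cases k using Fin.cases with
  | zero => simp
  | succ k => simp

theorem cons_comp_succAbove_zero {α : Type*} {n : ℕ} (i : α) (a : Fin (n + 1) → α) :
    (Fin.cons i a : Fin (n + 2) → α) ∘ (0 : Fin (n + 2)).succAbove = a := by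
  funext k
  simp

theorem cap_cons_le {n : ℕ} (i : ι) (a : Fin (n + 1) → ι) :
    cap U (Fin.cons i a : Fin (n + 2) → ι) ≤ cap U a :=
  le_iInf fun k => le_of_le_of_eq (iInf_le _ k.succ) (by simp)

theorem cap_cons_le_self {n : ℕ} (i : ι) (a : Fin (n + 1) → ι) :
    cap U (Fin.cons i a : Fin (n + 2) → ι) ≤ U i :=
  le_of_le_of_eq (iInf_le _ 0) (by simp)

theorem le_cap_cons {n : ℕ} (i : ι) (a : Fin (n + 1) → ι) {W : Opens X} (h₁ : W ≤ cap U a)
    (h₂ : W ≤ U i) : W ≤ cap U (Fin.cons i a : Fin (n + 2) → ι) := by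
  refine le_iInf fun k => ?_
  cases k using Fin.cases with
  | zero => simpa using h₂
  | succ k => simpa using h₁.trans (iInf_le _ k)

theorem res_proj_congr {n : ℕ} {a a' : Fin (n + 1) → ι} (e : a = a') (x : C U P n) {W : Opens X}
    (h : W ≤ cap U a) (h' : W ≤ cap U a') :
    res P h ((proj U P a).hom x) = res P h' ((proj U P a').hom x) := by
  subst e
  rfl

/-- `P` does not see the difference between `cap U a` and `U i ⊓ cap U a`. -/
def IsConeAt (i : ι) : Prop :=
  ∀ (n : ℕ) (a : Fin (n + 1) → ι), Function.Bijective (res P (cap_cons_le U i a))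

variable {U P} {i : ι} (hb : IsConeAt U P i)

/-- The contracting homotopy. -/
noncomputable def htpy (n : ℕ) : C U P (n + 1) →+ C U P n :=
  AddMonoidHom.mk' (fun x => (exists_proj_eq U P fun a =>
      ((hb n a).2 ((proj U P (Fin.cons i a)).hom x)).choose).choose)
    fun x y => hom_ext U P fun a => (hb n a).1 (by
      simp only [map_add]
      rw [(exists_proj_eq U P _).choose_spec a, (exists_proj_eq U P _).choose_spec a,
        (exists_proj_eq U P _).choose_spec a]
      rw [((hb n a).2 _).choose_spec, ((hb n a).2 _).choose_spec, ((hb n a).2 _).choose_spec])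

theorem res_proj_htpy {n : ℕ} (x : C U P (n + 1)) (a : Fin (n + 1) → ι) :
    res P (cap_cons_le U i a) ((proj U P a).hom (htpy hb n x)) =
      (proj U P (Fin.cons i a)).hom x := by
  change res P _ ((proj U P a).hom ((exists_proj_eq U P _).choose)) = _
  rw [(exists_proj_eq U P _).choose_spec a, ((hb n a).2 _).choose_spec]

theorem res_proj_htpy' {n : ℕ} (x : C U P (n + 1)) (a : Fin (n + 1) → ι) {W : Opens X}
    (h : W ≤ cap U a) (h' : W ≤ cap U (Fin.cons i a : Fin (n + 2) → ι)) :
    res P h ((proj U P a).hom (htpy hb n x)) = res P h' ((proj U P (Fin.cons i a)).hom x) := by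
  rw [← res_proj_htpy hb x a, res_res]

theorem d_htpy_add {n : ℕ} (x : C U P (n + 1)) :
    (d U P n).hom (htpy hb n x) + htpy hb (n + 1) ((d U P (n + 1)).hom x) = x := by
  refine hom_ext U P fun a => (hb (n + 1) a).1 ?_
  rw [map_add, map_add, res_proj_htpy, proj_d, proj_d, map_sum, Fin.sum_univ_succ (n := n + 2),
    add_left_comm, ← Finset.sum_add_distrib]
  conv_rhs => rw [← add_zero (res P _ _)]
  congr 1
  · rw [Fin.val_zero, pow_zero, one_smul]
    exact res_proj_congr U P (cons_comp_succAbove_zero i a) x _ _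
  · refine Finset.sum_eq_zero fun j _ => ?_
    rw [map_zsmul, res_res]
    rw [res_proj_htpy' hb x (a ∘ j.succAbove) _
      (le_cap_cons U i _ ((cap_cons_le U i a).trans (cap_comp_le U a _)) (cap_cons_le_self U i a))]
    rw [res_proj_congr U P (cons_comp_succAbove_succ i a j) x (W := cap U (Fin.cons i a : Fin (n + 3) → ι))
      (cap_comp_le U _ _)
      (le_cap_cons U i _ ((cap_cons_le U i a).trans (cap_comp_le U a _)) (cap_cons_le_self U i a))]
    rw [Fin.val_succ, pow_succ, mul_neg, mul_one, neg_smul, add_neg_cancel]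

variable (U P) in
theorem res_proj_eq_of_d_eq_zero (i : ι) {x : C U P 0} (hx : (d U P 0).hom x = 0) (a : Fin 1 → ι) :
    res P (cap_cons_le U i a) ((proj U P a).hom x) =
      res P (W := cap U (Fin.cons i a : Fin 2 → ι))
        (le_iInf fun _ => cap_cons_le_self U i a) ((proj U P (fun _ : Fin 1 => i)).hom x) := by
  have h := congrArg (fun y => (proj U P (Fin.cons i a)).hom y) hx
  simp only [map_zero] at h
  rw [proj_d, Fin.sum_univ_two] at h
  rw [Fin.val_zero, pow_zero, one_smul, Fin.val_one, pow_one, neg_smul, one_smul,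
    ← sub_eq_add_neg, sub_eq_zero] at h
  refine (res_proj_congr U P (cons_comp_succAbove_zero i a).symm x _ (cap_comp_le U _ _)).trans (h.trans ?_)
  exact res_proj_congr U P (funext fun k => by fin_cases k; simp) x _ _

/-- The augmentation. -/
noncomputable def aug {V : Opens X} (hV : ∀ i, U i ≤ V) : P.obj (op V) ⟶ C U P 0 :=
  Pi.lift fun a : Fin 1 → ι =>
    P.map (homOfLE ((prod_eq U a).le.trans ((iInf_le _ 0).trans (hV (a 0))))).op

theorem proj_aug {V : Opens X} (hV : ∀ i, U i ≤ V) (g : P.obj (op V)) (a : Fin 1 → ι) :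
    (proj U P a).hom ((aug hV).hom g) =
      res P (((iInf_le _ 0).trans (hV (a 0)) : cap U a ≤ V)) g := by
  have h : aug (P := P) hV ≫ Pi.π (val U P 0) a = _ := Pi.lift_π _ _
  rw [proj_apply]
  refine (congrArg (res P (prod_eq U a).ge) (ConcreteCategory.congr_hom h g)).trans ?_
  exact res_res P _ _ g

theorem d_aug {V : Opens X} (hV : ∀ i, U i ≤ V) (g : P.obj (op V)) :
    (d U P 0).hom ((aug hV).hom g) = 0 := by
  refine hom_ext U P fun c => ?_
  rw [proj_d, map_zero, Fin.sum_univ_two, proj_aug, proj_aug, res_res, res_res, Fin.val_zero,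
    pow_zero, one_smul, Fin.val_one, pow_one, neg_smul, one_smul, add_neg_cancel]

end Groth.Agent.H15Site.CechTop
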