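import Groth.Agent.H10Coh.SheafH
import Groth.Agent.H15Site.CechTop
import Mathlib.Topology.Category.TopCat.Adjunctions
import Mathlib.Topology.Sheaves.SheafCondition.UniqueGluing

/-!
# The first Godement sheaf
-/

universe u

open CategoryTheory CategoryTheory.Limits Opposite TopologicalSpace

namespace Groth.Agent.H15Site.Godement

open Groth.Agent.H10Coh CechTop

attribute [local instance 10000] hasSheafifyAb hasWeakSheafifyAb

variable (X : TopCat.{u})

/-- The underlying set with the discrete topology. -/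
abbrev Xd : TopCat.{u} := TopCat.discrete.obj ((CategoryTheory.forget TopCat.{u}).obj X)

/-- The identity `Xd ⟶ X`. -/
abbrev toX : Xd X ⟶ X := TopCat.adj₁.counit.app X

variable {X}

/-- Families of germs. -/
noncomputable def pre (F : CohTop.Ab X) : (Opens (Xd X))ᵒᵖ ⥤ AddCommGrpCat.{u} where
  obj U := AddCommGrpCat.of (∀ x : {x : X // x ∈ (U.unop : Set (Xd X))}, CohTop.stalk F x.1)
  map {U V} k := AddCommGrpCat.ofHom
    { toFun := fun s x => s ⟨x.1, k.unop.le x.2⟩
      map_zero' := rfl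
      map_add' := fun _ _ => rfl }
  map_id _ := rfl
  map_comp _ _ := rfl

theorem isSheaf_pre (F : CohTop.Ab X) : TopCat.Presheaf.IsSheaf (pre F) := by
  rw [TopCat.Presheaf.isSheaf_iff_isSheafUniqueGluing]
  intro ι U sf hsf
  have hex : ∀ x : {x : X // x ∈ ((iSup U : Opens (Xd X)) : Set (Xd X))}, ∃ i, x.1 ∈ (U i : Set (Xd X)) :=
    fun x => Opens.mem_iSup.1 x.2
  choose i hi using hex
  refine ⟨fun x => sf (i x) ⟨x.1, hi x⟩, fun j => funext fun x => ?_, fun t ht => funext fun x => ?_⟩
  · have hx : x.1 ∈ ((iSup U : Opens (Xd X)) : Set (Xd X)) := Opens.mem_iSup.2 ⟨j, x.2⟩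
    exact congrFun (hsf (i ⟨x.1, hx⟩) j) ⟨x.1, hi ⟨x.1, hx⟩, x.2⟩
  · exact congrFun (ht (i x)) ⟨x.1, hi x⟩

/-- Families of germs, as a sheaf on the discrete space. -/
noncomputable def germs : CohTop.Ab X ⥤ CohTop.Ab (Xd X) where
  obj F := ⟨pre F, isSheaf_pre F⟩
  map {F G} φ := ⟨{
    app := fun U => AddCommGrpCat.ofHom
      { toFun := fun s x => ((TopCat.Presheaf.stalkFunctor AddCommGrpCat.{u} x.1).map φ.hom).hom (s x)
        map_zero' := funext fun _ => map_zero _
        map_add' := fun _ _ => funext fun _ => map_add _ _ _ }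
    naturality := fun _ _ _ => rfl }⟩
  map_id F := by
    refine CategoryTheory.Sheaf.hom_ext ?_
    ext U s
    funext x
    exact ConcreteCategory.congr_hom ((TopCat.Presheaf.stalkFunctor AddCommGrpCat.{u} x.1).map_id F.obj) (s x)
  map_comp {F G H} φ ψ := by
    refine CategoryTheory.Sheaf.hom_ext ?_
    ext U s
    funext x
    exact ConcreteCategory.congr_hom
      ((TopCat.Presheaf.stalkFunctor AddCommGrpCat.{u} x.1).map_comp φ.hom ψ.hom) (s x)

/-- The Godement functor. -/
noncomputable abbrev god : CohTop.Ab X ⥤ CohTop.Ab X := germs ⋙ CohTop.push (toX X)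

/-- `F ⟶ god F`. -/
noncomputable def toGod : 𝟭 (CohTop.Ab X) ⟶ god (X := X) where
  app F := ⟨{
    app := fun U => AddCommGrpCat.ofHom
      { toFun := fun s x => (TopCat.Presheaf.germ F.obj U.unop x.1 x.2).hom s
        map_zero' := funext fun _ => map_zero _
        map_add' := fun _ _ => funext fun _ => map_add _ _ _ }
    naturality := fun U V k => by
      ext s
      funext x
      exact TopCat.Presheaf.germ_res_apply F.obj k.unop x.1 x.2 s }⟩
  naturality F G φ := by
    refine CategoryTheory.Sheaf.hom_ext ?_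
    ext U s
    funext x
    exact (TopCat.Presheaf.stalkFunctor_map_germ_apply U.unop x.1 x.2 φ.hom s).symm

theorem mono_toGod (F : CohTop.Ab X) : Mono (toGod.app F) := by
  have : ∀ U, Mono ((toGod.app F).hom.app U) := fun U => by
    rw [AddCommGrpCat.mono_iff_injective]
    intro s t h
    exact TopCat.Presheaf.section_ext (F : TopCat.Sheaf AddCommGrpCat.{u} X) U.unop s t
      fun x hx => congrFun h ⟨x, hx⟩
  have : Mono (toGod.app F).hom := NatTrans.mono_of_mono_app _
  exact (sheafToPresheaf _ _).mono_of_mono_map this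

theorem flasque_of_discrete (A : CohTop.Ab (Xd X)) : Flasque A := by
  intro U V h s
  let W : Opens (Xd X) := ⟨(U : Set (Xd X)) \ (V : Set (Xd X)), isOpen_discrete _⟩
  let C : ULift.{u} Bool → Opens (Xd X) := fun b => Bool.rec W V b.down
  let sf : ∀ b, A.obj.obj (op (C b)) := fun b => match b with
    | ⟨false⟩ => 0
    | ⟨true⟩ => s
  have hd : W ⊓ V = ⊥ := le_bot_iff.1 fun x hx => absurd hx.2 hx.1.2
  have hC : ∀ b, C b ≤ U := by
    rintro ⟨b⟩
    cases b
    · exact fun x hx => hx.1
    · exact h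
  have hsub : ∀ Z : Opens (Xd X), Z ≤ W ⊓ V → Subsingleton (A.obj.obj (op Z)) := fun Z hZ => by
    have hb : Z = ⊥ := le_bot_iff.1 (hZ.trans hd.le)
    subst hb
    exact AddCommGrpCat.subsingleton_of_isZero (IsZero.of_iso (isZero_zero _)
      ((TopCat.Sheaf.isTerminalOfEmpty (C := AddCommGrpCat.{u}) A).uniqueUpToIso
        (HasZeroObject.zeroIsTerminal)))
  obtain ⟨t, ht, -⟩ := TopCat.Sheaf.existsUnique_gluing' (F := (A : TopCat.Sheaf AddCommGrpCat.{u} (Xd X)))
    C U (fun b => homOfLE (hC b)) (fun x hx => by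
      by_cases hv : x ∈ V
      · exact Opens.mem_iSup.2 ⟨⟨true⟩, hv⟩
      · exact Opens.mem_iSup.2 ⟨⟨false⟩, ⟨hx, hv⟩⟩) sf (by
      rintro ⟨k⟩ ⟨l⟩
      cases k <;> cases l
      · rfl
      · exact (hsub _ le_rfl).elim _ _
      · exact (hsub _ (le_inf inf_le_right inf_le_left)).elim _ _
      · rfl)
  exact ⟨t, ht ⟨true⟩⟩

theorem flasque_push {Y Z : TopCat.{u}} (f : Y ⟶ Z) {A : CohTop.Ab Y} (hA : Flasque A) :
    Flasque ((CohTop.push f).obj A) :=
  fun _ _ h => hA ((Opens.map f).map (homOfLE h)).le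

theorem flasque_god (F : CohTop.Ab X) : Flasque ((god (X := X)).obj F) :=
  flasque_push _ (flasque_of_discrete _)

theorem mono_unit (F : CohTop.Ab X) :
    Mono ((TopCat.Sheaf.pullbackPushforwardAdjunction AddCommGrpCat.{u} (toX X)).unit.app F) := by
  let adj := TopCat.Sheaf.pullbackPushforwardAdjunction AddCommGrpCat.{u} (toX X)
  have h : adj.unit.app F ≫ (CohTop.push (toX X)).map ((adj.homEquiv _ _).symm (toGod.app F)) =
      toGod.app F :=
    (adj.homEquiv_unit _ _ _).symm.trans ((adj.homEquiv _ _).apply_symm_apply _)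
  have hm := mono_toGod F
  exact @mono_of_mono_fac _ _ _ _ _ _ _ _ hm h

end Groth.Agent.H15Site.Godement
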