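import Groth.Agent.H15Site.CechLeray
import Groth.Agent.H15Site.Godement
import Mathlib.CategoryTheory.Sites.LocallyBijective
import Mathlib.CategoryTheory.Limits.ConcreteCategory.Basic
import Mathlib.CategoryTheory.Abelian.GrothendieckAxioms.Sheaf
import Mathlib.Topology.Spectral.Prespectral
import Mathlib.Topology.QuasiSeparated

/-!
# Cohomology on compact opens and filtered colimits of abelian sheaves
-/

universe u

open CategoryTheory CategoryTheory.Limits Opposite TopologicalSpace Abelian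

namespace Groth.Agent.H15Site.QcColim

open CechTop Groth.Agent.H10Coh

attribute [local instance 10000] hasSheafifyAb hasWeakSheafifyAb hasExtAb enoughInjAb

section local_behaviour

variable {X : TopCat.{u}} {ι : Type u} [SmallCategory ι] {D : ι ⥤ CohTop.Ab X} {c : Cocone D}
  (hc : IsColimit c)

variable (D) in
/-- The colimit in presheaves. -/
noncomputable abbrev cp : Cocone (D ⋙ sheafToPresheaf (Opens.grothendieckTopology X) AddCommGrpCat.{u}) :=
  colimit.cocone _

variable (c) in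
/-- The comparison. -/
noncomputable def cmp : (cp D).pt ⟶ c.pt.obj :=
  colimit.desc _ ((sheafToPresheaf _ _).mapCocone c)

theorem ι_cmp (i : ι) : (cp D).ι.app i ≫ cmp c = (c.ι.app i).hom :=
  colimit.ι_desc ((sheafToPresheaf _ _).mapCocone c) i

theorem ι_cmp_apply (i : ι) (U : Opens X) (s : (D.obj i).obj.obj (op U)) :
    ((cmp c).app (op U)).hom ((((cp D).ι.app i).app (op U)).hom s) =
      ((c.ι.app i).hom.app (op U)).hom s :=
  ConcreteCategory.congr_hom (congrArg (fun φ => NatTrans.app φ (op U)) (ι_cmp i)) s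

include hc in
theorem W_cmp : (Opens.grothendieckTopology X).W (cmp c) := by
  intro G hG
  let GS : CohTop.Ab X := ⟨G, hG⟩
  refine ⟨fun φ ψ h => ?_, fun φ => ?_⟩
  · have : (⟨φ⟩ : c.pt ⟶ GS) = ⟨ψ⟩ := hc.hom_ext fun i => by
      refine CategoryTheory.Sheaf.hom_ext ?_
      have h' := congrArg (fun t => (cp D).ι.app i ≫ t) h
      simp only [← Category.assoc, ι_cmp] at h'
      exact h'
    exact congrArg (fun t : c.pt ⟶ GS => t.hom) this
  · refine ⟨(hc.desc ⟨GS, { app := fun i => ⟨(cp D).ι.app i ≫ φ⟩, naturality := fun i j k => ?_ }⟩).hom, ?_⟩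
    · refine CategoryTheory.Sheaf.hom_ext ?_
      refine Eq.trans ?_ (Category.comp_id _).symm
      exact ((Category.assoc _ _ _).symm.trans (congrArg (· ≫ φ) ((cp D).w k)))
    · refine colimit.hom_ext fun i => ?_
      refine (Category.assoc _ _ _).symm.trans ?_
      change ((cp D).ι.app i ≫ cmp c) ≫ _ = _
      rw [ι_cmp]
      exact congrArg (fun t : D.obj i ⟶ GS => t.hom) (hc.fac _ i)

variable [IsFiltered ι]

include hc in
theorem exists_local_rep {U : Opens X} (x : c.pt.obj.obj (op U)) {p : X} (hp : p ∈ U) :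
    ∃ (V : Opens X) (h : V ≤ U) (_ : p ∈ V) (i : ι) (s : (D.obj i).obj.obj (op V)),
      ((c.ι.app i).hom.app (op V)).hom s = res c.pt.obj h x := by
  have := ((GrothendieckTopology.W_iff_isLocallyBijective _ _).1 (W_cmp hc)).2
  obtain ⟨V, k, ⟨t, ht⟩, hpV⟩ := Presheaf.imageSieve_mem (Opens.grothendieckTopology X) (cmp c) x p hp
  obtain ⟨i, s, rfl⟩ := Concrete.isColimit_exists_rep _
    (isColimitOfPreserves ((evaluation (Opens X)ᵒᵖ AddCommGrpCat.{u}).obj (op V)) (colimit.isColimit _)) t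
  exact ⟨V, k.le, hpV, i, s, (ι_cmp_apply i V s).symm.trans ht⟩

include hc in
theorem exists_local_zero {i : ι} {U : Opens X} (s : (D.obj i).obj.obj (op U))
    (hs : ((c.ι.app i).hom.app (op U)).hom s = 0) {p : X} (hp : p ∈ U) :
    ∃ (V : Opens X) (h : V ≤ U) (_ : p ∈ V) (j : ι) (k : i ⟶ j),
      ((D.map k).hom.app (op V)).hom (res (D.obj i).obj h s) = 0 := by
  have := ((GrothendieckTopology.W_iff_isLocallyBijective _ _).1 (W_cmp hc)).1
  obtain ⟨V, k, hk, hpV⟩ := Presheaf.equalizerSieve_mem (Opens.grothendieckTopology X) (cmp c)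
    ((((cp D).ι.app i).app (op U)).hom s) 0
    (((ι_cmp_apply i U s).trans hs).trans (map_zero _).symm) p hp
  have h' : (((cp D).ι.app i).app (op V)).hom (res (D.obj i).obj k.le s) =
      (((cp D).ι.app i).app (op V)).hom 0 := by
    rw [map_zero]
    refine (ConcreteCategory.congr_hom (((cp D).ι.app i).naturality k.op) s).trans ?_
    exact hk.trans (map_zero _)
  obtain ⟨j, f, g, hfg⟩ := (Concrete.isColimit_rep_eq_iff_exists _
    (isColimitOfPreserves ((evaluation (Opens X)ᵒᵖ AddCommGrpCat.{u}).obj (op V))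
      (colimit.isColimit (D ⋙ sheafToPresheaf (Opens.grothendieckTopology X) AddCommGrpCat.{u})))
    (i := i) (j := i) (res (D.obj i).obj k.le s) (0 : (D.obj i).obj.obj (op V))).1 h'
  exact ⟨V, k.le, hpV, j, f, hfg.trans (map_zero ((D.map g).hom.app (op V)).hom)⟩

end local_behaviour

section compact

variable {X : TopCat.{u}} {ι : Type u} [SmallCategory ι] [IsFiltered ι] {D : ι ⥤ CohTop.Ab X}
  {c : Cocone D} (hc : IsColimit c)

theorem exists_common {κ : Type*} (S : Finset κ) (i : ι) (j : κ → ι) (k : ∀ a, i ⟶ j a) :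
    ∃ (l : ι) (g : i ⟶ l), ∀ a ∈ S, ∃ g' : j a ⟶ l, k a ≫ g' = g := by
  classical
  induction S using Finset.induction with
  | empty => exact ⟨i, 𝟙 i, fun a ha => absurd ha (Finset.notMem_empty a)⟩
  | insert b S hb ih =>
    obtain ⟨l, g, hg⟩ := ih
    obtain ⟨l', u, v, huv⟩ := IsFiltered.span g (k b)
    refine ⟨l', g ≫ u, fun a ha => ?_⟩
    rcases Finset.mem_insert.1 ha with rfl | ha
    · exact ⟨v, huv.symm⟩
    · obtain ⟨g', hg'⟩ := hg a ha
      exact ⟨g' ≫ u, by rw [← Category.assoc, hg']⟩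

theorem map_res {F G : CohTop.Ab X} (f : F ⟶ G) {V W : Opens X} (h : W ≤ V) (s : F.obj.obj (op V)) :
    (f.hom.app (op W)).hom (res F.obj h s) = res G.obj h ((f.hom.app (op V)).hom s) :=
  (res_map F.obj f.hom h s).symm

theorem map_comp_apply {F G H : CohTop.Ab X} (f : F ⟶ G) (g : G ⟶ H) (V : Opens X)
    (s : F.obj.obj (op V)) :
    ((f ≫ g).hom.app (op V)).hom s = (g.hom.app (op V)).hom ((f.hom.app (op V)).hom s) := rfl

theorem D_comp_apply {i j l : ι} (f : i ⟶ j) (g : j ⟶ l) (V : Opens X)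
    (s : (D.obj i).obj.obj (op V)) :
    ((D.map (f ≫ g)).hom.app (op V)).hom s =
      ((D.map g).hom.app (op V)).hom (((D.map f).hom.app (op V)).hom s) := by
  rw [D.map_comp]
  rfl

theorem w_apply {i j : ι} (k : i ⟶ j) (V : Opens X) (s : (D.obj i).obj.obj (op V)) :
    ((c.ι.app j).hom.app (op V)).hom (((D.map k).hom.app (op V)).hom s) =
      ((c.ι.app i).hom.app (op V)).hom s := by
  rw [← map_comp_apply, c.w k]

omit [IsFiltered ι] in
theorem ι_res {i : ι} {V W : Opens X} (h : W ≤ V) (s : (D.obj i).obj.obj (op V)) :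
    ((c.ι.app i).hom.app (op W)).hom (res (D.obj i).obj h s) =
      res c.pt.obj h (((c.ι.app i).hom.app (op V)).hom s) :=
  map_res (c.ι.app i) h s

theorem exists_finset_cover {U : Opens X} (hU : IsCompact (U : Set X)) (V : U → Opens X)
    (hpV : ∀ p, p.1 ∈ V p) : ∃ T : Finset U, U ≤ ⨆ p : T, V p.1 := by
  obtain ⟨T, hT⟩ := hU.elim_finite_subcover (fun p => (V p : Set X)) (fun p => (V p).isOpen)
    (fun x hx => Set.mem_iUnion.2 ⟨⟨x, hx⟩, hpV ⟨x, hx⟩⟩)
  refine ⟨T, fun x hx => ?_⟩
  obtain ⟨p, hp, hxp⟩ := Set.mem_iUnion₂.1 (hT hx)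
  exact Opens.mem_iSup.2 ⟨⟨p, hp⟩, hxp⟩

include hc in
theorem exists_map_eq_zero {U : Opens X} (hU : IsCompact (U : Set X)) {i : ι}
    (s : (D.obj i).obj.obj (op U)) (hs : ((c.ι.app i).hom.app (op U)).hom s = 0) :
    ∃ (j : ι) (k : i ⟶ j), ((D.map k).hom.app (op U)).hom s = 0 := by
  choose V hVU hpV j k hk using fun p : U => exists_local_zero hc s hs p.2
  obtain ⟨T, hT⟩ := exists_finset_cover hU V hpV
  obtain ⟨l, g, hg⟩ := exists_common T i j k
  refine ⟨l, g, TopCat.Sheaf.eq_of_locally_eq' (F := (D.obj l : TopCat.Sheaf AddCommGrpCat.{u} X))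
    (fun p : T => V p.1) U (fun p => homOfLE (hVU p.1)) hT _ _ fun p => ?_⟩
  obtain ⟨g', hg'⟩ := hg p.1 p.2
  change res (D.obj l).obj (hVU p.1) _ = res (D.obj l).obj (hVU p.1) 0
  rw [map_zero, ← map_res, ← hg', D_comp_apply, hk, map_zero]

variable [PrespectralSpace X] [QuasiSeparatedSpace X]

omit [QuasiSeparatedSpace X] in
theorem exists_compact_le {V : Opens X} {p : X} (hp : p ∈ V) :
    ∃ W : Opens X, W ≤ V ∧ p ∈ W ∧ IsCompact (W : Set X) := by
  obtain ⟨S, hS, hpS, hSV⟩ :=
    PrespectralSpace.isTopologicalBasis.exists_subset_of_mem_open hp V.isOpen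
  exact ⟨⟨S, hS.1⟩, hSV, hpS, hS.2⟩

omit [PrespectralSpace X] in
theorem isCompact_inf {V W : Opens X} (hV : IsCompact (V : Set X)) (hW : IsCompact (W : Set X)) :
    IsCompact ((V ⊓ W : Opens X) : Set X) :=
  QuasiSeparatedSpace.inter_isCompact (V : Set X) W V.isOpen hV W.isOpen hW

include hc in
theorem exists_rep {U : Opens X} (hU : IsCompact (U : Set X)) (x : c.pt.obj.obj (op U)) :
    ∃ (i : ι) (s : (D.obj i).obj.obj (op U)), ((c.ι.app i).hom.app (op U)).hom s = x := by
  classical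
  have key : ∀ p : U, ∃ (V : Opens X) (h : V ≤ U) (_ : p.1 ∈ V) (i : ι) (s : (D.obj i).obj.obj (op V)),
      IsCompact (V : Set X) ∧ ((c.ι.app i).hom.app (op V)).hom s = res c.pt.obj h x := fun p => by
    obtain ⟨V, hVU, hpV, i, s, hs⟩ := exists_local_rep hc x p.2
    obtain ⟨W, hWV, hpW, hW⟩ := exists_compact_le hpV
    refine ⟨W, hWV.trans hVU, hpW, i, res (D.obj i).obj hWV s, hW, ?_⟩
    rw [ι_res, hs, res_res]
  choose V hVU hpV i s hVc hs using key
  obtain ⟨T, hT⟩ := exists_finset_cover hU V hpV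
  obtain ⟨i₀, hi₀⟩ := IsFiltered.sup_objs_exists (T.image i)
  have hk₀ : ∀ p : T, Nonempty (i p.1 ⟶ i₀) := fun p => hi₀ (Finset.mem_image_of_mem i p.2)
  let k₀ : ∀ p : T, i p.1 ⟶ i₀ := fun p => (hk₀ p).some
  let s' : ∀ p : T, (D.obj i₀).obj.obj (op (V p.1)) := fun p =>
    ((D.map (k₀ p)).hom.app (op (V p.1))).hom (s p.1)
  have hs' : ∀ p : T, ((c.ι.app i₀).hom.app (op (V p.1))).hom (s' p) = res c.pt.obj (hVU p.1) x :=
    fun p => (w_apply (k₀ p) _ _).trans (hs p.1)
  have hd : ∀ a : T × T, ∃ (j : ι) (k : i₀ ⟶ j), ((D.map k).hom.app (op (V a.1.1 ⊓ V a.2.1))).hom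
      (res (D.obj i₀).obj inf_le_left (s' a.1) - res (D.obj i₀).obj inf_le_right (s' a.2)) = 0 := fun a =>
    exists_map_eq_zero hc (isCompact_inf (hVc _) (hVc _)) _ (by
      rw [map_sub, ι_res, ι_res, hs', hs', res_res, res_res, sub_self])
  choose j k hk using hd
  obtain ⟨l, g, hg⟩ := exists_common Finset.univ i₀ j k
  obtain ⟨t, ht, -⟩ := TopCat.Sheaf.existsUnique_gluing' (F := (D.obj l : TopCat.Sheaf AddCommGrpCat.{u} X))
    (fun p : T => V p.1) U (fun p => homOfLE (hVU p.1)) hT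
    (fun p => ((D.map g).hom.app (op (V p.1))).hom (s' p)) (fun p q => by
      obtain ⟨g', hg'⟩ := hg (p, q) (Finset.mem_univ _)
      have h := congrArg ((D.map g').hom.app (op (V p.1 ⊓ V q.1))).hom (hk (p, q))
      rw [map_zero, ← D_comp_apply, hg', map_sub, sub_eq_zero, map_res, map_res] at h
      exact h)
  refine ⟨l, t, TopCat.Sheaf.eq_of_locally_eq' (F := (c.pt : TopCat.Sheaf AddCommGrpCat.{u} X))
    (fun p : T => V p.1) U (fun p => homOfLE (hVU p.1)) hT _ _ fun p => ?_⟩
  have h : res (D.obj l).obj (hVU p.1) t = ((D.map g).hom.app (op (V p.1))).hom (s' p) := ht p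
  change res c.pt.obj (hVU p.1) _ = res c.pt.obj (hVU p.1) x
  rw [← ι_res, h, w_apply, hs']

end compact

section qcFlasque

variable {X : TopCat.{u}}

/-- Restrictions between compact opens are surjective. -/
def QcFlasque (F : CohTop.Ab X) : Prop :=
  ∀ ⦃U V : Opens X⦄ (h : V ≤ U), IsCompact (U : Set X) → IsCompact (V : Set X) →
    Function.Surjective (res F.obj h)

theorem qcFlasque_colimit [PrespectralSpace X] [QuasiSeparatedSpace X] {ι : Type u} [SmallCategory ι]
    [IsFiltered ι] {D : ι ⥤ CohTop.Ab X} {c : Cocone D} (hc : IsColimit c)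
    (h : ∀ i, QcFlasque (D.obj i)) : QcFlasque c.pt := by
  intro U V hVU hU hV y
  obtain ⟨i, s, rfl⟩ := exists_rep hc hV y
  obtain ⟨t, rfl⟩ := h i hVU hU hV s
  exact ⟨((c.ι.app i).hom.app (op U)).hom t, res_map _ _ _ _⟩

theorem isCompact_cap [QuasiSeparatedSpace X] {κ : Type*} (V : κ → Opens X)
    (hV : ∀ k, IsCompact (V k : Set X)) :
    ∀ (n : ℕ) (a : Fin (n + 1) → κ), IsCompact ((⨅ k, V (a k) : Opens X) : Set X) := by
  intro n
  induction n with
  | zero =>
    intro a
    rw [show (⨅ k, V (a k)) = V (a 0) from le_antisymm (iInf_le _ 0)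
      (le_iInf fun k => le_of_eq (by rw [Fin.fin_one_eq_zero k]))]
    exact hV _
  | succ n ih =>
    intro a
    have : (⨅ k, V (a k)) = V (a 0) ⊓ ⨅ k, V ((a ∘ Fin.succ) k) := by
      refine le_antisymm (le_inf (iInf_le _ 0) (le_iInf fun k => iInf_le (fun l => V (a l)) k.succ))
        (le_iInf fun k => ?_)
      cases k using Fin.cases with
      | zero => exact inf_le_left
      | succ k => exact inf_le_right.trans (iInf_le (fun l => V ((a ∘ Fin.succ) l)) k)
    rw [this]
    exact isCompact_inf (hV _) (ih _)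

theorem subsingleton_of_qcFlasque [PrespectralSpace X] [QuasiSeparatedSpace X] {F : CohTop.Ab X}
    (hF : QcFlasque F) (p : ℕ) (U : Opens X) (hU : IsCompact (U : Set X)) :
    Subsingleton (Hn F (p + 1) U) := by
  refine CechLeray.subsingleton_Hn_of_cech {U : Opens X | IsCompact (U : Set X)}
    (fun κ V => Finite κ ∧ ∀ k, IsCompact (V k : Set X)) ?_ ?_ ?_ U hU p
  · rintro κ V ⟨hfin, hV⟩
    refine ⟨?_, fun p a => isCompact_cap V hV p a⟩
    show IsCompact ((iSup V : Opens X) : Set X)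
    rw [Opens.coe_iSup]
    exact isCompact_iUnion hV
  · intro U hU κ W hW
    have key : ∀ q : U, ∃ V : Opens X, q.1 ∈ V ∧ IsCompact (V : Set X) ∧ V ≤ U ∧ ∃ k, V ≤ W k := fun q => by
      have hq : q.1 ∈ iSup W := by rw [hW]; exact q.2
      obtain ⟨k, hk⟩ := Opens.mem_iSup.1 hq
      obtain ⟨V, hV, hqV, hVc⟩ := exists_compact_le (show q.1 ∈ W k ⊓ U from ⟨hk, q.2⟩)
      exact ⟨V, hqV, hVc, hV.trans inf_le_right, k, hV.trans inf_le_left⟩
    choose V hqV hVc hVU k hk using key
    obtain ⟨T, hT⟩ := exists_finset_cover hU V hqV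
    exact ⟨T, fun q => V q.1, ⟨inferInstance, fun q => hVc q.1⟩,
      le_antisymm (iSup_le fun q => hVU q.1) hT, fun q => ⟨k q.1, hk q.1⟩⟩
  · rintro κ V ⟨hfin, hV⟩ p
    refine CechFlasque.isZero_cechH V F (fun n b J => hF inf_le_left (isCompact_cap V hV n b) ?_) p
    refine isCompact_inf (isCompact_cap V hV n b) ?_
    rw [Opens.coe_iSup]
    exact isCompact_iUnion fun j => hV _

end qcFlasque

section cohomology

variable {X : TopCat.{u}} [PrespectralSpace X] [QuasiSeparatedSpace X]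
  {ι : Type u} [SmallCategory ι] [IsFiltered ι]

/-- The mapped cohomology class. -/
noncomputable abbrev push {F G : CohTop.Ab X} (f : F ⟶ G) {n : ℕ} {U : Opens X} (x : Hn F n U) :
    Hn G n U := x.comp (Ext.mk₀ f) (add_zero n)

theorem push_push {F G H : CohTop.Ab X} (f : F ⟶ G) (g : G ⟶ H) {n : ℕ} {U : Opens X}
    (x : Hn F n U) : push g (push f x) = push (f ≫ g) x := by
  rw [push, push, push, Ext.comp_assoc_of_second_deg_zero, Ext.mk₀_comp_mk₀]

theorem push_sub {F G : CohTop.Ab X} (f : F ⟶ G) {n : ℕ} {U : Opens X} (x y : Hn F n U) :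
    push f (x - y) = push f x - push f y :=
  map_sub ((Ext.mk₀ f).postcomp (Zsh U) (add_zero n)) x y

theorem push_zero {F G : CohTop.Ab X} (f : F ⟶ G) {n : ℕ} {U : Opens X} :
    push f (0 : Hn F n U) = 0 :=
  map_zero ((Ext.mk₀ f).postcomp (Zsh U) (add_zero n))

theorem δ_push {S : ShortComplex (CohTop.Ab X)} (hS : S.ShortExact) {n : ℕ} {U : Opens X}
    (z : Hn S.X₂ n U) : (push S.g z).comp hS.extClass (rfl : n + 1 = n + 1) = 0 := by
  rw [push, Ext.comp_assoc_of_second_deg_zero, hS.comp_extClass, Ext.comp_zero]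

theorem δ_natural {S T : ShortComplex (CohTop.Ab X)} (hS : S.ShortExact) (hT : T.ShortExact)
    (φ : S ⟶ T) {n : ℕ} {U : Opens X} (y : Hn S.X₃ n U) :
    (push φ.τ₃ y).comp hT.extClass rfl = push φ.τ₁ (y.comp hS.extClass (rfl : n + 1 = n + 1)) := by
  rw [push, push, Ext.comp_assoc_of_second_deg_zero, Ext.comp_assoc_of_third_deg_zero,
    ShortComplex.ShortExact.extClass_naturality hS hT φ]

/-- Both halves of the commutation of `Hⁿ(U, -)` with filtered colimits. -/
theorem commutes (q : ℕ) : ∀ (D : ι ⥤ CohTop.Ab X) (c : Cocone D), IsColimit c →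
    ∀ (U : Opens X), IsCompact (U : Set X) →
      (∀ x : Hn c.pt q U, ∃ (i : ι) (y : Hn (D.obj i) q U), push (c.ι.app i) y = x) ∧
      (∀ (i : ι) (y : Hn (D.obj i) q U), push (c.ι.app i) y = 0 →
        ∃ (j : ι) (k : i ⟶ j), push (D.map k) y = 0) := by
  induction q with
  | zero =>
    intro D c hc U hU
    refine ⟨fun x => ?_, fun i y hy => ?_⟩
    · obtain ⟨i, s, hs⟩ := exists_rep hc hU (H0Equiv _ U x)
      refine ⟨i, (H0Equiv _ U).symm s, (H0Equiv _ U).injective ?_⟩
      rw [H0Equiv_map, AddEquiv.apply_symm_apply]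
      exact hs
    · obtain ⟨j, k, hk⟩ := exists_map_eq_zero hc hU (H0Equiv _ U y)
        ((H0Equiv_map _ y).symm.trans ((congrArg _ hy).trans (map_zero _)))
      refine ⟨j, k, (H0Equiv _ U).injective ?_⟩
      rw [H0Equiv_map, map_zero]
      exact hk
  | succ q ih =>
    intro D c hc U hU
    let I : ι ⥤ CohTop.Ab X := D ⋙ Godement.god
    let a : D ⟶ I := Functor.whiskerLeft D Godement.toGod
    let S : ShortComplex (ι ⥤ CohTop.Ab X) := ShortComplex.mk a (cokernel.π a) (cokernel.condition a)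
    have : ∀ i, Mono (a.app i) := fun i => Godement.mono_toGod (D.obj i)
    have : Mono a := NatTrans.mono_of_mono_app a
    have hS : S.ShortExact :=
      { exact := ShortComplex.exact_of_g_is_cokernel _ (cokernelIsCokernel _)
        mono_f := by dsimp [S]; infer_instance
        epi_g := by dsimp [S]; infer_instance }
    let Q : ι ⥤ CohTop.Ab X := cokernel a
    let π : I ⟶ Q := cokernel.π a
    let Si : ι → ShortComplex (CohTop.Ab X) := fun i => ShortComplex.mk (a.app i) (π.app i)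
      (congrArg (fun t : D ⟶ Q => t.app i) (cokernel.condition a))
    have hSi : ∀ i, (Si i).ShortExact := fun i =>
      hS.map_of_exact ((evaluation ι (CohTop.Ab X)).obj i)

    let E : ShortComplex (CohTop.Ab X) := ShortComplex.mk (colimMap a) (colimMap π)
      ((colim.map_comp a π).symm.trans
        ((congrArg (fun t : D ⟶ Q => colim.map t) (cokernel.condition a)).trans
          ((colim : (ι ⥤ CohTop.Ab X) ⥤ CohTop.Ab X).map_zero _ _)))
    have hE : E.ShortExact := hS.map_of_exact (colim : (ι ⥤ CohTop.Ab X) ⥤ CohTop.Ab X)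
    let φ : ∀ i, Si i ⟶ E := fun i =>
      { τ₁ := colimit.ι D i
        τ₂ := colimit.ι I i
        τ₃ := colimit.ι Q i
        comm₁₂ := ι_colimMap a i
        comm₂₃ := ι_colimMap π i }
    let ψ : ∀ {i j : ι} (_ : i ⟶ j), Si i ⟶ Si j := fun k =>
      { τ₁ := D.map k
        τ₂ := I.map k
        τ₃ := Q.map k
        comm₁₂ := a.naturality k
        comm₂₃ := π.naturality k }
    have hflI : ∀ i, Flasque (I.obj i) := fun i => Godement.flasque_god _
    have hI : Subsingleton (Hn (colimit I) (q + 1) U) :=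
      subsingleton_of_qcFlasque (qcFlasque_colimit (colimit.isColimit I)
        fun i => fun _ _ h _ _ => hflI i h) q U hU
    have hIi : ∀ i, Subsingleton (Hn (I.obj i) (q + 1) U) := fun i =>
      subsingleton_of_flasque (hflI i) q U
    let e : colimit D ≅ c.pt := (colimit.isColimit D).coconePointUniqueUpToIso hc
    have he : ∀ i, colimit.ι D i ≫ e.hom = c.ι.app i := fun i =>
      (colimit.isColimit D).comp_coconePointUniqueUpToIso_hom hc i
    obtain ⟨ih₁, ih₂⟩ := ih Q (colimit.cocone Q) (colimit.isColimit _) U hU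
    obtain ⟨ihI₁, -⟩ := ih I (colimit.cocone I) (colimit.isColimit _) U hU
    refine ⟨fun x => ?_, fun i y hy => ?_⟩
    · obtain ⟨z, hz⟩ := @exists_extClass_lift _ _ _ _ (Zsh U) E hE q hI (push e.inv x)
      obtain ⟨i, w, hw⟩ := ih₁ z
      refine ⟨i, w.comp (hSi i).extClass rfl, ?_⟩
      have h := (δ_natural (hSi i) hE (φ i) w).symm.trans
        ((congrArg (fun t => Ext.comp t hE.extClass rfl) hw).trans hz)
      have h' := congrArg (push e.hom) h
      rw [push_push, push_push] at h'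
      refine (Eq.trans ?_ h').trans ?_
      · exact congrArg (fun t => push t _) (he i).symm
      · rw [e.inv_hom_id]
        exact Ext.comp_mk₀_id x
    · obtain ⟨w, rfl⟩ := @exists_extClass_lift _ _ _ _ (Zsh U) (Si i) (hSi i) q (hIi i) y
      have h₀ : (push (φ i).τ₃ w).comp hE.extClass (rfl : q + 1 = q + 1) = 0 := by
        rw [δ_natural (hSi i) hE (φ i)]
        have h' := congrArg (push e.inv) hy
        rw [push_push, ← he, Category.assoc, e.hom_inv_id, Category.comp_id] at h'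
        exact h'.trans (push_zero _)
      obtain ⟨v, hv⟩ := Ext.covariant_sequence_exact₃ (Zsh U) hE _ rfl h₀
      obtain ⟨i', v', hv'⟩ := ihI₁ v
      obtain ⟨j₀, k₀, k₁, -⟩ := IsFilteredOrEmpty.cocone_objs i i'
      obtain ⟨j, k, hk⟩ := ih₂ j₀ (push (ψ k₀).τ₃ w -
        push (π.app j₀) (push (I.map k₁) v')) (by
          change push (colimit.ι Q j₀) _ = 0
          rw [push_sub]
          rw [push_push, push_push, push_push, sub_eq_zero]
          refine ((congrArg (fun t => push t w) (colimit.w Q k₀)).trans hv.symm).trans ?_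
          change push E.g v = _
          rw [← hv', push_push]
          refine congrArg (fun t => push t v') ?_
          change colimit.ι I i' ≫ colimMap π = I.map k₁ ≫ π.app j₀ ≫ colimit.ι Q j₀
          rw [← ι_colimMap, colimit.w_assoc])
      refine ⟨j, k₀ ≫ k, ?_⟩
      refine (δ_natural (hSi i) (hSi j) (ψ (k₀ ≫ k)) w).symm.trans ?_
      have h₁ : push (ψ (k₀ ≫ k)).τ₃ w =
          push (π.app j) (push (I.map (k₁ ≫ k)) v') := by
        have h := sub_eq_zero.1 ((push_sub _ _ _).symm.trans hk)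
        rw [push_push, push_push, push_push] at h
        rw [push_push]
        refine Eq.trans ?_ (h.trans ?_)
        · exact congrArg (fun t => push t w) (Q.map_comp k₀ k)
        · refine congrArg (fun t => push t v') ?_
          rw [← π.naturality k, ← Category.assoc, ← I.map_comp]
      rw [h₁]
      exact δ_push (hSi j) (push (I.map (k₁ ≫ k)) v')

theorem preservesColimit_cohomology (U : Opens X) (hU : IsCompact (U : Set X)) (q : ℕ)
    (D : ι ⥤ CohTop.Ab X) :
    PreservesColimit D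
      ((Sheaf.cohomologyPresheafFunctor (Opens.grothendieckTopology X) q).flip.obj (op U) :
        CohTop.Ab X ⥤ AddCommGrpCat.{u}) := by
  have : ReflectsColimitsOfShape ι (CategoryTheory.forget AddCommGrpCat.{u}) :=
    reflectsColimitsOfShape_of_reflectsIsomorphisms
  refine ⟨fun {c} hc => ⟨isColimitOfReflects (CategoryTheory.forget AddCommGrpCat.{u}) ?_⟩⟩
  refine Types.FilteredColimit.isColimitOf' _ _ (fun x => ?_) (fun i x y hxy => ?_)
  · obtain ⟨i, z, hz⟩ := (commutes q D c hc U hU).1 x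
    exact ⟨i, z, hz.symm⟩
  · have key : ∀ (x y : Hn (D.obj i) q U), push (c.ι.app i) x = push (c.ι.app i) y →
        ∃ (j : ι) (k : i ⟶ j), push (D.map k) x = push (D.map k) y := fun x y hxy => by
      obtain ⟨j, k, hk⟩ := (commutes q D c hc U hU).2 i (x - y)
        ((push_sub _ _ _).trans (sub_eq_zero.2 hxy))
      exact ⟨j, k, sub_eq_zero.1 ((push_sub _ _ _).symm.trans hk)⟩
    obtain ⟨j, k, hk⟩ := key x y hxy
    exact ⟨j, k, hk⟩

end cohomology

end Groth.Agent.H15Site.QcColim
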