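import Groth.Agent.H15Site.FlatAdjD
import Groth.Agent.H16Derived.AcyclicLES
import Mathlib.Algebra.Homology.Factorizations.CM5a
import Mathlib.Algebra.Homology.HomotopyCategory.KInjective

/-!
# The total right derived functor on bounded below objects
-/

set_option autoImplicit false
set_option linter.style.haveILetI false

open CategoryTheory CategoryTheory.Limits CategoryTheory.Functor

namespace Groth.Agent.H15Site.RDerPlus

open H16Derived FlatAdjD

universe w w' v u u'

variable {A : Type u} [Category.{v} A] [Abelian A] [HasDerivedCategory.{w} A]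
  {B : Type u'} [Category.{v} B] [Abelian B] [HasDerivedCategory.{w'} B] [IsGrothendieckAbelian.{v} B]
  (F : B ⥤ A) [F.Additive]
  [(toD F).HasRightDerivedFunctor (HomotopyCategory.quasiIso B (ComplexShape.up ℤ))]

/-- The derived functor at a K-injective complex. -/
theorem nonempty_obj_iso (I : CochainComplex B ℤ) [I.IsKInjective] :
    Nonempty (((toD F).totalRightDerived DerivedCategory.Qh
        (HomotopyCategory.quasiIso B (ComplexShape.up ℤ))).obj (DerivedCategory.Q.obj I) ≅
      DerivedCategory.Q.obj ((F.mapHomologicalComplex (ComplexShape.up ℤ)).obj I)) := by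
  let W₂ := HomotopyCategory.quasiIso B (ComplexShape.up ℤ)
  haveI : (toD F).HasPointwiseRightDerivedFunctor W₂ :=
    RDerived.hasPointwiseRightDerivedFunctor_of_resolutions DerivedCategory.Qh _ _ fun M => by
      obtain ⟨I, hI, s, hs⟩ := exists_local M
      exact ⟨_, s, hs, fun K => CochainComplex.IsKInjective.Qh_map_bijective K I⟩
  let R := (toD F).totalRightDerived DerivedCategory.Qh W₂
  let β := (toD F).totalRightDerivedUnit DerivedCategory.Qh W₂
  let M : HomotopyCategory B (ComplexShape.up ℤ) := (HomotopyCategory.quotient _ _).obj I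
  haveI : IsIso (β.app M) :=
    RDerived.isIso_unit_app_of_bijective DerivedCategory.Qh W₂ _ _ β _
      fun K => CochainComplex.IsKInjective.Qh_map_bijective K I
  exact ⟨R.mapIso ((DerivedCategory.quotientCompQhIso B).app I).symm ≪≫ (asIso (β.app M)).symm ≪≫
    DerivedCategory.Qh.mapIso ((F.mapHomotopyCategoryFactors (ComplexShape.up ℤ)).app I) ≪≫
    (DerivedCategory.quotientCompQhIso A).app _⟩

/-- The derived functor is left t-exact. -/
theorem isGE_obj (X : DerivedCategory B) (n : ℤ) [X.IsGE n] :
    (((toD F).totalRightDerived DerivedCategory.Qh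
      (HomotopyCategory.quasiIso B (ComplexShape.up ℤ))).obj X).IsGE n := by
  obtain ⟨K, _, ⟨e⟩⟩ := DerivedCategory.exists_iso_Q_obj_of_isGE X n
  obtain ⟨I, i, hi, hinj, hge⟩ := CochainComplex.Plus.modelCategoryQuillen.exists_quasiIso_injective K n
  haveI : ∀ k, Injective (I.X k) := hinj
  haveI := CochainComplex.isKInjective_of_injective I n
  haveI : IsIso (DerivedCategory.Q.map i) :=
    (DerivedCategory.isIso_Q_map_iff_quasiIso B i).2 inferInstance
  obtain ⟨e'⟩ := nonempty_obj_iso F I
  let R := (toD F).totalRightDerived DerivedCategory.Qh (HomotopyCategory.quasiIso B (ComplexShape.up ℤ))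
  haveI : CochainComplex.IsStrictlyGE ((F.mapHomologicalComplex (ComplexShape.up ℤ)).obj I) n := by
    rw [CochainComplex.isStrictlyGE_iff]
    exact fun j hj => F.map_isZero (CochainComplex.isZero_of_isStrictlyGE I n j hj)
  exact DerivedCategory.TStructure.t.isGE_of_iso
    (R.mapIso (e ≪≫ asIso (DerivedCategory.Q.map i)) ≪≫ e').symm n

/-- Its cohomology on an object in degree zero is the classical derived functor. -/
theorem nonempty_homology_single_iso [HasInjectiveResolutions B] (M : B) (p : ℕ) :
    Nonempty ((DerivedCategory.homologyFunctor A (p : ℤ)).obj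
        (((toD F).totalRightDerived DerivedCategory.Qh
          (HomotopyCategory.quasiIso B (ComplexShape.up ℤ))).obj
            ((DerivedCategory.singleFunctor B 0).obj M)) ≅ (F.rightDerived p).obj M) := by
  let I := injectiveResolution M
  haveI := CochainComplex.isKInjective_of_injective I.cochainComplex 0
  have hι : IsIso (DerivedCategory.Q.map I.ι') :=
    (DerivedCategory.isIso_Q_map_iff_quasiIso B I.ι').2 inferInstance
  obtain ⟨e'⟩ := nonempty_obj_iso F I.cochainComplex
  obtain ⟨e⟩ := AcyclicLES.nonempty_rightDerived_iso F I.cochainComplex 0 inferInstance I.ι' p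
  exact ⟨(DerivedCategory.homologyFunctor A (p : ℤ)).mapIso
    ((((toD F).totalRightDerived DerivedCategory.Qh _).mapIso
      (@asIso _ _ _ _ (DerivedCategory.Q.map I.ι') hι)) ≪≫ e') ≪≫
    (DerivedCategory.homologyFunctorFactors A (p : ℤ)).app _ ≪≫ e.symm⟩

end Groth.Agent.H15Site.RDerPlus
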