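import Mathlib.CategoryTheory.Abelian.RightDerived
import Mathlib.CategoryTheory.Abelian.Injective.Ext
import Mathlib.Algebra.Category.Grp.Abelian
import Mathlib.Algebra.Homology.ShortComplex.Ab

/-!
# Right derived functors of a functor isomorphic to `Hom(A, -)` are `Ext^n(A, -)`
-/

set_option linter.style.haveILetI false
set_option linter.unusedSectionVars false
set_option backward.isDefEq.respectTransparency false

universe u v w

open CategoryTheory CategoryTheory.Limits CategoryTheory.Abelian Opposite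

namespace Groth.Agent.H15Site.RDExt

variable {C : Type w} [Category.{v} C] [Abelian C] [HasExt.{u} C] [HasInjectiveResolutions C]
  (A : C) (G : C ⥤ AddCommGrpCat.{u}) [G.Additive] (θ : ∀ Y, G.obj Y ≃+ (A ⟶ Y))
  (hθ : ∀ (Y Y' : C) (f : Y ⟶ Y') (s : G.obj Y), θ Y' ((G.map f).hom s) = θ Y s ≫ f)

/-- The complex of `G` on a resolution. -/
noncomputable abbrev cx {Y : C} (R : InjectiveResolution Y) : CochainComplex AddCommGrpCat.{u} ℕ :=
  (G.mapHomologicalComplex (ComplexShape.up ℕ)).obj R.cocomplex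

include hθ

lemma comp_d_eq_zero {Y : C} (R : InjectiveResolution Y) (n : ℕ) (z : (cx G R).cycles n) :
    θ _ (((cx G R).iCycles n).hom z) ≫ R.cocomplex.d n (n + 1) = 0 := by
  rw [← hθ]
  have h : ((cx G R).d n (n + 1)).hom (((cx G R).iCycles n).hom z) = 0 :=
    ConcreteCategory.congr_hom ((cx G R).iCycles_d n (n + 1)) z
  exact (congrArg (θ _) h).trans (map_zero _)

/-- Cycles to `Ext`. -/
noncomputable def cyclesToExt {Y : C} (R : InjectiveResolution Y) (n : ℕ) :
    (cx G R).cycles n →+ Ext.{u} A Y n :=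
  AddMonoidHom.mk' (fun z => R.extMk (θ _ (((cx G R).iCycles n).hom z)) (n + 1) rfl
    (comp_d_eq_zero A G θ hθ R n z)) fun a b => by
      rw [InjectiveResolution.add_extMk]
      congr 1
      rw [← map_add]; exact congrArg _ (map_add _ _ _)

lemma cyclesToExt_surjective {Y : C} (R : InjectiveResolution Y) (n : ℕ) :
    Function.Surjective (cyclesToExt A G θ hθ R n) := fun α => by
  obtain ⟨f, hf, rfl⟩ := R.extMk_surjective α (n + 1) rfl
  have h : ((cx G R).d n (n + 1)).hom ((θ _).symm f) = 0 := by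
    refine (θ _).injective ((hθ _ _ (R.cocomplex.d n (n + 1)) _).trans ?_)
    rw [AddEquiv.apply_symm_apply, hf, map_zero]
  have hx : (cx G R).d n (n + 1) = ((cx G R).sc' n n (n + 1)).g := rfl
  let k : AddCommGrpCat.of (ULift.{u} ℤ) ⟶ (cx G R).X n :=
    AddCommGrpCat.ofHom (((zmultiplesHom _ ((θ _).symm f)).comp AddEquiv.ulift.toAddMonoidHom))
  have hk : k ≫ (cx G R).d n (n + 1) = 0 := by
    ext m
    change ((cx G R).d n (n + 1)).hom ((AddEquiv.ulift m) • (θ _).symm f) = 0
    rw [map_zsmul, h, smul_zero]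
  refine ⟨((cx G R).liftCycles k (n + 1) (by simp) hk).hom ⟨1⟩, ?_⟩
  change R.extMk (θ _ (((cx G R).iCycles n).hom _)) (n + 1) rfl (comp_d_eq_zero A G θ hθ R n _) = _
  congr 1
  rw [show ((cx G R).iCycles n).hom (((cx G R).liftCycles k (n + 1) (by simp) hk).hom ⟨1⟩) = k.hom ⟨1⟩ from
    ConcreteCategory.congr_hom ((cx G R).liftCycles_i k (n + 1) (by simp) hk) _]
  change θ _ ((1 : ℤ) • (θ _).symm f) = f
  rw [one_zsmul, AddEquiv.apply_symm_apply]

lemma cyclesToExt_eq_zero_iff {Y : C} (R : InjectiveResolution Y) (n : ℕ) (z : (cx G R).cycles n) :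
    cyclesToExt A G θ hθ R n z = 0 ↔ ((cx G R).homologyπ n).hom z = 0 := by
  have hex : ∀ i, (ComplexShape.up ℕ).prev n = i →
      (((cx G R).homologyπ n).hom z = 0 ↔ ∃ g, ((cx G R).toCycles i n).hom g = z) := fun i hi => by
    refine ⟨fun h => ?_, ?_⟩
    · exact (ShortComplex.ab_exact_iff _).1 (ShortComplex.exact_of_g_is_cokernel
        (ShortComplex.mk _ _ ((cx G R).toCycles_comp_homologyπ i n))
        ((cx G R).homologyIsCokernel i n hi)) z h
    · rintro ⟨g, rfl⟩
      exact ConcreteCategory.congr_hom ((cx G R).toCycles_comp_homologyπ i n) g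
  have hinj : Function.Injective ((cx G R).iCycles n).hom :=
    (AddCommGrpCat.mono_iff_injective _).1 inferInstance
  rcases n with - | n
  · rw [hex 0 (by simp)]
    constructor
    · intro h
      refine ⟨0, ?_⟩
      rw [map_zero]
      refine (hinj ?_).symm
      rw [map_zero]
      refine (θ _).injective ?_
      rw [map_zero]
      have h' := congrArg R.extEquivCohomologyClass h
      rw [InjectiveResolution.extEquivCohomologyClass_zero] at h'
      change R.extEquivCohomologyClass (R.extMk _ (0 + 1) rfl (comp_d_eq_zero A G θ hθ R 0 z)) = 0 at h'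
      rw [InjectiveResolution.extEquivCohomologyClass_extMk,
        CochainComplex.HomComplex.CohomologyClass.mk_eq_zero_iff,
        CochainComplex.HomComplex.Cocycle.fromSingleMk_mem_coboundaries_iff _ _ _ _ _ (-1 : ℤ) (by simp)] at h'
      obtain ⟨g, hg⟩ := h'
      have hg0 : g = 0 :=
        (CochainComplex.isZero_of_isStrictlyGE R.cochainComplex 0 (-1) (by simp)).eq_of_tgt _ _
      rw [hg0, zero_comp] at hg
      exact (cancel_mono (R.cochainComplexXIso ((0 : ℕ) : ℤ) 0 rfl).inv).1 (hg.symm.trans zero_comp.symm)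
    · rintro ⟨g, rfl⟩
      have h0 : (cx G R).toCycles 0 0 = 0 := (cx G R).toCycles_eq_zero (by simp)
      rw [h0]
      exact (cyclesToExt A G θ hθ R 0).map_zero
  · rw [hex n (by simp)]
    have key : ∀ g, ((cx G R).iCycles (n + 1)).hom (((cx G R).toCycles n (n + 1)).hom g) =
        (G.map (R.cocomplex.d n (n + 1))).hom g := fun g =>
      ConcreteCategory.congr_hom ((cx G R).toCycles_i n (n + 1)) g
    constructor
    · intro h
      obtain ⟨g, hg⟩ := (R.extMk_eq_zero_iff _ (n + 1 + 1) rfl (comp_d_eq_zero A G θ hθ R (n + 1) _) n rfl).1 h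
      refine ⟨(θ _).symm g, hinj ((θ _).injective ?_)⟩
      rw [key, hθ, AddEquiv.apply_symm_apply, hg]
    · rintro ⟨g, rfl⟩
      refine (R.extMk_eq_zero_iff _ (n + 1 + 1) rfl (comp_d_eq_zero A G θ hθ R (n + 1) _) n rfl).2 ⟨θ _ g, ?_⟩
      rw [key, hθ]

/-- Homology to `Ext`. -/
noncomputable def homologyEquiv {Y : C} (R : InjectiveResolution Y) (n : ℕ) :
    (cx G R).homology n ≃+ Ext.{u} A Y n :=
  have hπ : Function.Surjective ((cx G R).homologyπ n).hom :=
    (AddCommGrpCat.epi_iff_surjective _).1 inferInstance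
  (QuotientAddGroup.quotientKerEquivOfSurjective _ hπ).symm.trans
    ((QuotientAddGroup.quotientAddEquivOfEq (AddSubgroup.ext fun z =>
      (cyclesToExt_eq_zero_iff A G θ hθ R n z).symm)).trans
      (QuotientAddGroup.quotientKerEquivOfSurjective _ (cyclesToExt_surjective A G θ hθ R n)))

lemma homologyEquiv_π {Y : C} (R : InjectiveResolution Y) (n : ℕ) (z : (cx G R).cycles n) :
    homologyEquiv A G θ hθ R n (((cx G R).homologyπ n).hom z) = cyclesToExt A G θ hθ R n z := by
  have hπ : Function.Surjective ((cx G R).homologyπ n).hom :=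
    (AddCommGrpCat.epi_iff_surjective _).1 inferInstance
  have h1 : (QuotientAddGroup.quotientKerEquivOfSurjective _ hπ).symm (((cx G R).homologyπ n).hom z) =
      QuotientAddGroup.mk z :=
    (QuotientAddGroup.quotientKerEquivOfSurjective _ hπ).symm_apply_eq.2 rfl
  simp only [homologyEquiv, AddEquiv.trans_apply, h1]
  rfl

/-- `R^n G ≅ Ext^n(A, -)`. -/
theorem nonempty_iso (n : ℕ) :
    Nonempty (G.rightDerived n ≅ (extFunctor.{u} n).obj (op A)) := by
  let R : ∀ Y : C, InjectiveResolution Y := fun Y => injectiveResolution Y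
  let e : ∀ Y : C, (G.rightDerived n).obj Y ≅ ((extFunctor.{u} n).obj (op A)).obj Y := fun Y =>
    (R Y).isoRightDerivedObj G n ≪≫ (homologyEquiv A G θ hθ (R Y) n).toAddCommGrpIso
  refine ⟨NatIso.ofComponents e fun {Y Y'} f => ?_⟩
  let φ : InjectiveResolution.Hom (R Y) (R Y') f :=
    { hom := InjectiveResolution.desc f (R Y') (R Y)
      ι_f_zero_comp_hom_f_zero :=
        HomologicalComplex.congr_hom (InjectiveResolution.desc_commutes f (R Y') (R Y)) 0 }
  simp only [e, Iso.trans_hom, Category.assoc]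
  rw [InjectiveResolution.isoRightDerivedObj_hom_naturality_assoc f (R Y) (R Y') φ.hom
    (φ.ι_f_zero_comp_hom_f_zero.trans (by rw [CochainComplex.single₀_map_f_zero])) G n]
  congr 1
  ext x
  obtain ⟨z, rfl⟩ := (AddCommGrpCat.epi_iff_surjective ((cx G (R Y)).homologyπ n)).1 inferInstance x
  let ψ := (G.mapHomologicalComplex (ComplexShape.up ℕ)).map φ.hom
  have h1 : (HomologicalComplex.homologyMap ψ n).hom (((cx G (R Y)).homologyπ n).hom z) =
      ((cx G (R Y')).homologyπ n).hom ((HomologicalComplex.cyclesMap ψ n).hom z) :=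
    ConcreteCategory.congr_hom (HomologicalComplex.homologyπ_naturality ψ n) z
  show homologyEquiv A G θ hθ (R Y') n ((HomologicalComplex.homologyMap ψ n).hom _) =
    (homologyEquiv A G θ hθ (R Y) n _).comp (Ext.mk₀ f) (add_zero n)
  rw [h1, homologyEquiv_π, homologyEquiv_π]
  show (R Y').extMk _ (n + 1) rfl (comp_d_eq_zero A G θ hθ (R Y') n _) =
    ((R Y).extMk _ (n + 1) rfl (comp_d_eq_zero A G θ hθ (R Y) n z)).comp (Ext.mk₀ f) (add_zero n)
  rw [InjectiveResolution.extMk_comp_mk₀ _ _ _ _ φ]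
  congr 1
  rw [← hθ]
  exact congrArg (θ _) (ConcreteCategory.congr_hom (HomologicalComplex.cyclesMap_i ψ n) z)

end Groth.Agent.H15Site.RDExt
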