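import Mathlib.RingTheory.Flat.TorsionFree
import Mathlib.RingTheory.LocalRing.Module
import Mathlib.LinearAlgebra.Finsupp.LinearCombination

/-!
# Subgroups with torsion-free quotient stay subgroups after tensoring
-/

open TensorProduct

namespace Groth.Agent.H15Site.PureInt

universe u

/-- If the quotient by a subgroup is torsion-free, tensoring the inclusion with any group is
injective. -/
theorem lTensor_injective (O : Type u) [AddCommGroup O] {N₁ N₂ : Type u} [AddCommGroup N₁]
    [AddCommGroup N₂] (g : N₁ →ₗ[ℤ] N₂) (hg : Function.Injective g)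
    (htf : ∀ (n : ℤ) (e : N₂), n ≠ 0 → n • e ∈ LinearMap.range g → e ∈ LinearMap.range g) :
    Function.Injective (g.lTensor O) := by
  haveI : Module.IsTorsionFree ℤ (N₂ ⧸ LinearMap.range g) := by
    refine Module.IsTorsionFree.mk fun n hn x y hxy => ?_
    obtain ⟨x, rfl⟩ := Submodule.Quotient.mk_surjective _ x
    obtain ⟨y, rfl⟩ := Submodule.Quotient.mk_surjective _ y
    refine (Submodule.Quotient.eq _).2 (htf n _ hn.ne_zero ?_)
    rw [smul_sub]
    refine (Submodule.Quotient.eq _).1 ?_
    rw [Submodule.Quotient.mk_smul, Submodule.Quotient.mk_smul]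
    exact hxy
  let f₂ : (O →₀ ℤ) →ₗ[ℤ] O := Finsupp.linearCombination ℤ id
  have hs : Function.Surjective f₂ := fun o => ⟨Finsupp.single o 1, by simp [f₂]⟩
  exact lTensor_injective_of_exact_of_exact_of_rTensor_injective
    (f₁ := (LinearMap.ker f₂).subtype) (f₂ := f₂) (g₂ := (LinearMap.range g).mkQ)
    (LinearMap.exact_subtype_ker_map f₂) hs (LinearMap.exact_map_mkQ_range g)
    (Submodule.mkQ_surjective _)
    (Module.Flat.rTensor_preserves_injective_linearMap _ (Submodule.injective_subtype _))
    (Module.Flat.lTensor_preserves_injective_linearMap g hg)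

end Groth.Agent.H15Site.PureInt
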