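import Groth.Agent.H15Site.TorsionFree
import Groth.Agent.H15Site.PureInt
import Mathlib.Algebra.Category.ModuleCat.Presheaf.Sheafification
import Mathlib.Algebra.Category.ModuleCat.Sheaf
import Mathlib.LinearAlgebra.TensorProduct.Associator

/-!
# Injective sheaves of modules are acyclic for torsion-free abelian sheaves
-/

set_option linter.style.haveILetI false

universe u

open CategoryTheory CategoryTheory.Limits Opposite CategoryTheory.Abelian TensorProduct

namespace Groth.Agent.H15Site.ModInjAcyclic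

attribute [local instance 10000] SiteInst.hasSheafifySite SiteInst.hasWeakSheafifySite
  SiteInst.hasExtSite SiteInst.enoughInjSite

open TorsionFree

variable {C : Type u} [SmallCategory C] {J : GrothendieckTopology C} (R : Sheaf J RingCat.{u})

/-- The transition map of `U ↦ R(U) ⊗_ℤ P(U)`. -/
noncomputable abbrev mapT (P : Cᵒᵖ ⥤ AddCommGrpCat.{u}) {X Y : Cᵒᵖ} (f : X ⟶ Y) :
    R.obj.obj X ⊗[ℤ] P.obj X →ₗ[ℤ] R.obj.obj Y ⊗[ℤ] P.obj Y :=
  TensorProduct.map (R.obj.map f).hom.toAddMonoidHom.toIntLinearMap (P.map f).hom.toIntLinearMap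

theorem mapT_id (P : Cᵒᵖ ⥤ AddCommGrpCat.{u}) (X : Cᵒᵖ) :
    mapT R P (𝟙 X) = LinearMap.id :=
  TensorProduct.ext' fun a b => by
    change (R.obj.map (𝟙 X)).hom a ⊗ₜ (P.map (𝟙 X)).hom b = a ⊗ₜ b
    rw [R.obj.map_id, P.map_id]
    rfl

theorem mapT_comp (P : Cᵒᵖ ⥤ AddCommGrpCat.{u}) {X Y Z : Cᵒᵖ} (f : X ⟶ Y) (g : Y ⟶ Z) :
    mapT R P (f ≫ g) = (mapT R P g).comp (mapT R P f) :=
  TensorProduct.ext' fun a b => by
    change (R.obj.map (f ≫ g)).hom a ⊗ₜ (P.map (f ≫ g)).hom b =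
      (R.obj.map g).hom ((R.obj.map f).hom a) ⊗ₜ (P.map g).hom ((P.map f).hom b)
    rw [R.obj.map_comp, P.map_comp]
    rfl

/-- `U ↦ R(U) ⊗_ℤ P(U)` as a presheaf of abelian groups. -/
noncomputable def tensPre (P : Cᵒᵖ ⥤ AddCommGrpCat.{u}) : Cᵒᵖ ⥤ AddCommGrpCat.{u} where
  obj X := AddCommGrpCat.of (R.obj.obj X ⊗[ℤ] P.obj X)
  map f := AddCommGrpCat.ofHom (mapT R P f).toAddMonoidHom
  map_id X := by rw [mapT_id]; rfl
  map_comp f g := by rw [mapT_comp]; rfl

noncomputable instance (P : Cᵒᵖ ⥤ AddCommGrpCat.{u}) (X : Cᵒᵖ) :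
    Module (R.obj.obj X) ((tensPre R P).obj X) :=
  inferInstanceAs (Module (R.obj.obj X) (R.obj.obj X ⊗[ℤ] P.obj X))

theorem mapT_smul (P : Cᵒᵖ ⥤ AddCommGrpCat.{u}) {X Y : Cᵒᵖ} (f : X ⟶ Y) (r : R.obj.obj X)
    (z : R.obj.obj X ⊗[ℤ] P.obj X) : mapT R P f (r • z) = (R.obj.map f).hom r • mapT R P f z := by
  induction z using TensorProduct.induction_on with
  | zero => simp
  | tmul a b =>
    change (R.obj.map f).hom (r * a) ⊗ₜ[ℤ] (P.map f).hom b =
      ((R.obj.map f).hom r * (R.obj.map f).hom a) ⊗ₜ[ℤ] (P.map f).hom b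
    rw [map_mul]
  | add a b ha hb => rw [smul_add, map_add, map_add, ha, hb, smul_add]

theorem tensPre_map_smul (P : Cᵒᵖ ⥤ AddCommGrpCat.{u}) ⦃X Y : Cᵒᵖ⦄ (f : X ⟶ Y)
    (r : R.obj.obj X) (z : (tensPre R P).obj X) :
    (tensPre R P).map f (r • z) = R.obj.map f r • (tensPre R P).map f z :=
  mapT_smul R P f r z

/-- `U ↦ R(U) ⊗_ℤ P(U)` as a presheaf of modules. -/
noncomputable def tens (P : Cᵒᵖ ⥤ AddCommGrpCat.{u}) : PresheafOfModules.{u} R.obj :=
  PresheafOfModules.ofPresheaf (tensPre R P) (tensPre_map_smul R P)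

theorem lTensor_smul {P Q : Cᵒᵖ ⥤ AddCommGrpCat.{u}} (φ : P ⟶ Q) (X : Cᵒᵖ) (r : R.obj.obj X)
    (z : R.obj.obj X ⊗[ℤ] P.obj X) :
    (φ.app X).hom.toIntLinearMap.lTensor (R.obj.obj X) (r • z) =
      r • (φ.app X).hom.toIntLinearMap.lTensor (R.obj.obj X) z := by
  induction z using TensorProduct.induction_on with
  | zero => simp
  | tmul a b => rfl
  | add a b ha hb => rw [smul_add, map_add, map_add, ha, hb, smul_add]

theorem lTensor_natural {P Q : Cᵒᵖ ⥤ AddCommGrpCat.{u}} (φ : P ⟶ Q) {X Y : Cᵒᵖ} (f : X ⟶ Y) :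
    ((φ.app Y).hom.toIntLinearMap.lTensor (R.obj.obj Y)).comp (mapT R P f) =
      (mapT R Q f).comp ((φ.app X).hom.toIntLinearMap.lTensor (R.obj.obj X)) :=
  TensorProduct.ext' fun a b => by
    change (R.obj.map f).hom a ⊗ₜ[ℤ] (φ.app Y).hom ((P.map f).hom b) =
      (R.obj.map f).hom a ⊗ₜ[ℤ] (Q.map f).hom ((φ.app X).hom b)
    rw [← ConcreteCategory.comp_apply, ← ConcreteCategory.comp_apply, φ.naturality]

/-- Functoriality of `tens`. -/
noncomputable def tensMap {P Q : Cᵒᵖ ⥤ AddCommGrpCat.{u}} (φ : P ⟶ Q) : tens R P ⟶ tens R Q :=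
  PresheafOfModules.homMk
    { app := fun X => AddCommGrpCat.ofHom ((φ.app X).hom.toIntLinearMap.lTensor
        (R.obj.obj X)).toAddMonoidHom
      naturality := fun _ _ f => AddCommGrpCat.hom_ext
        (congrArg LinearMap.toAddMonoidHom (lTensor_natural R φ f)) }
    fun X r z => lTensor_smul R φ X r z

/-- The action map `R(U) ⊗ P(U) → M(U)`. -/
noncomputable abbrev actT {P : Cᵒᵖ ⥤ AddCommGrpCat.{u}} (M : PresheafOfModules.{u} R.obj)
    (φ : P ⟶ M.presheaf) (X : Cᵒᵖ) : R.obj.obj X ⊗[ℤ] P.obj X →ₗ[ℤ] M.obj X :=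
  TensorProduct.lift
    (LinearMap.mk₂ ℤ (fun (a : R.obj.obj X) (b : P.obj X) => a • ((φ.app X).hom b : M.obj X))
      (fun a a' b => add_smul a a' _)
      (fun n a _ => map_zsmul ((smulAddHom (R.obj.obj X) (M.obj X)).flip _) n a)
      (fun a b b' => (congrArg (a • ·) (map_add _ b b')).trans (smul_add _ _ _))
      (fun n a b => (congrArg (a • ·) (map_zsmul (φ.app X).hom n b)).trans
        (map_zsmul (smulAddHom (R.obj.obj X) (M.obj X) a) n _)))

theorem actT_smul {P : Cᵒᵖ ⥤ AddCommGrpCat.{u}} (M : PresheafOfModules.{u} R.obj)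
    (φ : P ⟶ M.presheaf) (X : Cᵒᵖ) (r : R.obj.obj X) (z : R.obj.obj X ⊗[ℤ] P.obj X) :
    actT R M φ X (r • z) = r • actT R M φ X z := by
  induction z using TensorProduct.induction_on with
  | zero => simp
  | tmul a b => exact mul_smul r a _
  | add a b ha hb => rw [smul_add, map_add, map_add, ha, hb, smul_add]

theorem actT_natural {P : Cᵒᵖ ⥤ AddCommGrpCat.{u}} (M : PresheafOfModules.{u} R.obj)
    (φ : P ⟶ M.presheaf) {X Y : Cᵒᵖ} (f : X ⟶ Y) (z : R.obj.obj X ⊗[ℤ] P.obj X) :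
    actT R M φ Y (mapT R P f z) = (M.presheaf.map f).hom (actT R M φ X z) := by
  induction z using TensorProduct.induction_on with
  | zero => rw [map_zero, map_zero, map_zero]; exact (map_zero (M.presheaf.map f).hom).symm
  | tmul a b =>
    change (R.obj.map f).hom a • ((φ.app Y).hom ((P.map f).hom b) : M.obj Y) =
      M.map f (a • ((φ.app X).hom b : M.obj X))
    refine Eq.trans ?_ (M.map_smul f a _).symm
    exact congrArg _ (ConcreteCategory.congr_hom (φ.naturality f) b)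
  | add a b ha hb =>
    rw [map_add, map_add, ha, hb, map_add]
    exact (map_add (M.presheaf.map f).hom _ _).symm

/-- The map `R ⊗ P ⟶ M` extending a map of presheaves of groups to the underlying one. -/
noncomputable def liftTens {P : Cᵒᵖ ⥤ AddCommGrpCat.{u}} (M : PresheafOfModules.{u} R.obj)
    (φ : P ⟶ M.presheaf) : tens R P ⟶ M :=
  PresheafOfModules.homMk
    { app := fun X => AddCommGrpCat.ofHom (actT R M φ X).toAddMonoidHom
      naturality := fun _ _ f => AddCommGrpCat.hom_ext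
        (AddMonoidHom.ext fun z => actT_natural R M φ f z) }
    fun X r z => actT_smul R M φ X r z

theorem mono_tensMap {S : ShortComplex (Sheaf J AddCommGrpCat.{u})} (hS : S.ShortExact)
    (h : TF S.X₃) : Mono (tensMap R S.f.hom) := by
    refine (PresheafOfModules.toPresheaf R.obj).mono_of_mono_map ?_
    haveI : ∀ X, Mono (((PresheafOfModules.toPresheaf R.obj).map (tensMap R S.f.hom)).app X) :=
      fun X => by
        rw [AddCommGrpCat.mono_iff_injective]
        refine PureInt.lTensor_injective (R.obj.obj X) (S.f.hom.app X).hom.toIntLinearMap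
          (Edge.exact_sections hS X).1 fun n e hn he => ?_
        exact saturated_of_shortExact hS h X n e hn he
    exact NatTrans.mono_of_mono_app _

/-- Maps into a module extend as soon as the linearised map does. -/
theorem exists_extension_of_tens (I : SheafOfModules.{u} R)
    {S : ShortComplex (Sheaf J AddCommGrpCat.{u})}
    (φ : S.X₁ ⟶ (SheafOfModules.toSheaf R).obj I) (Φ : tens R S.X₂.obj ⟶ I.val)
    (e : tensMap R S.f.hom ≫ Φ = liftTens R I.val φ.hom) :
    ∃ z : S.X₂ ⟶ (SheafOfModules.toSheaf R).obj I, S.f ≫ z = φ := by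
  let z : S.X₂.obj ⟶ I.val.presheaf :=
    { app := fun X => AddCommGrpCat.ofHom (AddMonoidHom.mk'
        (fun e => Φ.app X (show (tens R S.X₂.obj).obj X from (1 : R.obj.obj X) ⊗ₜ[ℤ] e))
        (fun e e' => (congrArg (Φ.app X) (TensorProduct.tmul_add _ e e')).trans (map_add _ _ _)))
      naturality := fun X Y f => by
        ext e
        change Φ.app Y ((1 : R.obj.obj Y) ⊗ₜ[ℤ] (S.X₂.obj.map f).hom e) =
          I.val.map f (Φ.app X ((1 : R.obj.obj X) ⊗ₜ[ℤ] e))
        refine Eq.trans (congrArg (Φ.app Y) ?_)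
          (PresheafOfModules.naturality_apply Φ f
            (show (tens R S.X₂.obj).obj X from (1 : R.obj.obj X) ⊗ₜ[ℤ] e))
        change _ = (R.obj.map f).hom 1 ⊗ₜ[ℤ] (S.X₂.obj.map f).hom e
        rw [map_one] }
  refine ⟨⟨z⟩, Sheaf.hom_ext (NatTrans.ext (funext fun X => AddCommGrpCat.ext fun a => ?_))⟩
  refine (congrArg (fun t : tens R S.X₁.obj ⟶ I.val =>
    t.app X ((1 : R.obj.obj X) ⊗ₜ[ℤ] a)) e).trans ?_
  exact one_smul (R.obj.obj X) (show I.val.obj X from (φ.hom.app X).hom a)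

/-- Maps into an injective module extend along inclusions with torsion-free quotient. -/
theorem exists_extension (I : SheafOfModules.{u} R) [Injective I]
    {S : ShortComplex (Sheaf J AddCommGrpCat.{u})} (hS : S.ShortExact) (h : TF S.X₃)
    (φ : S.X₁ ⟶ (SheafOfModules.toSheaf R).obj I) :
    ∃ z : S.X₂ ⟶ (SheafOfModules.toSheaf R).obj I, S.f ≫ z = φ := by
  haveI : Injective I.val :=
    Injective.injective_of_adjoint (PresheafOfModules.sheafificationAdjunction (𝟙 R.obj)) I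
  haveI := mono_tensMap R hS h
  exact exists_extension_of_tens R I φ _
    (Injective.comp_factorThru (liftTens R I.val φ.hom) (tensMap R S.f.hom))

/-- A module into which maps extend has no higher `Ext` from torsion-free sheaves. -/
theorem subsingleton_ext_of_extension (M : SheafOfModules.{u} R)
    (hM : ∀ (S : ShortComplex (Sheaf J AddCommGrpCat.{u})), S.ShortExact → TF S.X₃ →
      ∀ φ : S.X₁ ⟶ (SheafOfModules.toSheaf R).obj M, ∃ z, S.f ≫ z = φ)
    (n : ℕ) (A : Sheaf J AddCommGrpCat.{u}) (hA : TF A) :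
    Subsingleton (Ext.{u} A ((SheafOfModules.toSheaf R).obj M) (n + 1)) := by
  refine EffExt.subsingleton_ext_of_cover TF (fun p _ hX _ => hX.of_mono (kernel.ι p))
    exists_epi_tf _ (fun X hX => subsingleton_of_forall_eq 0 fun x => ?_) n A hA
  obtain ⟨E, p, hp, h⟩ := EffExt.exists_epi_comp_eq_zero 0 x
  have hS : (ShortComplex.mk (kernel.ι p) p (kernel.condition _)).ShortExact :=
    { exact := ShortComplex.exact_of_f_is_kernel _ (kernelIsKernel _)
      mono_f := by dsimp; infer_instance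
      epi_g := by dsimp; infer_instance }
  obtain ⟨y, hy⟩ := Ext.contravariant_sequence_exact₃ hS _ x h (show 1 + 0 = 1 by omega)
  obtain ⟨y, rfl⟩ := (Ext.mk₀_bijective _ _).2 y
  obtain ⟨z, rfl⟩ := hM _ hS hX y
  rw [← hy, ← Ext.mk₀_comp_mk₀, hS.extClass_comp_assoc]

/-- `Extⁿ(A, I) = 0` for `n > 0`, `A` torsion-free, `I` an injective module. -/
theorem subsingleton_ext (I : SheafOfModules.{u} R) [Injective I]
    (n : ℕ) (A : Sheaf J AddCommGrpCat.{u}) (hA : TF A) :
    Subsingleton (Ext.{u} A ((SheafOfModules.toSheaf R).obj I) (n + 1)) :=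
  subsingleton_ext_of_extension R I (fun _ hS h φ => exists_extension R I hS h φ) n A hA

end Groth.Agent.H15Site.ModInjAcyclic
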