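import Groth.Agent.H15Site.EdgeAcyclic
import Mathlib.CategoryTheory.Sites.LeftExact

/-!
# Lifting sections through Čech cohomology, and Cartan's criterion on a site
-/

universe u

open CategoryTheory CategoryTheory.Limits Opposite CategoryTheory.Abelian

namespace Groth.Agent.H15Site.Edge

attribute [local instance 10000] SiteInst.hasSheafifySite SiteInst.hasWeakSheafifySite
  SiteInst.hasExtSite SiteInst.enoughInjSite

variable {C : Type u} [SmallCategory C] {J : GrothendieckTopology C}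
  {S : ShortComplex (Sheaf J AddCommGrpCat.{u})}

/-- A short exact sequence of sheaves is left exact on sections. -/
theorem exact_sections (hS : S.ShortExact) (V : Cᵒᵖ) :
    Function.Injective (S.f.hom.app V).hom ∧
      ∀ x : S.X₂.obj.obj V, (S.g.hom.app V).hom x = 0 → ∃ y, (S.f.hom.app V).hom y = x := by
  haveI : Mono S.f := hS.mono_f
  let G : Sheaf J AddCommGrpCat.{u} ⥤ AddCommGrpCat.{u} :=
    sheafToPresheaf J _ ⋙ (evaluation Cᵒᵖ AddCommGrpCat.{u}).obj V
  refine ⟨(AddCommGrpCat.mono_iff_injective _).1 (inferInstanceAs (Mono (G.map S.f))), ?_⟩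
  exact (ShortComplex.ab_exact_iff _).1
    (hS.exact.map_of_mono_of_preservesKernel G inferInstance inferInstance)

theorem imageSieve_mem_of_shortExact (hS : S.ShortExact) {U : C} (h : S.X₃.obj.obj (op U)) :
    Presheaf.imageSieve S.g.hom h ∈ J U := by
  haveI : Sheaf.IsLocallySurjective S.g := (Sheaf.isLocallySurjective_iff_epi' _ S.g).2 hS.epi_g
  exact Presheaf.imageSieve_mem J S.g.hom h

variable [HasPullbacks C] {U : C} {ι : Type u} {Y : ι → Over U}

theorem exists_lift_of_isZero (hS : S.ShortExact)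
    (hY : Sieve.ofArrows (fun i => (Y i).left) (fun i => (Y i).hom) ∈ J U)
    (h0 : IsZero (CohCx.cechH S.X₁.obj Y 1)) (h : S.X₃.obj.obj (op U))
    (hT : ∀ i, Presheaf.imageSieve S.g.hom h (Y i).hom) :
    ∃ t, (S.g.hom.app (op U)).hom t = h := by
  choose r hr using fun a : Fin 1 → ι =>
    (Presheaf.imageSieve S.g.hom h).downward_closed (hT (a 0)) (Pi.π (Y ∘ a) 0).left
  let x : CechSite.C' Y S.X₂.obj 0 := (Concrete.productEquiv (CechSite.val Y S.X₂.obj 0)).symm
    (fun a => (S.X₂.obj.map (eqToHom rfl)).hom (r a))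
  have hx : ∀ (V : C) (g : V ⟶ U) (τ : Fin 1 → CechSite.T Y g),
      (S.g.hom.app (op V)).hom (CechSite.ev Y S.X₂.obj τ x) = (S.X₃.obj.map g.op).hom h := by
    intro V g τ
    have e : (Pi.π (CechSite.val Y S.X₂.obj 0) (CechSite.idx τ)).hom x =
        r (CechSite.idx τ) := by
      refine (Concrete.productEquiv_symm_apply_π (CechSite.val Y S.X₂.obj 0) _ _).trans ?_
      exact ConcreteCategory.congr_hom (S.X₂.obj.map_id _) _
    rw [CechSite.ev_apply, e]
    refine (ConcreteCategory.congr_hom (S.g.hom.naturality _) _).trans ?_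
    refine (congrArg (S.X₃.obj.map (CechSite.liftT τ).left.op).hom (hr (CechSite.idx τ))).trans ?_
    refine (ConcreteCategory.congr_hom (S.X₃.obj.map_comp _
      (CechSite.liftT τ).left.op) h).symm.trans ?_
    refine congrArg (fun m : V ⟶ U => (S.X₃.obj.map m.op).hom h) ?_
    exact (congrArg ((CechSite.liftT τ).left ≫ ·) (Over.w (Pi.π (Y ∘ CechSite.idx τ) 0))).trans
      (Over.w (CechSite.liftT τ))
  have hd : ∀ (V : C) (g : V ⟶ U) (τ : Fin 2 → CechSite.T Y g),
      (S.g.hom.app (op V)).hom (CechSite.ev Y S.X₂.obj τ ((CechSite.d Y S.X₂.obj 0).hom x)) = 0 := by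
    intro V g τ
    rw [CechSite.ev_d, map_sum, Fin.sum_univ_two, map_zsmul, map_zsmul, hx, hx, Fin.val_zero,
      pow_zero, one_smul, Fin.val_one, pow_one, neg_smul, one_smul, add_neg_cancel]
  have hz : ∀ (V : C) (g : V ⟶ U) (τ : Fin 2 → CechSite.T Y g),
      ∃ z, (S.f.hom.app (op V)).hom z =
        CechSite.ev Y S.X₂.obj τ ((CechSite.d Y S.X₂.obj 0).hom x) :=
    fun V g τ => (exact_sections hS (op V)).2 _ (hd V g τ)
  choose z hz using hz
  obtain ⟨c, hc⟩ := CechSite.exists_ev_eq Y S.X₁.obj (n := 1) z (fun V W g b τ => by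
    apply (exact_sections hS (op W)).1
    rw [hz, CechSite.ev_natural Y S.X₂.obj b rfl τ]
    exact (congrArg (S.X₂.obj.map b.op).hom (hz V g τ)).symm.trans
      (ConcreteCategory.congr_hom (S.f.hom.naturality b.op) _).symm)
  have hfc : (CechSite.mapC Y S.X₁.obj S.f.hom 1).hom c = (CechSite.d Y S.X₂.obj 0).hom x :=
    CechSite.hom_ext Y _ fun V g τ => by rw [CechSite.ev_mapC, hc, hz]
  have hdc : (CechSite.d Y S.X₁.obj 1).hom c = 0 := CechSite.hom_ext Y _ fun V g τ => by
    apply (exact_sections hS (op V)).1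
    rw [← CechSite.ev_mapC Y S.X₁.obj S.f.hom, ← CechSite.d_mapC, hfc, CechSite.d_d, map_zero,
      map_zero, map_zero]
  obtain ⟨w, hw⟩ := CechSite.exists_of_isZero_cechH_succ Y S.X₁.obj h0 c hdc
  have hcyc : (CechSite.d Y S.X₂.obj 0).hom (x - (CechSite.mapC Y S.X₁.obj S.f.hom 0).hom w) = 0 := by
    rw [map_sub, CechSite.d_mapC, hw, hfc, sub_self]
  obtain ⟨t, ht⟩ := (CechSite.bijective_toCech_of_isSheaf Y S.X₂.obj S.X₂.property hY).2
    (CechSite.cls Y S.X₂.obj _ hcyc)
  refine ⟨t, (CechSite.bijective_toCech_of_isSheaf Y S.X₃.obj S.X₃.property hY).1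
    (CechSite.rep_injective Y _ (CechSite.hom_ext Y _ fun V g τ => ?_))⟩
  rw [← cechHMap_toCech Y S.g.hom, ht, CechSite.rep_cechHMap, CechSite.rep_cls, CechSite.ev_mapC,
    map_sub, map_sub, hx, CechSite.ev_rep_toCech, CechSite.ev_mapC]
  have e0 : S.f.hom ≫ S.g.hom = 0 := congrArg (fun m : S.X₁ ⟶ S.X₃ => m.hom) S.zero
  have e1 : ∀ y : S.X₁.obj.obj (op V), (S.g.hom.app (op V)).hom ((S.f.hom.app (op V)).hom y) = 0 :=
    fun y => ConcreteCategory.congr_hom (congrArg (fun m => NatTrans.app m (op V)) e0) y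
  rw [e1, sub_zero]

theorem surjective_sections_of_cech (hS : S.ShortExact) (U : C)
    (h : ∀ T ∈ J U, ∃ (ι : Type u) (Y : ι → Over U), (∀ i, T.arrows (Y i).hom) ∧
      Sieve.ofArrows (fun i => (Y i).left) (fun i => (Y i).hom) ∈ J U ∧
      IsZero (CohCx.cechH S.X₁.obj Y 1)) :
    Function.Surjective (S.g.hom.app (op U)).hom := fun s => by
  obtain ⟨ι, Y, hT, hY, h0⟩ := h _ (imageSieve_mem_of_shortExact hS s)
  exact exists_lift_of_isZero hS hY h0 s hT

theorem subsingleton_HU_of_cech (B : Set C) (Cov : ∀ (U : C) (ι : Type u), (ι → Over U) → Prop)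
    (h1 : ∀ (U : C) (ι : Type u) (Y : ι → Over U), Cov U ι Y → U ∈ B ∧
      Sieve.ofArrows (fun i => (Y i).left) (fun i => (Y i).hom) ∈ J U ∧
      ∀ (p : ℕ) (a : Fin (p + 1) → ι), (∏ᶜ fun k => Y (a k)).left ∈ B)
    (h2 : ∀ U ∈ B, ∀ T ∈ J U, ∃ (ι : Type u) (Y : ι → Over U), Cov U ι Y ∧ ∀ i, T.arrows (Y i).hom)
    (p : ℕ) : ∀ (F : Sheaf J AddCommGrpCat.{u}),
      (∀ (U : C) (ι : Type u) (Y : ι → Over U), Cov U ι Y →
        ∀ p : ℕ, IsZero (CohCx.cechH F.obj Y (p + 1))) →
      ∀ U ∈ B, Subsingleton (CohSite.HU F (p + 1) U) := by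
  have hsurj : ∀ (F : Sheaf J AddCommGrpCat.{u}),
      (∀ (U : C) (ι : Type u) (Y : ι → Over U), Cov U ι Y →
        ∀ p : ℕ, IsZero (CohCx.cechH F.obj Y (p + 1))) →
      ∀ U ∈ B, Function.Surjective ((injSeq F).g.hom.app (op U)).hom := fun F h3 U hU =>
    surjective_sections_of_cech (injSeq_shortExact F) U fun T hT => by
      obtain ⟨ι, Y, hc, hY⟩ := h2 U hU T hT
      exact ⟨ι, Y, hY, (h1 U ι Y hc).2.1, h3 U ι Y hc 0⟩
  induction p with
  | zero =>
    intro F h3 U hU
    refine subsingleton_of_forall_eq 0 fun z => ?_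
    haveI := subsingleton_HU_of_injective (Injective.under F) 0 U
    obtain ⟨v, rfl⟩ := exists_extδ_eq (injSeq_shortExact F) U 0 z (Subsingleton.elim _ _)
    obtain ⟨s, rfl⟩ := (CechEdge.sectH0 J U (injSeq F).X₃).surjective v
    obtain ⟨t, rfl⟩ := hsurj F h3 U hU s
    rw [← sectH0_natural]
    exact extδ_HUmap_g _ U 0 _
  | succ p ih =>
    intro F h3 U hU
    have hQ : ∀ (U : C) (ι : Type u) (Y : ι → Over U), Cov U ι Y →
        ∀ p : ℕ, IsZero (CohCx.cechH (injSeq F).X₃.obj Y (p + 1)) := by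
      intro V κ Z hZ q
      let T := (injSeq F).map (sheafToPresheaf J AddCommGrpCat.{u})
      have hT : (T.map (CechEdge.cxFunctor Z)).ShortExact := by
        refine CechSite.shortExact_map_cxFunctor Z fun n a => ?_
        exact
          { exact := (ShortComplex.ab_exact_iff _).2 (exact_sections (injSeq_shortExact F) _).2
            mono_f := (AddCommGrpCat.mono_iff_injective _).2 (exact_sections (injSeq_shortExact F) _).1
            epi_g := (AddCommGrpCat.epi_iff_surjective _).2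
              (hsurj F h3 _ ((h1 V κ Z hZ).2.2 n a)) }
      haveI : Subsingleton (CohCx.cechH F.obj Z (q + 1 + 1)) :=
        AddCommGrpCat.subsingleton_of_isZero (h3 V κ Z hZ (q + 1))
      haveI : Subsingleton (CohCx.cechH (Injective.under F).obj Z (q + 1)) :=
        AddCommGrpCat.subsingleton_of_isZero
          (CechSite.isZero_cechH_of_injective_sheaf Z (Injective.under F) q)
      haveI : Subsingleton (CohCx.cechH (injSeq F).X₃.obj Z (q + 1)) := by
        refine subsingleton_of_forall_eq 0 fun x => ?_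
        obtain ⟨w, rfl⟩ := exists_of_δC_eq_zero Z hT (q + 1) x
          (Subsingleton.elim (α := CohCx.cechH F.obj Z (q + 1 + 1)) _ _)
        rw [Subsingleton.elim (α := CohCx.cechH (Injective.under F).obj Z (q + 1)) w 0]
        exact map_zero _
      exact AddCommGrpCat.isZero_of_subsingleton _
    refine subsingleton_of_forall_eq 0 fun z => ?_
    haveI := subsingleton_HU_of_injective (Injective.under F) (p + 1) U
    obtain ⟨v, rfl⟩ := exists_extδ_eq (injSeq_shortExact F) U (p + 1) z (Subsingleton.elim _ _)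
    haveI := ih (injSeq F).X₃ hQ U hU
    rw [Subsingleton.elim v 0, map_zero]

end Groth.Agent.H15Site.Edge
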