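import Groth.Agent.H10Coh.ExtMap
import Mathlib.CategoryTheory.Abelian.Basic
import Mathlib.Algebra.Homology.DerivedCategory.Ext.ExactSequences

/-!
# Vanishing of Ext by effacement in the first variable
-/

set_option linter.style.haveILetI false

universe w v u

open CategoryTheory CategoryTheory.Limits CategoryTheory.Abelian

namespace Groth.Agent.H15Site.EffExt

variable {A : Type u} [Category.{v} A] [Abelian A] [HasExt.{w} A] [EnoughInjectives A]

/-- A class of positive degree dies on some epimorphism to its source. -/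
theorem exists_epi_comp_eq_zero (n : ℕ) : ∀ {X I : A} (x : Ext.{w} X I (n + 1)),
    ∃ (E : A) (p : E ⟶ X), Epi p ∧ (Ext.mk₀ p).comp x (zero_add _) = 0 := by
  induction n with
  | zero =>
    intro X I x
    have hS := H10Coh.injSeq_shortExact I
    obtain ⟨q, rfl⟩ : ∃ q : Ext X (H10Coh.injSeq I).X₃ 0, q.comp hS.extClass rfl = x :=
      Ext.covariant_sequence_exact₁ X hS x (Ext.eq_zero_of_injective _) rfl
    obtain ⟨q, rfl⟩ := (Ext.mk₀_bijective _ _).2 q
    haveI := hS.epi_g
    refine ⟨pullback q (H10Coh.injSeq I).g, pullback.fst _ _, inferInstance, ?_⟩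
    rw [Ext.mk₀_comp_mk₀_assoc, pullback.condition, ← Ext.mk₀_comp_mk₀,
      Ext.comp_assoc_of_second_deg_zero, hS.comp_extClass, Ext.comp_zero]
  | succ n ih =>
    intro X I x
    have hS := H10Coh.injSeq_shortExact I
    obtain ⟨q, rfl⟩ : ∃ q : Ext X (H10Coh.injSeq I).X₃ (n + 1), q.comp hS.extClass rfl = x :=
      Ext.covariant_sequence_exact₁ X hS x (Ext.eq_zero_of_injective _) rfl
    obtain ⟨E, p, hp, h⟩ := ih q
    refine ⟨E, p, hp, ?_⟩
    rw [← Ext.comp_assoc _ _ _ (zero_add (n + 1)) rfl (by omega), h, Ext.zero_comp]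

/-- If `Ext¹(-, I)` vanishes on a class of objects which contains kernels of epimorphisms among them
and covers everything, then all higher `Extⁿ(-, I)` vanish on it. -/
theorem subsingleton_ext_of_cover (P : A → Prop)
    (hker : ∀ {X Y : A} (p : X ⟶ Y), Epi p → P X → P Y → P (kernel p))
    (hcov : ∀ X : A, ∃ (E : A) (p : E ⟶ X), Epi p ∧ P E)
    (I : A) (h1 : ∀ X, P X → Subsingleton (Ext.{w} X I 1)) :
    ∀ (n : ℕ) (X : A), P X → Subsingleton (Ext.{w} X I (n + 1)) := by
  intro n
  induction n with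
  | zero => exact h1
  | succ n ih =>
    intro X hX
    refine subsingleton_of_forall_eq 0 fun x => ?_
    obtain ⟨E, p, hp, h⟩ := exists_epi_comp_eq_zero (n + 1) x
    obtain ⟨E', p', hp', hE'⟩ := hcov E
    haveI : Epi (p' ≫ p) := epi_comp _ _
    have hS : (ShortComplex.mk (kernel.ι (p' ≫ p)) (p' ≫ p) (kernel.condition _)).ShortExact :=
      { exact := ShortComplex.exact_of_f_is_kernel _ (kernelIsKernel _)
        mono_f := by dsimp; infer_instance
        epi_g := by dsimp; infer_instance }
    obtain ⟨y, hy⟩ := Ext.contravariant_sequence_exact₃ hS I x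
      (by rw [← Ext.mk₀_comp_mk₀_assoc, h, Ext.comp_zero]) (show 1 + (n + 1) = n + 1 + 1 by omega)
    haveI : Subsingleton (Ext (kernel (p' ≫ p)) I (n + 1)) := ih _ (hker _ inferInstance hE' hX)
    rw [← hy, Subsingleton.elim (α := Ext (kernel (p' ≫ p)) I (n + 1)) y 0, Ext.comp_zero]

end Groth.Agent.H15Site.EffExt
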