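import Groth.Agent.H15Site.SiteInst
import Groth.Agent.H15Site.CartanSite
import Groth.Agent.H15Site.EffExt
import Groth.Prelude.Def_CohSite
import Mathlib.CategoryTheory.Sites.Adjunction
import Mathlib.Algebra.Category.Grp.Adjunctions
import Mathlib.GroupTheory.FreeAbelianGroup
import Mathlib.Algebra.FreeAbelianGroup.Finsupp

/-!
# Torsion-free abelian sheaves
-/

set_option linter.style.haveILetI false

universe u

open CategoryTheory CategoryTheory.Limits Opposite CategoryTheory.Abelian

namespace Groth.Agent.H15Site.TorsionFree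

attribute [local instance 10000] SiteInst.hasSheafifySite SiteInst.hasWeakSheafifySite
  SiteInst.hasExtSite SiteInst.enoughInjSite

variable {C : Type u} [SmallCategory C] {J : GrothendieckTopology C}

/-- Multiplication by every non-zero integer is injective. -/
def TF (A : Sheaf J AddCommGrpCat.{u}) : Prop := ∀ n : ℤ, n ≠ 0 → Mono (n • 𝟙 A)

theorem TF.of_mono {A B : Sheaf J AddCommGrpCat.{u}} (i : A ⟶ B) [Mono i] (h : TF B) : TF A := by
  intro n hn
  haveI := h n hn
  haveI : Mono ((n • 𝟙 A) ≫ i) := by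
    rw [Preadditive.zsmul_comp, Category.id_comp, ← Category.comp_id i, ← Preadditive.comp_zsmul]
    infer_instance
  exact mono_of_mono (n • 𝟙 A) i

/-- Sections of a torsion-free sheaf are torsion-free. -/
theorem TF.eq_zero_of_zsmul {A : Sheaf J AddCommGrpCat.{u}} (h : TF A) (U : Cᵒᵖ) {n : ℤ}
    (hn : n ≠ 0) (s : A.obj.obj U) (hs : n • s = 0) : s = 0 := by
  haveI := h n hn
  let G : Sheaf J AddCommGrpCat.{u} ⥤ AddCommGrpCat.{u} :=
    sheafToPresheaf J _ ⋙ (evaluation Cᵒᵖ AddCommGrpCat.{u}).obj U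
  have hG : ∀ x : A.obj.obj U, (G.map (n • 𝟙 A)).hom x = n • x := fun x => by
    rw [Functor.map_zsmul, G.map_id]
    rfl
  refine (AddCommGrpCat.mono_iff_injective _).1 (inferInstance : Mono (G.map (n • 𝟙 A))) ?_
  exact (hG s).trans (hs.trans ((hG 0).trans (zsmul_zero n)).symm)

/-- The free abelian sheaf on a sheaf of sets. -/
noncomputable abbrev freeSet (J : GrothendieckTopology C) :
    Sheaf J (Type u) ⥤ Sheaf J AddCommGrpCat.{u} :=
  Sheaf.composeAndSheafify J AddCommGrpCat.free.{u}

/-- Free abelian sheaves are torsion-free. -/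
theorem tf_sheafify_free (P : Cᵒᵖ ⥤ Type u) :
    TF ((presheafToSheaf J AddCommGrpCat.{u}).obj (P ⋙ AddCommGrpCat.free.{u})) := by
  intro n hn
  haveI : ∀ X, Mono ((n • 𝟙 (P ⋙ AddCommGrpCat.free.{u})).app X) := fun X => by
    rw [AddCommGrpCat.mono_iff_injective]
    intro (a : FreeAbelianGroup (P.obj X)) (b : FreeAbelianGroup (P.obj X)) (hab : n • a = n • b)
    have h := congrArg (FreeAbelianGroup.equivFinsupp (P.obj X)) hab
    rw [map_zsmul, map_zsmul] at h
    exact (FreeAbelianGroup.equivFinsupp (P.obj X)).injective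
      (smul_right_injective (P.obj X →₀ ℤ) hn h)
  haveI : Mono (n • 𝟙 (P ⋙ AddCommGrpCat.free.{u})) := NatTrans.mono_of_mono_app _
  rw [← (presheafToSheaf J AddCommGrpCat.{u}).map_id, ← Functor.map_zsmul]
  infer_instance

/-- Every abelian sheaf is a quotient of a torsion-free one. -/
theorem exists_epi_tf (X : Sheaf J AddCommGrpCat.{u}) :
    ∃ (E : Sheaf J AddCommGrpCat.{u}) (p : E ⟶ X), Epi p ∧ TF E :=
  ⟨_, (Sheaf.adjunction J AddCommGrpCat.adj.{u}).counit.app X, inferInstance,
    tf_sheafify_free _⟩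

/-- The quotient map in a short exact sequence with torsion-free quotient: the subgroup is
saturated. -/
theorem saturated_of_shortExact {S : ShortComplex (Sheaf J AddCommGrpCat.{u})} (hS : S.ShortExact)
    (h : TF S.X₃) (U : Cᵒᵖ) (n : ℤ) (e : S.X₂.obj.obj U) (hn : n ≠ 0)
    (he : ∃ a, (S.f.hom.app U).hom a = n • e) : ∃ a, (S.f.hom.app U).hom a = e := by
  obtain ⟨a, ha⟩ := he
  refine (Edge.exact_sections hS U).2 e (h.eq_zero_of_zsmul U hn _ ?_)
  rw [← map_zsmul, ← ha]
  exact ConcreteCategory.congr_hom (congrArg (fun m : S.X₁ ⟶ S.X₃ => m.hom.app U) S.zero) a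

end Groth.Agent.H15Site.TorsionFree
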