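import Groth.Agent.H15Site.RlimTrunc
import Groth.Agent.H15Site.ModInjAcyclic
import Groth.Agent.H15Site.TorsionFree
import Groth.Agent.H10Coh.ModGroth
import Groth.Agent.H10Coh.ExtMap
import Groth.Prelude.Def_FreeSh
import Groth.Prelude.Def_ModSite
import Mathlib.CategoryTheory.Sites.EpiMono

/-!
# Free generators for abelian sheaves and for sheaves of modules on a site
-/

set_option autoImplicit false
set_option linter.style.haveILetI false
set_option linter.unusedSectionVars false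

universe w v u u'

open CategoryTheory CategoryTheory.Limits Opposite CategoryTheory.Abelian

namespace Groth.Agent.H15Site.SiteGenInst

attribute [local instance 10000] SiteInst.hasSheafifySite SiteInst.hasWeakSheafifySite
  SiteInst.hasExtSite SiteInst.enoughInjSite

open SiteGen RlimTrunc

variable {C : Type u} [SmallCategory C] {J : GrothendieckTopology C}

/-- Generators from a representation of sections. -/
noncomputable def ofSections {A : Type u'} [Category.{v} A] [Abelian A] (G : C ⥤ A)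
    (Ψ : A ⥤ Sheaf J AddCommGrpCat.{u}) [Ψ.Faithful] [Ψ.PreservesEpimorphisms]
    [Ψ.PreservesZeroMorphisms]
    (E : ∀ (U : C) (X : A), (G.obj U ⟶ X) ≃ (Ψ.obj X).obj.obj (op U))
    (hU : ∀ {U V : C} (g : V ⟶ U) {X : A} (φ : G.obj U ⟶ X),
      E V X (G.map g ≫ φ) = ((Ψ.obj X).obj.map g.op).hom (E U X φ))
    (hX : ∀ {U : C} {X Y : A} (φ : G.obj U ⟶ X) (f : X ⟶ Y),
      E U Y (φ ≫ f) = ((Ψ.map f).hom.app (op U)).hom (E U X φ)) : Gen J A where
  G := G
  loc := fun {X V} p _ => by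
    haveI : Sheaf.IsLocallySurjective (Ψ.map p) :=
      (Sheaf.isLocallySurjective_iff_epi' _ _).2 inferInstance
    refine ⟨Presheaf.imageSieve (Ψ.map p).hom (E V (G.obj V) (𝟙 _)),
      Presheaf.imageSieve_mem J _ _, fun Y g hg => ?_⟩
    obtain ⟨t, ht⟩ := hg
    refine ⟨(E Y X).symm t, (E Y (G.obj V)).injective ?_⟩
    rw [hX, Equiv.apply_symm_apply]
    refine ht.trans ?_
    rw [← Category.comp_id (G.map g), hU]
  sep := fun {V S} hS {X} φ h => by
    refine (E V X).injective ((Ψ.obj X).isSeparated V S hS _ _ fun Y g hg => ?_)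
    rw [← hU g φ, h g hg, ← hU g 0, comp_zero]
  gen := fun {X Y} φ h => by
    refine Ψ.map_injective ?_
    rw [Functor.map_zero]
    refine Sheaf.hom_ext (NatTrans.ext (funext fun U => AddCommGrpCat.hom_ext
      (AddMonoidHom.ext fun s => ?_)))
    obtain ⟨U⟩ := U
    obtain ⟨ψ, rfl⟩ := (E U X).surjective s
    rw [← hX, h U ψ]
    have h0 := hX (0 : G.obj U ⟶ X) (0 : X ⟶ Y)
    rw [zero_comp, Functor.map_zero] at h0
    exact h0

variable (J) in
/-- `U ↦ ℤ_U`. -/
noncomputable abbrev freeAbFunctor : C ⥤ Sheaf J AddCommGrpCat.{u} :=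
  yoneda ⋙ (Functor.whiskeringRight _ _ _).obj AddCommGrpCat.free.{u} ⋙
    presheafToSheaf J AddCommGrpCat.{u}

variable (J) in
/-- The free abelian sheaves. -/
noncomputable def genAb : Gen J (Sheaf J AddCommGrpCat.{u}) :=
  ofSections (freeAbFunctor J) (𝟭 _) (fun U X => (CohFree.homEquivSect J U X).toEquiv)
    (fun g _ φ => CohFree.evalGen_freeSheafMap_comp J g _ φ) (fun _ _ => rfl)

theorem van_ab_iff [HasDerivedCategory.{w} (Sheaf J AddCommGrpCat.{u})] (k : ℕ) (Y : C)
    (F : Sheaf J AddCommGrpCat.{u}) :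
    Van (genAb J) k Y F ↔ Subsingleton (CohSite.HU F k Y) :=
  (Ext.homEquiv (X := CohCx.freeSheaf J Y) (Y := F) (n := k)).subsingleton_congr.symm

section Mod

variable (O : Sheaf J CommRingCat.{u})

/-- `U ↦` the free module on `U`. -/
noncomputable abbrev freeModFunctor : C ⥤ ModSite.Mod O :=
  yoneda ⋙ PresheafOfModules.free (ModSite.ringSh O).obj ⋙
    PresheafOfModules.sheafification (𝟙 (ModSite.ringSh O).obj)

/-- The composite free module adjunction. -/
noncomputable abbrev freeModAdj :=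
  (PresheafOfModules.freeAdjunction (ModSite.ringSh O).obj).comp
    (PresheafOfModules.sheafificationAdjunction (𝟙 (ModSite.ringSh O).obj))

/-- Sections. -/
noncomputable def eMod (U : C) (M : ModSite.Mod O) :
    ((freeModFunctor O).obj U ⟶ M) ≃
      ((SheafOfModules.toSheaf (ModSite.ringSh O)).obj M).obj.obj (op U) :=
  ((freeModAdj O).homEquiv (yoneda.obj U) M).trans yonedaEquiv

theorem eMod_naturality_left {U V : C} (g : V ⟶ U) {M : ModSite.Mod O}
    (φ : (freeModFunctor O).obj U ⟶ M) :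
    eMod O V M ((freeModFunctor O).map g ≫ φ) =
      (((SheafOfModules.toSheaf (ModSite.ringSh O)).obj M).obj.map g.op).hom (eMod O U M φ) :=
  (congrArg yonedaEquiv ((freeModAdj O).homEquiv_naturality_left (yoneda.map g) φ)).trans
    (yonedaEquiv_naturality ((freeModAdj O).homEquiv (yoneda.obj U) M φ) g).symm

theorem eMod_naturality_right {U : C} {M N : ModSite.Mod O}
    (φ : (freeModFunctor O).obj U ⟶ M) (f : M ⟶ N) :
    eMod O U N (φ ≫ f) =
      (((SheafOfModules.toSheaf (ModSite.ringSh O)).map f).hom.app (op U)).hom (eMod O U M φ) :=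
  (congrArg yonedaEquiv ((freeModAdj O).homEquiv_naturality_right φ f)).trans rfl

/-- The free modules. -/
noncomputable def genMod : Gen J (ModSite.Mod O) :=
  haveI := H10Coh.preservesFiniteColimits_toSheaf (ModSite.ringSh O)
  ofSections (freeModFunctor O) (SheafOfModules.toSheaf (ModSite.ringSh O)) (eMod O)
    (fun g _ φ => eMod_naturality_left O g φ) (fun φ f => eMod_naturality_right O φ f)

theorem nonempty_ext_free_addEquiv (U : C) (M : ModSite.Mod O) (n : ℕ) [HasExt.{u} (ModSite.Mod O)] :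
    Nonempty (Ext.{u} ((freeModFunctor O).obj U) M n ≃+ ModSite.HU O M n U) := by
  haveI := H10Coh.preservesFiniteColimits_toSheaf (ModSite.ringSh O)
  haveI := H10Coh.isGrothendieckAbelian_sheafOfModules (ModSite.ringSh O)
  haveI : EnoughInjectives (ModSite.Mod O) := IsGrothendieckAbelian.enoughInjectives.{u}
  let e : CohCx.freeSheaf J U ⟶
      (SheafOfModules.toSheaf (ModSite.ringSh O)).obj ((freeModFunctor O).obj U) :=
    CohFree.ofSect J U _ (eMod O U _ (𝟙 _))
  have he : ∀ M : ModSite.Mod O, Function.Bijective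
      fun φ : (freeModFunctor O).obj U ⟶ M => e ≫ (SheafOfModules.toSheaf _).map φ := fun M => by
    have h : ∀ φ : (freeModFunctor O).obj U ⟶ M,
        CohFree.homEquivSect J U _ (e ≫ (SheafOfModules.toSheaf _).map φ) = eMod O U M φ := fun φ => by
      refine Eq.trans ?_ ((eMod_naturality_right O (𝟙 _) φ).symm.trans (by rw [Category.id_comp]))
      refine congrArg (((SheafOfModules.toSheaf (ModSite.ringSh O)).map φ).hom.app (op U)).hom ?_
      exact CohFree.evalGen_ofSect J U _ _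
    have : (fun φ : (freeModFunctor O).obj U ⟶ M => e ≫ (SheafOfModules.toSheaf _).map φ) =
        (CohFree.homEquivSect J U _).symm ∘ eMod O U M :=
      funext fun φ => (AddEquiv.eq_symm_apply _).2 (h φ)
    rw [this]
    exact (CohFree.homEquivSect J U _).symm.bijective.comp (eMod O U M).bijective
  exact ⟨H10Coh.extMapEquiv (SheafOfModules.toSheaf (ModSite.ringSh O)) e he
    (fun I _ m => ModInjAcyclic.subsingleton_ext (ModSite.ringSh O) I m _
      (TorsionFree.tf_sheafify_free (yoneda.obj U))) n M⟩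

theorem van_mod_iff [HasDerivedCategory.{w} (ModSite.Mod O)] (k : ℕ) (Y : C) (F : ModSite.Mod O) :
    Van (genMod O) k Y F ↔ Subsingleton (ModSite.HU O F k Y) := by
  haveI := H10Coh.isGrothendieckAbelian_sheafOfModules (ModSite.ringSh O)
  obtain ⟨e⟩ := nonempty_ext_free_addEquiv O Y F k
  exact ((Ext.homEquiv (X := (freeModFunctor O).obj Y) (Y := F) (n := k)).subsingleton_congr.symm).trans
    e.toEquiv.subsingleton_congr

end Mod

/-- Cofinality from a covering class of objects, each with one bound and a cofinal system of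
coverings. -/
theorem cofAt_of_cofinal (B : Set C) (P : ℕ → C → Prop)
    (hB : ∀ U : C, ∃ (ι : Type u) (Y : ι → C) (f : ∀ i, Y i ⟶ U), Sieve.ofArrows Y f ∈ J U ∧ ∀ i, Y i ∈ B)
    (h : ∀ V ∈ B, ∃ N : ℕ, ∀ T ∈ J V, ∃ (ι : Type u) (Y : ι → C) (f : ∀ i, Y i ⟶ V),
      (∀ i, T.arrows (f i)) ∧ Sieve.ofArrows Y f ∈ J V ∧ ∀ i, P N (Y i)) (U : C) : CofAt J U P := by
  intro T hT
  obtain ⟨ι, V, f, hf, hV⟩ := hB U
  choose N hN using fun i => h (V i) (hV i)
  choose κ Yc g hg₁ hg₂ hg₃ using fun i => hN i ((T (N i)).pullback (f i)) (J.pullback_stable _ (hT _))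
  have hfac : ∀ ⦃W : C⦄ (q : W ⟶ U), (Sieve.ofArrows V f).arrows q → ∃ i, ∃ a : W ⟶ V i, a ≫ f i = q :=
    fun W q hq => by
      obtain ⟨_, a, _, ⟨i⟩, e⟩ := hq
      exact ⟨i, a, e⟩
  choose idx fac hfac using hfac
  refine ⟨Sieve.bind (Sieve.ofArrows V f).arrows fun W q hq =>
      (Sieve.ofArrows (Yc (idx q hq)) (g (idx q hq))).pullback (fac q hq),
    J.bind_covering hf fun W q hq => J.pullback_stable _ (hg₂ _), ?_⟩
  rintro Z _ ⟨W, p, q, hq, hp, rfl⟩
  obtain ⟨_, a, _, ⟨l⟩, e⟩ := hp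
  refine ⟨Yc (idx q hq) l, a, g (idx q hq) l ≫ f (idx q hq), N (idx q hq), ?_, hg₁ _ l, hg₃ _ l⟩
  rw [reassoc_of% e, hfac q hq]

theorem exists_ofArrows_of_mem {U : C} {T : Sieve U} (hT : T ∈ J U) :
    ∃ (ι : Type u) (Y : ι → C) (g : ∀ i, Y i ⟶ U),
      (∀ i, T.arrows (g i)) ∧ Sieve.ofArrows Y g ∈ J U :=
  ⟨Σ Z : C, { f : Z ⟶ U // T f }, fun p => p.1, fun p => p.2.1, fun p => p.2.2,
    J.superset_covering (fun Z f hf => ⟨Z, 𝟙 Z, f,
      Presieve.ofArrows.mk (f := fun p : Σ Z : C, { f : Z ⟶ U // T f } => p.2.1) ⟨Z, f, hf⟩,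
      Category.id_comp _⟩) hT⟩

/-- Every object of a covering class gives arbitrarily fine covers by members. -/
theorem exists_cofinal_mem (B : Set C)
    (hB : ∀ U : C, ∃ (ι : Type u) (Y : ι → C) (f : ∀ i, Y i ⟶ U), Sieve.ofArrows Y f ∈ J U ∧ ∀ i, Y i ∈ B)
    {U : C} {T : Sieve U} (hT : T ∈ J U) :
    ∃ (ι : Type u) (Y : ι → C) (g : ∀ i, Y i ⟶ U),
      (∀ i, T.arrows (g i)) ∧ Sieve.ofArrows Y g ∈ J U ∧ ∀ i, Y i ∈ B := by
  obtain ⟨ι, Y, g, hg, hg'⟩ := exists_ofArrows_of_mem hT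
  choose κ Z h hh hB' using fun i => hB (Y i)
  refine ⟨Σ i, κ i, fun p => Z p.1 p.2, fun p => h p.1 p.2 ≫ g p.1,
    fun p => T.downward_closed (hg p.1) _, ?_, fun p => hB' p.1 p.2⟩
  refine J.transitive hg' _ fun W q hq => ?_
  obtain ⟨_, a, _, ⟨i⟩, rfl⟩ := hq
  rw [Sieve.pullback_comp]
  refine J.pullback_stable _ (J.superset_covering ?_ (hh i))
  rintro Q q ⟨_, b, _, ⟨l⟩, rfl⟩
  exact ⟨Z i l, b, h i l ≫ g i,
    Presieve.ofArrows.mk (f := fun p : Σ i, κ i => h p.1 p.2 ≫ g p.1) ⟨i, l⟩,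
    (Category.assoc _ _ _).symm⟩

end Groth.Agent.H15Site.SiteGenInst
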