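import Groth.Agent.H15Site.CechTop
import Mathlib.Topology.Sheaves.SheafCondition.UniqueGluing
import Mathlib.Order.Zorn

/-!
# Vanishing of Čech cohomology under surjectivity of restrictions
-/

universe u

open CategoryTheory CategoryTheory.Limits Opposite TopologicalSpace

namespace Groth.Agent.H15Site.CechFlasque

open CechTop

variable {X : TopCat.{u}} {ι : Type u} (U : ι → Opens X) (F : CohTop.Ab X)

/-- `W ↦ F(W ⊓ V)`. -/
noncomputable abbrev shift (V : Opens X) : (Opens X)ᵒᵖ ⥤ AddCommGrpCat.{u} :=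
  (Monotone.functor (f := fun W : Opens X => W ⊓ V) (fun _ _ h => inf_le_inf_right V h)).op ⋙ F.obj

/-- Restriction between shifted presheaves. -/
noncomputable def shiftRes {V W : Opens X} (h : V ≤ W) : shift F W ⟶ shift F V where
  app Z := F.obj.map (homOfLE (inf_le_inf_left Z.unop h)).op
  naturality _ _ _ :=
    (F.obj.map_comp _ _).symm.trans ((congrArg F.obj.map (Subsingleton.elim _ _)).trans
      (F.obj.map_comp _ _))

/-- Restriction from `F`. -/
noncomputable def toShift (V : Opens X) : F.obj ⟶ shift F V where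
  app Z := F.obj.map (homOfLE (inf_le_left : Z.unop ⊓ V ≤ Z.unop)).op
  naturality _ _ _ :=
    (F.obj.map_comp _ _).symm.trans ((congrArg F.obj.map (Subsingleton.elim _ _)).trans
      (F.obj.map_comp _ _))

theorem res_bijective_of_eq {A B : Opens X} (h : B ≤ A) (e : A ≤ B) :
    Function.Bijective (res F.obj h) :=
  Function.bijective_iff_has_inverse.2
    ⟨res F.obj e, fun x => by rw [res_res, res_self], fun x => by rw [res_res, res_self]⟩

theorem isConeAt_shift {V : Opens X} {i : ι} (h : V ≤ U i) : IsConeAt U (shift F V) i :=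
  fun _ a => res_bijective_of_eq F (inf_le_inf_right V (cap_cons_le U i a))
    (le_inf (le_cap_cons U i a inf_le_left (inf_le_right.trans h)) inf_le_right)

/-- The value of a shifted cochain at a tuple. -/
noncomputable def projS (V : Opens X) {n : ℕ} (a : Fin (n + 1) → ι) :
    C U (shift F V) n →+ F.obj.obj (op (cap U a ⊓ V)) :=
  (proj U (shift F V) a).hom

theorem homS_ext {V : Opens X} {n : ℕ} {x y : C U (shift F V) n}
    (h : ∀ a : Fin (n + 1) → ι, projS U F V a x = projS U F V a y) : x = y :=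
  hom_ext U _ h

theorem exists_projS_eq (V : Opens X) {n : ℕ}
    (v : ∀ a : Fin (n + 1) → ι, F.obj.obj (op (cap U a ⊓ V))) :
    ∃ x : C U (shift F V) n, ∀ a, projS U F V a x = v a :=
  exists_proj_eq U (shift F V) v

theorem projS_d {V : Opens X} {n : ℕ} (x : C U (shift F V) n) (c : Fin (n + 2) → ι) :
    projS U F V c ((d U (shift F V) n).hom x) = ∑ j : Fin (n + 2),
      ((-1 : ℤ) ^ (j : ℕ)) • res F.obj (inf_le_inf_right V (cap_comp_le U c j.succAbove))
        (projS U F V (c ∘ j.succAbove) x) :=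
  proj_d U (shift F V) x c

theorem projS_htpy {V : Opens X} {i : ι} (hb : IsConeAt U (shift F V) i) {n : ℕ}
    (x : C U (shift F V) (n + 1)) (a : Fin (n + 1) → ι) :
    res F.obj (inf_le_inf_right V (cap_cons_le U i a)) (projS U F V a (htpy hb n x)) =
      projS U F V (Fin.cons i a) x :=
  res_proj_htpy hb x a

theorem projS_eq_of_d_eq_zero {V : Opens X} (i : ι) {x : C U (shift F V) 0}
    (hx : (d U (shift F V) 0).hom x = 0) (a : Fin 1 → ι) :
    res F.obj (inf_le_inf_right V (cap_cons_le U i a)) (projS U F V a x) =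
      res F.obj (inf_le_inf_right V
        (show cap U (Fin.cons i a : Fin 2 → ι) ≤ cap U (fun _ : Fin 1 => i) from
          le_iInf fun _ => cap_cons_le_self U i a)) (projS U F V (fun _ : Fin 1 => i) x) :=
  res_proj_eq_of_d_eq_zero U (shift F V) i hx a

theorem projS_injective {V : Opens X} {i : ι} (h : V ≤ U i) {n : ℕ} (a : Fin (n + 1) → ι) :
    Function.Injective (res F.obj (inf_le_inf_right V (cap_cons_le U i a))) :=
  (isConeAt_shift U F h n a).1

theorem proj_shiftRes {V W : Opens X} (h : V ≤ W) {n : ℕ} (x : C U (shift F W) n)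
    (a : Fin (n + 1) → ι) :
    (projS U F V a) ((mapC U (shift F W) (shiftRes F h) n).hom x) =
      res F.obj (inf_le_inf_left (cap U a) h) ((projS U F W a) x) :=
  proj_mapC U _ _ x a

theorem proj_toShift (V : Opens X) {n : ℕ} (x : C U F.obj n) (a : Fin (n + 1) → ι) :
    (projS U F V a) ((mapC U F.obj (toShift F V) n).hom x) =
      res F.obj (inf_le_left : cap U a ⊓ V ≤ cap U a) ((proj U F.obj a).hom x) :=
  proj_mapC U _ _ x a

theorem shift_res {V A B : Opens X} (h : B ≤ A) (x : F.obj.obj (op (A ⊓ V))) :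
    res (shift F V) h x = res F.obj (inf_le_inf_right V h) x := rfl

theorem mapC_mapC {A B D : Opens X} (h : B ≤ A) (h' : D ≤ B) {n : ℕ} (x : C U (shift F A) n) :
    (mapC U _ (shiftRes F h') n).hom ((mapC U _ (shiftRes F h) n).hom x) =
      (mapC U _ (shiftRes F (h'.trans h)) n).hom x :=
  homS_ext U F fun a => by rw [proj_shiftRes, proj_shiftRes, proj_shiftRes, res_res]

theorem mapC_toShift {V W : Opens X} (h : V ≤ W) {n : ℕ} (x : C U F.obj n) :
    (mapC U _ (shiftRes F h) n).hom ((mapC U _ (toShift F W) n).hom x) =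
      (mapC U _ (toShift F V) n).hom x :=
  homS_ext U F fun a => by rw [proj_shiftRes, proj_toShift, proj_toShift, res_res]

/-- Gluing cochains. -/
theorem exists_glue {κ : Type u} (W : κ → Opens X) (V : Opens X) (hW : ∀ k, W k ≤ V)
    (hV : V ≤ iSup W) {n : ℕ} (t : ∀ k, C U (shift F (W k)) n)
    (ht : ∀ k l, (mapC U _ (shiftRes F (inf_le_left : W k ⊓ W l ≤ W k)) n).hom (t k) =
      (mapC U _ (shiftRes F (inf_le_right : W k ⊓ W l ≤ W l)) n).hom (t l)) :
    ∃ T : C U (shift F V) n, ∀ k, (mapC U _ (shiftRes F (hW k)) n).hom T = t k := by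
  have key : ∀ a : Fin (n + 1) → ι, ∃ s : F.obj.obj (op (cap U a ⊓ V)),
      ∀ k, res F.obj (inf_le_inf_left _ (hW k)) s = (projS U F (W k) a) (t k) := by
    intro a
    obtain ⟨s, hs, -⟩ := TopCat.Sheaf.existsUnique_gluing' (F : TopCat.Sheaf AddCommGrpCat.{u} X)
      (fun k => cap U a ⊓ W k) (cap U a ⊓ V) (fun k => homOfLE (inf_le_inf_left _ (hW k)))
      (by rw [← inf_iSup_eq]; exact inf_le_inf_left _ hV)
      (fun k => (projS U F (W k) a) (t k)) (fun k l => by
        have h := congrArg (fun y => (projS U F (W k ⊓ W l) a) y) (ht k l)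
        simp only [proj_shiftRes] at h
        have h' := congrArg (res F.obj
          (show (cap U a ⊓ W k) ⊓ (cap U a ⊓ W l) ≤ cap U a ⊓ (W k ⊓ W l) from
            le_inf (inf_le_left.trans inf_le_left)
              (inf_le_inf inf_le_right inf_le_right))) h
        rw [res_res, res_res] at h'
        exact h')
    exact ⟨s, hs⟩
  choose s hs using key
  obtain ⟨T, hT⟩ := exists_projS_eq U F V s
  exact ⟨T, fun k => homS_ext U F fun a => by rw [proj_shiftRes, hT, hs]⟩

theorem ext_local {κ : Type u} (W : κ → Opens X) (V : Opens X) (hW : ∀ k, W k ≤ V)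
    (hV : V ≤ iSup W) {n : ℕ} {x y : C U (shift F V) n}
    (h : ∀ k, (mapC U _ (shiftRes F (hW k)) n).hom x = (mapC U _ (shiftRes F (hW k)) n).hom y) :
    x = y := by
  refine homS_ext U F fun a => ?_
  refine TopCat.Sheaf.eq_of_locally_eq' (F : TopCat.Sheaf AddCommGrpCat.{u} X)
    (fun k => cap U a ⊓ W k) (cap U a ⊓ V) (fun k => homOfLE (inf_le_inf_left _ (hW k)))
    (by rw [← inf_iSup_eq]; exact inf_le_inf_left _ hV) _ _ fun k => ?_
  have h' := congrArg (fun z => (projS U F (W k) a) z) (h k)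
  simp only [proj_shiftRes] at h'
  exact h'

theorem htpy_res {V W : Opens X} {i : ι} (h : V ≤ W) (hW : W ≤ U i) {n : ℕ}
    (x : C U (shift F W) (n + 1)) :
    (mapC U _ (shiftRes F h) n).hom (htpy (isConeAt_shift U F hW) n x) =
      htpy (isConeAt_shift U F (h.trans hW)) n ((mapC U _ (shiftRes F h) (n + 1)).hom x) :=
  homS_ext U F fun a => projS_injective U F (h.trans hW) a (by
    rw [projS_htpy, proj_shiftRes, proj_shiftRes, res_res,
      ← projS_htpy U F (isConeAt_shift U F hW) x a, res_res])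

/-- The union of the members indexed by `J`. -/
noncomputable abbrev sub (J : Set ι) : Opens X := ⨆ j : J, U j

variable (hF : ∀ (n : ℕ) (b : Fin (n + 1) → ι) (J : Set ι),
  Function.Surjective (res F.obj (inf_le_left : cap U b ⊓ sub U J ≤ cap U b)))

include hF in
theorem res_surjective (i : ι) {m : ℕ} (b : Fin (m + 1) → ι) (J : Set ι) :
    Function.Surjective (res F.obj
      (inf_le_inf_left (cap U b) (inf_le_right : sub U J ⊓ U i ≤ U i))) := by
  intro y
  have hle : cap U (Fin.cons i b : Fin (m + 2) → ι) ⊓ sub U J ≤ cap U b ⊓ (sub U J ⊓ U i) :=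
    le_inf (inf_le_left.trans (cap_cons_le U i b))
      (le_inf inf_le_right (inf_le_left.trans (cap_cons_le_self U i b)))
  have hge : cap U b ⊓ (sub U J ⊓ U i) ≤ cap U (Fin.cons i b : Fin (m + 2) → ι) ⊓ sub U J :=
    le_inf (le_cap_cons U i b inf_le_left (inf_le_right.trans inf_le_right))
      (inf_le_right.trans inf_le_left)
  obtain ⟨z, hz⟩ := hF (m + 1) (Fin.cons i b) J (res F.obj hle y)
  refine ⟨res F.obj (le_cap_cons U i b inf_le_left inf_le_right) z, ?_⟩
  have h := congrArg (res F.obj hge) hz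
  rw [res_res, res_res, res_self] at h
  rw [res_res]
  exact h

include hF in
theorem mapC_surjective (i : ι) {m : ℕ} (J : Set ι) :
    Function.Surjective (mapC U _ (shiftRes F (inf_le_right : sub U J ⊓ U i ≤ U i)) m).hom := by
  intro y
  choose z hz using fun b => res_surjective U F hF i b J ((projS U F (sub U J ⊓ U i) b) y)
  obtain ⟨Z, hZ⟩ := exists_projS_eq U F (U i) z
  exact ⟨Z, homS_ext U F fun b => by rw [proj_shiftRes, hZ, hz]⟩

include hF in
theorem exists_extend {n : ℕ} (J : Set ι) (i : ι) (e : C U (shift F (sub U J ⊓ U i)) n)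
    (he : (d U _ n).hom e = 0) :
    ∃ c : C U (shift F (U i)) n, (d U _ n).hom c = 0 ∧
      (mapC U _ (shiftRes F inf_le_right) n).hom c = e := by
  cases n with
  | succ m =>
    let hb := isConeAt_shift U F (i := i) (inf_le_right : sub U J ⊓ U i ≤ U i)
    obtain ⟨E, hE⟩ := mapC_surjective U F hF i J (htpy hb m e)
    refine ⟨(d U _ m).hom E, d_d U _ E, ?_⟩
    rw [← d_mapC, hE]
    have := d_htpy_add hb e
    rwa [he, map_zero, add_zero] at this
  | zero =>
    let a₀ : Fin 1 → ι := fun _ => i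
    obtain ⟨G, hG⟩ := res_surjective U F hF i a₀ J ((projS U F (sub U J ⊓ U i) a₀) e)
    have hc : ∀ a : Fin 1 → ι, cap U a ⊓ U i ≤ cap U a₀ ⊓ U i := fun a =>
      le_inf (le_iInf fun _ => inf_le_right) inf_le_right
    obtain ⟨c, hc'⟩ := exists_projS_eq U F (U i) fun a => res F.obj (hc a) G
    refine ⟨c, homS_ext U F fun a => ?_, homS_ext U F fun a => ?_⟩
    · rw [projS_d, map_zero, Fin.sum_univ_two, hc', hc', res_res, res_res,
        Fin.val_zero, pow_zero, one_smul, Fin.val_one, pow_one, neg_smul, one_smul, add_neg_cancel]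
    · rw [proj_shiftRes, hc', res_res]
      refine projS_injective U F (i := i) (inf_le_right : sub U J ⊓ U i ≤ U i) a ?_
      rw [projS_eq_of_d_eq_zero U F i he a, ← hG,
        res_res, res_res]

include hF in
theorem isZero_cechH (n : ℕ) : IsZero (CohTop.cechH F.obj U (n + 1)) := by
  refine isZero_cechH_succ U F.obj fun s hs => ?_
  let Part := Σ' (J : Set ι) (t : C U (shift F (sub U J)) n),
    (d U _ n).hom t = (mapC U _ (toShift F (sub U J)) (n + 1)).hom s
  let r : Part → Part → Prop := fun p q => ∃ h : p.1 ⊆ q.1,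
    (mapC U _ (shiftRes F (show sub U p.1 ≤ sub U q.1 from
      iSup_le fun j => le_iSup (fun k : q.1 => U k) ⟨j, h j.2⟩)) n).hom q.2.1 = p.2.1
  have htrans : ∀ {a b c : Part}, r a b → r b c → r a c := by
    rintro a b c ⟨hab, eab⟩ ⟨hbc, ebc⟩
    refine ⟨hab.trans hbc, ?_⟩
    rw [← eab, ← ebc, mapC_mapC]
  have hchain : ∀ c : Set Part, IsChain r c → ∃ ub, ∀ a ∈ c, r a ub := by
    intro c hc
    let J : Set ι := ⋃ p : c, p.1.1
    have hle : ∀ p : c, sub U p.1.1 ≤ sub U J := fun p =>
      iSup_le fun j => le_iSup (fun k : J => U k) ⟨j, Set.mem_iUnion.2 ⟨p, j.2⟩⟩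
    let K := {j : ι // j ∈ J}
    have hp : ∀ k : K, ∃ p : c, k.1 ∈ p.1.1 := fun k => Set.mem_iUnion.1 k.2
    choose pk hpk using hp
    let W : K → Opens X := fun k => U k.1
    let t : ∀ k : K, C U (shift F (W k)) n := fun k =>
      (mapC U _ (shiftRes F (le_iSup (fun l : (pk k).1.1 => U l) ⟨k.1, hpk k⟩)) n).hom (pk k).1.2.1
    have hcomp : ∀ (p q : c) (Z : Opens X) (hp' : Z ≤ sub U p.1.1) (hq : Z ≤ sub U q.1.1),
        (mapC U _ (shiftRes F hp') n).hom p.1.2.1 = (mapC U _ (shiftRes F hq) n).hom q.1.2.1 := by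
      intro p q Z hp' hq
      rcases eq_or_ne p q with rfl | hne
      · rfl
      rcases hc p.2 q.2 (fun e => hne (Subtype.ext e)) with ⟨h, e⟩ | ⟨h, e⟩
      · rw [← e, mapC_mapC]
      · rw [← e, mapC_mapC]
    obtain ⟨T, hT⟩ := exists_glue U F W (sub U J) (fun k => le_iSup (fun l : J => U l) k) le_rfl t
      (fun k l => by
        simp only [t, mapC_mapC]
        exact hcomp _ _ _ _ _)
    refine ⟨⟨J, T, ?_⟩, fun a ha => ?_⟩
    · refine ext_local U F W (sub U J) (fun k => le_iSup (fun l : J => U l) k) le_rfl fun k => ?_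
      rw [← d_mapC, hT, mapC_toShift, d_mapC, (pk k).1.2.2, mapC_toShift]
    · refine ⟨Set.subset_iUnion (fun p : c => p.1.1) ⟨a, ha⟩, ?_⟩
      refine ext_local U F (fun j : a.1 => U j) _ (fun j => le_iSup (fun l : a.1 => U l) j) le_rfl fun j => ?_
      let k : K := ⟨j.1, Set.mem_iUnion.2 ⟨⟨a, ha⟩, j.2⟩⟩
      rw [mapC_mapC]
      refine (hT k).trans ?_
      exact hcomp (pk k) ⟨a, ha⟩ _ _ _
  obtain ⟨⟨J, t, ht⟩, hmax⟩ := exists_maximal_of_chains_bounded hchain @htrans
  have hall : ∀ i, i ∈ J := by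
    intro i
    let hb := isConeAt_shift U F (i := i) (le_refl (U i))
    let si := (mapC U _ (toShift F (U i)) (n + 1)).hom s
    have hsi : (d U _ n).hom (htpy hb n si) = si := by
      have := d_htpy_add hb si
      rwa [show (d U _ (n + 1)).hom si = 0 by rw [d_mapC, hs, map_zero], map_zero, add_zero] at this
    obtain ⟨c, hc, hce⟩ := exists_extend U F hF J i
      ((mapC U _ (shiftRes F (inf_le_left : sub U J ⊓ U i ≤ sub U J)) n).hom t -
        (mapC U _ (shiftRes F (inf_le_right : sub U J ⊓ U i ≤ U i)) n).hom (htpy hb n si)) (by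
        rw [map_sub, d_mapC, d_mapC, ht, hsi, mapC_toShift, mapC_toShift, sub_self])
    let ti := htpy hb n si + c
    have hti : (d U _ n).hom ti = si := by rw [map_add, hsi, hc, add_zero]
    let W : ULift.{u} Bool → Opens X := fun b => Bool.rec (sub U J) (U i) b.down
    let tw : ∀ b, C U (shift F (W b)) n := fun b =>
      match b with
      | ⟨false⟩ => t
      | ⟨true⟩ => ti
    let J' : Set ι := insert i J
    have hW : ∀ b, W b ≤ sub U J' := by
      rintro ⟨b⟩
      cases b
      · exact iSup_le fun j => le_iSup (fun k : J' => U k) ⟨j, Or.inr j.2⟩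
      · exact le_iSup (fun k : J' => U k) ⟨i, Or.inl rfl⟩
    have hV : sub U J' ≤ iSup W := by
      refine iSup_le fun j => ?_
      rcases j.2 with h | h
      · exact le_trans (le_of_eq (congrArg U h)) (le_iSup W ⟨true⟩)
      · exact (le_iSup (fun k : J => U k) ⟨j.1, h⟩).trans (le_iSup W ⟨false⟩)
    have hmid : (mapC U _ (shiftRes F (inf_le_left : sub U J ⊓ U i ≤ sub U J)) n).hom t =
        (mapC U _ (shiftRes F (inf_le_right : sub U J ⊓ U i ≤ U i)) n).hom ti := by
      rw [map_add, hce]; abel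
    obtain ⟨T, hT⟩ := exists_glue U F W (sub U J') hW hV tw (by
      rintro ⟨k⟩ ⟨l⟩
      cases k <;> cases l
      · rfl
      · exact hmid
      · have h := congrArg (mapC U _ (shiftRes F (le_inf inf_le_right inf_le_left :
          U i ⊓ sub U J ≤ sub U J ⊓ U i)) n).hom hmid
        rw [mapC_mapC, mapC_mapC] at h
        exact h.symm
      · rfl)
    obtain ⟨h, -⟩ := hmax ⟨J', T, by
      refine ext_local U F W (sub U J') hW hV fun b => ?_
      rw [← d_mapC, hT, mapC_toShift]
      rcases b with ⟨b⟩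
      cases b
      · exact ht
      · exact hti⟩ ⟨Set.subset_insert i J, hT ⟨false⟩⟩
    exact h (Or.inl rfl)
  have htop : ∀ {m : ℕ} (a : Fin (m + 1) → ι), cap U a ≤ sub U J := fun a =>
    (iInf_le _ 0).trans (le_iSup (fun k : J => U k) ⟨a 0, hall _⟩)
  obtain ⟨y, hy⟩ := exists_proj_eq U F.obj fun a =>
    res F.obj (le_inf le_rfl (htop a)) ((projS U F (sub U J) a) t)
  have hy' : (mapC U _ (toShift F (sub U J)) n).hom y = t :=
    homS_ext U F fun a => by rw [proj_toShift, hy, res_res, res_self]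
  refine ⟨y, hom_ext U F.obj fun a => (res_bijective_of_eq F inf_le_left (le_inf le_rfl (htop a))).1 ?_⟩
  rw [← proj_toShift U F (sub U J), ← proj_toShift U F (sub U J), ← d_mapC, hy', ht]

end Groth.Agent.H15Site.CechFlasque
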