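import Groth.Agent.H16Derived.DerAdj
import Groth.Agent.H16Derived.KInjRes.Main
import Groth.Agent.H16Derived.WayOut
import Mathlib.Algebra.Homology.DerivedCategory.KInjective
import Mathlib.Algebra.Homology.DerivedCategory.ExactFunctor
import Mathlib.CategoryTheory.Triangulated.Adjunction
import Mathlib.CategoryTheory.Functor.Derived.PointwiseLeftDerived

/-!
# The derived adjunction of a left adjoint exact functor, and way-out arguments for it
-/

set_option autoImplicit false
set_option linter.style.haveILetI false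

open CategoryTheory CategoryTheory.Limits CategoryTheory.Functor DerivedCategory
open DerivedCategory.TStructure

namespace Groth.Agent.H15Site.FlatAdjD

open H16Derived

universe w w' v u u'

variable {A : Type u} [Category.{v} A] [Abelian A] [HasDerivedCategory.{w} A]
  {B : Type u'} [Category.{v} B] [Abelian B] [HasDerivedCategory.{w'} B]
  {G : A ⥤ B} [G.Additive] [PreservesFiniteLimits G] [PreservesFiniteColimits G]
  {F : B ⥤ A} [F.Additive]

/-- The induced adjunction on homotopy categories. -/
noncomputable def homotopyAdj (adj : G ⊣ F) :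
    G.mapHomotopyCategory (ComplexShape.up ℤ) ⊣ F.mapHomotopyCategory (ComplexShape.up ℤ) :=
  (mapHomologicalComplexAdj adj (ComplexShape.up ℤ)).localization
    (HomotopyCategory.quotient A (ComplexShape.up ℤ))
    (HomologicalComplex.homotopyEquivalences A (ComplexShape.up ℤ))
    (HomotopyCategory.quotient B (ComplexShape.up ℤ))
    (HomologicalComplex.homotopyEquivalences B (ComplexShape.up ℤ)) _ _

variable (F) in
/-- The functor whose derived functor is taken. -/
noncomputable abbrev toD : HomotopyCategory B (ComplexShape.up ℤ) ⥤ DerivedCategory A :=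
  F.mapHomotopyCategory (ComplexShape.up ℤ) ⋙ DerivedCategory.Qh

omit [HasDerivedCategory.{w'} B] in
theorem exists_local [IsGrothendieckAbelian.{v} B] (M : HomotopyCategory B (ComplexShape.up ℤ)) :
    ∃ (I : CochainComplex B ℤ) (_ : I.IsKInjective)
      (s : M ⟶ (HomotopyCategory.quotient _ _).obj I),
      HomotopyCategory.quasiIso B (ComplexShape.up ℤ) s := by
  obtain ⟨N, j, hN⟩ := KInjRes.exists_resolution_functor (A := B)
  obtain ⟨K, rfl⟩ : ∃ K, (HomotopyCategory.quotient _ _).obj K = M := ⟨M.as, rfl⟩
  refine ⟨N.obj K, (hN K).2.2.1, (HomotopyCategory.quotient _ _).map (j.app K), ?_⟩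
  rw [HomotopyCategory.quotient_map_mem_quasiIso_iff, HomologicalComplex.mem_quasiIso_iff]
  exact (hN K).2.1

/-- The derived adjunction `G ⊣ RF` for exact `G`. -/
theorem nonempty_adjunction [IsGrothendieckAbelian.{v} B] (adj : G ⊣ F)
    [(toD F).HasRightDerivedFunctor (HomotopyCategory.quasiIso B (ComplexShape.up ℤ))] :
    Nonempty (G.mapDerivedCategory ⊣
      (toD F).totalRightDerived DerivedCategory.Qh
        (HomotopyCategory.quasiIso B (ComplexShape.up ℤ))) := by
  let W₁ := HomotopyCategory.quasiIso A (ComplexShape.up ℤ)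
  let W₂ := HomotopyCategory.quasiIso B (ComplexShape.up ℤ)
  let R := (toD F).totalRightDerived DerivedCategory.Qh W₂
  let β := (toD F).totalRightDerivedUnit DerivedCategory.Qh W₂
  haveI : (toD F).HasPointwiseRightDerivedFunctor W₂ :=
    RDerived.hasPointwiseRightDerivedFunctor_of_resolutions DerivedCategory.Qh _ _ fun M => by
      obtain ⟨I, hI, s, hs⟩ := exists_local M
      exact ⟨_, s, hs, fun K => CochainComplex.IsKInjective.Qh_map_bijective K I⟩
  let α := G.mapDerivedCategoryFactorsh.hom
  haveI : G.mapDerivedCategory.IsLeftDerivedFunctor α W₁ :=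
    Functor.isLeftDerivedFunctor_of_inverts W₁ G.mapDerivedCategory G.mapDerivedCategoryFactorsh
  haveI : (G.mapDerivedCategory ⋙ R).IsLeftDerivedFunctor
      ((Functor.associator _ _ _).inv ≫ whiskerRight α R) W₁ :=
    Functor.isLeftDerivedFunctor_of_inverts W₁ (G.mapDerivedCategory ⋙ R)
      ((Functor.associator _ _ _).symm ≪≫ Functor.isoWhiskerRight G.mapDerivedCategoryFactorsh R)
  haveI : (R ⋙ G.mapDerivedCategory).IsRightDerivedFunctor
      (whiskerRight β G.mapDerivedCategory ≫ (Functor.associator _ _ _).hom) W₂ := by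
    refine RDerived.isRightDerivedFunctor_of_isIso_local _ _ _ _ _ fun M => ?_
    obtain ⟨I, hI, s, hs⟩ := exists_local M
    refine ⟨_, s, hs, fun K => CochainComplex.IsKInjective.Qh_map_bijective K I, ?_⟩
    haveI : IsIso (β.app ((HomotopyCategory.quotient _ _).obj I)) :=
      RDerived.isIso_unit_app_of_bijective DerivedCategory.Qh W₂ _ _ β _
        fun K => CochainComplex.IsKInjective.Qh_map_bijective K I
    simp only [NatTrans.comp_app, associator_hom_app, whiskerRight_app]
    infer_instance
  exact ⟨(homotopyAdj adj).derived W₁ W₂ α β⟩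

variable (G)

theorem isLE_map (X : DerivedCategory A) (n : ℤ) [X.IsLE n] :
    (G.mapDerivedCategory.obj X).IsLE n := by
  obtain ⟨K, _, ⟨e⟩⟩ := DerivedCategory.exists_iso_Q_obj_of_isLE X n
  haveI : CochainComplex.IsStrictlyLE ((G.mapHomologicalComplex (ComplexShape.up ℤ)).obj K) n := by
    rw [CochainComplex.isStrictlyLE_iff]
    exact fun i hi => G.map_isZero (CochainComplex.isZero_of_isStrictlyLE K n i hi)
  haveI : DerivedCategory.IsLE ((G.mapHomologicalComplex (ComplexShape.up ℤ) ⋙ DerivedCategory.Q).obj K) n :=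
    inferInstanceAs (DerivedCategory.IsLE
      (DerivedCategory.Q.obj ((G.mapHomologicalComplex (ComplexShape.up ℤ)).obj K)) n)
  exact t.isLE_of_iso ((G.mapDerivedCategoryFactors.app K).symm ≪≫
    (G.mapDerivedCategory.mapIso e).symm) n

theorem isGE_map (X : DerivedCategory A) (n : ℤ) [X.IsGE n] :
    (G.mapDerivedCategory.obj X).IsGE n := by
  obtain ⟨K, _, ⟨e⟩⟩ := DerivedCategory.exists_iso_Q_obj_of_isGE X n
  haveI : CochainComplex.IsStrictlyGE ((G.mapHomologicalComplex (ComplexShape.up ℤ)).obj K) n := by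
    rw [CochainComplex.isStrictlyGE_iff]
    exact fun i hi => G.map_isZero (CochainComplex.isZero_of_isStrictlyGE K n i hi)
  haveI : DerivedCategory.IsGE ((G.mapHomologicalComplex (ComplexShape.up ℤ) ⋙ DerivedCategory.Q).obj K) n :=
    inferInstanceAs (DerivedCategory.IsGE
      (DerivedCategory.Q.obj ((G.mapHomologicalComplex (ComplexShape.up ℤ)).obj K)) n)
  exact t.isGE_of_iso ((G.mapDerivedCategoryFactors.app K).symm ≪≫
    (G.mapDerivedCategory.mapIso e).symm) n

/-- The right adjoint of an exact functor is left t-exact on derived categories. -/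
theorem isGE_rightAdjoint {R : DerivedCategory B ⥤ DerivedCategory A}
    (adj : G.mapDerivedCategory ⊣ R) (Y : DerivedCategory B) (n : ℤ) [Y.IsGE n] :
    (R.obj Y).IsGE n := by
  refine (t.isGE_iff_orthogonal (n - 1) n (by lia) _).2 fun Z f hZ => ?_
  haveI := isLE_map G Z (n - 1)
  apply (adj.homEquiv Z Y).symm.injective
  exact (t.zero_of_isLE_of_isGE _ (n - 1) n (by lia) inferInstance inferInstance).trans
    (t.zero_of_isLE_of_isGE _ (n - 1) n (by lia) inferInstance inferInstance).symm

variable {G}

theorem isIso_counit_of_isGE {R : DerivedCategory B ⥤ DerivedCategory A}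
    (adj : G.mapDerivedCategory ⊣ R) (P : ObjectProperty B) [P.IsClosedUnderIsomorphisms]
    (hP : ∀ Z : B, IsZero Z → P Z)
    (hη : ∀ M : B, P M → IsIso (adj.counit.app ((singleFunctor B 0).obj M)))
    (X : DerivedCategory B) (a : ℤ) [X.IsGE a] (hX : ∀ i, P ((homologyFunctor B i).obj X)) :
    IsIso (adj.counit.app X) := by
  letI := adj.rightAdjointCommShift ℤ
  haveI : adj.CommShift ℤ := adj.commShift_of_leftAdjoint ℤ
  haveI := adj.isTriangulated_rightAdjoint
  exact WayOut.isIso_of_isGE adj.counit P hP
    (fun n => ⟨n, fun Y _ => by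
      haveI := isGE_rightAdjoint G adj Y n
      exact isGE_map G (R.obj Y) n⟩)
    (fun n => ⟨n, fun Y hY => hY⟩) hη X a hX

theorem isIso_unit_of_isGE {R : DerivedCategory B ⥤ DerivedCategory A}
    (adj : G.mapDerivedCategory ⊣ R) (P : ObjectProperty A) [P.IsClosedUnderIsomorphisms]
    (hP : ∀ Z : A, IsZero Z → P Z)
    (hη : ∀ M : A, P M → IsIso (adj.unit.app ((singleFunctor A 0).obj M)))
    (X : DerivedCategory A) (a : ℤ) [X.IsGE a] (hX : ∀ i, P ((homologyFunctor A i).obj X)) :
    IsIso (adj.unit.app X) := by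
  letI := adj.rightAdjointCommShift ℤ
  haveI : adj.CommShift ℤ := adj.commShift_of_leftAdjoint ℤ
  haveI := adj.isTriangulated_rightAdjoint
  exact WayOut.isIso_of_isGE adj.unit P hP
    (fun n => ⟨n, fun Y hY => hY⟩)
    (fun n => ⟨n, fun Y _ => by
      haveI := isGE_map G Y n
      exact isGE_rightAdjoint G adj (G.mapDerivedCategory.obj Y) n⟩) hη X a hX

end Groth.Agent.H15Site.FlatAdjD
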