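import Groth.Agent.H15Site.ModOver

/-!
`j_{U!} O_U` represents sections over `U`.
-/

universe u
open CategoryTheory CategoryTheory.Limits Opposite

namespace Groth.Agent.H15Site.FreeOn

open Groth.Agent.H15Site.ModTensor Groth.Agent.H15Site.ModOver

attribute [local instance 10000] SiteInst.hasSheafifySite SiteInst.hasWeakSheafifySite

variable {C : Type u} [SmallCategory C] {J : GrothendieckTopology C} (O : Sheaf J CommRingCat.{u})
  (U : C)

/-- The unique morphism to the final object of `C/U`. -/
noncomputable def toTop (Y : (Over U)ᵒᵖ) : op (Over.mk (𝟙 U)) ⟶ Y :=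
  (Over.homMk Y.unop.hom (Category.comp_id _) : Y.unop ⟶ Over.mk (𝟙 U)).op

lemma toTop_unique {Y : (Over U)ᵒᵖ} (e : op (Over.mk (𝟙 U)) ⟶ Y) : e = toTop U Y := by
  apply Quiver.Hom.unop_inj
  ext
  exact ((Category.comp_id _).symm.trans (Over.w e.unop))

/-- Maps out of the structure sheaf of `C/U` are sections over the final object. -/
noncomputable def unitTopEquiv (G : ModSite.Mod (O.over U)) :
    (ModSite.unit (O.over U) ⟶ G) ≃+ G.val.obj (op (Over.mk (𝟙 U))) where
  toFun f := f.val.app _ (1 : ((ModSite.ringSh (O.over U)).obj.obj (op (Over.mk (𝟙 U)))))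
  invFun s := G.unitHomEquiv.symm
    ⟨fun Y => rs ((forg (O.over U)).obj G) (toTop U Y) s, fun {Y Z} g => by
      refine (rs_rs ((forg (O.over U)).obj G) (toTop U Y) g s).trans ?_
      exact congrArg (fun e => rs ((forg (O.over U)).obj G) e s) (toTop_unique U _)⟩
  left_inv f := G.unitHomEquiv.injective ((G.unitHomEquiv.apply_symm_apply _).trans
    (Subtype.ext (funext fun Y => (G.unitHomEquiv f).property (toTop U Y))))
  right_inv s := by
    refine (SheafOfModules.unitHomEquiv_apply_coe G _ (op (Over.mk (𝟙 U)))).symm.trans ?_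
    refine (congrArg (fun t => t.val (op (Over.mk (𝟙 U)))) (G.unitHomEquiv.apply_symm_apply _)).trans ?_
    exact (congrArg (fun e => rs ((forg (O.over U)).obj G) e s) (toTop_unique U (𝟙 _)).symm).trans
      (rs_id ((forg (O.over U)).obj G) s)
  map_add' f g := rfl

/-- Maps out of `j_! O_U` are sections over `U`. -/
noncomputable def homEquiv (F : ModSite.Mod O) :
    (ModSite.freeOn O U ⟶ F) ≃+ ModSite.sect F U :=
  haveI := additive_extZero O U
  ((ModSite.extZeroAdj O U).homAddEquiv (ModSite.unit (O.over U)) F).trans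
    (unitTopEquiv O U ((ModSite.restr O U).obj F))

lemma homEquiv_comp {F G : ModSite.Mod O} (g : F ⟶ G) (t : ModSite.freeOn O U ⟶ F) :
    homEquiv O U G (t ≫ g) = (g.val.app (op U)).hom (homEquiv O U F t) := by
  have := additive_extZero O U
  show unitTopEquiv O U _ ((ModSite.extZeroAdj O U).homEquiv _ G (t ≫ g)) = _
  rw [Adjunction.homEquiv_naturality_right]
  rfl

/-- `j_{U!} O_U` corepresents sections over `U`. -/
noncomputable def corepresentableBy :
    (SheafOfModules.toSheaf (ModSite.ringSh O) ⋙ sheafToPresheaf J AddCommGrpCat.{u} ⋙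
      (evaluation _ _).obj (op U) ⋙ forget AddCommGrpCat.{u}).CorepresentableBy (ModSite.freeOn O U) where
  homEquiv {F} := (homEquiv O U F).toEquiv
  homEquiv_comp {F G} g t := homEquiv_comp O U g t

end Groth.Agent.H15Site.FreeOn
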