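import Mathlib.Algebra.Homology.DerivedCategory.ExactFunctor

/-!
# A fully faithful criterion for functors on derived categories induced by exact functors

If `P : B ⥤ D` is exact, `R : D ⥤ B` and `H : D ⥤ D` are exact, `P ⋙ R ≅ 𝟭` and there are natural
transformations `α : 𝟭 ⟶ H` and `β : R ⋙ P ⟶ H` which are isomorphisms on the image of `P`,
then `P.mapDerivedCategory` is fully faithful.
-/

set_option autoImplicit false
set_option linter.style.haveILetI false

universe w₁ w₂ w₃ v₁ v₂ v₃ u₁ u₂ u₃

open CategoryTheory CategoryTheory.Limits DerivedCategory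

namespace Groth.Agent.H15Site.DerivedRetract

variable {A : Type u₁} [Category.{v₁} A] [Abelian A] [HasDerivedCategory.{w₁} A]
  {B : Type u₂} [Category.{v₂} B] [Abelian B] [HasDerivedCategory.{w₂} B]
  {C : Type u₃} [Category.{v₃} C] [Abelian C] [HasDerivedCategory.{w₃} C]

/-- The composite of two induced functors is induced by the composite on complexes. -/
noncomputable def compFactors (F : A ⥤ B) (G : B ⥤ C) [F.Additive] [G.Additive]
    [PreservesFiniteLimits F] [PreservesFiniteColimits F]
    [PreservesFiniteLimits G] [PreservesFiniteColimits G] :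
    Q ⋙ F.mapDerivedCategory ⋙ G.mapDerivedCategory ≅
      (F.mapHomologicalComplex (ComplexShape.up ℤ) ⋙ G.mapHomologicalComplex (ComplexShape.up ℤ)) ⋙ Q :=
  (Functor.associator _ _ _).symm ≪≫ Functor.isoWhiskerRight F.mapDerivedCategoryFactors _ ≪≫
    Functor.associator _ _ _ ≪≫
    Functor.isoWhiskerLeft _ G.mapDerivedCategoryFactors ≪≫ (Functor.associator _ _ _).symm

section

variable {P : A ⥤ B} {R : B ⥤ A} {H : B ⥤ B} [P.Additive] [R.Additive] [H.Additive]
  [PreservesFiniteLimits P] [PreservesFiniteColimits P]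
  [PreservesFiniteLimits R] [PreservesFiniteColimits R]
  [PreservesFiniteLimits H] [PreservesFiniteColimits H]

/-- The full faithfulness criterion. -/
theorem bijective_map (α : 𝟭 B ⟶ H) (β : R ⋙ P ⟶ H) (ρ : P ⋙ R ≅ 𝟭 A)
    (hα : ∀ G : A, IsIso (α.app (P.obj G))) (hβ : ∀ G : A, IsIso (β.app (P.obj G)))
    (K L : DerivedCategory A) :
    Function.Bijective fun g : K ⟶ L => P.mapDerivedCategory.map g := by
  let c := ComplexShape.up ℤ
  let cP := P.mapHomologicalComplex c
  let cR := R.mapHomologicalComplex c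
  let cH := H.mapHomologicalComplex c
  let PD := P.mapDerivedCategory
  let RD := R.mapDerivedCategory
  let HD := H.mapDerivedCategory
  let W := HomologicalComplex.quasiIso B c
  let W' := HomologicalComplex.quasiIso A c
  letI l1 : Localization.Lifting Q W Q (𝟭 (DerivedCategory B)) := ⟨Functor.rightUnitor _⟩
  letI l2 : Localization.Lifting Q W ((cR ⋙ cP) ⋙ Q) (RD ⋙ PD) := ⟨compFactors R P⟩
  letI l3 : Localization.Lifting Q W' ((cP ⋙ cR) ⋙ Q) (PD ⋙ RD) := ⟨compFactors P R⟩
  letI l4 : Localization.Lifting Q W' Q (𝟭 (DerivedCategory A)) := ⟨Functor.rightUnitor _⟩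
  let τ₀ : ∀ X : CochainComplex B ℤ, X ⟶ cH.obj X := fun X =>
    HomologicalComplex.Hom.mk (fun i => α.app (X.X i)) (fun i j _ => (α.naturality (X.d i j)).symm)
  let τα : Q ⟶ cH ⋙ Q :=
    { app := fun X => Q.map (τ₀ X)
      naturality := fun X Y f => by
        rw [Functor.comp_map, ← Functor.map_comp, ← Functor.map_comp]
        congr 1
        ext i
        exact α.naturality (f.f i) }
  let τ₁ : ∀ X : CochainComplex B ℤ, cP.obj (cR.obj X) ⟶ cH.obj X := fun X =>
    HomologicalComplex.Hom.mk (fun i => β.app (X.X i)) (fun i j _ => (β.naturality (X.d i j)).symm)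
  let τβ : (cR ⋙ cP) ⋙ Q ⟶ cH ⋙ Q :=
    { app := fun X => Q.map (τ₁ X)
      naturality := fun X Y f => by
        simp only [Functor.comp_map, ← Functor.map_comp]
        congr 1
        ext i
        exact β.naturality (f.f i) }
  let τρ : (cP ⋙ cR) ⋙ Q ≅ Q :=
    NatIso.ofComponents
      (fun X => Q.mapIso (HomologicalComplex.Hom.isoOfComponents (fun i => ρ.app (X.X i))
        (fun i j _ => (ρ.hom.naturality (X.d i j)).symm)))
      (fun {X Y} f => by
        simp only [Functor.comp_map, Functor.mapIso_hom, ← Functor.map_comp]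
        congr 1
        ext i
        exact ρ.hom.naturality (f.f i))
  let αD : 𝟭 (DerivedCategory B) ⟶ HD :=
    Localization.liftNatTrans Q W Q (cH ⋙ Q) (𝟭 _) HD τα
  let βD : RD ⋙ PD ⟶ HD :=
    Localization.liftNatTrans Q W ((cR ⋙ cP) ⋙ Q) (cH ⋙ Q) (RD ⋙ PD) HD τβ
  let ρD : PD ⋙ RD ≅ 𝟭 (DerivedCategory A) :=
    Localization.liftNatIso Q W' ((cP ⋙ cR) ⋙ Q) Q (PD ⋙ RD) (𝟭 _) τρ
  have aux : ∀ {F : DerivedCategory B ⥤ DerivedCategory B} (γ : F ⟶ HD),
      (∀ X : CochainComplex A ℤ, IsIso (γ.app (Q.obj (cP.obj X)))) →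
      ∀ K : DerivedCategory A, IsIso (γ.app (PD.obj K)) := by
    intro F γ h K
    obtain ⟨X, ⟨e⟩⟩ : ∃ X, Nonempty (Q.obj X ≅ K) := ⟨_, ⟨Q.objObjPreimageIso K⟩⟩
    exact (NatTrans.isIso_app_iff_of_iso γ
      ((P.mapDerivedCategoryFactors.app X).symm ≪≫ PD.mapIso e)).1 (h X)
  have hαD : ∀ K, IsIso (αD.app (PD.obj K)) := aux αD fun X => by
    rw [show αD.app (Q.obj (cP.obj X)) = _ from Localization.liftNatTrans_app _ _ _ _ _ _ τα _]
    have : ∀ i, IsIso (α.app ((cP.obj X).X i)) := fun i => hα (X.X i)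
    have : IsIso (τα.app (cP.obj X)) := by
      apply +allowSynthFailures Functor.map_isIso
      apply +allowSynthFailures HomologicalComplex.Hom.isIso_of_components
      exact this
    infer_instance
  have hβD : ∀ K, IsIso (βD.app (PD.obj K)) := aux βD fun X => by
    rw [show βD.app (Q.obj (cP.obj X)) = _ from Localization.liftNatTrans_app _ _ _ _ _ _ τβ _]
    have : ∀ i, IsIso (β.app ((cP.obj X).X i)) := fun i => hβ (X.X i)
    have : IsIso (τβ.app (cP.obj X)) := by
      apply +allowSynthFailures Functor.map_isIso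
      apply +allowSynthFailures HomologicalComplex.Hom.isIso_of_components
      exact this
    infer_instance
  refine ⟨fun g g' h => ?_, fun g => ⟨ρD.inv.app K ≫ RD.map g ≫ ρD.hom.app L, ?_⟩⟩
  · have h1 : (PD ⋙ RD).map g = (PD ⋙ RD).map g' := congrArg RD.map h
    exact (NatIso.naturality_1 ρD g).symm.trans
      ((congrArg (fun z => ρD.inv.app K ≫ z ≫ ρD.hom.app L) h1).trans (NatIso.naturality_1 ρD g'))
  · let k := ρD.inv.app K ≫ RD.map g ≫ ρD.hom.app L
    haveI := hβD K
    haveI := hβD L
    haveI := hαD K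
    haveI := hαD L
    let u : ∀ M : DerivedCategory A, PD.obj M ⟶ PD.obj M := fun M =>
      αD.app (PD.obj M) ≫ inv (βD.app (PD.obj M)) (I := hβD M) ≫ PD.map (ρD.hom.app M)
    have nat : ∀ {M M' : DerivedCategory A} (j : PD.obj M ⟶ PD.obj M'),
        j ≫ αD.app (PD.obj M') ≫ inv (βD.app (PD.obj M')) (I := hβD M') =
          (αD.app (PD.obj M) ≫ inv (βD.app (PD.obj M)) (I := hβD M)) ≫ PD.map (RD.map j) := by
      intro M M' j
      haveI := hβD M
      haveI := hβD M'
      have e1 : j ≫ αD.app _ = αD.app _ ≫ HD.map j := αD.naturality j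
      have e2 : PD.map (RD.map j) ≫ βD.app _ = βD.app _ ≫ HD.map j := βD.naturality j
      rw [← cancel_mono (βD.app (PD.obj M'))]
      simp only [Category.assoc, IsIso.inv_hom_id, Category.comp_id, e2, IsIso.inv_hom_id_assoc]
      exact e1
    have h1 : g ≫ u L = u K ≫ PD.map k := by
      simp only [u, k, ← Category.assoc]
      rw [Category.assoc g, nat g]
      simp only [Category.assoc, ← Functor.map_comp, Iso.hom_inv_id_app_assoc]
    have h2 : PD.map k ≫ u L = u K ≫ PD.map k := by
      simp only [u, ← Category.assoc]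
      erw [Category.assoc (PD.map k), nat (PD.map k)]
      simp only [Category.assoc, ← Functor.map_comp]
      congr 3
      exact ρD.hom.naturality k
    haveI : IsIso (u L) := inferInstance
    exact (cancel_mono (u L)).1 (h2.trans h1.symm)

end

end Groth.Agent.H15Site.DerivedRetract
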