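import Mathlib.Algebra.Homology.DerivedCategory.KInjective
import Mathlib.Algebra.Homology.HomotopyCategory.HomComplexCohomology
import Mathlib.Algebra.Homology.HomotopyCategory.HomComplexSingle

/-!
# Morphisms into K-injective complexes in the derived category, and complexes from a single object
-/

set_option linter.style.haveILetI false
set_option linter.unusedSectionVars false
set_option backward.isDefEq.respectTransparency false

universe w v u v' u'

open CategoryTheory CategoryTheory.Limits CochainComplex CochainComplex.HomComplex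

namespace Groth.Agent.H15Site.SpHom

section Derived

variable {A : Type u} [Category.{v} A] [Abelian A] [HasDerivedCategory.{w} A]

/-- `Hom_D(Q K, (Q L)[n])` is the group of cohomology classes when `L` is K-injective. -/
noncomputable def qAddEquiv (K L : CochainComplex A ℤ) [L.IsKInjective] (n : ℤ) :
    (DerivedCategory.Q.obj K ⟶ (DerivedCategory.Q.obj L)⟦n⟧) ≃+ CohomologyClass K L n :=
  let e₁ := ((DerivedCategory.quotientCompQhIso A).app K).symm
  let e₂ := (DerivedCategory.Q.commShiftIso n).symm.app L ≪≫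
    ((DerivedCategory.quotientCompQhIso A).app (L⟦n⟧)).symm
  let a : (DerivedCategory.Q.obj K ⟶ (DerivedCategory.Q.obj L)⟦n⟧) ≃+
      (DerivedCategory.Qh.obj ((HomotopyCategory.quotient _ _).obj K) ⟶
        DerivedCategory.Qh.obj ((HomotopyCategory.quotient _ _).obj (L⟦n⟧))) :=
    { e₁.homCongr e₂ with
      map_add' := fun x y => by
        show e₁.inv ≫ (x + y) ≫ e₂.hom = e₁.inv ≫ x ≫ e₂.hom + e₁.inv ≫ y ≫ e₂.hom
        simp [Preadditive.add_comp, Preadditive.comp_add] }
  let b := AddEquiv.ofBijective (DerivedCategory.Qh.mapAddHom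
      (X := (HomotopyCategory.quotient A (ComplexShape.up ℤ)).obj K)
      (Y := (HomotopyCategory.quotient A (ComplexShape.up ℤ)).obj (L⟦n⟧)))
    (CochainComplex.IsKInjective.Qh_map_bijective _ _)
  (a.trans b.symm).trans (CohomologyClass.homAddEquiv (K := K) (L := L) (n := n)).symm

end Derived

section Single

variable {A : Type u} [Category.{v} A] [Preadditive A] [HasZeroObject A]
  {A' : Type u'} [Category.{v'} A'] [Preadditive A'] [HasZeroObject A']
  {F : A} {L : CochainComplex A ℤ} {F' : A'} {L' : CochainComplex A' ℤ}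

/-- The element of `F ⟶ L^n` of a cocycle. -/
noncomputable def ev (n : ℤ) :
    Cocycle ((CochainComplex.singleFunctor A 0).obj F) L n →+ (F ⟶ L.X n) :=
  (Cochain.fromSingleEquiv (X := F) (K := L) (show (0 : ℤ) + n = n by simp)).toAddMonoidHom.comp
    (Cocycle.toCochainAddMonoidHom _ _ _)

lemma ev_fromSingleMk {n n' : ℤ} (f : F ⟶ L.X n) (h : n + 1 = n') (hf : f ≫ L.d n n' = 0) :
    ev n (Cocycle.fromSingleMk f (show (0 : ℤ) + n = n by simp) n' h hf) = f :=
  Cochain.fromSingleEquiv_fromSingleMk _ _

lemma ev_comp_d (n : ℤ) (z : Cocycle ((CochainComplex.singleFunctor A 0).obj F) L n) :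
    ev n z ≫ L.d n (n + 1) = 0 := by
  obtain ⟨f, hf, rfl⟩ := Cocycle.fromSingleMk_surjective z n (by simp) (n + 1) rfl
  rw [ev_fromSingleMk]; exact hf

variable (φ : ∀ q, (F ⟶ L.X q) ≃+ (F' ⟶ L'.X q))
  (hφ : ∀ (q q' : ℤ) (f : F ⟶ L.X q), φ q' (f ≫ L.d q q') = φ q f ≫ L'.d q q')

/-- The map on cocycles. -/
noncomputable def cocycleMap (n : ℤ) :
    Cocycle ((CochainComplex.singleFunctor A 0).obj F) L n →+
      CohomologyClass ((CochainComplex.singleFunctor A' 0).obj F') L' n where
  toFun z := CohomologyClass.mk (Cocycle.fromSingleMk (φ n (ev n z)) (show (0 : ℤ) + n = n by simp)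
    (n + 1) rfl (by rw [← hφ, ev_comp_d, map_zero]))
  map_zero' := by simp
  map_add' a b := by
    rw [← CohomologyClass.mk_add, ← Cocycle.fromSingleMk_add]
    simp

/-- The map on cohomology classes. -/
noncomputable def classMap (n : ℤ) :
    CohomologyClass ((CochainComplex.singleFunctor A 0).obj F) L n →+
      CohomologyClass ((CochainComplex.singleFunctor A' 0).obj F') L' n :=
  CohomologyClass.descAddMonoidHom (cocycleMap φ hφ n) (by
    intro z hz
    obtain ⟨f, hf, rfl⟩ := Cocycle.fromSingleMk_surjective z n (by simp) (n + 1) rfl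
    obtain ⟨g, hg⟩ := (Cocycle.fromSingleMk_mem_coboundaries_iff f _ _ rfl hf (n - 1) (by simp)).1 hz
    rw [AddMonoidHom.mem_ker]
    show CohomologyClass.mk _ = 0
    rw [CohomologyClass.mk_eq_zero_iff, Cocycle.fromSingleMk_mem_coboundaries_iff _ _ _ _ _ (n - 1)
      (by simp)]
    exact ⟨φ _ g, by rw [← hφ, ev_fromSingleMk, hg]⟩)

lemma classMap_bijective (n : ℤ) : Function.Bijective (classMap φ hφ n) := by
  constructor
  · rw [injective_iff_map_eq_zero]
    intro x hx
    obtain ⟨z, rfl⟩ := x.mk_surjective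
    obtain ⟨f, hf, rfl⟩ := Cocycle.fromSingleMk_surjective z n (by simp) (n + 1) rfl
    change CohomologyClass.mk _ = 0 at hx
    rw [CohomologyClass.mk_eq_zero_iff, Cocycle.fromSingleMk_mem_coboundaries_iff _ _ _ _ _ (n - 1)
      (by simp)] at hx
    obtain ⟨g, hg⟩ := hx
    rw [ev_fromSingleMk] at hg
    rw [CohomologyClass.mk_eq_zero_iff, Cocycle.fromSingleMk_mem_coboundaries_iff _ _ _ _ _ (n - 1)
      (by simp)]
    exact ⟨(φ _).symm g, (φ n).injective (by rw [hφ, AddEquiv.apply_symm_apply, hg])⟩
  · intro x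
    obtain ⟨z, rfl⟩ := x.mk_surjective
    obtain ⟨f, hf, rfl⟩ := Cocycle.fromSingleMk_surjective z n (by simp) (n + 1) rfl
    have h0 : (φ n).symm f ≫ L.d n (n + 1) = 0 :=
      (φ (n + 1)).injective (by rw [hφ, AddEquiv.apply_symm_apply, hf, map_zero])
    refine ⟨CohomologyClass.mk (Cocycle.fromSingleMk ((φ n).symm f) (by simp) (n + 1) rfl h0),
      congrArg CohomologyClass.mk ?_⟩
    simp only [ev_fromSingleMk, AddEquiv.apply_symm_apply]

/-- Cohomology classes out of a single object only depend on the complex `Hom(F, L)`. -/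
noncomputable def classAddEquiv (n : ℤ) :
    CohomologyClass ((CochainComplex.singleFunctor A 0).obj F) L n ≃+
      CohomologyClass ((CochainComplex.singleFunctor A' 0).obj F') L' n :=
  AddEquiv.ofBijective (classMap φ hφ n) (classMap_bijective φ hφ n)

end Single

end Groth.Agent.H15Site.SpHom
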