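import Groth.Agent.H9Hens.StrictHens
import Groth.Prelude.Def_Hens2
import Mathlib.RingTheory.Unramified.Field
import Mathlib.RingTheory.Flat.FaithfullyFlat.Basic
import Mathlib.AlgebraicGeometry.Stalk

/-!
# Specialization arrows between strict localisations
-/

set_option autoImplicit false
set_option linter.style.haveILetI false
set_option linter.unusedSectionVars false
set_option backward.isDefEq.respectTransparency false
set_option backward.isDefEq.respectTransparency.types false

universe u

open CategoryTheory AlgebraicGeometry IsLocalRing TensorProduct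

namespace Groth.Agent.H15Site.SpecArrows

open H9Hens

section Algebra

variable {A : Type u} [CommRing A] {k : Type u} [CommRing k] [Algebra A k]
  {H : Type u} [CommRing H] [Algebra A H] {π : H →ₐ[A] k} (hH : IsPtColim π)

include hH in
/-- Any map to the quotient of a henselian pair lifts uniquely, not only the ones through the point. -/
theorem existsUnique_lift {C : Type u} [CommRing C] [Algebra A C] {J : Ideal C} [HenselianRing C J]
    (σ : H →ₐ[A] C ⧸ J) : ∃! g : H →ₐ[A] C, (Ideal.Quotient.mkₐ A J).comp g = σ := by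
  choose F hF hFu using fun (S : Type u) [CommRing S] [Algebra A S] [Algebra.Etale A S]
    (φ : S →ₐ[A] H) => existsUnique_algHom_lift_rel (I := J) (σ.comp φ)
  obtain ⟨g, hg⟩ := hH.exists_desc F fun S _ _ _ φ T _ _ _ φT ψ h => hFu S φ _ (by
    show (Ideal.Quotient.mkₐ A J).comp ((F T φT).comp ψ) = _
    rw [← AlgHom.comp_assoc, hF, AlgHom.comp_assoc, h])
  refine ⟨g, AlgHom.ext fun x => ?_, fun g' hg' => AlgHom.ext fun x => ?_⟩
  · obtain ⟨S, _, _, _, φ, s, rfl⟩ := hH.exists_rep x
    rw [← AlgHom.comp_apply, AlgHom.comp_assoc, hg, hF]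
    rfl
  · obtain ⟨S, _, _, _, φ, s, rfl⟩ := hH.exists_rep x
    rw [← AlgHom.comp_apply, ← AlgHom.comp_apply g, hg]
    exact DFunLike.congr_fun (hFu S φ _ (show (Ideal.Quotient.mkₐ A J).comp (g'.comp φ) = _ by
      rw [← AlgHom.comp_assoc, hg'])) s

include hH in
/-- Points with values in a separably closed field exist over every point of the base. -/
theorem nonempty_algHom [Module.FaithfullyFlat A H] {L : Type u} [Field L] [IsSepClosed L]
    [Algebra A L] : Nonempty (H →ₐ[A] L) := by
  haveI : Nontrivial (L ⊗[A] H) :=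
    (Module.FaithfullyFlat.nontrivial_tensorProduct_iff_left (R := A) (M := L) (N := H)).2 inferInstance
  obtain ⟨m, hm⟩ := Ideal.exists_maximal (L ⊗[A] H)
  let q : L ⊗[A] H →ₐ[L] (L ⊗[A] H) ⧸ m := Ideal.Quotient.mkₐ L m
  let qr : H →ₐ[A] (L ⊗[A] H) ⧸ m := (q.restrictScalars A).comp Algebra.TensorProduct.includeRight
  letI : Field ((L ⊗[A] H) ⧸ m) := Ideal.Quotient.field m
  -- the image of each element lies in the base field
  have hmem : ∀ x : H, qr x ∈ (⊥ : Subalgebra L ((L ⊗[A] H) ⧸ m)) := by
    intro x
    obtain ⟨S, _, _, _, φ, s, rfl⟩ := hH.exists_rep x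
    let f : L ⊗[A] S →ₐ[L] (L ⊗[A] H) ⧸ m := q.comp (Algebra.TensorProduct.map (AlgHom.id L L) φ)
    let B := f.range
    have hsurj : Function.Surjective f.rangeRestrict := f.rangeRestrict_surjective
    haveI : Algebra.FormallyUnramified L B := Algebra.FormallyUnramified.of_surjective _ hsurj
    haveI : Algebra.FiniteType L B := Algebra.FiniteType.of_surjective _ hsurj
    haveI : Module.Finite L B := Algebra.FormallyUnramified.finite_of_free L B
    letI : Field B := (isField_of_isIntegral_of_isField' (R := L) (S := B) (Field.toIsField L)).toField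
    haveI : Algebra.IsSeparable L B := Algebra.FormallyUnramified.isSeparable L B
    obtain ⟨a, ha⟩ := IsSepClosed.algebraMap_surjective L B (f.rangeRestrict (1 ⊗ₜ s))
    refine Algebra.mem_bot.2 ⟨a, (congrArg Subtype.val ha).trans ?_⟩
    simp [f, qr, q]
  have hrange : qr.range ≤ (IsScalarTower.toAlgHom A L ((L ⊗[A] H) ⧸ m)).range := by
    rintro _ ⟨x, rfl⟩
    obtain ⟨a, ha⟩ := Algebra.mem_bot.1 (hmem x)
    exact ⟨a, ha⟩
  exact ⟨((AlgEquiv.ofInjective (IsScalarTower.toAlgHom A L ((L ⊗[A] H) ⧸ m))
    (algebraMap L ((L ⊗[A] H) ⧸ m)).injective).symm.toAlgHom).comp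
      ((Subalgebra.inclusion hrange).comp qr.rangeRestrict)⟩

end Algebra

section Schemes

variable {X : Scheme.{u}} {x x' : X}
  {R : Type u} [CommRing R] [IsLocalRing R] [Algebra (X.presheaf.stalk x) R]
  [IsLocalHom (algebraMap (X.presheaf.stalk x) R)]
  {R' : Type u} [CommRing R'] [IsLocalRing R'] [Algebra (X.presheaf.stalk x') R']
  [IsLocalHom (algebraMap (X.presheaf.stalk x') R')]

theorem specOf_closedPoint : (Hens2.specOf X x' R').base (closedPoint R') = x' := by
  rw [Scheme.Hom.comp_apply]
  exact (congrArg (X.fromSpecStalk x').base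
    (IsLocalRing.comap_closedPoint (algebraMap (X.presheaf.stalk x') R'))).trans
      Scheme.fromSpecStalk_closedPoint

theorem specOf_mem_range (p : Spec (CommRingCat.of R)) : (Hens2.specOf X x R).base p ⤳ x := by
  have h : (Hens2.specOf X x R).base p ∈ Set.range (X.fromSpecStalk x).base :=
    ⟨_, (Scheme.Hom.comp_apply _ _ _).symm⟩
  rwa [Scheme.range_fromSpecStalk] at h

theorem specializes_of_arrow (g : Spec (CommRingCat.of R') ⟶ Spec (CommRingCat.of R))
    (hg : g ≫ Hens2.specOf X x R = Hens2.specOf X x' R') : x' ⤳ x := by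
  have h := specOf_mem_range (X := X) (x := x) (g.base (closedPoint R'))
  rwa [← Scheme.Hom.comp_apply, hg, specOf_closedPoint] at h

theorem specializes_of_geomArrow
    (h : Spec (CommRingCat.of (ResidueField R')) ⟶ Spec (CommRingCat.of R))
    (hh : h ≫ Hens2.specOf X x R = Hens2.geomPt X x' R') : x' ⤳ x := by
  have h' := specOf_mem_range (X := X) (x := x) (h.base (closedPoint (ResidueField R')))
  rw [← Scheme.Hom.comp_apply, hh, Scheme.Hom.comp_apply] at h'
  have : (Spec.map (CommRingCat.ofHom (residue R'))).base (closedPoint (ResidueField R')) =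
      closedPoint R' := IsLocalRing.comap_closedPoint (residue R')
  rwa [this, specOf_closedPoint] at h'

/-- Morphisms of schemes over `X` into a strict localisation are algebra maps. -/
theorem comp_specOf_eq_iff (hs : x' ⤳ x) {T : Type u} [CommRing T] (a : X.presheaf.stalk x' →+* T)
    (g : CommRingCat.of R ⟶ CommRingCat.of T) :
    Spec.map g ≫ Hens2.specOf X x R = Spec.map (CommRingCat.ofHom a) ≫ X.fromSpecStalk x' ↔
      g.hom.comp (algebraMap (X.presheaf.stalk x) R) = a.comp (X.presheaf.stalkSpecializes hs).hom := by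
  rw [← Scheme.SpecMap_stalkSpecializes_fromSpecStalk hs, ← Category.assoc, ← Category.assoc,
    ← Spec.map_comp, ← Spec.map_comp, cancel_mono, Spec.map_inj]
  exact CommRingCat.hom_ext_iff

/-- The strict localisation at a point is a colimit of pointed etale algebras over the local ring. -/
theorem exists_lift_and_unique [Hensel.IsStrictHenselization (X.presheaf.stalk x) R]
    [Hensel.IsStrictHenselization (X.presheaf.stalk x') R'] (hs : x' ⤳ x) :
    (∀ σ : R →+* ResidueField R',
      σ.comp (algebraMap (X.presheaf.stalk x) R) =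
        ((residue R').comp (algebraMap (X.presheaf.stalk x') R')).comp (X.presheaf.stalkSpecializes hs).hom →
      ∃! g : R →+* R', g.comp (algebraMap (X.presheaf.stalk x) R) =
        (algebraMap (X.presheaf.stalk x') R').comp (X.presheaf.stalkSpecializes hs).hom ∧
          (residue R').comp g = σ) ∧
    ∃ σ : R →+* ResidueField R', σ.comp (algebraMap (X.presheaf.stalk x) R) =
        ((residue R').comp (algebraMap (X.presheaf.stalk x') R')).comp (X.presheaf.stalkSpecializes hs).hom := by
  haveI : HenselianLocalRing R' := Hensel.IsStrictHenselization.henselian (R := X.presheaf.stalk x')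
  haveI := Hensel.IsStrictHenselization.isSepClosure (R := X.presheaf.stalk x') (S := R')
  haveI : IsSepClosed (ResidueField R') :=
    IsSepClosure.sep_closed (ResidueField (X.presheaf.stalk x'))
  obtain ⟨k, _, _, _, _, _, π, hπ⟩ :=
    exists_isPtColim_of_isStrictHenselization (R := X.presheaf.stalk x) R
  haveI := hπ.flat
  haveI : Module.FaithfullyFlat (X.presheaf.stalk x) R := Module.FaithfullyFlat.of_flat_of_isLocalHom
  letI : Algebra (X.presheaf.stalk x) R' :=
    ((algebraMap (X.presheaf.stalk x') R').comp (X.presheaf.stalkSpecializes hs).hom).toAlgebra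
  letI : Algebra (X.presheaf.stalk x) (ResidueField R') :=
    (((residue R').comp (algebraMap (X.presheaf.stalk x') R')).comp
      (X.presheaf.stalkSpecializes hs).hom).toAlgebra
  refine ⟨fun σ hσ => ?_, ?_⟩
  · let σ' : R →ₐ[X.presheaf.stalk x] R' ⧸ maximalIdeal R' :=
      { σ with commutes' := fun r => RingHom.congr_fun hσ r }
    obtain ⟨g, hg, hgu⟩ := existsUnique_lift hπ σ'
    refine ⟨g.toRingHom, ⟨g.comp_algebraMap, RingHom.ext fun r => DFunLike.congr_fun hg r⟩,
      fun g' hg' => ?_⟩
    let g'' : R →ₐ[X.presheaf.stalk x] R' := { g' with commutes' := fun r => RingHom.congr_fun hg'.1 r }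
    exact congrArg AlgHom.toRingHom
      (hgu g'' (AlgHom.ext fun r => RingHom.congr_fun hg'.2 r))
  · obtain ⟨σ⟩ := nonempty_algHom hπ (L := ResidueField R')
    exact ⟨σ.toRingHom, σ.comp_algebraMap⟩

end Schemes

end Groth.Agent.H15Site.SpecArrows
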