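import Mathlib.Topology.Sheaves.Functors
import Mathlib.CategoryTheory.Adjunction.Opposites
import Mathlib.CategoryTheory.Adjunction.Whiskering
import Mathlib.CategoryTheory.Adjunction.FullyFaithful
import Mathlib.CategoryTheory.NatIso

/-!
# Pushforward of sheaves along an inducing map is fully faithful
-/

set_option autoImplicit false

namespace Groth.Agent.H15Site

open CategoryTheory TopologicalSpace

universe v u w

variable {Z X : TopCat.{w}} (i : Z ⟶ X)

/-- The largest open of `X` with preimage contained in a given open of `Z`. -/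
def largestOpen : Opens Z ⥤ Opens X :=
  Monotone.functor (f := fun V => sSup {U | (Opens.map i).obj U ≤ V})
    (fun _ _ h => sSup_le_sSup fun _ hU => le_trans hU h)

theorem largestOpen_obj (V : Opens Z) :
    (largestOpen i).obj V = sSup {U | (Opens.map i).obj U ≤ V} := rfl

theorem map_largestOpen_le (V : Opens Z) : (Opens.map i).obj ((largestOpen i).obj V) ≤ V := by
  intro z hz
  obtain ⟨U, hU, hzU⟩ := Opens.mem_sSup.1 hz
  exact hU hzU

/-- `Opens.map i ⊣ largestOpen i`. -/
def mapLargestOpenAdjunction : Opens.map i ⊣ largestOpen i :=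
  Adjunction.mkOfHomEquiv
    { homEquiv := fun U V =>
        { toFun := fun h => homOfLE (le_sSup (leOfHom h))
          invFun := fun h => homOfLE (((Opens.map i).map h).le.trans (map_largestOpen_le i V))
          left_inv := fun _ => Subsingleton.elim _ _
          right_inv := fun _ => Subsingleton.elim _ _ } }

theorem map_largestOpen (hi : Topology.IsInducing i) (V : Opens Z) :
    (Opens.map i).obj ((largestOpen i).obj V) = V := by
  refine le_antisymm (map_largestOpen_le i V) ?_
  obtain ⟨U, hU, hUV⟩ := hi.isOpen_iff.1 V.isOpen
  intro z hz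
  refine Opens.mem_sSup.2 ⟨⟨U, hU⟩, ?_, ?_⟩
  · intro y hy
    exact hUV.subset hy
  · exact hUV.symm.subset hz

theorem isIso_mapLargestOpenAdjunction_counit (hi : Topology.IsInducing i) :
    IsIso (mapLargestOpenAdjunction i).counit := by
  have : ∀ V, IsIso ((mapLargestOpenAdjunction i).counit.app V) := fun V =>
    ⟨homOfLE (map_largestOpen i hi V).ge, Subsingleton.elim _ _, Subsingleton.elim _ _⟩
  exact NatIso.isIso_of_isIso_app _

variable (A : Type u) [Category.{v} A]

/-- Pushforward of sheaves along an inducing map is fully faithful. -/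
theorem pushforward_full_faithful (hi : Topology.IsInducing i) :
    (TopCat.Sheaf.pushforward A i).Full ∧ (TopCat.Sheaf.pushforward A i).Faithful := by
  let adj := ((mapLargestOpenAdjunction i).op).whiskerLeft A
  have := isIso_mapLargestOpenAdjunction_counit i hi
  have : ∀ P, IsIso (adj.unit.app P) := by
    intro P
    have : ∀ V, IsIso ((adj.unit.app P).app V) := by
      intro V
      have : IsIso (P.map (((mapLargestOpenAdjunction i).counit.app V.unop).op)) := inferInstance
      simp only [adj, Adjunction.whiskerLeft_unit_app_app]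
      exact this
    exact NatIso.isIso_of_isIso_app _
  have : IsIso adj.unit := NatIso.isIso_of_isIso_app _
  let hf := adj.fullyFaithfulLOfIsIsoUnit
  let hF : (TopCat.Sheaf.pushforward A i).FullyFaithful :=
    Functor.FullyFaithful.ofCompFaithful (G := TopCat.Sheaf.forget A X)
      ((fullyFaithfulSheafToPresheaf (Opens.grothendieckTopology Z) A).comp hf)
  exact ⟨hF.full, hF.faithful⟩

theorem isIso_counit_of_isInducing [(TopCat.Sheaf.pushforward A i).IsRightAdjoint]
    (hi : Topology.IsInducing i) {L : X.Sheaf A ⥤ Z.Sheaf A}
    (adj : L ⊣ TopCat.Sheaf.pushforward A i) (F : Z.Sheaf A) : IsIso (adj.counit.app F) := by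
  obtain ⟨h₁, h₂⟩ := pushforward_full_faithful i A hi
  infer_instance

end Groth.Agent.H15Site
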