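import Groth.Agent.H10Coh.AbInst
import Groth.Prelude.Def_CohTop
import Groth.Agent.H15Site.TopPushforward
import Groth.Agent.S7573
import Mathlib.Topology.Sheaves.Abelian
import Mathlib.Topology.Sheaves.LocallySurjective
import Mathlib.CategoryTheory.Abelian.Injective.Basic
import Mathlib.CategoryTheory.Abelian.RightDerived
import Mathlib.Algebra.Homology.ShortComplex.ExactFunctor

/-!
# Exactness of direct image along a closed embedding, injectives and `f_*`
-/

universe u

open CategoryTheory CategoryTheory.Limits Opposite TopologicalSpace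

namespace Groth.Agent.H15Site.ClosedPushAb

attribute [local instance 10000] Groth.Agent.H10Coh.hasSheafifyAb Groth.Agent.H10Coh.hasWeakSheafifyAb Groth.Agent.H10Coh.hasExtAb Groth.Agent.H10Coh.enoughInjAb

variable {Z X : TopCat.{u}}

theorem push_isRightAdjoint (i : Z ⟶ X) : (CohTop.push i).IsRightAdjoint :=
  (TopCat.Sheaf.pullbackPushforwardAdjunction AddCommGrpCat.{u} i).isRightAdjoint

theorem push_preservesFiniteLimits (i : Z ⟶ X) : PreservesFiniteLimits (CohTop.push i) :=
  have := push_isRightAdjoint i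
  inferInstance

set_option synthInstance.maxHeartbeats 400000 in
theorem pull_preservesFiniteLimits (i : Z ⟶ X) : PreservesFiniteLimits (CohTop.pull i) := by
  have : PreservesFiniteLimits ((Opens.map i).op.lan : (_ ⥤ _ ⥤ AddCommGrpCat.{u})) :=
    lan_preservesFiniteLimits_of_flat _ _
  exact Functor.sheafPullbackConstruction.preservesFiniteLimits (Opens.map i) AddCommGrpCat.{u}
    (Opens.grothendieckTopology X) (Opens.grothendieckTopology Z)

theorem push_injective (f : Z ⟶ X) (I : CohTop.Ab Z) [Injective I] :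
    Injective ((CohTop.push f).obj I) := by
  have := pull_preservesFiniteLimits f
  have : (TopCat.Sheaf.pullback AddCommGrpCat.{u} f).PreservesMonomorphisms :=
    inferInstanceAs ((CohTop.pull f).PreservesMonomorphisms)
  exact @Injective.injective_of_adjoint _ _ _ _ _ _ _ (TopCat.Sheaf.pullbackPushforwardAdjunction AddCommGrpCat.{u} f) I ‹Injective I›

theorem subsingleton_sections_bot (G : CohTop.Ab Z) {W : Opens Z} (hW : W = ⊥) :
    Subsingleton (G.obj.obj (op W)) := by
  subst hW
  exact AddCommGrpCat.subsingleton_of_isZero (IsZero.of_iso (isZero_zero _)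
    ((TopCat.Sheaf.isTerminalOfEmpty (C := AddCommGrpCat.{u}) G).uniqueUpToIso
      (HasZeroObject.zeroIsTerminal)))

theorem push_map_epi (i : Z ⟶ X) (hi : Topology.IsClosedEmbedding i) {F G : CohTop.Ab Z}
    (φ : F ⟶ G) [hE : Epi φ] : Epi ((CohTop.push i).map φ) := by
  refine (TopCat.Sheaf.isLocallySurjective_iff_epi _).1 ?_
  rw [TopCat.Presheaf.isLocallySurjective_iff]
  intro V t y hy
  by_cases hr : y ∈ Set.range i
  · obtain ⟨z, rfl⟩ := hr
    have := (TopCat.Presheaf.isLocallySurjective_iff φ.hom).mp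
      ((TopCat.Sheaf.isLocallySurjective_iff_epi φ).mpr hE)
    obtain ⟨W, hW, ⟨s, hs⟩, hzW⟩ := this ((Opens.map i).obj V) t z hy
    obtain ⟨U, hU, hUW⟩ := hi.isInducing.isOpen_iff.1 W.isOpen
    let V' : Opens X := V ⊓ ⟨U, hU⟩
    have hV' : (Opens.map i).obj V' ≤ W := fun a ha => hUW.subset ha.2
    refine ⟨V', inf_le_left, ⟨F.obj.map (homOfLE hV').op s, ?_⟩, hy, hUW.symm.subset hzW⟩
    refine (ConcreteCategory.congr_hom (φ.hom.naturality (homOfLE hV').op) s).trans ?_
    refine (congrArg (G.obj.map (homOfLE hV').op) hs).trans ?_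
    refine (ConcreteCategory.congr_hom (G.obj.map_comp _ _) t).symm.trans ?_
    rfl
  · let V' : Opens X := V ⊓ ⟨(Set.range i)ᶜ, hi.isClosed_range.isOpen_compl⟩
    have hb : (Opens.map i).obj V' = ⊥ :=
      le_bot_iff.1 fun z hz => absurd ⟨z, rfl⟩ hz.2
    have := subsingleton_sections_bot G hb
    exact ⟨V', inf_le_left, ⟨0, Subsingleton.elim (α := G.obj.obj (op ((Opens.map i).obj V'))) _ _⟩, hy, hr⟩

theorem push_preservesFiniteColimits (i : Z ⟶ X) (hi : Topology.IsClosedEmbedding i) :
    PreservesFiniteColimits (CohTop.push i) := by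
  have := push_preservesFiniteLimits i
  have h : PreservesFiniteLimits (CohTop.push i) ∧ PreservesFiniteColimits (CohTop.push i) :=
    ((CohTop.push i).exact_tfae.out 0 3).mp (fun S hS => ?_)
  exact h.2
  have := hS.mono_f
  have := hS.epi_g
  have : Mono (S.map (CohTop.push i)).f := inferInstanceAs (Mono ((CohTop.push i).map S.f))
  have : Epi (S.map (CohTop.push i)).g := push_map_epi i hi S.g
  exact { exact := ShortComplex.exact_of_f_is_kernel _ (KernelFork.mapIsLimit _ hS.fIsKernel (CohTop.push i)) }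

theorem isZero_rightDerived {C D : Type*} [Category C] [Category D] [Abelian C] [Abelian D]
    [HasInjectiveResolutions C] (F : C ⥤ D) [F.Additive] [PreservesFiniteLimits F]
    [PreservesFiniteColimits F] (A : C) (m : ℕ) : IsZero ((F.rightDerived (m + 1)).obj A) := by
  let I := injectiveResolution A
  refine IsZero.of_iso ?_ (I.isoRightDerivedObj F (m + 1))
  refine (HomologicalComplex.exactAt_iff_isZero_homology _ _).1 ?_
  have h := I.cocomplex_exactAt_succ m
  rw [HomologicalComplex.exactAt_iff] at h ⊢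
  exact h.map F

/-- The underlying sheaf of sets. -/
noncomputable def underlying (F : CohTop.Ab X) : X.Sheaf (Type u) :=
  (sheafCompose (Opens.grothendieckTopology X) (CategoryTheory.forget AddCommGrpCat.{u})).obj F

noncomputable def stalkUnderlying (F : CohTop.Ab X) (x : X) :
    (CategoryTheory.forget AddCommGrpCat.{u}).obj (CohTop.stalk F x) ≅ (underlying F).presheaf.stalk x :=
  preservesColimitIso (CategoryTheory.forget AddCommGrpCat.{u}) _

theorem isZero_stalk_iff (F : CohTop.Ab X) (x : X) :
    IsZero (CohTop.stalk F x) ↔ Nonempty (Unique ((underlying F).presheaf.stalk x)) := by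
  let e : (CohTop.stalk F x : Type u) ≃ (underlying F).presheaf.stalk x := (stalkUnderlying F x).toEquiv
  constructor
  · intro h
    have := AddCommGrpCat.subsingleton_of_isZero h
    exact ⟨@Equiv.unique _ _ (uniqueOfSubsingleton (0 : CohTop.stalk F x)) e.symm⟩
  · rintro ⟨h⟩
    have : Subsingleton (CohTop.stalk F x : Type u) := e.subsingleton
    exact AddCommGrpCat.isZero_of_subsingleton _

theorem essImage_push_iff (i : Z ⟶ X) (hi : Topology.IsClosedEmbedding i) (F : CohTop.Ab X) :
    (CohTop.push i).essImage F ↔ ∀ x : X, x ∉ Set.range i → IsZero (CohTop.stalk F x) := by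
  constructor
  · rintro ⟨G, ⟨e⟩⟩ x hx
    refine (isZero_stalk_iff F x).2 (((Groth.Agent.S7573.result i hi).2.2 (underlying F)).1
      ⟨(sheafCompose _ (CategoryTheory.forget AddCommGrpCat.{u})).obj G, ⟨?_⟩⟩ x hx)
    exact (sheafCompose _ (CategoryTheory.forget AddCommGrpCat.{u})).mapIso e
  · intro h
    obtain ⟨G', ⟨e⟩⟩ := ((Groth.Agent.S7573.result i hi).2.2 (underlying F)).2
      (fun x hx => (isZero_stalk_iff F x).1 (h x hx))
    let P := F.obj ⋙ CategoryTheory.forget AddCommGrpCat.{u}
    let e' : (Opens.map i).op ⋙ G'.obj ≅ P := (sheafToPresheaf _ _).mapIso e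
    have hmR := map_largestOpen i hi.isInducing
    let R := largestOpen i
    have hiso : ∀ {U U' : Opens X} (k : U ⟶ U'), (Opens.map i).obj U = (Opens.map i).obj U' →
        IsIso (F.obj.map k.op) := by
      intro U U' k hk
      have h1 : IsIso ((Opens.map i).map k) :=
        ⟨eqToHom hk.symm, Subsingleton.elim _ _, Subsingleton.elim _ _⟩
      have h2 : IsIso (((Opens.map i).op ⋙ G'.obj).map k.op) :=
        inferInstanceAs (IsIso (G'.obj.map ((Opens.map i).map k).op))
      have h3 : IsIso (P.map k.op) := (NatIso.isIso_map_iff e' k.op).1 h2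
      exact @isIso_of_reflects_iso _ _ _ _ _ _ (F.obj.map k.op) (CategoryTheory.forget AddCommGrpCat.{u}) h3 _
    let c : R ⋙ Opens.map i ≅ 𝟭 _ :=
      @asIso _ _ _ _ (mapLargestOpenAdjunction i).counit (isIso_mapLargestOpenAdjunction_counit i hi.isInducing)
    have hS : TopCat.Presheaf.IsSheaf (R.op ⋙ F.obj) := by
      rw [TopCat.Presheaf.isSheaf_iff_isSheaf_comp (CategoryTheory.forget AddCommGrpCat.{u})]
      exact (Presheaf.isSheaf_of_iso_iff
        (show G'.obj ≅ (R.op ⋙ F.obj) ⋙ CategoryTheory.forget AddCommGrpCat.{u} from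
          ((Functor.isoWhiskerRight (NatIso.op c) G'.obj :
            (𝟭 (Opens Z)).op ⋙ G'.obj ≅ (R ⋙ Opens.map i).op ⋙ G'.obj) :
              G'.obj ≅ R.op ⋙ (Opens.map i).op ⋙ G'.obj) ≪≫ Functor.isoWhiskerLeft R.op e')).1 G'.property
    let α : (Opens.map i).op ⋙ R.op ⋙ F.obj ⟶ F.obj :=
      { app := fun U => F.obj.map ((mapLargestOpenAdjunction i).unit.app U.unop).op
        naturality := fun U U' k => by
          simp only [Functor.comp_map, ← Functor.map_comp]
          congr 1 }
    have : ∀ U, IsIso (α.app U) := fun U => hiso _ (hmR _).symm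
    refine ⟨⟨R.op ⋙ F.obj, hS⟩, ⟨?_⟩⟩
    exact (fullyFaithfulSheafToPresheaf _ _).preimageIso
      (NatIso.ofComponents (fun U => @asIso _ _ _ _ (α.app U) (this U)) (fun k => α.naturality k))

theorem push_comp_pull_iso (i : Z ⟶ X) (hi : Topology.IsClosedEmbedding i) :
    Nonempty (CohTop.push i ⋙ CohTop.pull i ≅ 𝟭 (CohTop.Ab Z)) := by
  have := push_isRightAdjoint i
  have : ∀ F, IsIso ((TopCat.Sheaf.pullbackPushforwardAdjunction AddCommGrpCat.{u} i).counit.app F) :=
    fun F => isIso_counit_of_isInducing i _ hi.isInducing _ F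
  have : IsIso (TopCat.Sheaf.pullbackPushforwardAdjunction AddCommGrpCat.{u} i).counit :=
    @NatIso.isIso_of_isIso_app _ _ _ _ _ _ _ this
  exact ⟨@asIso _ _ _ _ (TopCat.Sheaf.pullbackPushforwardAdjunction AddCommGrpCat.{u} i).counit ‹_›⟩

end Groth.Agent.H15Site.ClosedPushAb
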