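import Groth.Prelude.Def_CohSite
import Mathlib.CategoryTheory.Abelian.GrothendieckCategory.EnoughInjectives
import Mathlib.CategoryTheory.Abelian.GrothendieckCategory.HasExt
import Mathlib.CategoryTheory.Abelian.GrothendieckAxioms.Sheaf
import Mathlib.Algebra.Category.Grp.AB

/-!
Named proofs of the instances on abelian sheaves on a small site, to keep terms small.
Use: `attribute [local instance 10000] hasSheafifySite hasWeakSheafifySite hasExtSite enoughInjSite`.
-/

universe u

open CategoryTheory

namespace Groth.Agent.H15Site.SiteInst

variable {C : Type u} [SmallCategory C] (J : GrothendieckTopology C)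

theorem hasSheafifySite : HasSheafify J AddCommGrpCat.{u} := inferInstance

theorem hasWeakSheafifySite : HasWeakSheafify J AddCommGrpCat.{u} := inferInstance

attribute [local instance 10000] hasSheafifySite hasWeakSheafifySite

theorem hasExtSite : HasExt.{u} (Sheaf J AddCommGrpCat.{u}) := inferInstance

theorem enoughInjSite : EnoughInjectives (Sheaf J AddCommGrpCat.{u}) := inferInstance

end Groth.Agent.H15Site.SiteInst
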