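import Groth.Prelude.Def_ModSite
import Groth.Agent.H15Site.SiteInst

/-!
Sheaves of modules on a ringed site: the sectionwise tensor product of presheaves of modules
is compatible with sheafification (tensoring preserves local isomorphisms).
-/

universe u
open CategoryTheory CategoryTheory.Limits MonoidalCategory Opposite

namespace Groth.Agent.H15Site.ModTensor

attribute [local instance 10000] SiteInst.hasSheafifySite SiteInst.hasWeakSheafifySite

variable {C : Type u} [SmallCategory C] {J : GrothendieckTopology C} (O : Sheaf J CommRingCat.{u})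

/-- Presheaves of `O`-modules. -/
abbrev PMod := PresheafOfModules.{u} (O.obj ⋙ forget₂ CommRingCat.{u} RingCat.{u})

/-- Sheafification. -/
noncomputable abbrev aSh : PMod O ⥤ ModSite.Mod O := ModSite.sheafify O

/-- The inclusion. -/
noncomputable abbrev forg : ModSite.Mod O ⥤ PMod O := SheafOfModules.forget (ModSite.ringSh O)

/-- Sheafification is left adjoint to the inclusion. -/
noncomputable def adj : aSh O ⊣ forg O :=
  PresheafOfModules.sheafificationAdjunction (𝟙 (ModSite.ringSh O).obj)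

variable {O}

/-- Restriction of sections. -/
noncomputable def rs (M : PMod O) {X Y : Cᵒᵖ} (f : X ⟶ Y) (m : M.obj X) : M.obj Y := M.map f m

lemma rs_rs (M : PMod O) {X Y Z : Cᵒᵖ} (f : X ⟶ Y) (g : Y ⟶ Z) (m : M.obj X) :
    rs M g (rs M f m) = rs M (f ≫ g) m :=
  (PresheafOfModules.map_comp_apply M f g m).symm

lemma rs_id (M : PMod O) {X : Cᵒᵖ} (m : M.obj X) : rs M (𝟙 X) m = m :=
  ConcreteCategory.congr_hom (M.presheaf.map_id X) m

lemma rs_app {M N : PMod O} (u : M ⟶ N) {X Y : Cᵒᵖ} (f : X ⟶ Y) (m : M.obj X) :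
    (u.app Y).hom (rs M f m) = rs N f ((u.app X).hom m) :=
  PresheafOfModules.naturality_apply u f m

lemma rs_add (M : PMod O) {X Y : Cᵒᵖ} (f : X ⟶ Y) (m m' : M.obj X) :
    rs M f (m + m') = rs M f m + rs M f m' :=
  map_add (M.presheaf.map f).hom m m'

lemma rs_smul (M : PMod O) {X Y : Cᵒᵖ} (f : X ⟶ Y)
    (r : (O.obj ⋙ forget₂ CommRingCat.{u} RingCat.{u}).obj X) (m : M.obj X) :
    rs M f (r • m) = ((O.obj ⋙ forget₂ CommRingCat.{u} RingCat.{u}).map f).hom r • rs M f m :=
  PresheafOfModules.map_smul M f r m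

/-- A presheaf of modules which is separated. -/
def Separated (G : PMod O) : Prop :=
  ∀ ⦃X : Cᵒᵖ⦄ (S : Sieve X.unop), S ∈ J X.unop → ∀ x y : G.obj X,
    (∀ (Z : C) (f : Z ⟶ X.unop), S f → rs G f.op x = rs G f.op y) → x = y

lemma separated_forg (F : ModSite.Mod O) : Separated ((forg O).obj F) :=
  fun X S hS x y h => (ModSite.toAb F).isSeparated X.unop S hS x y (fun Z f hf => h Z f hf)

section

variable {M M' N : PMod O} {G : PMod O} (b : M ⊗ N ⟶ G)

/-- The pairing of sections given by a morphism out of a tensor product. -/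
noncomputable def bb {X : Cᵒᵖ} (m : M.obj X) (n : N.obj X) : G.obj X :=
  (b.app X).hom (m ⊗ₜ[O.obj.obj X] n)

lemma rs_bb {X Y : Cᵒᵖ} (f : X ⟶ Y) (m : M.obj X) (n : N.obj X) :
    rs G f (bb b m n) = bb b (rs M f m) (rs N f n) :=
  (PresheafOfModules.naturality_apply b f (m ⊗ₜ[O.obj.obj X] n)).symm

lemma bb_add_left {X : Cᵒᵖ} (m m' : M.obj X) (n : N.obj X) :
    bb b (m + m') n = bb b m n + bb b m' n := by
  show (b.app X).hom _ = _
  rw [TensorProduct.add_tmul]
  exact map_add _ _ _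

lemma bb_add_right {X : Cᵒᵖ} (m : M.obj X) (n n' : N.obj X) :
    bb b m (n + n') = bb b m n + bb b m n' := by
  show (b.app X).hom _ = _
  rw [TensorProduct.tmul_add]
  exact map_add _ _ _

lemma bb_smul_left {X : Cᵒᵖ} (r : (O.obj ⋙ forget₂ CommRingCat.{u} RingCat.{u}).obj X)
    (m : M.obj X) (n : N.obj X) : bb b (r • m) n = r • bb b m n :=
  (b.app X).hom.map_smul r (m ⊗ₜ n)

lemma bb_smul_right {X : Cᵒᵖ} (r : (O.obj ⋙ forget₂ CommRingCat.{u} RingCat.{u}).obj X)
    (m : M.obj X) (n : N.obj X) : bb b m (r • n) = r • bb b m n :=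
  (congrArg (b.app X).hom
      (TensorProduct.tmul_smul (R := O.obj.obj X) (R' := O.obj.obj X) (M := M.obj X) (N := N.obj X)
        r m n)).trans
    ((b.app X).hom.map_smul r (m ⊗ₜ n))

end

section

variable {M M' N G : PMod O} (u : M ⟶ M')
  [hi : Presheaf.IsLocallyInjective J ((PresheafOfModules.toPresheaf _).map u)]
  [hs : Presheaf.IsLocallySurjective J ((PresheafOfModules.toPresheaf _).map u)]
  (hG : Separated G) (b : M ⊗ N ⟶ G)

/-- The sieve where a section lifts along `u`. -/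
noncomputable abbrev liftSieve {X : Cᵒᵖ} (s : M'.obj X) : Sieve X.unop :=
  Presheaf.imageSieve ((PresheafOfModules.toPresheaf _).map u) (U := X.unop)
    (show ((PresheafOfModules.toPresheaf _).obj M').obj X from s)

omit hi in
lemma liftSieve_mem {X : Cᵒᵖ} (s : M'.obj X) : liftSieve u s ∈ J X.unop :=
  Presheaf.imageSieve_mem J _ (U := X) _

omit hi hs in
lemma exists_lift {X : Cᵒᵖ} {s : M'.obj X} {Z : C} {f : Z ⟶ X.unop} (hf : liftSieve u s f) :
    ∃ m : M.obj (op Z), (u.app (op Z)).hom m = rs M' f.op s := hf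

include hG in
omit hs in
lemma bb_congr {X : Cᵒᵖ} {m m' : M.obj X} (h : (u.app X).hom m = (u.app X).hom m') (n : N.obj X) :
    bb b m n = bb b m' n := by
  refine hG _ (Presheaf.equalizerSieve_mem J ((PresheafOfModules.toPresheaf _).map u) (X := X)
    m m' h) _ _ fun Z f hf => ?_
  rw [rs_bb, rs_bb]
  exact congrArg (fun t => bb b t (rs N f.op n)) hf

/-- The property characterising the extended pairing. -/
def IsExt {X : Cᵒᵖ} (s : M'.obj X) (n : N.obj X) (x : G.obj X) : Prop :=
  ∀ (Z : C) (f : Z ⟶ X.unop) (m : M.obj (op Z)),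
    (u.app (op Z)).hom m = rs M' f.op s → rs G f.op x = bb b m (rs N f.op n)

include hG in
omit hs hi in
lemma eq_of_isExt {X : Cᵒᵖ} {s : M'.obj X} {n : N.obj X} {x y : G.obj X}
    (hx : IsExt u b s n x) (S : Sieve X.unop) (hS : S ∈ J X.unop)
    (hy : ∀ (Z : C) (f : Z ⟶ X.unop), S f → ∃ m : M.obj (op Z),
      (u.app (op Z)).hom m = rs M' f.op s ∧ rs G f.op y = bb b m (rs N f.op n)) : y = x := by
  refine hG S hS _ _ fun Z f hf => ?_
  obtain ⟨m, hm, h⟩ := hy Z f hf
  rw [h, hx Z f m hm]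

end

lemma exists_isExt {M M' N : PMod O} (u : M ⟶ M')
    [Presheaf.IsLocallyInjective J ((PresheafOfModules.toPresheaf _).map u)]
    [Presheaf.IsLocallySurjective J ((PresheafOfModules.toPresheaf _).map u)]
    {F : ModSite.Mod O} (b : M ⊗ N ⟶ (forg O).obj F) {X : Cᵒᵖ} (s : M'.obj X) (n : N.obj X) :
    ∃ x, IsExt u b s n x := by
  let S := liftSieve u s
  have hS : S ∈ J X.unop := liftSieve_mem u s
  choose m hm using fun (Z : C) (f : Z ⟶ X.unop) (hf : S f) => exists_lift u hf
  let fam : Presieve.FamilyOfElements ((ModSite.toAb F).obj ⋙ forget _) S.arrows :=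
    fun Z f hf => bb b (m Z f hf) (rs N f.op n)
  have hfam : fam.Compatible := by
    intro Y₁ Y₂ Z g₁ g₂ f₁ f₂ h₁ h₂ fac
    show rs ((forg O).obj F) g₁.op (bb b (m Y₁ f₁ h₁) (rs N f₁.op n)) =
      rs ((forg O).obj F) g₂.op (bb b (m Y₂ f₂ h₂) (rs N f₂.op n))
    have e : f₁.op ≫ g₁.op = f₂.op ≫ g₂.op := by rw [← op_comp, ← op_comp, fac]
    rw [rs_bb, rs_bb, rs_rs, rs_rs, ← e]
    refine bb_congr u (separated_forg F) b ?_ _
    rw [rs_app, rs_app, hm, hm, rs_rs, rs_rs, e]
  have hsheaf : Presieve.IsSheafFor ((ModSite.toAb F).obj ⋙ forget _) S.arrows := ((isSheaf_iff_isSheaf_of_type _ _).1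
    ((sheafCompose J (forget AddCommGrpCat.{u})).obj (ModSite.toAb F)).property) S hS
  refine ⟨hsheaf.amalgamate fam hfam, fun Z f m' hm' => ?_⟩
  refine separated_forg F (S.pullback f) (J.pullback_stable f hS) _ _ fun W g hg0 => ?_
  have hg : S (g ≫ f) := hg0
  refine (rs_rs _ _ _ _).trans ((hsheaf.valid_glue hfam (g ≫ f) hg).trans
    (Eq.trans ?_ (rs_bb b g.op _ _).symm))
  rw [rs_rs, ← op_comp]
  refine bb_congr u (separated_forg F) b ?_ _
  rw [hm, rs_app, hm', rs_rs, ← op_comp]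

section

variable {M M' N : PMod O} (u : M ⟶ M')
  [Presheaf.IsLocallyInjective J ((PresheafOfModules.toPresheaf _).map u)]
  [Presheaf.IsLocallySurjective J ((PresheafOfModules.toPresheaf _).map u)]
  {F : ModSite.Mod O} (b : M ⊗ N ⟶ (forg O).obj F)

/-- The extended pairing. -/
noncomputable def ext {X : Cᵒᵖ} (s : M'.obj X) (n : N.obj X) : ((forg O).obj F).obj X :=
  (exists_isExt u b s n).choose

lemma isExt_ext {X : Cᵒᵖ} (s : M'.obj X) (n : N.obj X) : IsExt u b s n (ext u b s n) :=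
  (exists_isExt u b s n).choose_spec

lemma ext_unique {X : Cᵒᵖ} {s : M'.obj X} {n : N.obj X} {x : ((forg O).obj F).obj X}
    (S : Sieve X.unop) (hS : S ∈ J X.unop)
    (h : ∀ (Z : C) (f : Z ⟶ X.unop), S f → ∃ m : M.obj (op Z),
      (u.app (op Z)).hom m = rs M' f.op s ∧ rs _ f.op x = bb b m (rs N f.op n)) :
    x = ext u b s n :=
  eq_of_isExt u (separated_forg F) b (isExt_ext u b s n) S hS h

lemma ext_add_left {X : Cᵒᵖ} (s s' : M'.obj X) (n : N.obj X) :
    ext u b (s + s') n = ext u b s n + ext u b s' n := by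
  refine (ext_unique u b _ (J.intersection_covering (liftSieve_mem u s) (liftSieve_mem u s')) ?_).symm
  rintro Z f ⟨h, h'⟩
  obtain ⟨m, hm⟩ := exists_lift u h
  obtain ⟨m', hm'⟩ := exists_lift u h'
  exact ⟨m + m', by rw [map_add, hm, hm', rs_add],
    by rw [rs_add, isExt_ext u b s n Z f m hm, isExt_ext u b s' n Z f m' hm', bb_add_left]⟩

lemma ext_add_right {X : Cᵒᵖ} (s : M'.obj X) (n n' : N.obj X) :
    ext u b s (n + n') = ext u b s n + ext u b s n' := by
  refine (ext_unique u b _ (liftSieve_mem u s) ?_).symm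
  intro Z f h
  obtain ⟨m, hm⟩ := exists_lift u h
  exact ⟨m, hm, by
    rw [rs_add, rs_add, isExt_ext u b s n Z f m hm, isExt_ext u b s n' Z f m hm, bb_add_right]⟩

lemma ext_smul_left {X : Cᵒᵖ} (r : (O.obj ⋙ forget₂ CommRingCat.{u} RingCat.{u}).obj X)
    (s : M'.obj X) (n : N.obj X) : ext u b (r • s) n = r • ext u b s n := by
  refine (ext_unique u b _ (liftSieve_mem u s) ?_).symm
  intro Z f h
  obtain ⟨m, hm⟩ := exists_lift u h
  exact ⟨((O.obj ⋙ forget₂ CommRingCat.{u} RingCat.{u}).map f.op).hom r • m,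
    by rw [map_smul, hm, rs_smul],
    by rw [rs_smul, isExt_ext u b s n Z f m hm, bb_smul_left]⟩

lemma ext_smul_right {X : Cᵒᵖ} (r : (O.obj ⋙ forget₂ CommRingCat.{u} RingCat.{u}).obj X)
    (s : M'.obj X) (n : N.obj X) : ext u b s (r • n) = r • ext u b s n := by
  refine (ext_unique u b _ (liftSieve_mem u s) ?_).symm
  intro Z f h
  obtain ⟨m, hm⟩ := exists_lift u h
  exact ⟨m, hm, by rw [rs_smul, rs_smul, isExt_ext u b s n Z f m hm, bb_smul_right]⟩

lemma rs_ext {X Y : Cᵒᵖ} (f : X ⟶ Y) (s : M'.obj X) (n : N.obj X) :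
    rs _ f (ext u b s n) = ext u b (rs M' f s) (rs N f n) := by
  refine ext_unique u b _ (liftSieve_mem u (rs M' f s)) ?_
  intro Z g h
  obtain ⟨m, hm⟩ := exists_lift u h
  refine ⟨m, hm, ?_⟩
  rw [rs_rs, rs_rs]
  rw [rs_rs] at hm
  exact isExt_ext u b s n Z (g ≫ f.unop) m hm

/-- The extension of `b` to `M' ⊗ N`. -/
noncomputable def extHom : M' ⊗ N ⟶ (forg O).obj F where
  app X := ModuleCat.MonoidalCategory.tensorLift (R := O.obj.obj X) (fun s n => ext u b s n)
    (fun s s' n => ext_add_left u b s s' n) (fun r s n => ext_smul_left u b r s n)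
    (fun s n n' => ext_add_right u b s n n') (fun r s n => ext_smul_right u b r s n)
  naturality {X Y} f := ModuleCat.MonoidalCategory.tensor_ext fun s n => (rs_ext u b f s n).symm

lemma whiskerRight_extHom : (u ▷ N) ≫ extHom u b = b := by
  refine PresheafOfModules.hom_ext fun X => ModuleCat.MonoidalCategory.tensor_ext fun m n => ?_
  show ext u b ((u.app X).hom m) n = bb b m n
  refine (ext_unique u b ⊤ (J.top_mem _) fun Z f _ => ?_).symm
  exact ⟨rs M f.op m, rs_app u f.op m, rs_bb b f.op m n⟩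

lemma whiskerRight_cancel {g g' : M' ⊗ N ⟶ (forg O).obj F} (h : (u ▷ N) ≫ g = (u ▷ N) ≫ g') :
    g = g' := by
  refine PresheafOfModules.hom_ext fun X => ModuleCat.MonoidalCategory.tensor_ext fun s n => ?_
  refine separated_forg F _ (liftSieve_mem u s) (bb g s n) (bb g' s n) fun Z f hf => ?_
  obtain ⟨m, hm⟩ := exists_lift u hf
  rw [rs_bb, rs_bb, ← hm]
  exact congr($(h).app (op Z) (m ⊗ₜ[O.obj.obj (op Z)] rs N f.op n))

end

lemma bijective_whiskerRight_comp {M M' : PMod O} (u : M ⟶ M') (N : PMod O)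
    [Presheaf.IsLocallyInjective J ((PresheafOfModules.toPresheaf _).map u)]
    [Presheaf.IsLocallySurjective J ((PresheafOfModules.toPresheaf _).map u)] (F : ModSite.Mod O) :
    Function.Bijective fun g : M' ⊗ N ⟶ (forg O).obj F => (u ▷ N) ≫ g :=
  ⟨fun _ _ h => whiskerRight_cancel u h, fun b => ⟨extHom u b, whiskerRight_extHom u b⟩⟩

lemma isIso_aSh_map_iff {P Q : PMod O} (φ : P ⟶ Q) :
    IsIso ((aSh O).map φ) ↔
      (Presheaf.IsLocallyInjective J ((PresheafOfModules.toPresheaf _).map φ) ∧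
        Presheaf.IsLocallySurjective J ((PresheafOfModules.toPresheaf _).map φ)) := by
  rw [← isIso_iff_of_reflects_iso _ (SheafOfModules.toSheaf.{u} (ModSite.ringSh O))]
  rw [← GrothendieckTopology.W_iff_isLocallyBijective, GrothendieckTopology.W_iff]
  exact Iff.rfl

lemma isIso_aSh_map_of_bijective {P Q : PMod O} (φ : P ⟶ Q)
    (h : ∀ F : ModSite.Mod O, Function.Bijective fun g : Q ⟶ (forg O).obj F => φ ≫ g) :
    IsIso ((aSh O).map φ) := by
  have hb : ∀ F : ModSite.Mod O,
      Function.Bijective fun g : (aSh O).obj Q ⟶ F => (aSh O).map φ ≫ g := fun F => by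
    have : (fun g : (aSh O).obj Q ⟶ F => (aSh O).map φ ≫ g) =
        ((adj O).homEquiv P F).symm ∘ (fun g => φ ≫ g) ∘ ((adj O).homEquiv Q F) := by
      funext g
      simp [Adjunction.homEquiv_naturality_left_symm]
    rw [this]
    exact (Equiv.bijective _).comp ((h F).comp (Equiv.bijective _))
  obtain ⟨r, hr⟩ := (hb _).2 (𝟙 _)
  exact ⟨r, hr, (hb _).1 ((Category.assoc _ _ _).symm.trans
    ((hr ▸ Category.id_comp _).trans (Category.comp_id _).symm))⟩

/-- Tensoring preserves morphisms which become isomorphisms after sheafification. -/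
theorem isIso_aSh_map_whiskerRight {M M' : PMod O} (u : M ⟶ M') [hu : IsIso ((aSh O).map u)]
    (N : PMod O) : IsIso ((aSh O).map (u ▷ N)) := by
  obtain ⟨_, _⟩ := (isIso_aSh_map_iff u).1 hu
  exact isIso_aSh_map_of_bijective _ (bijective_whiskerRight_comp u N)

theorem isIso_aSh_map_whiskerLeft {M M' : PMod O} (u : M ⟶ M') [IsIso ((aSh O).map u)]
    (N : PMod O) : IsIso ((aSh O).map (N ◁ u)) := by
  have := isIso_aSh_map_whiskerRight u N
  have e : N ◁ u = (β_ N M).hom ≫ u ▷ N ≫ (β_ N M').inv := by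
    rw [← BraidedCategory.braiding_naturality_right_assoc, Iso.hom_inv_id, Category.comp_id]
  rw [e, Functor.map_comp, Functor.map_comp]
  infer_instance

theorem isIso_aSh_map_tensorHom {M M' N N' : PMod O} (u : M ⟶ M') (v : N ⟶ N')
    [IsIso ((aSh O).map u)] [IsIso ((aSh O).map v)] : IsIso ((aSh O).map (u ⊗ₘ v)) := by
  have := isIso_aSh_map_whiskerRight u N
  have := isIso_aSh_map_whiskerLeft v M'
  rw [MonoidalCategory.tensorHom_def, Functor.map_comp]
  infer_instance

instance isIso_aSh_map_unit (M : PMod O) : IsIso ((aSh O).map ((adj O).unit.app M)) := by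
  have : (forg O).Full := (SheafOfModules.fullyFaithfulForget (ModSite.ringSh O)).full
  have : (forg O).Faithful := (SheafOfModules.fullyFaithfulForget (ModSite.ringSh O)).faithful
  have : IsIso (adj O).counit := Adjunction.counit_isIso_of_R_fully_faithful _
  exact IsIso.of_isIso_fac_right ((adj O).left_triangle_components M)

end Groth.Agent.H15Site.ModTensor
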