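import Groth.Agent.H15Site.ModInjAcyclic
import Groth.Agent.H15Site.ModFlat
import Mathlib.LinearAlgebra.TensorProduct.Tower
import Mathlib.RingTheory.TensorProduct.Basic

/-!
# Hom into an injective module is totally acyclic
-/

set_option linter.style.haveILetI false

universe u

open CategoryTheory CategoryTheory.Limits Opposite CategoryTheory.Abelian MonoidalCategory TensorProduct

namespace Groth.Agent.H15Site.HomInjAcyclic

attribute [local instance 10000] SiteInst.hasSheafifySite SiteInst.hasWeakSheafifySite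
  SiteInst.hasExtSite SiteInst.enoughInjSite

open TorsionFree ModTensor ModInjAcyclic

/-- Base change does not destroy purity. -/
theorem rTensor_baseChange_injective {A : Type u} [CommRing A] {N₁ N₂ : Type u} [AddCommGroup N₁]
    [AddCommGroup N₂] (g : N₁ →ₗ[ℤ] N₂) (M : Type u) [AddCommGroup M] [Module A M]
    (h : Function.Injective (g.lTensor M)) :
    Function.Injective ((g.baseChange A).rTensor M) := by
  let e : ∀ (N : Type u) [AddCommGroup N], (A ⊗[ℤ] N) ⊗[A] M ≃ₗ[A] M ⊗[ℤ] N := fun N _ =>
    (TensorProduct.comm A (A ⊗[ℤ] N) M).trans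
      (TensorProduct.AlgebraTensorModule.cancelBaseChange ℤ A A M N)
  have key : ∀ z, e N₂ ((g.baseChange A).rTensor M z) = g.lTensor M (e N₁ z) := by
    intro z
    induction z using TensorProduct.induction_on with
    | zero => simp
    | add x y hx hy => simp only [map_add, hx, hy]
    | tmul t m =>
      induction t using TensorProduct.induction_on with
      | zero => simp
      | add x y hx hy => simp only [TensorProduct.add_tmul, map_add, hx, hy]
      | tmul a n => simp [e]
  intro x y hxy
  refine (e N₁).injective (h ?_)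
  rw [← key, ← key, hxy]

variable {C : Type u} [SmallCategory C] {J : GrothendieckTopology C}
  {O : Sheaf J CommRingCat.{u}}

variable (O) in
/-- `U ↦ O(U) ⊗_ℤ P(U)`. -/
noncomputable abbrev tensP (P : Cᵒᵖ ⥤ AddCommGrpCat.{u}) : PMod O := tens (ModSite.ringSh O) P

/-- Functoriality. -/
noncomputable abbrev tensPMap {P Q : Cᵒᵖ ⥤ AddCommGrpCat.{u}} (φ : P ⟶ Q) :
    @Quiver.Hom (PMod O) _ (tensP O P) (tensP O Q) := tensMap (ModSite.ringSh O) φ

theorem mono_tensMap_whiskerRight {S : ShortComplex (Sheaf J AddCommGrpCat.{u})}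
    (hS : S.ShortExact) (h : TF S.X₃) (N : PMod O) :
    Mono (tensPMap (O := O) S.f.hom ▷ N) := by
  refine PresheafOfModules.mono_of_injective fun X => ?_
  exact rTensor_baseChange_injective (A := O.obj.obj X) (S.f.hom.app X).hom.toIntLinearMap
    (N.obj X) (PureInt.lTensor_injective _ (S.f.hom.app X).hom.toIntLinearMap
      (Edge.exact_sections hS X).1 fun n e hn he => saturated_of_shortExact hS h X n e hn he)

theorem exists_extension_hom (F G : ModSite.Mod O) [ModSite.HasSheafHom F] [Injective G]
    {S : ShortComplex (Sheaf J AddCommGrpCat.{u})} (hS : S.ShortExact) (h : TF S.X₃)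
    (φ : S.X₁ ⟶ ModSite.toAb ((ModSite.sheafHom F).obj G)) :
    ∃ z, S.f ≫ z = φ := by
  let H := (ModSite.sheafHom F).obj G
  let f : @Quiver.Hom (PMod O) _ (tensP O S.X₁.obj) (tensP O S.X₂.obj) := tensPMap S.f.hom
  let t : @Quiver.Hom (PMod O) _ (tensP O S.X₁.obj) ((forg O).obj H) :=
    liftTens (ModSite.ringSh O) H.val φ.hom
  let t₁ := ((adj O).homEquiv _ _).symm t
  let t₂ := ((ModSite.sheafHomAdj F).homEquiv _ _).symm t₁
  haveI : Mono ((tR F).map ((aSh O).map f)) := by
    haveI := mono_tensMap_whiskerRight hS h ((forg O).obj F)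
    haveI : Mono ((tensorRight ((forg O).obj F) ⋙ aSh O).map f) :=
      inferInstanceAs (Mono ((aSh O).map (f ▷ (forg O).obj F)))
    have e : (tR F).map ((aSh O).map f) = (aShTR F).hom.app _ ≫
        (tensorRight ((forg O).obj F) ⋙ aSh O).map f ≫ (aShTR F).inv.app _ := by
      rw [← NatTrans.naturality_assoc, Iso.hom_inv_id_app, Category.comp_id]
      rfl
    rw [e]
    infer_instance
  let T₁ := (ModSite.sheafHomAdj F).homEquiv _ _
    (Injective.factorThru t₂ ((tR F).map ((aSh O).map f)))
  have hT₁ : (aSh O).map f ≫ T₁ = t₁ := by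
    refine ((ModSite.sheafHomAdj F).homEquiv_naturality_left _ _).symm.trans ?_
    rw [Injective.comp_factorThru]
    exact Equiv.apply_symm_apply _ _
  refine exists_extension_of_tens (ModSite.ringSh O) H φ ((adj O).homEquiv _ _ T₁) ?_
  refine ((adj O).homEquiv_naturality_left f T₁).symm.trans ?_
  rw [hT₁]
  exact Equiv.apply_symm_apply _ _

/-- `Hom(F, G)` is totally acyclic for `G` injective. -/
theorem isTotallyAcyclic_sheafHom (F G : ModSite.Mod O) [ModSite.HasSheafHom F] [Injective G] :
    CohCx.IsTotallyAcyclic (ModSite.toAb ((ModSite.sheafHom F).obj G)) := fun K p =>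
  subsingleton_ext_of_extension (ModSite.ringSh O) _
    (fun _ hS h φ => exists_extension_hom F G hS h φ) p _ (tf_sheafify_free K.obj)

end Groth.Agent.H15Site.HomInjAcyclic
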