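import Groth.Agent.H15Site.SiteInst
import Groth.Prelude.Def_CohSite
import Mathlib.CategoryTheory.Sites.LeftExact
import Mathlib.Algebra.Category.Grp.EpiMono
import Mathlib.Algebra.Category.Grp.EnoughInjectives
import Mathlib.CategoryTheory.Abelian.FunctorCategory
import Mathlib.CategoryTheory.Preadditive.Injective.Basic

/-!
# Injective presheaves and restriction to a slice
-/

set_option linter.style.haveILetI false

universe u

open CategoryTheory CategoryTheory.Limits Opposite

namespace Groth.Agent.H15Site.OverInj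

attribute [local instance 10000] SiteInst.hasSheafifySite SiteInst.hasWeakSheafifySite
  SiteInst.hasExtSite SiteInst.enoughInjSite

variable {C : Type u} [SmallCategory C]

/-- The product of the skyscraper presheaves with values `f V`. -/
noncomputable def God' (f : C → AddCommGrpCat.{u}) : Cᵒᵖ ⥤ AddCommGrpCat.{u} where
  obj W := AddCommGrpCat.of (∀ p : Σ V : C, (V ⟶ W.unop), f p.1)
  map {W W'} b := AddCommGrpCat.ofHom
    (AddMonoidHom.mk' (fun s p => s ⟨p.1, p.2 ≫ b.unop⟩) (fun _ _ => rfl))
  map_id W := by
    ext s p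
    change s ⟨p.1, p.2 ≫ 𝟙 _⟩ = s p
    rw [Category.comp_id]
  map_comp {W W' W''} b b' := by
    ext s p
    change s ⟨p.1, p.2 ≫ b'.unop ≫ b.unop⟩ = s ⟨p.1, (p.2 ≫ b'.unop) ≫ b.unop⟩
    rw [Category.assoc]

theorem injective_god' (f : C → AddCommGrpCat.{u}) (hf : ∀ V, Injective (f V)) :
    Injective (God' f) where
  factors {A B} φ i hi := by
    haveI := hf
    let φ' : ∀ V : C, A.obj (op V) ⟶ f V := fun V =>
      φ.app (op V) ≫ AddCommGrpCat.ofHom (AddMonoidHom.mk'
        (fun s : (God' f).obj (op V) => s ⟨V, 𝟙 V⟩) (fun _ _ => rfl))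
    have hm : ∀ V : C, Mono (i.app (op V)) := fun V => inferInstance
    let ψ : ∀ V : C, B.obj (op V) ⟶ f V := fun V => Injective.factorThru (φ' V) (i.app (op V))
    have hψ : ∀ (V : C) (a : A.obj (op V)),
        (ψ V).hom ((i.app (op V)).hom a) = (φ.app (op V)).hom a ⟨V, 𝟙 V⟩ := fun V a =>
      ConcreteCategory.congr_hom (Injective.comp_factorThru (φ' V) (i.app (op V))) a
    let ψ' : ∀ W : Cᵒᵖ, B.obj W ⟶ (God' f).obj W := fun W => AddCommGrpCat.ofHom (AddMonoidHom.mk'
      (fun b (p : Σ V : C, (V ⟶ W.unop)) => (ψ p.1).hom ((B.map p.2.op).hom b))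
      (fun _ _ => funext fun _ => (congrArg _ (map_add _ _ _)).trans (map_add _ _ _)))
    refine ⟨{ app := ψ', naturality := ?_ }, ?_⟩
    · intro W W' g
      ext b
      funext p
      change (ψ p.1).hom ((B.map p.2.op).hom ((B.map g).hom b)) =
        (ψ p.1).hom ((B.map (p.2 ≫ g.unop).op).hom b)
      rw [op_comp, B.map_comp]
      rfl
    · ext W a
      funext p
      change (ψ p.1).hom ((B.map p.2.op).hom ((i.app W).hom a)) = (φ.app W).hom a p
      have e : (B.map p.2.op).hom ((i.app W).hom a) = (i.app (op p.1)).hom ((A.map p.2.op).hom a) :=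
        (ConcreteCategory.congr_hom (i.naturality p.2.op) a).symm
      rw [e, hψ]
      refine (congrArg (fun t : (God' f).obj (op p.1) => t ⟨p.1, 𝟙 _⟩)
        (ConcreteCategory.congr_hom (φ.naturality p.2.op) a)).trans ?_
      have key : ∀ (m : p.1 ⟶ W.unop), m = p.2 →
          ((φ.app W).hom a ⟨p.1, m⟩ : f p.1) = (φ.app W).hom a p := by
        rintro m rfl
        rfl
      exact key _ (Category.id_comp p.2)

/-- The embedding of a presheaf into a product of injective skyscrapers. -/
noncomputable def toGod' (P : Cᵒᵖ ⥤ AddCommGrpCat.{u}) :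
    P ⟶ God' (fun V => Injective.under (P.obj (op V))) where
  app W := AddCommGrpCat.ofHom (AddMonoidHom.mk'
    (fun s (p : Σ V : C, (V ⟶ W.unop)) => (Injective.ι (P.obj (op p.1))).hom ((P.map p.2.op).hom s))
    (fun _ _ => funext fun _ => (congrArg _ (map_add _ _ _)).trans (map_add _ _ _)))
  naturality W W' b := by
    ext s
    funext p
    change (Injective.ι (P.obj (op p.1))).hom ((P.map p.2.op).hom ((P.map b).hom s)) =
      (Injective.ι (P.obj (op p.1))).hom ((P.map (p.2 ≫ b.unop).op).hom s)
    rw [op_comp, P.map_comp]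
    rfl

theorem mono_toGod' (P : Cᵒᵖ ⥤ AddCommGrpCat.{u}) : Mono (toGod' P) := by
  have : ∀ W, Mono ((toGod' P).app W) := fun W => by
    rw [AddCommGrpCat.mono_iff_injective]
    intro s t h
    have h' : (Injective.ι (P.obj (op W.unop))).hom ((P.map (𝟙 W.unop).op).hom s) =
        (Injective.ι (P.obj (op W.unop))).hom ((P.map (𝟙 W.unop).op).hom t) :=
      congrFun h ⟨W.unop, 𝟙 _⟩
    have h'' := (AddCommGrpCat.mono_iff_injective _).1 inferInstance h'
    rw [op_id, P.map_id] at h''
    exact h''
  exact NatTrans.mono_of_mono_app _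

/-- Restriction to `Over U` preserves injective presheaves. -/
theorem injective_restrict (U : C) (P : Cᵒᵖ ⥤ AddCommGrpCat.{u}) [Injective P] :
    Injective ((Over.forget U).op ⋙ P) := by
  let f : C → AddCommGrpCat.{u} := fun V => Injective.under (P.obj (op V))
  haveI := mono_toGod' P
  let f' : Over U → AddCommGrpCat.{u} := fun X => f X.left
  haveI := injective_god' f' fun X => inferInstanceAs (Injective (Injective.under _))
  let i : (Over.forget U).op ⋙ God' f ⟶ God' f' :=
    { app := fun X => AddCommGrpCat.ofHom (AddMonoidHom.mk'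
        (fun s (p : Σ X' : Over U, (X' ⟶ X.unop)) => s ⟨p.1.left, p.2.left⟩) (fun _ _ => rfl))
      naturality := fun X X' b => rfl }
  have key : ∀ {X : Over U} (t : (God' f').obj (op X)) {V : C} {g g' : V ⟶ U}
      (m : Over.mk g ⟶ X) (m' : Over.mk g' ⟶ X), m.left = m'.left →
      (t ⟨Over.mk g, m⟩ : f V) = t ⟨Over.mk g', m'⟩ := by
    intro X t V g g' m m' h
    obtain rfl : g = g' := by
      have h1 : m.left ≫ X.hom = g := Over.w m
      have h2 : m'.left ≫ X.hom = g' := Over.w m'
      rw [← h1, ← h2, h]
    obtain rfl : m = m' := Over.OverMorphism.ext h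
    rfl
  let r : God' f' ⟶ (Over.forget U).op ⋙ God' f :=
    { app := fun X => AddCommGrpCat.ofHom (AddMonoidHom.mk'
        (fun t (p : Σ V : C, (V ⟶ X.unop.left)) =>
          t ⟨Over.mk (p.2 ≫ X.unop.hom), Over.homMk p.2⟩) (fun _ _ => rfl))
      naturality := fun X X' b => by
        ext t
        funext p
        exact key t _ _ rfl }
  refine Retract.injective (Y := God' f') ⟨Functor.whiskerLeft _ (toGod' P) ≫ i,
    r ≫ Functor.whiskerLeft _ (Injective.factorThru (𝟙 P) (toGod' P)), ?_⟩
  have hir : i ≫ r = 𝟙 _ := by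
    ext X s
    rfl
  rw [Category.assoc, reassoc_of% hir, ← Functor.whiskerLeft_comp, Injective.comp_factorThru]
  rfl

/-- A sheaf whose underlying presheaf is injective is injective. -/
theorem injective_sheaf {J : GrothendieckTopology C} (I : Sheaf J AddCommGrpCat.{u})
    [Injective I.obj] : Injective I where
  factors {A B} φ i hi :=
    ⟨⟨Injective.factorThru φ.hom i.hom⟩, Sheaf.hom_ext (Injective.comp_factorThru φ.hom i.hom)⟩

/-- The underlying presheaf of an injective sheaf is injective. -/
theorem injective_obj {J : GrothendieckTopology C} (I : Sheaf J AddCommGrpCat.{u}) [Injective I] :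
    Injective I.obj :=
  Injective.injective_of_adjoint (sheafificationAdjunction J AddCommGrpCat.{u}) I

/-- Restriction to `Over U` preserves injective sheaves. -/
theorem injective_over {J : GrothendieckTopology C} (U : C) (I : Sheaf J AddCommGrpCat.{u})
    [Injective I] : Injective ((CohSite.push J (J.over U) (Over.forget U)).obj I) := by
  haveI := injective_obj I
  haveI : Injective ((CohSite.push J (J.over U) (Over.forget U)).obj I).obj :=
    injective_restrict U I.obj
  exact injective_sheaf _

end Groth.Agent.H15Site.OverInj
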