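import Groth.Agent.H10Coh.SheafH
import Groth.Agent.H10Coh.AbInst
import Groth.Agent.H16Derived.AcyclicLES

open CategoryTheory CategoryTheory.Limits Opposite TopologicalSpace Abelian
open Groth.Agent.H10Coh Groth.Agent.H16Derived

universe u

namespace Groth.Agent.H15Site.FlasquePush

attribute [local instance 10000] hasSheafifyAb hasWeakSheafifyAb hasExtAb enoughInjAb

instance push_pfl {X Y : TopCat.{u}} (f : X ⟶ Y) : PreservesFiniteLimits (CohTop.push f) :=
  have : (CohTop.push f).IsRightAdjoint := (TopCat.Sheaf.pullbackPushforwardAdjunction AddCommGrpCat.{u} f).isRightAdjoint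
  inferInstance

theorem push_map_epi_of_sections {X Y : TopCat.{u}} (f : X ⟶ Y) {F G : CohTop.Ab X} (φ : F ⟶ G)
    (h : ∀ U, Function.Surjective (φ.hom.app (op U))) : Epi ((CohTop.push f).map φ) := by
  have : ∀ V, Epi (((CohTop.push f).map φ).hom.app V) := fun V => by
    rw [AddCommGrpCat.epi_iff_surjective]
    exact h _
  have : Epi ((sheafToPresheaf _ _).map ((CohTop.push f).map φ)) :=
    @NatTrans.epi_of_epi_app _ _ _ _ _ _ _ this
  exact (sheafToPresheaf _ _).epi_of_epi_map this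

theorem isZero_Rpush_flasque {X Y : TopCat.{u}} (f : X ⟶ Y) (q : ℕ) : ∀ (F : CohTop.Ab X),
    Flasque F → IsZero ((CohTop.Rpush f (q + 1)).obj F) := by
  induction q with
  | zero =>
    intro F hF
    have hS := injSeq_shortExact F
    obtain ⟨T, hT, e₁, e₂, e₃, a₂, a₃, ha₂, ha₃, hc⟩ := AcyclicLES.exists_les (CohTop.push f) _ hS
    have : Epi ((CohTop.push f).map (injSeq F).g) :=
      push_map_epi_of_sections f _ (surjective_sections hS hF)
    have : Epi (a₂ ≫ HomologicalComplex.homologyMap T.g 0) := by rw [hc]; infer_instance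
    have : Epi (HomologicalComplex.homologyMap T.g 0) := epi_of_epi a₂ _
    have hz : IsZero ((CohTop.Rpush f 1).obj (injSeq F).X₂) :=
      (CohTop.push f).isZero_rightDerived_obj_injective_succ 0 _
    refine ((hT.homology_exact₁ (0 : ℤ) ((1 : ℕ) : ℤ) (by simp)).isZero_X₂ ?_
      ((hz.of_iso (e₂ 1).some.symm).eq_of_tgt _ _)).of_iso (e₁ 1).some
    exact (hT.homology_exact₃ (0 : ℤ) ((1 : ℕ) : ℤ) (by simp)).epi_f_iff.1 this
  | succ q ih =>
    intro F hF
    have hS := injSeq_shortExact F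
    obtain ⟨T, hT, e₁, e₂, e₃, -⟩ := AcyclicLES.exists_les (CohTop.push f) _ hS
    have hz : IsZero ((CohTop.Rpush f (q + 1 + 1)).obj (injSeq F).X₂) :=
      (CohTop.push f).isZero_rightDerived_obj_injective_succ (q + 1) _
    have h₃ := ih _ (flasque_X₃ hS hF (flasque_of_injective _))
    exact ((hT.homology_exact₁ ((q + 1 : ℕ) : ℤ) ((q + 1 + 1 : ℕ) : ℤ) (by simp)).isZero_X₂
      ((h₃.of_iso (e₃ (q + 1)).some.symm).eq_of_src _ _)
      ((hz.of_iso (e₂ (q + 1 + 1)).some.symm).eq_of_tgt _ _)).of_iso (e₁ (q + 1 + 1)).some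

end Groth.Agent.H15Site.FlasquePush
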