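import Groth.Agent.H15Site.LocCohVanish
import Groth.Agent.S13590

/-!
# Restriction to an open and sections with support
-/

set_option linter.style.haveILetI false
set_option linter.unusedSectionVars false
set_option backward.isDefEq.respectTransparency false

universe u

open CategoryTheory CategoryTheory.Limits Opposite TopologicalSpace

namespace Groth.Agent.H15Site.LocCohRestr

open Groth.Agent.H10Coh SuppSect

attribute [local instance 10000] hasSheafifyAb hasWeakSheafifyAb hasExtAb enoughInjAb

variable {X Y : TopCat.{u}}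

lemma pfc {j : X ⟶ Y} (hj : Topology.IsOpenEmbedding j) : PreservesFiniteColimits (Rf hj) :=
  inferInstance

lemma push_additive (j : X ⟶ Y) : (CohTop.push j).Additive := inferInstance

lemma pull_additive (j : X ⟶ Y) : (CohTop.pull j).Additive :=
  haveI : (TopCat.Sheaf.pushforward AddCommGrpCat.{u} j).Additive := push_additive j
  (TopCat.Sheaf.pullbackPushforwardAdjunction AddCommGrpCat.{u} j).left_adjoint_additive

/-- Pullback to an open preserves injectives. -/
lemma injective_pull (U : Opens X) (I : CohTop.Ab X) [Injective I] :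
    Injective ((CohTop.pull (CohCx.incl U)).obj I) :=
  Injective.of_iso ((U.isOpenEmbedding'.sheafPullbackIso AddCommGrpCat.{u}).app I).symm
    (Groth.Agent.S13590.injective_restr U I)

/-- For flasque sheaves the restriction map `F ⟶ j_* j⁻¹ F` is onto. -/
lemma epi_unit (U : Opens X) (F : CohTop.Ab X) (hF : Flasque F) : Epi (η U F) := by
  let j := CohCx.incl U
  have hj : Topology.IsOpenEmbedding j := U.isOpenEmbedding'
  let adj := TopCat.Sheaf.pullbackPushforwardAdjunction AddCommGrpCat.{u} j
  let e := hj.sheafPullbackIso AddCommGrpCat.{u}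
  haveI h1 : IsIso ((TopCat.Sheaf.pullback AddCommGrpCat.{u} j).map (η U F)) := by
    haveI : IsIso (adj.counit.app ((TopCat.Sheaf.pullback AddCommGrpCat.{u} j).obj F)) :=
      isIso_counit_of_isInducing j _ hj.isInducing _ _
    haveI : IsIso (𝟙 ((TopCat.Sheaf.pullback AddCommGrpCat.{u} j).obj F)) := IsIso.id _
    exact IsIso.of_isIso_fac_right (adj.left_triangle_components F)
  haveI h2 : IsIso ((Rf hj).map (η U F)) := (NatIso.isIso_map_iff e (η U F)).1 h1
  have : ∀ W : (Opens X)ᵒᵖ, Epi ((η U F).hom.app W) := fun ⟨V⟩ => by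
    rw [AddCommGrpCat.epi_iff_surjective]
    intro t
    haveI : IsIso (((sheafToPresheaf _ _).map ((Rf hj).map (η U F))).app
        (op ((Opens.map j).obj V))) := inferInstance
    have hsurj : Function.Surjective ((η U F).hom.app (op (im hj ((Opens.map j).obj V)))) :=
      (ConcreteCategory.bijective_of_isIso (((sheafToPresheaf _ _).map ((Rf hj).map (η U F))).app
        (op ((Opens.map j).obj V)))).2
    have hle : im hj ((Opens.map j).obj V) ≤ V := by rintro _ ⟨z, hz, rfl⟩; exact hz
    obtain ⟨s, hs⟩ := hsurj ((((TopCat.Sheaf.pullback AddCommGrpCat.{u} j) ⋙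
      TopCat.Sheaf.pushforward AddCommGrpCat.{u} j).obj F).obj.map (homOfLE hle).op t)
    obtain ⟨s', rfl⟩ := hF hle s
    refine ⟨s', ?_⟩
    haveI : IsIso ((Opens.map j).map (homOfLE hle)) :=
      ⟨homOfLE (fun z hz => ⟨z, hz, rfl⟩), Subsingleton.elim _ _, Subsingleton.elim _ _⟩
    haveI hiso : IsIso ((((TopCat.Sheaf.pullback AddCommGrpCat.{u} j) ⋙
        TopCat.Sheaf.pushforward AddCommGrpCat.{u} j).obj F).obj.map (homOfLE hle).op) := by
      change IsIso (((TopCat.Sheaf.pullback AddCommGrpCat.{u} j).obj F).obj.map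
        ((Opens.map j).map (homOfLE hle)).op)
      infer_instance
    refine (ConcreteCategory.bijective_of_isIso ((((TopCat.Sheaf.pullback AddCommGrpCat.{u} j) ⋙
      TopCat.Sheaf.pushforward AddCommGrpCat.{u} j).obj F).obj.map (homOfLE hle).op)).1 ?_
    refine Eq.trans ?_ hs
    exact (ConcreteCategory.congr_hom ((η U F).hom.naturality (homOfLE hle).op) s').symm
  have : Epi ((sheafToPresheaf _ _).map (η U F)) := @NatTrans.epi_of_epi_app _ _ _ _ _ _ _ this
  exact (sheafToPresheaf _ _).epi_of_epi_map this

end Groth.Agent.H15Site.LocCohRestr
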