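import Groth.Agent.H15Site.LocCoh

/-!
# Vanishing of local cohomology
-/

set_option linter.style.haveILetI false
set_option linter.unusedSectionVars false
set_option backward.isDefEq.respectTransparency false

universe u

open CategoryTheory CategoryTheory.Limits Opposite TopologicalSpace Abelian LocCohZ

namespace Groth.Agent.H15Site.LocCoh

open Groth.Agent.H10Coh Groth.Agent.H16Derived SuppSect

attribute [local instance 10000] hasSheafifyAb hasWeakSheafifyAb hasExtAb enoughInjAb

variable {X : TopCat.{u}}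

/-- Flasque sheaves have no higher cohomology with supports. -/
lemma subsingleton_HZ_of_flasque {F : CohTop.Ab X} (hF : Flasque F) {W V : Opens X} (h : W ≤ V)
    (i : ℕ) : Subsingleton (HZ F (i + 1) h) := by
  refine subsingleton_of_forall_eq 0 fun x => ?_
  have := subsingleton_of_flasque hF i V
  obtain ⟨y, rfl⟩ := (exact_delta F i h x).1 (Subsingleton.elim (α := Hn F (i + 1) V) _ _)
  obtain ⟨z, rfl⟩ : ∃ z, CohTop.res F i h z = y := by
    cases i with
    | zero =>
      obtain ⟨s, hs⟩ := hF h (H0Equiv F W y)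
      refine ⟨(H0Equiv F V).symm s, (H0Equiv F W).injective ?_⟩
      refine (H0Equiv_res h ((H0Equiv F V).symm s)).trans ?_
      rw [AddEquiv.apply_symm_apply]; exact hs
    | succ i =>
      have := subsingleton_of_flasque hF i W
      exact ⟨0, Subsingleton.elim (α := Hn F (i + 1) W) _ _⟩
  exact (exact_res F i h _).2 ⟨z, rfl⟩

lemma surjective_zq_hom {S : ShortComplex (CohTop.Ab X)} (hS : S.ShortExact) {W V : Opens X}
    (h : W ≤ V) (h₁ : Subsingleton (HZ S.X₁ 1 h)) (y : zq h ⟶ S.X₃) :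
    ∃ z : zq h ⟶ S.X₂, z ≫ S.g = y := by
  obtain ⟨w, hw⟩ := Ext.covariant_sequence_exact₃ (zq h) hS (Ext.mk₀ y) (n₁ := 1) rfl
    (Subsingleton.elim _ _)
  obtain ⟨z, rfl⟩ := (Ext.mk₀_bijective _ _).2 w
  exact ⟨z, (Ext.mk₀_bijective _ _).1 ((Ext.mk₀_comp_mk₀ z S.g).symm.trans hw)⟩

lemma surjective_sectSuppF_sections {S : ShortComplex (CohTop.Ab X)} (hS : S.ShortExact)
    (hF : Flasque S.X₁) (U V : Opens X) :
    Function.Surjective (((sectSuppF U).map S.g).hom.app (op V)) := by
  intro s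
  obtain ⟨z, hz⟩ := surjective_zq_hom hS (inf_le_left : V ⊓ U ≤ V)
    (subsingleton_HZ_of_flasque hF _ 0) (homEquiv U V S.X₃ ((sect V _).symm s))
  refine ⟨sect V _ ((homEquiv U V S.X₂).symm z), ?_⟩
  rw [← sect_comp]
  have : (homEquiv U V S.X₂).symm z ≫ (sectSuppF U).map S.g = (sect V _).symm s :=
    (homEquiv U V S.X₃).injective (by rw [homEquiv_comp, AddEquiv.apply_symm_apply, hz])
  rw [this, AddEquiv.apply_symm_apply]

section DerivedShift

variable {S : ShortComplex (CohTop.Ab X)} (hS : S.ShortExact) (G : CohTop.Ab X ⥤ CohTop.Ab X)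
  [G.Additive] [PreservesFiniteLimits G]

include hS

lemma isZero_rightDerived_one (h₂ : IsZero ((G.rightDerived 1).obj S.X₂)) (he : Epi (G.map S.g)) :
    IsZero ((G.rightDerived 1).obj S.X₁) := by
  obtain ⟨T, hT, e₁, e₂, e₃, a₂, a₃, ha₂, ha₃, hc⟩ := AcyclicLES.exists_les G S hS
  have : Epi (a₂ ≫ HomologicalComplex.homologyMap T.g 0) := by rw [hc]; infer_instance
  have : Epi (HomologicalComplex.homologyMap T.g 0) := epi_of_epi a₂ _
  exact ((hT.homology_exact₁ (0 : ℤ) ((1 : ℕ) : ℤ) (by simp)).isZero_X₂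
    ((hT.homology_exact₃ (0 : ℤ) ((1 : ℕ) : ℤ) (by simp)).epi_f_iff.1 this)
    ((h₂.of_iso (e₂ 1).some.symm).eq_of_tgt _ _)).of_iso (e₁ 1).some

lemma isZero_rightDerived_succ (i : ℕ) (h₂ : IsZero ((G.rightDerived (i + 1)).obj S.X₂))
    (h₃ : IsZero ((G.rightDerived i).obj S.X₃)) :
    IsZero ((G.rightDerived (i + 1)).obj S.X₁) := by
  obtain ⟨T, hT, e₁, e₂, e₃, -⟩ := AcyclicLES.exists_les G S hS
  exact ((hT.homology_exact₁ (i : ℤ) ((i + 1 : ℕ) : ℤ) (by simp)).isZero_X₂
    ((h₃.of_iso (e₃ i).some.symm).eq_of_src _ _)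
    ((h₂.of_iso (e₂ (i + 1)).some.symm).eq_of_tgt _ _)).of_iso (e₁ (i + 1)).some

lemma isZero_rightDerived_X₃ (i : ℕ) (h₂ : IsZero ((G.rightDerived i).obj S.X₂))
    (h₁ : IsZero ((G.rightDerived (i + 1)).obj S.X₁)) :
    IsZero ((G.rightDerived i).obj S.X₃) := by
  obtain ⟨T, hT, e₁, e₂, e₃, -⟩ := AcyclicLES.exists_les G S hS
  exact ((hT.homology_exact₃ (i : ℤ) ((i + 1 : ℕ) : ℤ) (by simp)).isZero_X₂
    ((h₂.of_iso (e₂ i).some.symm).eq_of_src _ _)
    ((h₁.of_iso (e₁ (i + 1)).some.symm).eq_of_tgt _ _)).of_iso (e₃ i).some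

end DerivedShift

/-- Flasque sheaves are acyclic for sections with support. -/
lemma isZero_HZsh_of_flasque (U : Opens X) (i : ℕ) : ∀ {F : CohTop.Ab X}, Flasque F →
    IsZero ((HZsh U (i + 1)).obj F) := by
  induction i with
  | zero =>
    intro F hF
    refine isZero_rightDerived_one (injSeq_shortExact F) (sectSuppF U)
      ((sectSuppF U).isZero_rightDerived_obj_injective_succ 0 _) ?_
    have : ∀ V, Epi (((sectSuppF U).map (injSeq F).g).hom.app V) := fun V => by
      rw [AddCommGrpCat.epi_iff_surjective]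
      exact surjective_sectSuppF_sections (injSeq_shortExact F) hF U V.unop
    have : Epi ((sheafToPresheaf _ _).map ((sectSuppF U).map (injSeq F).g)) :=
      @NatTrans.epi_of_epi_app _ _ _ _ _ _ _ this
    exact (sheafToPresheaf _ _).epi_of_epi_map this
  | succ i ih =>
    intro F hF
    exact isZero_rightDerived_succ (injSeq_shortExact F) (sectSuppF U) (i + 1)
      ((sectSuppF U).isZero_rightDerived_obj_injective_succ (i + 1) _)
      (ih (flasque_X₃ (injSeq_shortExact F) hF (flasque_of_injective _)))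

lemma isZero_iff_sections (G : CohTop.Ab X) :
    IsZero G ↔ ∀ V : Opens X, Subsingleton (Zsh V ⟶ G) := by
  refine ⟨fun h V => ⟨fun a b => h.eq_of_tgt a b⟩, fun h => ?_⟩
  refine (IsZero.iff_id_eq_zero G).2 (Sheaf.hom_ext (NatTrans.ext (funext fun V => ?_)))
  ext s
  haveI := h V.unop
  haveI : Subsingleton (G.obj.obj (op V.unop)) := (sect V.unop G).symm.injective.subsingleton
  exact Subsingleton.elim (α := G.obj.obj (op V.unop)) _ _

/-- `ℋ⁰` vanishes iff all `H⁰` with supports vanish. -/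
lemma isZero_sectSupp_iff (U : Opens X) (F : CohTop.Ab X) :
    IsZero ((sectSuppF U).obj F) ↔
      ∀ V : Opens X, Subsingleton (HZ F 0 (inf_le_left : V ⊓ U ≤ V)) := by
  rw [isZero_iff_sections]
  refine forall_congr' fun V => ?_
  exact (Equiv.subsingleton_congr ((homEquiv U V F).toEquiv.trans Ext.addEquiv₀.symm.toEquiv))

lemma isZero_HZsh_zero_iff (U : Opens X) (F : CohTop.Ab X) :
    IsZero ((HZsh U 0).obj F) ↔ IsZero ((sectSuppF U).obj F) :=
  Iso.isZero_iff ((sectSuppF U).rightDerivedZeroIsoSelf.app F)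

/-- `H^i` with supports vanish identically on `j_*J`; every `F` with `Γ_Z F = 0` embeds in one. -/
lemma exists_embedding (U : Opens X) (F : CohTop.Ab X) (h : IsZero ((sectSuppF U).obj F)) :
    ∃ S : ShortComplex (CohTop.Ab X), S.ShortExact ∧ S.X₁ = F ∧ Injective S.X₂ ∧
      IsZero ((sectSuppF U).obj S.X₂) := by
  let adj := TopCat.Sheaf.pullbackPushforwardAdjunction AddCommGrpCat.{u} (CohCx.incl U)
  let P := CohTop.push (CohCx.incl U)
  haveI : Mono (η U F) := Preadditive.mono_of_isZero_kernel _ h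
  let J : CohTop.Ab (TopCat.of U) := Injective.under ((CohTop.pull (CohCx.incl U)).obj F)
  let ι : (CohTop.pull (CohCx.incl U)).obj F ⟶ J := Injective.ι _
  haveI := ClosedPushAb.push_preservesFiniteLimits (CohCx.incl U)
  haveI : Mono (P.map ι) := P.map_mono ι
  let f : F ⟶ P.obj J := η U F ≫ P.map ι
  haveI : Mono f := mono_comp (η U F) (P.map ι)
  refine ⟨ShortComplex.mk f (cokernel.π f) (cokernel.condition f),
    { exact := ShortComplex.exact_of_g_is_cokernel _ (cokernelIsCokernel _) }, rfl,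
    ClosedPushAb.push_injective (CohCx.incl U) J, ?_⟩
  haveI : Mono (η U (P.obj J)) :=
    @mono_of_mono_fac _ _ _ _ _ _ _ _ (inferInstanceAs (Mono (𝟙 (P.obj J))))
      (adj.right_triangle_components J)
  exact isZero_kernel_of_mono (η U (P.obj J))

lemma subsingleton_HZ_of_embedding {U : Opens X} {I : CohTop.Ab X} [Injective I]
    (h : IsZero ((sectSuppF U).obj I)) (V : Opens X) (i : ℕ) :
    Subsingleton (HZ I i (inf_le_left : V ⊓ U ≤ V)) := by
  cases i with
  | zero => exact (isZero_sectSupp_iff U I).1 h V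
  | succ i => exact subsingleton_of_forall_eq 0 fun x => Ext.eq_zero_of_injective x

lemma isZero_HZsh_of_embedding {U : Opens X} {I : CohTop.Ab X} [Injective I]
    (h : IsZero ((sectSuppF U).obj I)) (i : ℕ) : IsZero ((HZsh U i).obj I) := by
  cases i with
  | zero => exact (isZero_HZsh_zero_iff U I).2 h
  | succ i => exact (sectSuppF U).isZero_rightDerived_obj_injective_succ i I

lemma bijective_extClass {U : Opens X} {S : ShortComplex (CohTop.Ab X)} (hS : S.ShortExact)
    [Injective S.X₂] (h : IsZero ((sectSuppF U).obj S.X₂)) (V : Opens X) (i : ℕ) :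
    Function.Bijective (hS.extClass.postcomp (zq (inf_le_left : V ⊓ U ≤ V)) (rfl : i + 1 = i + 1)) := by
  have hz := subsingleton_HZ_of_embedding h V
  constructor
  · refine (injective_iff_map_eq_zero _).2 fun y hy => ?_
    obtain ⟨w, rfl⟩ := Ext.covariant_sequence_exact₃ _ hS y (rfl : i + 1 = i + 1) hy
    haveI := hz i
    rw [Subsingleton.elim (α := HZ S.X₂ i (inf_le_left : V ⊓ U ≤ V)) w 0, Ext.zero_comp]
  · intro x
    haveI := hz (i + 1)
    exact Ext.covariant_sequence_exact₁ _ hS x (Subsingleton.elim _ _) rfl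

lemma vanish_aux (U : Opens X) : ∀ (n : ℕ) (F : CohTop.Ab X),
    ((∀ i : ℕ, i < n → IsZero ((HZsh U i).obj F)) ↔
      ∀ (V : Opens X) (i : ℕ), i < n → Subsingleton (HZ F i (inf_le_left : V ⊓ U ≤ V))) := by
  intro n
  induction n with
  | zero => exact fun F => ⟨fun _ _ i hi => absurd hi (Nat.not_lt_zero i),
      fun _ i hi => absurd hi (Nat.not_lt_zero i)⟩
  | succ n ih =>
    intro F
    constructor
    · intro hF
      have h0 := (isZero_HZsh_zero_iff U F).1 (hF 0 n.succ_pos)
      obtain ⟨S, hS, rfl, hI, hSI⟩ := exists_embedding U F h0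
      intro V i hi
      cases i with
      | zero => exact (isZero_sectSupp_iff U _).1 h0 V
      | succ i =>
        haveI := (ih S.X₃).1 (fun j hj => isZero_rightDerived_X₃ hS (sectSuppF U) j
          (isZero_HZsh_of_embedding hSI j) (hF (j + 1) (by omega))) V i (by omega)
        exact (bijective_extClass hS hSI V i).2.subsingleton
    · intro hF
      have h0 := (isZero_sectSupp_iff U F).2 fun V => hF V 0 n.succ_pos
      obtain ⟨S, hS, rfl, hI, hSI⟩ := exists_embedding U F h0
      intro i hi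
      cases i with
      | zero => exact (isZero_HZsh_zero_iff U _).2 h0
      | succ i =>
        exact isZero_rightDerived_succ hS (sectSuppF U) i (isZero_HZsh_of_embedding hSI (i + 1))
          ((ih S.X₃).2 (fun V j hj => by
            haveI := hF V (j + 1) (by omega)
            exact (bijective_extClass hS hSI V j).1.subsingleton) i (by omega))

lemma toHU_resZ (F : CohTop.Ab X) (i : ℕ) {W V W' V' : Opens X} (h : W ≤ V) (h' : W' ≤ V')
    (hW : W' ≤ W) (hV : V' ≤ V) (x : HZ F i h) :
    toHU F i h' (resZ F i h h' hW hV x) = CohTop.res F i hV (toHU F i h x) := by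
  show (Ext.mk₀ (cokernel.π _)).comp ((Ext.mk₀ (zqMap h h' hW hV)).comp x (zero_add i)) (zero_add i) =
    (Ext.mk₀ (zmap hV)).comp ((Ext.mk₀ (cokernel.π _)).comp x (zero_add i)) (zero_add i)
  rw [Ext.mk₀_comp_mk₀_assoc, Ext.mk₀_comp_mk₀_assoc]
  congr 2
  exact cokernel.π_desc _ _ _

/-- Separatedness of `V ↦ H^N_{V∩Z}(V, F)` when the lower sheaves vanish. -/
lemma eq_zero_of_locally_eq_zero (U : Opens X) : ∀ (N : ℕ) (F : CohTop.Ab X),
    (∀ i : ℕ, i < N → IsZero ((HZsh U i).obj F)) →
    ∀ (V : Opens X) (x : HZ F N (inf_le_left : V ⊓ U ≤ V)),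
      (∀ p ∈ V, ∃ (V' : Opens X) (h : V' ≤ V), p ∈ V' ∧
        resZ F N (inf_le_left : V ⊓ U ≤ V) (inf_le_left : V' ⊓ U ≤ V') (inf_le_inf_right U h) h x = 0) →
      x = 0 := by
  intro N
  induction N with
  | zero =>
    intro F _ V x hx
    refine toHU_injective_zero F _ ?_
    rw [map_zero]
    refine (H0Equiv F V).injective ?_
    rw [map_zero]
    choose V' hV' hp hres using hx
    refine TopCat.Sheaf.eq_of_locally_eq' F (fun p : V => V' p.1 p.2) V
      (fun p => homOfLE (hV' p.1 p.2))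
      (fun p hp' => Opens.mem_iSup.2 ⟨⟨p, hp'⟩, hp p hp'⟩) _ _ fun p => ?_
    rw [map_zero]
    have h2 := toHU_resZ F 0 (inf_le_left : V ⊓ U ≤ V) (inf_le_left : V' p.1 p.2 ⊓ U ≤ V' p.1 p.2)
      (inf_le_inf_right U (hV' p.1 p.2)) (hV' p.1 p.2) x
    rw [hres, map_zero] at h2
    exact (H0Equiv_res (hV' p.1 p.2) _).symm.trans
      ((congrArg (H0Equiv F (V' p.1 p.2)) h2.symm).trans (map_zero _))
  | succ N ih =>
    intro F hF V x hx
    have h0 := (isZero_HZsh_zero_iff U F).1 (hF 0 N.succ_pos)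
    obtain ⟨S, hS, rfl, hI, hSI⟩ := exists_embedding U F h0
    obtain ⟨y, rfl⟩ := (bijective_extClass hS hSI V N).2 x
    have hy : y = 0 := ih S.X₃ (fun i hi => isZero_rightDerived_X₃ hS (sectSuppF U) i
      (isZero_HZsh_of_embedding hSI i) (hF (i + 1) (by omega))) V y fun p hp => by
        obtain ⟨V', h, hp', hres⟩ := hx p hp
        refine ⟨V', h, hp', (bijective_extClass hS hSI V' N).1 ?_⟩
        rw [map_zero, ← hres]
        exact Ext.comp_assoc _ _ _ (zero_add N) rfl (show 0 + N + 1 = N + 1 by omega)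
    rw [hy, map_zero]

/-- Vanishing of supports cohomology in degrees `≤ N` in terms of restriction maps. -/
lemma subsingleton_HZ_iff_res (F : CohTop.Ab X) {W V : Opens X} (h : W ≤ V) (N : ℕ) :
    (∀ i : ℕ, i ≤ N → Subsingleton (HZ F i h)) ↔
      (∀ i : ℕ, i < N → Function.Bijective (CohTop.res F i h)) ∧
        Function.Injective (CohTop.res F N h) := by
  constructor
  · intro hz
    have hinj : ∀ i : ℕ, i ≤ N → Function.Injective (CohTop.res F i h) := fun i hi =>
      (injective_iff_map_eq_zero _).2 fun x hx => by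
        obtain ⟨y, rfl⟩ := (exact_toHU F i h x).1 hx
        haveI := hz i hi
        rw [Subsingleton.elim (α := HZ F i h) y 0, map_zero]
    refine ⟨fun i hi => ⟨hinj i hi.le, fun y => ?_⟩, hinj N le_rfl⟩
    haveI := hz (i + 1) hi
    exact (exact_res F i h y).1 (Subsingleton.elim _ _)
  · rintro ⟨hbij, hinj⟩ i hi
    refine subsingleton_of_forall_eq 0 fun x => ?_
    have hI : Function.Injective (CohTop.res F i h) := by
      rcases lt_or_eq_of_le hi with hlt | rfl
      · exact (hbij i hlt).1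
      · exact hinj
    have hx : toHU F i h x = 0 := hI (by
      rw [map_zero]; exact (exact_toHU F i h _).2 ⟨x, rfl⟩)
    cases i with
    | zero => exact toHU_injective_zero F h (hx.trans (map_zero _).symm)
    | succ i =>
      obtain ⟨y, rfl⟩ := (exact_delta F i h x).1 hx
      exact (exact_res F i h y).2 ((hbij i (by omega)).2 y)

end Groth.Agent.H15Site.LocCoh
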