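import Groth.Agent.H15Site.SuppSect
import Groth.Agent.H15Site.FlasquePush
import Groth.Agent.S13590

/-!
# Sections with support over an open, and the long exact sequence of local cohomology
-/

set_option linter.style.haveILetI false
set_option linter.unusedSectionVars false
set_option backward.isDefEq.respectTransparency false

universe u

open CategoryTheory CategoryTheory.Limits Opposite TopologicalSpace Abelian LocCohZ

namespace Groth.Agent.H15Site.LocCoh

open Groth.Agent.H10Coh SuppSect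

attribute [local instance 10000] hasSheafifyAb hasWeakSheafifyAb hasExtAb enoughInjAb

variable {X : TopCat.{u}}

lemma Rf_preservesFiniteLimits {A B : TopCat.{u}} {j : A ⟶ B} (hj : Topology.IsOpenEmbedding j) :
    PreservesFiniteLimits (Rf hj) := inferInstance

/-- A map out of `ℤ_V` dies in `j_* j⁻¹ F` iff it dies on `ℤ_{V ∩ U}`. -/
lemma free_comp_unit_eq_zero_iff (U V : Opens X) (F : CohTop.Ab X) (x : Zsh V ⟶ F) :
    x ≫ η U F = 0 ↔ zmap (inf_le_left : V ⊓ U ≤ V) ≫ x = 0 := by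
  let i := zmap (inf_le_left : V ⊓ U ≤ V)
  have him : im (j := CohCx.incl U) U.isOpenEmbedding' ((Opens.map (CohCx.incl U)).obj V) = V ⊓ U :=
    Opens.ext (show Subtype.val '' (Subtype.val ⁻¹' (V : Set X)) = (V : Set X) ∩ (U : Set X) by
      rw [Set.image_preimage_eq_inter_range]; exact congrArg _ Subtype.range_coe)
  constructor
  · intro h
    have hR := (comp_unit_eq_zero_iff U (i ≫ x)).1 (by rw [Category.assoc, h, comp_zero])
    have hzero : ∀ W : Opens X, W = V ⊓ U → (i ≫ x).hom.app (op W) = 0 →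
        (i ≫ x).hom.app (op (V ⊓ U)) = 0 := by
      rintro _ rfl h; exact h
    have happ := hzero _ him (congrArg
      (fun ψ : (Rf (j := CohCx.incl U) U.isOpenEmbedding').obj _ ⟶ _ =>
        ψ.hom.app (op ((Opens.map (CohCx.incl U)).obj V))) hR)
    apply (sect (V ⊓ U) F).injective
    rw [map_zero]
    show ((i ≫ x).hom.app (op (V ⊓ U))).hom _ = 0
    rw [happ]; rfl
  · intro h
    let T := ((CohTop.pull (CohCx.incl U)) ⋙ CohTop.push (CohCx.incl U)).obj F
    have hres : sect (V ⊓ U) T (i ≫ x ≫ η U F) = 0 := by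
      rw [← Category.assoc, h, zero_comp, map_zero]
    rw [sect_res] at hres
    have htop : (Opens.map (CohCx.incl U)).obj V ≤ (Opens.map (CohCx.incl U)).obj (V ⊓ U) :=
      fun z hz => ⟨hz, z.2⟩
    have hbij : IsIso (T.obj.map (homOfLE (inf_le_left : V ⊓ U ≤ V)).op) := by
      change IsIso (((TopCat.Sheaf.pullback AddCommGrpCat.{u} (CohCx.incl U)).obj F).obj.map
        ((Opens.map (CohCx.incl U)).map (homOfLE (inf_le_left : V ⊓ U ≤ V))).op)
      haveI : IsIso ((Opens.map (CohCx.incl U)).map (homOfLE (inf_le_left : V ⊓ U ≤ V))) :=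
        ⟨homOfLE htop, Subsingleton.elim _ _, Subsingleton.elim _ _⟩
      infer_instance
    have hs : sect V T (x ≫ η U F) = 0 :=
      (injective_iff_map_eq_zero _).1 ((ConcreteCategory.bijective_of_isIso
        (T.obj.map (homOfLE (inf_le_left : V ⊓ U ≤ V)).op)).1) _ hres
    exact (sect V T).injective (hs.trans (map_zero _).symm)

/-- `Γ(V, Γ_Z F) → Hom(ℤ_V/ℤ_{V∩U}, F)`. -/
noncomputable def toZq (U V : Opens X) (F : CohTop.Ab X) :
    (Zsh V ⟶ (sectSuppF U).obj F) →+ (zq (inf_le_left : V ⊓ U ≤ V) ⟶ F) :=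
  AddMonoidHom.mk'
    (fun x => cokernel.desc _ (x ≫ kernel.ι (η U F)) ((free_comp_unit_eq_zero_iff U V F _).1 (by
      rw [Category.assoc, kernel.condition, comp_zero])))
    (fun a b => by
      apply (cancel_epi (cokernel.π _)).1
      simp only [Preadditive.comp_add, cokernel.π_desc]
      exact Preadditive.add_comp ..)

lemma toZq_bijective (U V : Opens X) (F : CohTop.Ab X) : Function.Bijective (toZq U V F) := by
  constructor
  · intro a b h
    apply (cancel_mono (kernel.ι (η U F))).1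
    have := congrArg (fun t => cokernel.π _ ≫ t) h
    simpa [toZq] using this
  · intro y
    refine ⟨kernel.lift (η U F) (cokernel.π _ ≫ y) ((free_comp_unit_eq_zero_iff U V F _).2 (by
      rw [cokernel.condition_assoc, zero_comp])), ?_⟩
    apply (cancel_epi (cokernel.π _)).1
    exact (cokernel.π_desc _ _ _).trans (kernel.lift_ι _ _ _)

/-- `Hom(ℤ_V, Γ_Z F) ≃+ Hom(ℤ_V/ℤ_{V∩U}, F)`. -/
noncomputable def homEquiv (U V : Opens X) (F : CohTop.Ab X) :
    (Zsh V ⟶ (sectSuppF U).obj F) ≃+ (zq (inf_le_left : V ⊓ U ≤ V) ⟶ F) :=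
  AddEquiv.ofBijective (toZq U V F) (toZq_bijective U V F)

lemma homEquiv_comp (U V : Opens X) {F G : CohTop.Ab X} (g : F ⟶ G)
    (x : Zsh V ⟶ (sectSuppF U).obj F) :
    homEquiv U V G (x ≫ (sectSuppF U).map g) = homEquiv U V F x ≫ g := by
  apply (cancel_epi (cokernel.π _)).1
  refine (cokernel.π_desc _ _ _).trans ?_
  refine Eq.trans ?_ ((congrArg (· ≫ g) (cokernel.π_desc _ _ _)).symm.trans (Category.assoc _ _ _))
  refine (Category.assoc _ _ _).trans (Eq.trans ?_ (Category.assoc _ _ _).symm)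
  exact congrArg (x ≫ ·) (kernel.lift_ι _ _ _)

lemma sectSuppF_map_ι (U : Opens X) {F G : CohTop.Ab X} (g : F ⟶ G) :
    (sectSuppF U).map g ≫ kernel.ι (η U G) = kernel.ι (η U F) ≫ g :=
  kernel.lift_ι _ _ _

instance preservesFiniteLimits_sectSuppF (U : Opens X) : PreservesFiniteLimits (sectSuppF U) := by
  rw [Functor.preservesFiniteLimits_iff_forall_exact_map_and_mono]
  intro S hS
  let R : CohTop.Ab X ⥤ CohTop.Ab (TopCat.of U) := Rf (j := CohCx.incl U) U.isOpenEmbedding'
  have := hS.mono_f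
  have hmono : Mono ((sectSuppF U).map S.f) := by
    refine @mono_of_mono _ _ _ _ _ _ (kernel.ι (η U S.X₂)) ?_
    rw [sectSuppF_map_ι]
    exact mono_comp (kernel.ι (η U S.X₁)) S.f
  haveI : Mono (S.map (sectSuppF U)).f := hmono
  refine ⟨ShortComplex.exact_of_f_is_kernel _ ?_, hmono⟩
  refine KernelFork.IsLimit.ofι' _ _ fun {T} k hk => ?_
  have hk' : (k ≫ kernel.ι (η U S.X₂)) ≫ S.g = 0 := by
    rw [Category.assoc, ← sectSuppF_map_ι U S.g, ← Category.assoc]
    exact (congrArg (· ≫ kernel.ι (η U S.X₃)) hk).trans zero_comp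
  let l : T ⟶ S.X₁ := hS.exact.lift _ hk'
  have hl : l ≫ S.f = k ≫ kernel.ι (η U S.X₂) := hS.exact.lift_f _ hk'
  refine ⟨kernel.lift (η U S.X₁) l ((comp_unit_eq_zero_iff U l).2 ?_), ?_⟩
  · haveI : PreservesFiniteLimits R :=
      Rf_preservesFiniteLimits U.isOpenEmbedding'
    have : Mono (R.map S.f) := R.map_mono S.f
    refine (cancel_mono (R.map S.f)).1 ?_
    rw [zero_comp, ← R.map_comp, hl]
    exact (comp_unit_eq_zero_iff U (k ≫ kernel.ι (η U S.X₂))).1
      (((Category.assoc _ _ _).trans (congrArg (k ≫ ·) (kernel.condition (η U S.X₂)))).trans comp_zero)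
  · apply (cancel_mono (kernel.ι (η U S.X₂))).1
    refine (Category.assoc _ _ _).trans ?_
    refine (congrArg (kernel.lift (η U S.X₁) l _ ≫ ·) (sectSuppF_map_ι U S.f)).trans ?_
    rw [← Category.assoc, kernel.lift_ι, hl]

/-- Long exact sequence: `H^i_{V∖W} → H^i(V) → H^i(W)`. -/
lemma exact_toHU (F : CohTop.Ab X) (i : ℕ) {W V : Opens X} (h : W ≤ V) :
    Function.Exact (toHU F i h) (CohTop.res F i h) := fun x =>
  ⟨fun hx => Ext.contravariant_sequence_exact₂ (zqSeq_shortExact h) F x hx, by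
    rintro ⟨y, rfl⟩
    show (Ext.mk₀ (zqSeq h).f).comp ((Ext.mk₀ (zqSeq h).g).comp y (zero_add i)) (zero_add i) = 0
    rw [Ext.mk₀_comp_mk₀_assoc, ShortComplex.zero, Ext.mk₀_zero, Ext.zero_comp]⟩

/-- Long exact sequence: `H^i(V) → H^i(W) → H^{i+1}_{V∖W}`. -/
lemma exact_res (F : CohTop.Ab X) (i : ℕ) {W V : Opens X} (h : W ≤ V) :
    Function.Exact (CohTop.res F i h) (delta F i h) := fun x =>
  ⟨fun hx => Ext.contravariant_sequence_exact₁ (zqSeq_shortExact h) F x
    (show 1 + i = i + 1 by omega) hx, by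
    rintro ⟨y, rfl⟩
    exact (zqSeq_shortExact h).extClass_comp_assoc y (h := by omega)⟩

/-- Long exact sequence: `H^i(W) → H^{i+1}_{V∖W} → H^{i+1}(V)`. -/
lemma exact_delta (F : CohTop.Ab X) (i : ℕ) {W V : Opens X} (h : W ≤ V) :
    Function.Exact (delta F i h) (toHU F (i + 1) h) := fun x =>
  ⟨fun hx => by
    obtain ⟨y, hy⟩ := Ext.contravariant_sequence_exact₃ (zqSeq_shortExact h) F x hx (n₀ := i) (by omega)
    exact ⟨y, hy⟩, by
    rintro ⟨y, rfl⟩
    show (Ext.mk₀ (zqSeq h).g).comp ((zqSeq_shortExact h).extClass.comp y (show 1 + i = i + 1 by omega)) (zero_add _) = 0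
    rw [← Ext.comp_assoc _ _ _ (zero_add 1) (by omega : 1 + i = i + 1)
      (show 0 + 1 + i = i + 1 by omega), (zqSeq_shortExact h).comp_extClass, Ext.zero_comp]⟩

lemma toHU_injective_zero (F : CohTop.Ab X) {W V : Opens X} (h : W ≤ V) :
    Function.Injective (toHU F 0 h) := by
  refine (injective_iff_map_eq_zero _).2 fun x hx => ?_
  obtain ⟨φ, rfl⟩ := (Ext.mk₀_bijective _ _).2 x
  change (Ext.mk₀ (zqSeq h).g).comp (Ext.mk₀ φ) (zero_add 0) = 0 at hx
  rw [Ext.mk₀_comp_mk₀, Ext.mk₀_eq_zero_iff] at hx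
  have := (zqSeq_shortExact h).epi_g
  rw [Ext.mk₀_eq_zero_iff]
  exact (cancel_epi (zqSeq h).g).1 (hx.trans comp_zero.symm)

end Groth.Agent.H15Site.LocCoh
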