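import Groth.Agent.H15Site.LocCohVanish
import Groth.Agent.H15Site.LocCohRestr
import Groth.Agent.S2439
import Groth.Agent.S2442
import Groth.Agent.S6031
import Groth.Agent.S6032
import Groth.Agent.S6026
import Groth.Agent.S6022
import Groth.Agent.S5173
import Groth.Agent.H4LC.Depth
import Groth.Agent.H4Depth.LocDepth
import Groth.Agent.H8Props.FlatDepth
import Groth.Agent.H29Fitt.Sheaf
import Groth.Agent.H17.AssPts
import Groth.Agent.H29Ref.StalkRestrict
import Mathlib

/-!
# Vanishing of local cohomology and depth on locally Noetherian schemes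

`isZero_HZsh_below_iff_depth`: `ℋ^i_Y(M) = 0` for `i < n` iff `depth M_x ≥ n` on `Y`.
-/

set_option autoImplicit false
set_option linter.style.haveILetI false
set_option linter.unusedSectionVars false
set_option backward.isDefEq.respectTransparency false

universe u

open CategoryTheory CategoryTheory.Limits AlgebraicGeometry Opposite TopologicalSpace

namespace Groth.Agent.H15Site.LocCohDepth

/-- Depth is invariant under semilinear equivalences. -/
theorem depth_eq_of_semilinear {R S : Type u} [CommRing R] [CommRing S] [IsLocalRing R]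
    [IsLocalRing S] {M N : Type u} [AddCommGroup M] [Module R M] [AddCommGroup N] [Module S N]
    (σ : R ≃+* S) (e : M ≃+ N) (he : ∀ (r : R) (m : M), e (r • m) = σ r • e m) :
    LocCoh.depth R M = LocCoh.depth S N := by
  letI := σ.toRingHom.toAlgebra
  letI : Module R N := Module.compHom N σ.toRingHom
  haveI : IsScalarTower R S N := IsScalarTower.of_algebraMap_smul fun _ _ => rfl
  rw [H8Props.FlatDepth.depth_eq_of_surjective (R := R) (S := S) (M := N) σ.surjective]
  exact H4Depth.depth_congr ({ e with map_smul' := he } : M ≃ₗ[R] N)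

variable {X : Scheme.{u}}

/-- Depth at a point of an affine open, by localisation of the sections. -/
theorem depth_stalk_eq {M : X.Modules} (hM : Coh.IsQCoh M) {V : X.Opens} (hV : IsAffineOpen V)
    (x : V) :
    LocCoh.depth (X.presheaf.stalk x.1) (M.presheaf.stalk x.1) =
      LocCoh.depth (Localization.AtPrime (hV.primeIdealOf x).asIdeal)
        (LocalizedModule (hV.primeIdealOf x).asIdeal.primeCompl Γ(M, V)) := by
  letI := TopCat.Presheaf.algebra_section_stalk X.presheaf x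
  letI := Module.compHom (M.presheaf.stalk x.1) (algebraMap Γ(X, V) (X.presheaf.stalk x.1))
  haveI : IsScalarTower Γ(X, V) (X.presheaf.stalk x.1) (M.presheaf.stalk x.1) :=
    .of_algebraMap_smul fun _ _ => rfl
  set P := (hV.primeIdealOf x).asIdeal
  haveI : IsLocalization P.primeCompl (X.presheaf.stalk x.1) := hV.isLocalization_stalk x
  haveI : IsLocalizedModule P.primeCompl (H29Fitt.germLin M x) :=
    H29Fitt.isLocalizedModule_germLin M hM hV x
  let σ := IsLocalization.algEquiv P.primeCompl (Localization.AtPrime P) (X.presheaf.stalk x.1)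
  letI : Module (Localization.AtPrime P) (M.presheaf.stalk x.1) :=
    Module.compHom _ σ.toRingEquiv.toRingHom
  haveI : IsScalarTower Γ(X, V) (Localization.AtPrime P) (M.presheaf.stalk x.1) :=
    .of_algebraMap_smul fun r m => by
      show σ (algebraMap _ _ r) • m = r • m
      rw [AlgEquiv.commutes, algebraMap_smul]
  let e := (IsLocalizedModule.iso P.primeCompl (H29Fitt.germLin M x)).extendScalarsOfIsLocalization
    P.primeCompl (Localization.AtPrime P)
  exact (depth_eq_of_semilinear σ.toRingEquiv e.toAddEquiv fun r m => e.map_smul r m).symm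

/-- Depth does not change on restricting to an open subscheme. -/
theorem depth_restrict (U : X.Opens) (K : X.Modules) (z : ↥(U : Scheme.{u})) :
    LocCoh.depth ((U : Scheme.{u}).presheaf.stalk z) ((K.restrict U.ι).presheaf.stalk z) =
      LocCoh.depth (X.presheaf.stalk z.1) (K.presheaf.stalk z.1) := by
  let N := (K.restrict U.ι).presheaf.stalk z
  let σ : X.presheaf.stalk z.1 ≃+* (U : Scheme.{u}).presheaf.stalk z :=
    RingEquiv.ofBijective (U.ι.stalkMap z).hom (ConcreteCategory.bijective_of_isIso (U.ι.stalkMap z))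
  let E : N ≃+ K.presheaf.stalk z.1 :=
    ((Scheme.Modules.restrictStalkNatIso U.ι z).app K).addCommGroupIsoToAddEquiv
  have key : ∀ (a : (U : Scheme.{u}).presheaf.stalk z) (v : N), E (a • v) = σ.symm a • E v := by
    intro a v
    obtain ⟨W, hzW, r, m, rfl, rfl⟩ : ∃ (W : (U : Scheme.{u}).Opens) (hz : z ∈ W)
        (r : Γ((U : Scheme.{u}), W)) (m : Γ(K.restrict U.ι, W)),
        (U : Scheme.{u}).presheaf.germ W z hz r = a ∧ (K.restrict U.ι).presheaf.germ W z hz m = v := by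
      obtain ⟨W₁, h₁, r, rfl⟩ := TopCat.Presheaf.exists_germ_eq (U : Scheme.{u}).presheaf a
      obtain ⟨W₂, h₂, m, rfl⟩ := TopCat.Presheaf.exists_germ_eq (K.restrict U.ι).presheaf v
      exact ⟨W₁ ⊓ W₂, ⟨h₁, h₂⟩, _, _,
        TopCat.Presheaf.germ_res_apply (U : Scheme.{u}).presheaf (homOfLE inf_le_left) z ⟨h₁, h₂⟩ r,
        TopCat.Presheaf.germ_res_apply (K.restrict U.ι).presheaf (homOfLE inf_le_right) z ⟨h₁, h₂⟩ m⟩
    have hg : ∀ m' : Γ(K.restrict U.ι, W), E ((K.restrict U.ι).presheaf.germ W z hzW m') =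
        K.presheaf.germ (U.ι ''ᵁ W) z.1 ⟨z, hzW, rfl⟩ m' :=
      fun m' => congr($(Scheme.Modules.germ_restrictStalkNatIso_hom_app U.ι z K (U := W) hzW) m')
    rw [← Mero.germ_smul, hg, hg]
    let mm : Γ(K, U.ι ''ᵁ W) := m
    rw [show (r • m : Γ(K.restrict U.ι, W)) = ((U.ι.appIso W).inv r • mm : Γ(K, U.ι ''ᵁ W)) from rfl,
      Mero.germ_smul]
    congr 1
    refine σ.injective ?_
    rw [σ.apply_symm_apply]
    show U.ι.stalkMap z (X.presheaf.germ (U.ι ''ᵁ W) (U.ι z) ⟨z, hzW, rfl⟩ ((U.ι.appIso W).inv r)) = _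
    rw [Scheme.Hom.germ_stalkMap_apply]
    have h1 := congr($(U.ι.appIso_inv_app W) r)
    rw [ConcreteCategory.comp_apply] at h1
    rw [h1, TopCat.Presheaf.germ_res_apply]
  exact depth_eq_of_semilinear σ.symm E key

/-- Cohomology with supports on an affine scheme is Koszul cohomology. -/
theorem nonempty_HZM_koszul (Y : Scheme.{u}) [IsAffine Y] (M : Y.Modules) [hM : Coh.IsQCoh M]
    (gs : List Γ(Y, ⊤)) (i : ℕ) :
    Nonempty (LocCohZ.HZM Y M i (⨆ j : Fin gs.length, Y.basicOpen (gs.get j)) ≃+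
      CohIII.koszulHLim gs (ModuleCat.of Γ(Y, ⊤) (M.val.obj (op ⊤))) i) := by
  have haff : ∀ j : Fin gs.length, IsAffineOpen (Y.basicOpen (gs.get j)) :=
    fun j => (isAffineOpen_top Y).basicOpen _
  obtain ⟨hs, hb⟩ := S6031.result Y M hM (⨆ j : Fin gs.length, Y.basicOpen (gs.get j))
  rcases i with _ | _ | i
  · obtain ⟨e₁⟩ := (S2442.result Y gs M).1
    obtain ⟨e₂⟩ := S6032.nonempty_zero (Y := Y) (Coh.toAb M)
      (⨆ j : Fin gs.length, Y.basicOpen (gs.get j))
    exact ⟨e₂.trans e₁⟩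
  · obtain ⟨e₁⟩ := (S2442.result Y gs M).2
    obtain ⟨e₂⟩ := S6032.nonempty_one (Y := Y) (Coh.toAb M)
      (⨆ j : Fin gs.length, Y.basicOpen (gs.get j)) hs
    exact ⟨e₂.trans e₁⟩
  · obtain ⟨e₁⟩ := S2439.result Y gs haff M (i + 1) (by omega)
    obtain ⟨e₂⟩ := H02CA.CM.nonempty_HHon_HnM M (⨆ j : Fin gs.length, Y.basicOpen (gs.get j)) (i + 1)
    exact ⟨((AddEquiv.ofBijective _ (hb (i + 1) (by omega))).symm.trans e₂.symm).trans e₁⟩

/-- Cohomology with supports on a Noetherian affine scheme is local cohomology for some ideal. -/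
theorem exists_ideal_HZM_iso (Y : Scheme.{u}) [IsAffine Y] [IsLocallyNoetherian Y]
    (M : Y.Modules) (hM : Coh.IsCoh M) (W : Y.Opens) :
    ∃ I : Ideal Γ(Y, ⊤), (∀ i, Nonempty (LocCohZ.HZM Y M i W ≃+ LocCoh.H I i Γ(M, ⊤))) ∧
      ∀ x : Y, x ∉ W ↔ I ≤ ((isAffineOpen_top Y).primeIdealOf ⟨x, trivial⟩).asIdeal := by
  classical
  haveI : IsNoetherianRing Γ(Y, ⊤) := IsLocallyNoetherian.component_noetherian ⟨⊤, isAffineOpen_top Y⟩
  haveI : IsNoetherian Y := ⟨⟩
  haveI := hM.1
  haveI : Module.Finite Γ(Y, ⊤) Γ(M, ⊤) :=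
    @H10Coh.finite_sections _ M hM.1 hM.2 _ (isAffineOpen_top Y)
  obtain ⟨s, hs⟩ : ∃ s : Finset Γ(Y, ⊤), ∀ x : Y, x ∈ W ↔ ∃ g ∈ s, x ∈ Y.basicOpen g := by
    have hc : IsCompact (W : Set Y) := NoetherianSpace.isCompact _
    choose g hg using fun x : W => (isAffineOpen_top Y).exists_basicOpen_le x trivial
    obtain ⟨t, ht⟩ := hc.elim_finite_subcover (fun x : W => ((Y.basicOpen (g x) : Y.Opens) : Set Y))
      (fun x => (Y.basicOpen (g x)).isOpen) fun x hx => Set.mem_iUnion.2 ⟨⟨x, hx⟩, (hg ⟨x, hx⟩).2⟩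
    refine ⟨t.image g, fun x => ⟨fun hx => ?_, ?_⟩⟩
    · obtain ⟨a, ha, hxa⟩ := Set.mem_iUnion₂.1 (ht hx)
      exact ⟨g a, Finset.mem_image_of_mem g ha, hxa⟩
    · rintro ⟨b, hb, hxb⟩
      obtain ⟨a, -, rfl⟩ := Finset.mem_image.1 hb
      exact (hg a).1 hxb
  let gs := s.toList
  have hW : W = ⨆ j : Fin gs.length, Y.basicOpen (gs.get j) := by
    refine Opens.ext (Set.ext fun x => (hs x).trans (Iff.trans ?_ Opens.mem_iSup.symm))
    constructor
    · rintro ⟨b, hb, hxb⟩
      obtain ⟨k, hk⟩ := List.get_of_mem (Finset.mem_toList.2 hb)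
      exact ⟨k, by rw [hk]; exact hxb⟩
    · rintro ⟨k, hk⟩
      exact ⟨_, Finset.mem_toList.1 (List.get_mem gs k), hk⟩
  let I : Ideal Γ(Y, ⊤) := Ideal.span {a | a ∈ gs}
  have hiso : ∀ i, Nonempty (LocCohZ.HZM Y M i W ≃+ LocCoh.H I i Γ(M, ⊤)) := fun i => by
    obtain ⟨e₁⟩ := nonempty_HZM_koszul Y M gs i
    obtain ⟨e₂⟩ := S5173.result Γ(Y, ⊤) gs Γ(M, ⊤) i
    rw [hW]
    exact ⟨e₁.trans e₂.symm.toAddEquiv⟩
  have hI : ∀ x : Y, x ∉ W ↔ I ≤ ((isAffineOpen_top Y).primeIdealOf ⟨x, trivial⟩).asIdeal := by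
    intro x
    rw [Ideal.span_le, hs]
    simp only [not_exists, not_and]
    exact ⟨fun h a ha => (H17.AssPts.mem_primeIdealOf _ _ a).2 (h a (Finset.mem_toList.1 ha)),
      fun h a ha => (H17.AssPts.mem_primeIdealOf _ _ a).1 (h (Finset.mem_toList.2 ha))⟩
  exact ⟨I, hiso, hI⟩

/-- The affine case. -/
theorem subsingleton_HZM_iff_depth (Y : Scheme.{u}) [IsAffine Y] [IsLocallyNoetherian Y]
    (M : Y.Modules) (hM : Coh.IsCoh M) (W : Y.Opens) (n : ℕ) :
    (∀ i : ℕ, i < n → Subsingleton (LocCohZ.HZM Y M i W)) ↔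
      ∀ x : Y, x ∉ W → (n : ℕ∞) ≤ LocCoh.depth (Y.presheaf.stalk x) (M.presheaf.stalk x) := by
  haveI : IsNoetherianRing Γ(Y, ⊤) := IsLocallyNoetherian.component_noetherian ⟨⊤, isAffineOpen_top Y⟩
  haveI := hM.1
  haveI : Module.Finite Γ(Y, ⊤) Γ(M, ⊤) :=
    @H10Coh.finite_sections _ M hM.1 hM.2 _ (isAffineOpen_top Y)
  obtain ⟨I, hiso, hI⟩ := exists_ideal_HZM_iso Y M hM W
  have h1 : (∀ i : ℕ, i < n → Subsingleton (LocCohZ.HZM Y M i W)) ↔
      (n : ℕ∞) ≤ LocCoh.idealDepth I Γ(M, ⊤) := by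
    rw [H4LC.le_idealDepth_iff_H]
    exact forall₂_congr fun i _ => (hiso i).some.toEquiv.subsingleton_congr
  rw [h1, H4Depth.idealDepth_eq_iInf_depth_localization, le_iInf₂_iff]
  constructor
  · intro h x hx
    rw [depth_stalk_eq hM.1 (isAffineOpen_top Y) ⟨x, trivial⟩]
    exact h _ ((hI x).1 hx)
  · intro h p hp
    obtain ⟨x, rfl⟩ : ∃ x : (⊤ : Y.Opens), (isAffineOpen_top Y).primeIdealOf x = p := by
      refine ⟨⟨(isAffineOpen_top Y).fromSpec p, trivial⟩, (isAffineOpen_top Y).fromSpec.isOpenEmbedding.injective ?_⟩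
      exact (isAffineOpen_top Y).fromSpec_primeIdealOf _
    rw [← depth_stalk_eq hM.1 (isAffineOpen_top Y) x]
    exact h x.1 ((hI x.1).2 hp)

/-- Cohomology with supports on an affine open against depth. -/
theorem subsingleton_HZ_iff_depth [IsLocallyNoetherian X] {M : X.Modules} (hM : Coh.IsCoh M)
    (U : X.Opens) {V : X.Opens} (hV : IsAffineOpen V) (n : ℕ) :
    (∀ i : ℕ, i < n → Subsingleton
        (LocCohZ.HZ (X := X.carrier) (Coh.toAb M) i (inf_le_left : V ⊓ U ≤ V))) ↔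
      ∀ x ∈ V, x ∉ U → (n : ℕ∞) ≤ LocCoh.depth (X.presheaf.stalk x) (M.presheaf.stalk x) := by
  haveI : IsAffine (V : Scheme.{u}) := hV
  haveI : IsLocallyNoetherian (V : Scheme.{u}) := isLocallyNoetherian_of_isOpenImmersion V.ι
  have e : ∀ i, Nonempty (LocCohZ.HZ (X := X.carrier) (Coh.toAb M) i (inf_le_left : V ⊓ U ≤ V) ≃+
      LocCohZ.HZM (V : Scheme.{u}) (M.restrict V.ι) i (V.ι ⁻¹ᵁ (V ⊓ U))) := fun i => by
    obtain ⟨e, -⟩ := S6026.result (X := X.carrier) (inf_le_left : V ⊓ U ≤ V) i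
    exact ⟨e (Coh.toAb M)⟩
  refine (forall₂_congr fun i _ => (e i).some.toEquiv.subsingleton_congr).trans
    ((subsingleton_HZM_iff_depth (V : Scheme.{u}) (M.restrict V.ι)
      (H10Coh.isCoh_restrict V.ι M hM) (V.ι ⁻¹ᵁ (V ⊓ U)) n).trans ⟨?_, ?_⟩)
  · intro h x hxV hxU
    have := h ⟨x, hxV⟩ fun hh => hxU hh.2
    rwa [depth_restrict] at this
  · intro h z hz
    rw [depth_restrict]
    exact h z.1 z.2 fun hh => hz ⟨z.2, hh⟩

open LocCohZ in
theorem isZero_HZsh_below_iff_depth [IsLocallyNoetherian X] {M : X.Modules} (hM : Coh.IsCoh M)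
    (U : X.Opens) (n : ℕ) :
    (∀ i : ℕ, i < n → IsZero ((LocCohZ.HZsh (X := X.carrier) U i).obj (Coh.toAb M))) ↔
      ∀ x : X, x ∉ (U : Set X) →
        (n : ℕ∞) ≤ LocCoh.depth (X.presheaf.stalk x) (M.presheaf.stalk x) := by
  constructor
  · intro h x hx
    obtain ⟨_, ⟨V, hV, rfl⟩, hxV, -⟩ :=
      X.isBasis_affineOpens.exists_subset_of_mem_open (Set.mem_univ x) isOpen_univ
    exact (subsingleton_HZ_iff_depth hM U hV n).1
      (fun i hi => (S6022.result (X := X.carrier) (Coh.toAb M) U n).1 h V i hi) x hxV hx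
  · intro h
    have key : ∀ N, N ≤ n →
        ∀ i, i < N → IsZero ((LocCohZ.HZsh (X := X.carrier) U i).obj (Coh.toAb M)) := by
      intro N
      induction N with
      | zero => exact fun _ i hi => absurd hi (Nat.not_lt_zero i)
      | succ N ih =>
        intro hN
        refine (S6022.result (X := X.carrier) (Coh.toAb M) U (N + 1)).2 fun V i hi => ?_
        rcases lt_or_eq_of_le (Nat.le_of_lt_succ hi) with hlt | rfl
        · exact (S6022.result (X := X.carrier) (Coh.toAb M) U N).1 (ih (by omega)) V i hlt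
        · refine subsingleton_of_forall_eq 0 fun y =>
            LocCoh.eq_zero_of_locally_eq_zero (X := X.carrier) U i (Coh.toAb M) (ih (by omega)) V y
              fun p hp => ?_
          obtain ⟨_, ⟨V', hV', rfl⟩, hpV', hle⟩ :=
            X.isBasis_affineOpens.exists_subset_of_mem_open hp V.isOpen
          haveI := (subsingleton_HZ_iff_depth hM U hV' n).2 (fun x _ hx => h x hx) i (by omega)
          exact ⟨V', hle, hpV', Subsingleton.elim _ _⟩
    exact key n le_rfl

end Groth.Agent.H15Site.LocCohDepth
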