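import Groth.Agent.H16Derived.DTrunc
import Mathlib.Algebra.Homology.DerivedCategory.Fractions
import Mathlib.Algebra.Homology.DerivedCategory.SingleTriangle
import Mathlib.Algebra.Homology.SingleHomology
import Mathlib.Algebra.Homology.DerivedCategory.FullyFaithful

/-!
# Morphisms out of an object of the heart, up to epimorphisms
-/

set_option autoImplicit false
set_option linter.style.haveILetI false

universe w v u

open CategoryTheory CategoryTheory.Limits CategoryTheory.Pretriangulated CategoryTheory.Triangulated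
open DerivedCategory DerivedCategory.TStructure

namespace Groth.Agent.H15Site.DKill

variable {A : Type u} [Category.{v} A] [Abelian A] [HasDerivedCategory.{w} A]

/-- A morphism from an object of the heart to an object `≤ -1` dies on an epimorphism. -/
theorem exists_epi_comp_eq_zero_of_isLE {X : A} {W : DerivedCategory A} (y : (singleFunctor A 0).obj X ⟶ W)
    [W.IsLE (-1)] :
    ∃ (X' : A) (p : X' ⟶ X), Epi p ∧ (singleFunctor A 0).map p ≫ y = 0 := by
  obtain ⟨K, hK, ⟨e⟩⟩ := W.exists_iso_Q_obj_of_isLE (-1)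
  let S : CochainComplex A ℤ := (CochainComplex.singleFunctor A 0).obj X
  haveI : S.IsStrictlyLE 0 := by
    rw [CochainComplex.isStrictlyLE_iff]
    exact fun i hi => HomologicalComplex.isZero_single_obj_X (ComplexShape.up ℤ) 0 X i (by omega)
  let y₁ : Q.obj S ⟶ Q.obj K := y ≫ e.hom
  obtain ⟨X', hX', s, hs, g, hy⟩ := DerivedCategory.right_fac_of_isStrictlyLE y₁ 0
  haveI : QuasiIso s := (DerivedCategory.isIso_Q_map_iff_quasiIso A s).1 hs
  have hd : X'.d 0 1 = 0 := (CochainComplex.isZero_of_isStrictlyLE X' 0 1 (by omega)).eq_of_tgt _ _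
  haveI : IsIso (X'.iCycles 0) := X'.isIso_iCycles 0 1 (by simp) hd
  haveI : IsIso (S.iCycles 0) := S.isIso_iCycles 0 1 (by simp)
    ((HomologicalComplex.isZero_single_obj_X (ComplexShape.up ℤ) 0 X 1 (by omega)).eq_of_tgt _ _)
  haveI : IsIso (S.homologyπ 0) := S.isIso_homologyπ (-1) 0 (by simp)
    ((HomologicalComplex.isZero_single_obj_X (ComplexShape.up ℤ) 0 X (-1) (by omega)).eq_of_src _ _)
  haveI : IsIso (HomologicalComplex.homologyMap s 0) :=
    (quasiIsoAt_iff_isIso_homologyMap s 0).1 inferInstance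
  haveI : Epi (HomologicalComplex.cyclesMap s 0 ≫ S.homologyπ 0) := by
    rw [← HomologicalComplex.homologyπ_naturality]
    infer_instance
  haveI : Epi (HomologicalComplex.cyclesMap s 0) := by
    have e1 : HomologicalComplex.cyclesMap s 0 =
        (HomologicalComplex.cyclesMap s 0 ≫ S.homologyπ 0) ≫ inv (S.homologyπ 0) := by simp
    rw [e1]
    exact epi_comp _ _
  haveI : Epi (X'.iCycles 0 ≫ s.f 0) := by
    rw [← HomologicalComplex.cyclesMap_i]
    exact epi_comp _ _
  haveI : Epi (s.f 0) := epi_of_epi (X'.iCycles 0) _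
  let j : (CochainComplex.singleFunctor A 0).obj (X'.X 0) ⟶ X' :=
    HomologicalComplex.mkHomFromSingle (𝟙 _) (fun k hk => by
      obtain rfl : (1 : ℤ) = k := by simpa using hk
      rw [hd, comp_zero])
  haveI : Epi (s.f 0 ≫ (HomologicalComplex.singleObjXSelf (ComplexShape.up ℤ) 0 X).hom) :=
    epi_comp' inferInstance ⟨fun a b h => (Iso.cancel_iso_hom_left _ a b).1 h⟩
  refine ⟨X'.X 0, s.f 0 ≫ (HomologicalComplex.singleObjXSelf (ComplexShape.up ℤ) 0 X).hom,
    inferInstance, ?_⟩
  have hjs : (CochainComplex.singleFunctor A 0).map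
      (s.f 0 ≫ (HomologicalComplex.singleObjXSelf _ 0 X).hom) = j ≫ s := by
    refine HomologicalComplex.from_single_hom_ext ?_
    change ((HomologicalComplex.single A (ComplexShape.up ℤ) 0).map _).f 0 = j.f 0 ≫ s.f 0
    rw [HomologicalComplex.single_map_f_self, HomologicalComplex.mkHomFromSingle_f,
      Category.comp_id]
    refine congrArg _ ?_
    exact (Category.assoc _ _ _).trans ((congrArg (s.f 0 ≫ ·) (Iso.hom_inv_id _)).trans
      (Category.comp_id _))
  have hjg : j ≫ g = 0 := by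
    refine HomologicalComplex.from_single_hom_ext ?_
    exact (CochainComplex.isZero_of_isStrictlyLE K (-1) 0 (by omega)).eq_of_tgt _ _
  rw [← cancel_mono e.hom, zero_comp, Category.assoc]
  change Q.map ((CochainComplex.singleFunctor A 0).map _) ≫ y₁ = 0
  rw [hjs, hy, Functor.map_comp, Category.assoc]
  exact (congrArg (Q.map j ≫ ·) (IsIso.hom_inv_id_assoc (Q.map s) (Q.map g))).trans
    (by rw [← Functor.map_comp, hjg, Functor.map_zero])

/-- A class vanishing on `H⁰` dies on an epimorphism. -/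
theorem exists_epi_comp_eq_zero {X : A} {W : DerivedCategory A} (y : (singleFunctor A 0).obj X ⟶ W)
    (hy : (homologyFunctor A 0).map y = 0) :
    ∃ (X' : A) (p : X' ⟶ X), Epi p ∧ (singleFunctor A 0).map p ≫ y = 0 := by
  obtain ⟨y', hy'⟩ := H16Derived.DTrunc.exists_factor_truncLT y 0 hy
  haveI : DerivedCategory.IsLE ((t.truncLT 0).obj W) (-1) :=
    inferInstanceAs (t.IsLE ((t.truncLT 0).obj W) (0 - 1))
  obtain ⟨X', p, hp, h⟩ := exists_epi_comp_eq_zero_of_isLE y'
  exact ⟨X', p, hp, by rw [← hy', ← Category.assoc, h, zero_comp]⟩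

/-- A map into `H⁰` is realised, after an epimorphism, by a class. -/
theorem exists_epi_lift {X : A} {W : DerivedCategory A}
    (k : (homologyFunctor A 0).obj ((singleFunctor A 0).obj X) ⟶ (homologyFunctor A 0).obj W) :
    ∃ (X' : A) (p : X' ⟶ X) (y : (singleFunctor A 0).obj X' ⟶ W), Epi p ∧
      (homologyFunctor A 0).map y = (homologyFunctor A 0).map ((singleFunctor A 0).map p) ≫ k := by
  let W' := (t.truncLT 1).obj W
  haveI : DerivedCategory.IsLE W' 0 := inferInstanceAs (t.IsLE ((t.truncLT 1).obj W) (1 - 1))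
  haveI := H16Derived.DTrunc.isIso_homology_truncLTι W 1 0 one_pos
  haveI := H16Derived.DTrunc.isIso_homology_truncGEπ W' 0 0 le_rfl
  let T := (t.triangleLTGE 0).obj W'
  have hT : T ∈ distTriang _ := t.triangleLTGE_distinguished 0 W'
  haveI : DerivedCategory.IsLE ((t.truncGE 0).obj W') 0 := H16Derived.DTrunc.isLE_truncGE W' 0 0
  haveI : DerivedCategory.IsGE ((t.truncGE 0).obj W') 0 :=
    inferInstanceAs (t.IsGE ((t.truncGE 0).obj W') 0)
  obtain ⟨Z, ⟨e⟩⟩ := ((t.truncGE 0).obj W').exists_iso_singleFunctor_obj_of_isGE_of_isLE 0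
  let k' : (homologyFunctor A 0).obj ((singleFunctor A 0).obj X) ⟶
      (homologyFunctor A 0).obj ((singleFunctor A 0).obj Z) :=
    k ≫ inv ((homologyFunctor A 0).map ((t.truncLTι 1).app W)) ≫
      (homologyFunctor A 0).map ((t.truncGEπ 0).app W') ≫ (homologyFunctor A 0).map e.hom
  let ι := singleFunctorCompHomologyFunctorIso A 0
  let f₀ : X ⟶ Z := ι.inv.app X ≫ k' ≫ ι.hom.app Z
  have hf₀ : (homologyFunctor A 0).map ((singleFunctor A 0).map f₀) = k' := by
    have := ι.hom.naturality f₀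
    rw [← cancel_mono (ι.hom.app Z)]
    exact this.trans (by simp [f₀])
  let f : (singleFunctor A 0).obj X ⟶ (t.truncGE 0).obj W' := (singleFunctor A 0).map f₀ ≫ e.inv
  haveI : DerivedCategory.IsLE T.obj₁ (-1) := inferInstanceAs (t.IsLE ((t.truncLT 0).obj W') (0 - 1))
  haveI : DerivedCategory.IsLE (T.obj₁⟦(1 : ℤ)⟧) (-1) := by
    have h2 : t.IsLE (T.obj₁⟦(1 : ℤ)⟧) (-2) := t.isLE_shift T.obj₁ (-1) 1 (-2) (by norm_num)
    exact t.isLE_of_le _ (-2) (-1) (by norm_num)
  obtain ⟨X', p, hp, h⟩ := exists_epi_comp_eq_zero_of_isLE (f ≫ T.mor₃)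
  obtain ⟨y₀, hy₀⟩ : ∃ y₀ : (singleFunctor A 0).obj X' ⟶ W',
      (singleFunctor A 0).map p ≫ f = y₀ ≫ (t.truncGEπ 0).app W' :=
    Triangle.coyoneda_exact₃ T hT ((singleFunctor A 0).map p ≫ f)
      ((Category.assoc _ _ _).trans h)
  have hπ : (homologyFunctor A 0).map y₀ ≫ (homologyFunctor A 0).map ((t.truncGEπ 0).app W') =
      (homologyFunctor A 0).map ((singleFunctor A 0).map p) ≫ (homologyFunctor A 0).map f := by
    exact ((homologyFunctor A 0).map_comp _ _).symm.trans
      ((congrArg _ hy₀.symm).trans ((homologyFunctor A 0).map_comp _ _))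
  refine ⟨X', p, y₀ ≫ (t.truncLTι 1).app W, hp, ?_⟩
  rw [← cancel_mono (inv ((homologyFunctor A 0).map ((t.truncLTι 1).app W))),
    ← cancel_mono ((homologyFunctor A 0).map ((t.truncGEπ 0).app W')),
    Functor.map_comp, Category.assoc ((homologyFunctor A 0).map y₀), IsIso.hom_inv_id,
    Category.comp_id, hπ, ← cancel_mono ((homologyFunctor A 0).map e.hom)]
  have hf : (homologyFunctor A 0).map f ≫ (homologyFunctor A 0).map e.hom = k' := by
    rw [← Functor.map_comp]
    change (homologyFunctor A 0).map (((singleFunctor A 0).map f₀ ≫ e.inv) ≫ e.hom) = k'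
    rw [Category.assoc, e.inv_hom_id, Category.comp_id, hf₀]
  rw [Category.assoc, hf]
  simp only [k', Category.assoc]

end Groth.Agent.H15Site.DKill
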