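import Groth.Agent.H16Derived.DTrunc

/-!
# Vanishing of morphisms into a bounded below object from vanishing on its cohomology
-/

set_option autoImplicit false
set_option linter.style.haveILetI false

universe w v u

open CategoryTheory CategoryTheory.Limits CategoryTheory.Pretriangulated CategoryTheory.Triangulated
open DerivedCategory DerivedCategory.TStructure

namespace Groth.Agent.H15Site.DVanish

variable {A : Type u} [Category.{v} A] [Abelian A] [HasDerivedCategory.{w} A]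

theorem subsingleton_of_homology_aux (X : A) :
    ∀ (N : ℕ) (W : DerivedCategory A) [W.IsGE (1 - (N : ℤ))],
      (∀ k : ℕ, Subsingleton ((singleFunctor A 0).obj X ⟶
        ((singleFunctor A 0).obj ((homologyFunctor A (-(k : ℤ))).obj W))⟦(k : ℤ)⟧)) →
      ∀ f : (singleFunctor A 0).obj X ⟶ W, f = 0 := by
  intro N
  induction N with
  | zero =>
    intro W _ _ f
    haveI : DerivedCategory.IsLE ((singleFunctor A 0).obj X) 0 := inferInstance
    haveI : W.IsGE 1 := by simpa using (inferInstance : W.IsGE (1 - ((0 : ℕ) : ℤ)))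
    exact t.zero_of_isLE_of_isGE f 0 1 zero_lt_one inferInstance inferInstance
  | succ N ih =>
    intro W hW hk f
    haveI : W.IsGE (-(N : ℤ)) := by
      have e : (1 - ((N + 1 : ℕ) : ℤ)) = -(N : ℤ) := by omega
      rwa [e] at hW
    let T := (t.triangleLTGE (1 - (N : ℤ))).obj W
    have hT : T ∈ distTriang _ := t.triangleLTGE_distinguished _ W
    haveI : DerivedCategory.IsGE ((t.truncGE (1 - (N : ℤ))).obj W) (1 - (N : ℤ)) :=
      inferInstanceAs (t.IsGE ((t.truncGE (1 - (N : ℤ))).obj W) (1 - (N : ℤ)))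
    have h1 : f ≫ (t.truncGEπ (1 - (N : ℤ))).app W = 0 := by
      refine ih _ (fun k => ?_) _
      by_cases hkN : 1 - (N : ℤ) ≤ -(k : ℤ)
      · haveI := H16Derived.DTrunc.isIso_homology_truncGEπ W (1 - (N : ℤ)) (-(k : ℤ)) hkN
        let e := ((singleFunctor A 0) ⋙ shiftFunctor (DerivedCategory A) (k : ℤ)).mapIso
          (asIso ((homologyFunctor A (-(k : ℤ))).map ((t.truncGEπ (1 - (N : ℤ))).app W)))
        exact ⟨fun a b => by
          haveI := hk k
          exact (cancel_mono e.inv).1 (Subsingleton.elim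
            (α := (singleFunctor A 0).obj X ⟶
              ((singleFunctor A 0).obj ((homologyFunctor A (-(k : ℤ))).obj W))⟦(k : ℤ)⟧) _ _)⟩
      · have hz := DerivedCategory.isZero_of_isGE ((t.truncGE (1 - (N : ℤ))).obj W) (1 - (N : ℤ))
          (-(k : ℤ)) (by omega)
        exact ⟨fun a b => ((shiftFunctor (DerivedCategory A) (k : ℤ)).map_isZero
          ((singleFunctor A 0).map_isZero hz)).eq_of_tgt a b⟩
    obtain ⟨g, hg⟩ : ∃ g : (singleFunctor A 0).obj X ⟶ (t.truncLT (1 - (N : ℤ))).obj W,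
        f = g ≫ (t.truncLTι (1 - (N : ℤ))).app W :=
      Triangle.coyoneda_exact₂ T hT f h1
    let V := (t.truncLT (1 - (N : ℤ))).obj W
    haveI : DerivedCategory.IsLE V (-(N : ℤ)) := by
      have h2 : t.IsLE ((t.truncLT (1 - (N : ℤ))).obj W) (1 - (N : ℤ) - 1) := inferInstance
      exact t.isLE_of_le V (1 - (N : ℤ) - 1) (-(N : ℤ)) (by omega)
    haveI : DerivedCategory.IsGE V (-(N : ℤ)) :=
      H16Derived.DTrunc.isGE_truncLT W (1 - (N : ℤ)) (-(N : ℤ))
    obtain ⟨Z, ⟨e⟩⟩ := V.exists_iso_singleFunctor_obj_of_isGE_of_isLE (-(N : ℤ))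
    haveI := H16Derived.DTrunc.isIso_homology_truncLTι W (1 - (N : ℤ)) (-(N : ℤ)) (by omega)
    let eZ : Z ≅ (homologyFunctor A (-(N : ℤ))).obj W :=
      ((singleFunctorCompHomologyFunctorIso A (-(N : ℤ))).app Z).symm ≪≫
        ((homologyFunctor A (-(N : ℤ))).mapIso e.symm) ≪≫
        asIso ((homologyFunctor A (-(N : ℤ))).map ((t.truncLTι (1 - (N : ℤ))).app W))
    let e' : V ≅ ((singleFunctor A 0).obj ((homologyFunctor A (-(N : ℤ))).obj W))⟦(N : ℤ)⟧ :=
      e ≪≫ (singleFunctor A (-(N : ℤ))).mapIso eZ ≪≫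
        (((singleFunctors A).shiftIso (N : ℤ) (-(N : ℤ)) 0 (by omega)).app _).symm
    have hg0 : g ≫ e'.hom = 0 := by
      haveI := hk N
      exact Subsingleton.elim (α := (singleFunctor A 0).obj X ⟶
        ((singleFunctor A 0).obj ((homologyFunctor A (-(N : ℤ))).obj W))⟦(N : ℤ)⟧) _ _
    have hg1 : g = 0 := (cancel_mono e'.hom).1 (hg0.trans zero_comp.symm)
    rw [hg, hg1, zero_comp]

/-- Morphisms from an object in degree `0` to `Y⟦m⟧`, for bounded below `Y`, vanish if the groups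
`Extᵏ(X, H^{m-k} Y)` do. -/
theorem eq_zero_of_homology (X : A) (Y : DerivedCategory A) (a m : ℤ) [Y.IsGE a]
    (h : ∀ (k : ℕ) (q : ℤ), q + k = m → Subsingleton ((singleFunctor A 0).obj X ⟶
      ((singleFunctor A 0).obj ((homologyFunctor A q).obj Y))⟦(k : ℤ)⟧))
    (f : (singleFunctor A 0).obj X ⟶ Y⟦m⟧) : f = 0 := by
  haveI : DerivedCategory.IsGE (Y⟦m⟧) (1 - ((m + 1 - a).toNat : ℤ)) := by
    have h2 : t.IsGE (Y⟦m⟧) (a - m) := t.isGE_shift Y a m (a - m) (by omega)
    exact t.isGE_of_ge (Y⟦m⟧) _ (a - m) (by omega)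
  refine subsingleton_of_homology_aux X (m + 1 - a).toNat _ (fun k => ?_) f
  let e : (homologyFunctor A (-(k : ℤ))).obj (Y⟦m⟧) ≅ (homologyFunctor A (m - k)).obj Y :=
    ((homologyFunctor A 0).shiftIso m (-(k : ℤ)) (m - k) (by omega)).app Y
  haveI := h k (m - k) (by omega)
  let e' := ((singleFunctor A 0) ⋙ shiftFunctor (DerivedCategory A) (k : ℤ)).mapIso e
  exact ⟨fun a b => (cancel_mono e'.hom).1 (Subsingleton.elim (α := (singleFunctor A 0).obj X ⟶
    ((singleFunctor A 0).obj ((homologyFunctor A (m - k)).obj Y))⟦(k : ℤ)⟧) _ _)⟩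

end Groth.Agent.H15Site.DVanish
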