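import Groth.Agent.H15Site.LocLift
import Groth.Agent.H16Derived.ProjLift
import Mathlib.Algebra.Homology.HomotopyCategory.MappingCone

/-!
# Maps out of strictly perfect complexes on a ringed site are locally determined by cohomology

Port to sites of `Groth.Agent.H16Derived.KFlat.PerfLift`.
-/

universe u

open CategoryTheory CategoryTheory.Limits Opposite

set_option linter.style.haveILetI false
set_option backward.isDefEq.respectTransparency false

namespace Groth.Agent.H15Site.SitePerfLift

open ModTensor ModRel LocGen LocLift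

attribute [local instance 10000] SiteInst.hasSheafifySite SiteInst.hasWeakSheafifySite

variable {C : Type u} [SmallCategory C] {J : GrothendieckTopology C} {O : Sheaf J CommRingCat.{u}}

instance additive_restr (W : C) : (ModSite.restr O W).Additive := ⟨rfl⟩

/-- Restriction of a morphism of restricted modules along `g : W' ⟶ W`. -/
noncomputable def tr {W W' : C} (g : W' ⟶ W) {E F : ModSite.Mod O}
    (φ : (ModSite.restr O W).obj E ⟶ (ModSite.restr O W).obj F) :
    (ModSite.restr O W').obj E ⟶ (ModSite.restr O W').obj F :=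
  ⟨{ app := fun Z => ModuleCat.ofHom (X := ((ModSite.restr O W').obj E).val.obj Z)
        (Y := ((ModSite.restr O W').obj F).val.obj Z)
        (φ.val.app (op ((Over.map g).obj Z.unop))).hom
     naturality := fun {Z Z'} a => by
       ext x
       exact PresheafOfModules.naturality_apply φ.val ((Over.map g).map a.unop).op x }⟩

variable {W W' : C} (g : W' ⟶ W) {E F G : ModSite.Mod O}

lemma tr_map (f : E ⟶ F) : tr g ((ModSite.restr O W).map f) = (ModSite.restr O W').map f := rfl

lemma tr_comp (φ : (ModSite.restr O W).obj E ⟶ (ModSite.restr O W).obj F)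
    (ψ : (ModSite.restr O W).obj F ⟶ (ModSite.restr O W).obj G) :
    tr g (φ ≫ ψ) = tr g φ ≫ tr g ψ := rfl

lemma tr_add (φ ψ : (ModSite.restr O W).obj E ⟶ (ModSite.restr O W).obj F) :
    tr g (φ + ψ) = tr g φ + tr g ψ := rfl

/-- Kernel sections. -/
theorem exists_kernel_lift_global {M N : ModSite.Mod O} (f : M ⟶ N) {X : Cᵒᵖ}
    (z : ((forg O).obj M).obj X) (hz : (f.val.app X).hom z = 0) :
    ∃ y : ((forg O).obj (kernel f)).obj X, ((kernel.ι f).val.app X).hom y = z := by
  let E := SheafOfModules.forget (ModSite.ringSh O) ⋙ PresheafOfModules.evaluation _ X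
  let S := ShortComplex.mk (kernel.ι f) f (kernel.condition f)
  have hS : S.Exact := ShortComplex.exact_kernel f
  have : PreservesLimit (parallelPair S.g 0) E := inferInstance
  have h := hS.map_of_mono_of_preservesKernel E (inferInstanceAs (Mono (kernel.ι f))) this
  exact (ShortComplex.moduleCat_exact_iff _).1 h z hz

/-- A map out of a summand of a finite free module killed by `S.g` lifts locally through `S.f`. -/
theorem exists_lift_exact {E : ModSite.Mod O} (hE : DCoh.IsFinFreeSummandMod (ModSite.ringSh O) E)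
    {S : ShortComplex (ModSite.Mod O)} (hS : S.Exact)
    (δ : (ModSite.restr O W).obj E ⟶ (ModSite.restr O W).obj S.X₂)
    (hδ : δ ≫ (ModSite.restr O W).map S.g = 0) :
    ∃ R ∈ J W, ∀ ⦃W' : C⦄ (g : W' ⟶ W), R g →
      ∃ l : (ModSite.restr O W').obj E ⟶ (ModSite.restr O W').obj S.X₁,
        l ≫ (ModSite.restr O W').map S.f = tr g δ := by
  obtain ⟨n, i, r, hir⟩ := hE
  obtain ⟨π, hπ⟩ := exists_proj (O := O) (ULift.{u} (Fin n))
  let ψ := (ModSite.restr O W).map r ≫ δ
  let t : ULift.{u} (Fin n) → ((forg O).obj S.X₂).obj (op W) := fun j =>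
    (((ModSite.restr O W).map (SheafOfModules.ιFree j) ≫ ψ).val.app (op (Over.mk (𝟙 W)))).hom
      (1 : O.obj.obj (op W))
  have ht : ∀ j, (S.g.val.app (op W)).hom (t j) = 0 := fun j => by
    have h0 : ((ModSite.restr O W).map (SheafOfModules.ιFree j) ≫ ψ) ≫ (ModSite.restr O W).map S.g = 0 := by
      simp only [ψ, Category.assoc, hδ, comp_zero]
    exact congrArg (fun a => (a.val.app (op (Over.mk (𝟙 W)))).hom (1 : O.obj.obj (op W))) h0
  haveI : Epi (kernel.lift S.g S.f S.zero) := (ShortComplex.exact_iff_epi_kernel_lift S).1 hS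
  choose y hy using fun j => exists_kernel_lift_global S.g (t j) (ht j)
  choose T hT hT' using fun j => (epi_iff_locSurj (kernel.lift S.g S.f S.zero)).1 inferInstance W (y j)
  refine ⟨Finset.univ.inf T, ?_, fun W' g hg => ?_⟩
  · exact Finset.inf_induction (J.top_mem W) (fun _ ha _ hb => J.intersection_covering ha hb)
      (fun j _ => hT j)
  · have hgj : ∀ j, T j g := fun j =>
      (Finset.inf_le (Finset.mem_univ j) : Finset.univ.inf T ≤ T j) _ hg
    choose z hz using fun j => hT' j g (hgj j)
    have hzf : ∀ j, (S.f.val.app (op W')).hom (z j) = rs ((forg O).obj S.X₂) g.op (t j) := fun j => by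
      have e := congrArg ((kernel.ι S.g).val.app (op W')).hom (hz j)
      refine (Eq.trans ?_ e).trans ((rs_app ((forg O).map (kernel.ι S.g)) g.op (y j)).trans
        (congrArg (rs ((forg O).obj S.X₂) g.op) (hy j)))
      exact (congrArg (fun a : S.X₁ ⟶ S.X₂ => (a.val.app (op W')).hom (z j))
        (kernel.lift_ι S.g S.f S.zero)).symm
    refine ⟨(ModSite.restr O W').map i ≫
      ∑ j, (ModSite.restr O W').map (π j) ≫ secMor (z j), ?_⟩
    have h2 : ∀ j, secMor (z j) ≫ (ModSite.restr O W').map S.f =
        tr g ((ModSite.restr O W).map (SheafOfModules.ιFree j) ≫ ψ) := by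
      intro j
      refine ((ModSite.restr O W').obj S.X₂).unitHomEquiv.injective (Subtype.ext (funext fun Z => ?_))
      obtain ⟨Z⟩ := Z
      show (S.f.val.app (op Z.left)).hom (((secMor (z j)).val.app (op Z)).hom (1 : O.obj.obj (op Z.left))) =
        (((ModSite.restr O W).map (SheafOfModules.ιFree j) ≫ ψ).val.app
          (op ((Over.map g).obj Z))).hom (1 : O.obj.obj (op Z.left))
      rw [secMor_app, one_smul]
      refine (rs_app ((forg O).map S.f) Z.hom.op (z j)).trans ?_
      refine (congrArg (rs ((forg O).obj S.X₂) Z.hom.op) (hzf j)).trans ?_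
      rw [rs_rs]
      let a : (Over.map g).obj Z ⟶ Over.mk (𝟙 W) := Over.homMk (Z.hom ≫ g) (Category.comp_id _)
      have e := PresheafOfModules.naturality_apply
        ((ModSite.restr O W).map (SheafOfModules.ιFree j) ≫ ψ).val a.op (1 : O.obj.obj (op W))
      refine Eq.trans ?_ e.symm |>.trans ?_
      · rfl
      · exact congrArg _ (map_one (O.obj.map a.left.op).hom)
    have key : (∑ j, (ModSite.restr O W').map (π j) ≫ secMor (z j)) ≫ (ModSite.restr O W').map S.f =
        tr g ψ := by
      simp only [Preadditive.sum_comp, Category.assoc, h2, tr_comp, tr_map]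
      simp only [← Category.assoc, ← Functor.map_comp, ← Preadditive.sum_comp, ← Functor.map_sum, hπ,
        CategoryTheory.Functor.map_id, Category.id_comp]
    rw [Category.assoc, key]
    show _ ≫ (ModSite.restr O W').map r ≫ tr g δ = _
    rw [← Category.assoc, ← Functor.map_comp, hir, CategoryTheory.Functor.map_id, Category.id_comp]

variable {E F : CochainComplex (ModSite.Mod O) ℤ}

/-- A family `h` solving the homotopy equations in degrees `≥ k` over `W`. -/
def IsPartialHomotopy (α : E ⟶ F) (W : C) (k : ℤ)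
    (h : ∀ i j : ℤ, j + 1 = i → ((ModSite.restr O W).obj (E.X i) ⟶ (ModSite.restr O W).obj (F.X j))) :
    Prop :=
  ∀ (l i j : ℤ) (hl : l + 1 = i) (hi : i + 1 = j), k ≤ i →
    (ModSite.restr O W).map (α.f i) =
      (ModSite.restr O W).map (E.d i j) ≫ h j i hi + h i l hl ≫ (ModSite.restr O W).map (F.d l i)

lemma IsPartialHomotopy.res {α : E ⟶ F} {k : ℤ}
    {h : ∀ i j : ℤ, j + 1 = i → ((ModSite.restr O W).obj (E.X i) ⟶ (ModSite.restr O W).obj (F.X j))}
    (hh : IsPartialHomotopy α W k h) :
    IsPartialHomotopy α W' k (fun i j e => tr g (h i j e)) := fun l i j hl hi hki => by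
  have e := congrArg (tr g) (hh l i j hl hi hki)
  rw [tr_add, tr_comp, tr_comp, tr_map, tr_map, tr_map] at e
  exact e

/-- A map from a strictly perfect complex to a complex exact in its degrees is locally null
homotopic. -/
theorem exists_nullHomotopic (α : E ⟶ F) (hE : DCoh.IsStrictlyPerfectMod (ModSite.ringSh O) E) (a : ℤ)
    (hEa : ∀ i : ℤ, i < a → IsZero (E.X i)) (hF : ∀ i : ℤ, a ≤ i → F.ExactAt i) (V : C) :
    ∃ R ∈ J V, ∀ ⦃W : C⦄ (g : W ⟶ V), R g →
      ∃ h : ∀ i j : ℤ, j + 1 = i → ((ModSite.restr O W).obj (E.X i) ⟶ (ModSite.restr O W).obj (F.X j)),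
        ∀ k, IsPartialHomotopy α W k h := by
  obtain ⟨⟨_, b, hab⟩, hS⟩ := hE
  have step : ∀ n : ℕ, ∃ R ∈ J V, ∀ ⦃W : C⦄ (g : W ⟶ V), R g →
      ∃ h : ∀ i j : ℤ, j + 1 = i → ((ModSite.restr O W).obj (E.X i) ⟶ (ModSite.restr O W).obj (F.X j)),
        IsPartialHomotopy α W (b + 1 - n) h := by
    intro n
    induction n with
    | zero =>
      exact ⟨⊤, J.top_mem V, fun W g _ => ⟨fun _ _ _ => 0, fun l i j hl hi hki =>
        ((ModSite.restr O W).map_isZero (hab i (Or.inr (by omega)))).eq_of_src _ _⟩⟩
    | succ n ih =>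
      obtain ⟨R, hR, hR'⟩ := ih
      let i := b - n
      rw [show b + 1 - ((n + 1 : ℕ) : ℤ) = i by omega]
      rw [show b + 1 - (n : ℤ) = i + 1 by omega] at hR'
      by_cases hia : i < a
      · refine ⟨R, hR, fun W g hg => ?_⟩
        obtain ⟨h, hh⟩ := hR' g hg
        refine ⟨h, fun l i' j hl hi hki => ?_⟩
        by_cases h1 : i + 1 ≤ i'
        · exact hh l i' j hl hi h1
        · exact ((ModSite.restr O W).map_isZero (hEa i' (by omega))).eq_of_src _ _
      · have key : ∀ ⦃W : C⦄ (g : W ⟶ V), R g → ∃ T ∈ J W, ∀ ⦃W' : C⦄ (q : W' ⟶ W), T q →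
            ∃ h : ∀ i j : ℤ, j + 1 = i →
                ((ModSite.restr O W').obj (E.X i) ⟶ (ModSite.restr O W').obj (F.X j)),
              IsPartialHomotopy α W' i h := by
          intro W g hg
          obtain ⟨h, hh⟩ := hR' g hg
          let φ : (ModSite.restr O W).obj (E.X i) ⟶ (ModSite.restr O W).obj (F.X i) :=
            (ModSite.restr O W).map (α.f i) - (ModSite.restr O W).map (E.d i (i + 1)) ≫ h (i + 1) i rfl
          have hex : (F.sc' (i - 1) i (i + 1)).Exact :=
            (HomologicalComplex.exactAt_iff' _ (i - 1) i (i + 1) (by simp) (by simp)).1 (hF i (by omega))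
          obtain ⟨T, hT, hT'⟩ := exists_lift_exact (hS i) hex φ (by
            show φ ≫ (ModSite.restr O W).map (F.d i (i + 1)) = 0
            have e := hh i (i + 1) (i + 1 + 1) rfl rfl le_rfl
            have e' : h (i + 1) i rfl ≫ (ModSite.restr O W).map (F.d i (i + 1)) =
                (ModSite.restr O W).map (α.f (i + 1)) -
                  (ModSite.restr O W).map (E.d (i + 1) (i + 1 + 1)) ≫ h (i + 1 + 1) (i + 1) rfl :=
              eq_sub_of_add_eq' e.symm
            dsimp only [φ]
            rw [Preadditive.sub_comp, Category.assoc, e', Preadditive.comp_sub, ← Functor.map_comp,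
              ← Functor.map_comp, ← Functor.map_comp_assoc, E.d_comp_d, Functor.map_zero, zero_comp,
              sub_zero, α.comm, sub_self])
          refine ⟨T, hT, fun W' q hq => ?_⟩
          obtain ⟨ψ, hψ⟩ := hT' q hq
          let h' : ∀ x y : ℤ, y + 1 = x →
              ((ModSite.restr O W').obj (E.X x) ⟶ (ModSite.restr O W').obj (F.X y)) :=
            fun x y e => if hx : x = i then
                eqToHom (by rw [hx]) ≫ ψ ≫ eqToHom (by
                  show (ModSite.restr O W').obj (F.X (i - 1)) = _
                  rw [show i - 1 = y by omega])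
              else tr q (h x y e)
          refine ⟨h', fun l i' j hl hi hki => ?_⟩
          by_cases h1 : i + 1 ≤ i'
          · rw [show h' j i' hi = tr q (h j i' hi) from dif_neg (by omega),
              show h' i' l hl = tr q (h i' l hl) from dif_neg (by omega)]
            exact hh.res q l i' j hl hi h1
          · obtain rfl : i' = i := by omega
            obtain rfl : j = i + 1 := by omega
            obtain rfl : l = i - 1 := by omega
            rw [show h' (i + 1) i hi = tr q (h (i + 1) i hi) from dif_neg (by omega),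
              show h' i (i - 1) hl = ψ by
                refine (dif_pos rfl).trans ?_
                erw [eqToHom_refl, eqToHom_refl, Category.id_comp, Category.comp_id]]
            have e2 : tr q ((ModSite.restr O W).map (α.f i)) =
                tr q ((ModSite.restr O W).map (E.d i (i + 1)) ≫ h (i + 1) i rfl) + tr q φ := by
              rw [← tr_add]; simp [φ]
            rw [tr_map, tr_comp, tr_map] at e2
            rw [e2]
            exact congrArg (_ + ·) hψ.symm
        choose T hT hT' using key
        refine ⟨Sieve.bind R.arrows T, J.bind_covering hR hT, fun W' k hk => ?_⟩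
        obtain ⟨W, q, g, hg, hq, rfl⟩ := hk
        exact hT' g hg q hq
  obtain ⟨R, hR, hR'⟩ := step (b + 1 - a).toNat
  refine ⟨R, hR, fun W g hg => ?_⟩
  obtain ⟨h, hh⟩ := hR' g hg
  refine ⟨h, fun k l i j hl hi _ => ?_⟩
  by_cases h1 : a ≤ i
  · exact hh l i j hl hi (by omega)
  · exact ((ModSite.restr O W).map_isZero (hEa i (by omega))).eq_of_src _ _

/-- The homotopy of a family solving all equations. -/
theorem nonempty_homotopy_of_partial {α : E ⟶ F}
    {h : ∀ i j : ℤ, j + 1 = i → ((ModSite.restr O W).obj (E.X i) ⟶ (ModSite.restr O W).obj (F.X j))}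
    (hh : ∀ k, IsPartialHomotopy α W k h) :
    Nonempty (Homotopy (((ModSite.restr O W).mapHomologicalComplex (ComplexShape.up ℤ)).map α) 0) := by
  refine ⟨(Homotopy.ofEq ?_).trans (Homotopy.nullHomotopy'
    (C := ((ModSite.restr O W).mapHomologicalComplex (ComplexShape.up ℤ)).obj E)
    (D := ((ModSite.restr O W).mapHomologicalComplex (ComplexShape.up ℤ)).obj F) fun i j e => h i j e)⟩
  refine HomologicalComplex.hom_ext _ _ fun i => ?_
  rw [Homotopy.nullHomotopicMap'_f (show (ComplexShape.up ℤ).Rel (i - 1) i by simp)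
    (show (ComplexShape.up ℤ).Rel i (i + 1) from rfl)]
  exact hh i (i - 1) i (i + 1) (by omega) rfl le_rfl

set_option maxHeartbeats 1600000 in
/-- A map from a strictly perfect complex lifts locally, up to homotopy, through a map which is
bijective on cohomology above `a` and surjective in degree `a`. -/
theorem exists_lift_up_to_homotopy {G : CochainComplex (ModSite.Mod O) ℤ} (α : E ⟶ F) (f : G ⟶ F)
    (hE : DCoh.IsStrictlyPerfectMod (ModSite.ringSh O) E) (a : ℤ)
    (hEa : ∀ j : ℤ, j < a → IsZero (E.X j))
    (hf : ∀ j : ℤ, a < j → IsIso (HomologicalComplex.homologyMap f j))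
    (hfa : Epi (HomologicalComplex.homologyMap f a)) (V : C) :
    ∃ R ∈ J V, ∀ ⦃W : C⦄ (g : W ⟶ V), R g →
      ∃ β : ((ModSite.restr O W).mapHomologicalComplex (ComplexShape.up ℤ)).obj E ⟶
          ((ModSite.restr O W).mapHomologicalComplex (ComplexShape.up ℤ)).obj G,
        Nonempty (Homotopy (β ≫ ((ModSite.restr O W).mapHomologicalComplex (ComplexShape.up ℤ)).map f)
          (((ModSite.restr O W).mapHomologicalComplex (ComplexShape.up ℤ)).map α)) := by
  obtain ⟨R₀, hR₀, hR₀'⟩ := exists_nullHomotopic (α ≫ CochainComplex.mappingCone.inr f) hE a hEa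
    (Groth.Agent.H16Derived.ProjLift.exactAt_mappingCone f a hf hfa) V
  refine ⟨R₀, hR₀, fun W g hg => ?_⟩
  obtain ⟨h, hh⟩ := hR₀' g hg
  open CochainComplex.mappingCone in
  let b : ∀ i, (ModSite.restr O W).obj (E.X i) ⟶ (ModSite.restr O W).obj (G.X i) := fun i =>
    h i (i - 1) (by omega) ≫ (ModSite.restr O W).map ((fst f).1.v (i - 1) i (by omega))
  open CochainComplex.mappingCone in
  let c : ∀ i j : ℤ, j + 1 = i → ((ModSite.restr O W).obj (E.X i) ⟶ (ModSite.restr O W).obj (F.X j)) := fun i j e =>
    h i j e ≫ (ModSite.restr O W).map ((snd f).v j j (add_zero j))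
  have e₁ : ∀ i : ℤ, (ModSite.restr O W).map (E.d i (i + 1)) ≫ b (i + 1) = b i ≫ (ModSite.restr O W).map (G.d i (i + 1)) := fun i => by
    have e := congrArg (fun t => t ≫ (ModSite.restr O W).map ((CochainComplex.mappingCone.fst f).1.v i (i + 1) rfl))
      (hh i (i - 1) i (i + 1) (by omega) rfl le_rfl)
    simp only [HomologicalComplex.comp_f, Category.assoc, Preadditive.add_comp, ← Functor.map_comp,
      CochainComplex.mappingCone.inr_f_fst_v,
      CochainComplex.mappingCone.d_fst_v f (i - 1) i (i + 1) (by omega) rfl] at e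
    simp only [comp_zero, Functor.map_zero, Functor.map_neg, Functor.map_comp,
      Preadditive.comp_neg] at e
    have e' := eq_neg_of_add_eq_zero_left e.symm
    rw [neg_neg] at e'
    have hb : ∀ (j k : ℤ) (hjk : k + 1 = j),
        b j = h j k hjk ≫ (ModSite.restr O W).map ((CochainComplex.mappingCone.fst f).1.v k j hjk) := by
      intro j k hjk
      obtain rfl : k = j - 1 := by omega
      rfl
    rw [hb (i + 1) i rfl]
    show _ = (h i (i - 1) _ ≫ (ModSite.restr O W).map _) ≫ _
    rw [Category.assoc]
    exact e'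
  let β : ((ModSite.restr O W).mapHomologicalComplex (ComplexShape.up ℤ)).obj E ⟶
      ((ModSite.restr O W).mapHomologicalComplex (ComplexShape.up ℤ)).obj G :=
    { f := b
      comm' := fun i j hij => by obtain rfl : i + 1 = j := hij; exact (e₁ i).symm }
  refine ⟨β, ⟨(Homotopy.ofEq ?_).trans ((Homotopy.add
    (Homotopy.refl (((ModSite.restr O W).mapHomologicalComplex (ComplexShape.up ℤ)).map α))
    (Homotopy.nullHomotopy' (C := ((ModSite.restr O W).mapHomologicalComplex (ComplexShape.up ℤ)).obj E)
      (D := ((ModSite.restr O W).mapHomologicalComplex (ComplexShape.up ℤ)).obj F)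
      fun i j e => -c i j e)).trans (Homotopy.ofEq (add_zero _)))⟩⟩
  refine HomologicalComplex.hom_ext _ _ fun i => ?_
  rw [HomologicalComplex.add_f_apply, Homotopy.nullHomotopicMap'_f
    (show (ComplexShape.up ℤ).Rel (i - 1) i by simp) (show (ComplexShape.up ℤ).Rel i (i + 1) from rfl)]
  have e := congrArg (fun t => t ≫ (ModSite.restr O W).map ((CochainComplex.mappingCone.snd f).v i i (add_zero i)))
    (hh i (i - 1) i (i + 1) (by omega) rfl le_rfl)
  simp only [HomologicalComplex.comp_f, Category.assoc, Preadditive.add_comp, ← Functor.map_comp,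
    CochainComplex.mappingCone.inr_f_snd_v,
    CochainComplex.mappingCone.d_snd_v f (i - 1) i (by omega)] at e
  simp only [CategoryTheory.Functor.map_id, Category.comp_id, Functor.map_add, Functor.map_comp,
    Preadditive.comp_add] at e
  dsimp only [β, b, c]
  show _ = (ModSite.restr O W).map (α.f i) + _
  erw [e]
  show (_ ≫ _) ≫ (ModSite.restr O W).map (f.f i) = _
  erw [Category.assoc]
  erw [Preadditive.comp_neg, Preadditive.neg_comp, Category.assoc]
  exact (fun {A : Type u} [AddCommGroup A] (p q r : A) => (by abel : p = q + (p + r) + (-q + -r))) _ _ _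

end Groth.Agent.H15Site.SitePerfLift
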