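import Groth.Agent.H15Site.ColimSect
import Groth.Agent.H15Site.SitePerfLift

/-!
# Maps out of finitely presented modules into filtered colimits, locally
-/

universe u

open CategoryTheory CategoryTheory.Limits Opposite

set_option linter.style.haveILetI false
set_option backward.isDefEq.respectTransparency false
set_option linter.unusedSectionVars false

namespace Groth.Agent.H15Site.LocHom

open ModTensor ModRel LocGen LocPres

attribute [local instance 10000] SiteInst.hasSheafifySite SiteInst.hasWeakSheafifySite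

variable {C : Type u} [SmallCategory C] {J : GrothendieckTopology C} {O : Sheaf J CommRingCat.{u}}
  {F G : ModSite.Mod O}

/-- Evaluation of a morphism of restrictions on a restricted section. -/
lemma app_restrict {V : C} (φ : (ModSite.restr O V).obj F ⟶ (ModSite.restr O V).obj G)
    {W W' : C} (a : W ⟶ V) (b : W' ⟶ W) (m : ((forg O).obj F).obj (op W)) :
    (φ.val.app (op (Over.mk (b ≫ a)))).hom (rs ((forg O).obj F) b.op m) =
      rs ((forg O).obj G) b.op ((φ.val.app (op (Over.mk a))).hom m) :=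
  PresheafOfModules.naturality_apply φ.val
    (Over.homMk (U := Over.mk (b ≫ a)) (V := Over.mk a) b rfl).op m

/-- The value of the map given by sections on a basis element. -/
lemma genMor_one {V : C} {I : Type u} (s : I → ((forg O).obj F).obj (op V)) (j : I) (W : Over V) :
    ((genMor s).val.app (op W)).hom (LocFP.e j 1) = rs ((forg O).obj F) W.hom.op (s j) :=
  (LocFP.genMor_e s j 1).trans (one_smul _ _)

/-- Morphisms of restrictions are determined by the values on generators. -/
theorem ext_of_gen {V : C} {I : Type u} [Fintype I] {s : I → ((forg O).obj F).obj (op V)}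
    (hs : Gen s) {φ ψ : (ModSite.restr O V).obj F ⟶ (ModSite.restr O V).obj G}
    (h : ∀ j, (φ.val.app (op (Over.mk (𝟙 V)))).hom (s j) =
      (ψ.val.app (op (Over.mk (𝟙 V)))).hom (s j)) : φ = ψ := by
  haveI := (epi_genMor_iff s).2 hs
  rw [← cancel_epi (genMor s)]
  refine LocFP.hom_ext_free _ _ fun j W => ?_
  show (φ.val.app (op W)).hom (((genMor s).val.app (op W)).hom (LocFP.e j 1)) =
    (ψ.val.app (op W)).hom (((genMor s).val.app (op W)).hom (LocFP.e j 1))
  rw [genMor_one]
  have key : ∀ χ : (ModSite.restr O V).obj F ⟶ (ModSite.restr O V).obj G,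
      (χ.val.app (op W)).hom (rs ((forg O).obj F) W.hom.op (s j)) =
        rs ((forg O).obj G) W.hom.op ((χ.val.app (op (Over.mk (𝟙 V)))).hom (s j)) := fun χ =>
    PresheafOfModules.naturality_apply χ.val
      (Over.homMk (U := W) (V := Over.mk (𝟙 V)) W.hom (Category.comp_id _)).op (s j)
  rw [key φ, key ψ, h j]

/-- Restrictions of morphisms on restricted sections. -/
lemma tr_app {V W : C} (a : W ⟶ V) (φ : (ModSite.restr O V).obj F ⟶ (ModSite.restr O V).obj G)
    (m : ((forg O).obj F).obj (op V)) :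
    ((SitePerfLift.tr a φ).val.app (op (Over.mk (𝟙 W)))).hom (rs ((forg O).obj F) a.op m) =
      rs ((forg O).obj G) a.op ((φ.val.app (op (Over.mk (𝟙 V)))).hom m) := by
  show (φ.val.app (op (Over.mk (𝟙 W ≫ a)))).hom _ = _
  exact PresheafOfModules.naturality_apply φ.val
    (Over.homMk (U := Over.mk (𝟙 W ≫ a)) (V := Over.mk (𝟙 V)) a (by simp)).op m

variable {Λ : Type u} [SmallCategory Λ] [IsFiltered Λ] {D : Λ ⥤ ModSite.Mod O} {c : Cocone D}

/-- A later stage killing finitely many sections killed in the colimit, locally. -/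
theorem exists_common_zero (hc : IsColimit c) {i : Λ} {V : C} {I : Type*} [Finite I]
    (y : I → ((forg O).obj (D.obj i)).obj (op V))
    (hy : ∀ j, ((c.ι.app i).val.app (op V)).hom (y j) = 0) :
    ∃ S ∈ J V, ∀ ⦃W : C⦄ (h : W ⟶ V), S h → ∃ (k : Λ) (f : i ⟶ k),
      ∀ j, ((D.map f).val.app (op W)).hom (rs ((forg O).obj (D.obj i)) h.op (y j)) = 0 := by
  classical
  haveI := Fintype.ofFinite I
  choose S hS hS' using fun j => ColimSect.exists_local_zero hc (y j) (hy j)
  obtain ⟨T, hT, hle⟩ := exists_common S hS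
  refine ⟨T, hT, fun W h hh => ?_⟩
  choose k f hkf using fun j => hS' j h (hle j _ hh)
  suffices H : ∀ A : Finset I, ∃ (l : Λ) (g : i ⟶ l), ∀ j ∈ A,
      ((D.map g).val.app (op W)).hom (rs ((forg O).obj (D.obj i)) h.op (y j)) = 0 by
    obtain ⟨l, g, hg⟩ := H Finset.univ
    exact ⟨l, g, fun j => hg j (Finset.mem_univ j)⟩
  intro A
  induction A using Finset.induction_on with
  | empty => exact ⟨i, 𝟙 i, fun j hj => absurd hj (Finset.notMem_empty j)⟩
  | insert b A hb ih =>
    obtain ⟨l, g, hg⟩ := ih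
    obtain ⟨l', u, v, huv⟩ := IsFiltered.span g (f b)
    have hcomp : ∀ {a b : Λ} (p : i ⟶ a) (q : a ⟶ b) (z : ((forg O).obj (D.obj i)).obj (op W)),
        ((D.map p).val.app (op W)).hom z = 0 →
          ((D.map (p ≫ q)).val.app (op W)).hom z = 0 := fun p q z hz => by
      refine (congrArg (fun t : D.obj i ⟶ D.obj _ => (t.val.app (op W)).hom z) (D.map_comp p q)).trans ?_
      exact (congrArg ((D.map q).val.app (op W)).hom hz).trans (map_zero _)
    refine ⟨l', g ≫ u, fun j hj => ?_⟩
    rcases Finset.mem_insert.1 hj with rfl | hj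
    · rw [huv]; exact hcomp _ _ _ (hkf j)
    · exact hcomp _ _ _ (hg j hj)

/-- Two maps to a stage equal in the colimit are locally equal at a later stage. -/
theorem exists_local_eq (hc : IsColimit c) [SheafOfModules.IsFiniteType (R := ModSite.ringSh O) F]
    {i : Λ} {V : C} (φ ψ : (ModSite.restr O V).obj F ⟶ (ModSite.restr O V).obj (D.obj i))
    (h : φ ≫ (ModSite.restr O V).map (c.ι.app i) = ψ ≫ (ModSite.restr O V).map (c.ι.app i)) :
    ∃ S ∈ J V, ∀ ⦃W : C⦄ (a : W ⟶ V), S a → ∃ (k : Λ) (f : i ⟶ k),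
      SitePerfLift.tr a φ ≫ (ModSite.restr O W).map (D.map f) =
        SitePerfLift.tr a ψ ≫ (ModSite.restr O W).map (D.map f) := by
  obtain ⟨R, hR, hR'⟩ := lh_fg F V
  choose I hI s hs using fun W (a : W ⟶ V) (ha : R a) => hR' a ha
  have key : ∀ ⦃W : C⦄ (a : W ⟶ V) (ha : R a), ∃ S ∈ J W, ∀ ⦃W' : C⦄ (b : W' ⟶ W), S b →
      ∃ (k : Λ) (f : i ⟶ k), SitePerfLift.tr (b ≫ a) φ ≫ (ModSite.restr O W').map (D.map f) =
        SitePerfLift.tr (b ≫ a) ψ ≫ (ModSite.restr O W').map (D.map f) := by
    intro W a ha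
    letI := hI W a ha
    let y : I W a ha → ((forg O).obj (D.obj i)).obj (op W) := fun j =>
      (φ.val.app (op (Over.mk a))).hom (s W a ha j) - (ψ.val.app (op (Over.mk a))).hom (s W a ha j)
    have hy : ∀ j, ((c.ι.app i).val.app (op W)).hom (y j) = 0 := fun j =>
      (map_sub _ _ _).trans (sub_eq_zero.2 (congrArg
        (fun t : (ModSite.restr O V).obj F ⟶ (ModSite.restr O V).obj c.pt =>
          (t.val.app (op (Over.mk a))).hom (s W a ha j)) h))
    obtain ⟨S, hS, hS'⟩ := exists_common_zero hc y hy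
    refine ⟨S, hS, fun W' b hb => ?_⟩
    obtain ⟨k, f, hf⟩ := hS' b hb
    refine ⟨k, f, ext_of_gen ((hs W a ha).restrict b) fun j => ?_⟩
    have h0 := (congrArg ((D.map f).val.app (op W')).hom (rs_sub' b.op _ _)).symm.trans (hf j)
    rw [map_sub, sub_eq_zero] at h0
    show ((D.map f).val.app (op W')).hom ((φ.val.app (op (Over.mk (𝟙 W' ≫ b ≫ a)))).hom _) =
      ((D.map f).val.app (op W')).hom ((ψ.val.app (op (Over.mk (𝟙 W' ≫ b ≫ a)))).hom _)
    rw [Category.id_comp, app_restrict, app_restrict]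
    exact h0
  choose S hS hS' using key
  refine ⟨_, J.bind_covering hR hS, ?_⟩
  rintro W' _ ⟨W, b, a, ha, hb, rfl⟩
  exact hS' a ha b hb

/-- A map into the colimit comes locally from a stage. -/
theorem exists_local_lift (hc : IsColimit c)
    [SheafOfModules.IsFinitePresentation (R := ModSite.ringSh O) F] {V : C}
    (φ : (ModSite.restr O V).obj F ⟶ (ModSite.restr O V).obj c.pt) :
    ∃ S ∈ J V, ∀ ⦃W : C⦄ (a : W ⟶ V), S a → ∃ (i : Λ)
      (ψ : (ModSite.restr O W).obj F ⟶ (ModSite.restr O W).obj (D.obj i)),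
      ψ ≫ (ModSite.restr O W).map (c.ι.app i) = SitePerfLift.tr a φ := by
  classical
  obtain ⟨R, hR, hR'⟩ := lh_fp F V
  choose I K hI hK s r hs hr using fun W (a : W ⟶ V) (ha : R a) => hR' a ha
  have key : ∀ ⦃W : C⦄ (a : W ⟶ V) (ha : R a), ∃ S ∈ J W, ∀ ⦃W' : C⦄ (b : W' ⟶ W), S b →
      ∃ (i : Λ) (ψ : (ModSite.restr O W').obj F ⟶ (ModSite.restr O W').obj (D.obj i)),
        ψ ≫ (ModSite.restr O W').map (c.ι.app i) = SitePerfLift.tr (b ≫ a) φ := by
    intro W a ha
    letI := hI W a ha
    letI := hK W a ha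
    choose S hS hS' using fun j => ColimSect.exists_local_rep hc
      ((φ.val.app (op (Over.mk a))).hom (s W a ha j))
    obtain ⟨T, hT, hle⟩ := exists_common S hS
    have step : ∀ ⦃W₁ : C⦄ (b : W₁ ⟶ W), T b → ∃ S ∈ J W₁, ∀ ⦃W₂ : C⦄ (d : W₂ ⟶ W₁), S d →
        ∃ (i : Λ) (ψ : (ModSite.restr O W₂).obj F ⟶ (ModSite.restr O W₂).obj (D.obj i)),
          ψ ≫ (ModSite.restr O W₂).map (c.ι.app i) = SitePerfLift.tr ((d ≫ b) ≫ a) φ := by
      intro W₁ b hb
      choose st y hy using fun j => hS' j b (hle j _ hb)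
      obtain ⟨i, hi⟩ := IsFiltered.sup_objs_exists (Finset.univ.image st)
      let f : ∀ j, st j ⟶ i := fun j =>
        (hi (Finset.mem_image.2 ⟨j, Finset.mem_univ j, rfl⟩)).some
      let y' : I W a ha → ((forg O).obj (D.obj i)).obj (op W₁) := fun j =>
        ((D.map (f j)).val.app (op W₁)).hom (y j)
      have hy' : ∀ j, ((c.ι.app i).val.app (op W₁)).hom (y' j) =
          rs ((forg O).obj c.pt) b.op ((φ.val.app (op (Over.mk a))).hom (s W a ha j)) := fun j =>
        (congrArg (fun t : D.obj (st j) ⟶ c.pt => (t.val.app (op W₁)).hom (y j))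
          (c.w (f j))).trans (hy j)
      let z : K W a ha → ((forg O).obj (D.obj i)).obj (op W₁) := fun l =>
        ∑ j, rr O b.op (r W a ha l j) • y' j
      have hz : ∀ l, ((c.ι.app i).val.app (op W₁)).hom (z l) = 0 := fun l => by
        refine (app_sum_smul _ _ _ _).trans ?_
        simp only [hy']
        have e : (φ.val.app (op (Over.mk a))).hom (∑ j, r W a ha l j • s W a ha j) = 0 :=
          (congrArg _ ((hr W a ha).zero l)).trans (map_zero _)
        have e' := congrArg (rs ((forg O).obj c.pt) b.op)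
          (((map_sum _ _ _).trans (Finset.sum_congr rfl fun j _ =>
            (φ.val.app (op (Over.mk a))).hom.map_smul _ _)).symm.trans e)
        refine Eq.trans ?_ (e'.trans (rs_zero _ _))
        refine Eq.trans ?_ (rs_sum _ _ _ _).symm
        exact Finset.sum_congr rfl fun j _ => (rs_smul' _ _ _ _).symm
      obtain ⟨S₁, hS₁, hS₁'⟩ := exists_common_zero hc z hz
      refine ⟨S₁, hS₁, fun W₂ d hd => ?_⟩
      obtain ⟨k, g, hg⟩ := hS₁' d hd
      let t : I W a ha → ((forg O).obj (D.obj k)).obj (op W₂) := fun j =>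
        ((D.map g).val.app (op W₂)).hom (rs ((forg O).obj (D.obj i)) d.op (y' j))
      have ht0 : ∀ l, ∑ j, rr O (d ≫ b).op (r W a ha l j) • t j = 0 := fun l => by
        have e := hg l
        rw [rs_sum] at e
        simp only [rs_smul', rr_rr, ← op_comp] at e
        exact (app_sum_smul (D.map g) _ _ _).symm.trans e
      obtain ⟨ψ, hψ⟩ := LocFP.exists_descMor ((hs W a ha).restrict (d ≫ b))
        ((hr W a ha).restrict (d ≫ b)) (genMor t) fun l Z => by
          rw [map_sum]
          simp only [LocFP.genMor_e]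
          refine Eq.trans ?_ ((congrArg (rs ((forg O).obj (D.obj k)) Z.hom.op) (ht0 l)).trans
            (rs_zero _ _))
          rw [rs_sum]
          exact Finset.sum_congr rfl fun j _ => (rs_smul' _ _ _ _).symm
      refine ⟨k, ψ, ext_of_gen ((hs W a ha).restrict (d ≫ b)) fun j => ?_⟩
      have hψj : (ψ.val.app (op (Over.mk (𝟙 W₂)))).hom
          (rs ((forg O).obj F) (d ≫ b).op (s W a ha j)) = t j := by
        have e := congrArg (fun χ : LocFP.fr' O W₂ (I W a ha) ⟶ (ModSite.restr O W₂).obj (D.obj k) =>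
          (χ.val.app (op (Over.mk (𝟙 W₂)))).hom (LocFP.e j 1)) hψ
        change (ψ.val.app _).hom (((genMor _).val.app _).hom _) = _ at e
        rw [genMor_one, genMor_one] at e
        simpa [rs_id] using e
      show ((c.ι.app k).val.app (op W₂)).hom ((ψ.val.app (op (Over.mk (𝟙 W₂)))).hom _) =
        (φ.val.app (op (Over.mk (𝟙 W₂ ≫ (d ≫ b) ≫ a)))).hom _
      rw [Category.id_comp, app_restrict, hψj]
      refine (congrArg (fun u : D.obj i ⟶ c.pt =>
        (u.val.app (op W₂)).hom (rs ((forg O).obj (D.obj i)) d.op (y' j))) (c.w g)).trans ?_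
      refine (app_rs (c.ι.app i) d.op _).trans ((congrArg _ (hy' j)).trans ?_)
      exact (rs_rs _ _ _ _).trans (by rw [← op_comp]; rfl)
    choose S₁ hS₁ hS₁' using step
    refine ⟨_, J.bind_covering hT hS₁, ?_⟩
    rintro W₂ _ ⟨W₁, d, b, hb, hd, rfl⟩
    exact hS₁' b hb d hd
  choose S hS hS' using key
  refine ⟨_, J.bind_covering hR hS, ?_⟩
  rintro W' _ ⟨W, b, a, ha, hb, rfl⟩
  exact hS' a ha b hb

end Groth.Agent.H15Site.LocHom
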