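import Groth.Agent.H15Site.LocFP
import Groth.Agent.H15Site.SitePerfLift

/-!
# Local spans, and constructors for finite type / finite presentation / local freeness

`LH P`: `P` holds on a covering of every object.  `LSpan s g t`: the section `t` over `g : V ⟶ U`
is locally a combination of the restrictions of the family `s` over `U`.
-/

universe u

open CategoryTheory CategoryTheory.Limits Opposite

set_option linter.style.haveILetI false
set_option backward.isDefEq.respectTransparency false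
set_option linter.unusedSectionVars false

namespace Groth.Agent.H15Site.LocPres

open ModTensor ModRel LocGen

attribute [local instance 10000] SiteInst.hasSheafifySite SiteInst.hasWeakSheafifySite

variable {C : Type u} [SmallCategory C] {J : GrothendieckTopology C} {O : Sheaf J CommRingCat.{u}}

section LH

/-- `P` holds locally everywhere. -/
def LH (J : GrothendieckTopology C) (P : C → Prop) : Prop :=
  ∀ Y : C, ∃ S ∈ J Y, ∀ ⦃W : C⦄ (g : W ⟶ Y), S g → P W

theorem lh_bind {P Q : C → Prop} (hP : LH J P)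
    (h : ∀ W, P W → ∃ S ∈ J W, ∀ ⦃V : C⦄ (g : V ⟶ W), S g → Q V) : LH J Q := fun Y => by
  obtain ⟨S, hS, hS'⟩ := hP Y
  choose T hT hT' using fun W (g : W ⟶ Y) (hg : S g) => h W (hS' g hg)
  refine ⟨Sieve.bind S.arrows (fun W g hg => T W g hg), J.bind_covering hS hT, ?_⟩
  rintro V _ ⟨W, a, b, hb, ha, rfl⟩
  exact hT' W b hb a ha

theorem lh_mono {P Q : C → Prop} (hP : LH J P) (h : ∀ W, P W → Q W) : LH J Q := fun Y => by
  obtain ⟨S, hS, hS'⟩ := hP Y
  exact ⟨S, hS, fun W g hg => h W (hS' g hg)⟩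

theorem lh_and {P Q : C → Prop} (hP : LH J P) (hQ : LH J Q)
    (hres : ∀ ⦃W V : C⦄, (V ⟶ W) → P W → P V) : LH J fun W => P W ∧ Q W :=
  lh_bind hP fun W hW => by
    obtain ⟨S, hS, hS'⟩ := hQ W
    exact ⟨S, hS, fun V g hg => ⟨hres g hW, hS' g hg⟩⟩

theorem lh_of_coversTop {P : C → Prop} {ι : Type*} {X : ι → C} (hX : J.CoversTop X)
    (hres : ∀ ⦃W V : C⦄, (V ⟶ W) → P W → P V) (h : ∀ i, P (X i)) : LH J P := fun Y =>
  ⟨_, hX Y, fun W g hg => by
    obtain ⟨i, ⟨a⟩⟩ := (Sieve.mem_ofObjects_iff ..).1 hg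
    exact hres a (h i)⟩

theorem coversTop_of_lh {P : C → Prop} (hP : LH J P) :
    J.CoversTop (fun W : { W : C // P W } => W.1) := fun Y => by
  obtain ⟨S, hS, hS'⟩ := hP Y
  exact J.superset_covering
    (fun W g hg => (Sieve.mem_ofObjects_iff ..).2 ⟨⟨W, hS' g hg⟩, ⟨𝟙 W⟩⟩) hS

theorem exists_common {ι : Type*} [Finite ι] {U : C} (S : ι → Sieve U) (h : ∀ i, S i ∈ J U) :
    ∃ R ∈ J U, ∀ i, R ≤ S i := by
  classical
  haveI := Fintype.ofFinite ι
  refine ⟨Finset.univ.inf S, ?_, fun i => Finset.inf_le (Finset.mem_univ i)⟩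
  exact Finset.inf_induction (J.top_mem U) (fun a ha b hb => J.intersection_covering ha hb)
    fun i _ => h i

end LH

variable {U : C} {F G : ModSite.Mod O}

section Span

variable {I : Type*} [Fintype I]

/-- `t` is locally a combination of the `s i`. -/
def LSpan (s : I → ((forg O).obj F).obj (op U)) {V : C} (g : V ⟶ U)
    (t : ((forg O).obj F).obj (op V)) : Prop :=
  ∃ S ∈ J V, ∀ ⦃W : C⦄ (h : W ⟶ V), S h → ∃ r : I → O.obj.obj (op W),
    rs ((forg O).obj F) h.op t = ∑ i, r i • rs ((forg O).obj F) (h ≫ g).op (s i)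

theorem gen_iff {I : Type*} [Fintype I] (s : I → ((forg O).obj F).obj (op U)) :
    Gen s ↔ ∀ ⦃V : C⦄ (g : V ⟶ U) (t : ((forg O).obj F).obj (op V)), LSpan s g t :=
  Iff.rfl

variable {s : I → ((forg O).obj F).obj (op U)} {V : C} {g : V ⟶ U}

theorem LSpan.sum_smul (c : I → O.obj.obj (op V)) :
    LSpan s g (∑ i, c i • rs ((forg O).obj F) g.op (s i)) := by
  refine ⟨⊤, J.top_mem V, fun W h _ => ⟨fun i => rr O h.op (c i), ?_⟩⟩
  rw [rs_sum]
  refine Finset.sum_congr rfl fun i _ => ?_
  rw [rs_smul', rs_rs, op_comp]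

theorem LSpan.zero : LSpan s g (0 : ((forg O).obj F).obj (op V)) :=
  ⟨⊤, J.top_mem V, fun W h _ => ⟨0, by simp [rs_zero]⟩⟩

theorem LSpan.single (i : I) : LSpan s g (rs ((forg O).obj F) g.op (s i)) := by
  classical
  simpa using LSpan.sum_smul (s := s) (g := g) (fun j => if j = i then 1 else 0)

theorem LSpan.add {t t' : ((forg O).obj F).obj (op V)} (h : LSpan s g t) (h' : LSpan s g t') :
    LSpan s g (t + t') := by
  obtain ⟨S, hS, hS'⟩ := h
  obtain ⟨T, hT, hT'⟩ := h'
  refine ⟨S ⊓ T, J.intersection_covering hS hT, fun W a ha => ?_⟩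
  obtain ⟨r, hr⟩ := hS' a ha.1
  obtain ⟨r', hr'⟩ := hT' a ha.2
  exact ⟨r + r', by simp [rs_add, hr, hr', add_smul, Finset.sum_add_distrib]⟩

theorem LSpan.smul {t : ((forg O).obj F).obj (op V)} (c : O.obj.obj (op V)) (h : LSpan s g t) :
    LSpan s g (c • t : ((forg O).obj F).obj (op V)) := by
  obtain ⟨S, hS, hS'⟩ := h
  refine ⟨S, hS, fun W a ha => ?_⟩
  obtain ⟨r, hr⟩ := hS' a ha
  refine ⟨fun i => rr O a.op c * r i, ?_⟩
  rw [rs_smul', hr, Finset.smul_sum]
  exact Finset.sum_congr rfl fun i _ => smul_smul _ _ _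

theorem LSpan.neg {t : ((forg O).obj F).obj (op V)} (h : LSpan s g t) : LSpan s g (-t) := by
  simpa using h.smul (-1)

theorem LSpan.sub {t t' : ((forg O).obj F).obj (op V)} (h : LSpan s g t) (h' : LSpan s g t') :
    LSpan s g (t - t') := by
  simpa [sub_eq_add_neg] using h.add h'.neg

theorem LSpan.sum {κ : Type*} (A : Finset κ) {t : κ → ((forg O).obj F).obj (op V)}
    (h : ∀ k ∈ A, LSpan s g (t k)) : LSpan s g (∑ k ∈ A, t k) := by
  classical
  induction A using Finset.induction_on with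
  | empty => simpa using LSpan.zero
  | insert k A hk ih =>
    rw [Finset.sum_insert hk]
    exact (h k (Finset.mem_insert_self k A)).add (ih fun j hj => h j (Finset.mem_insert_of_mem hj))

theorem LSpan.res {t : ((forg O).obj F).obj (op V)} (h : LSpan s g t) {V' : C} (a : V' ⟶ V) :
    LSpan s (a ≫ g) (rs ((forg O).obj F) a.op t) := by
  obtain ⟨S, hS, hS'⟩ := h
  refine ⟨S.pullback a, J.pullback_stable a hS, fun W b hb => ?_⟩
  obtain ⟨r, hr⟩ := hS' (b ≫ a) hb
  refine ⟨r, ?_⟩
  rw [rs_rs, ← op_comp, hr]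
  simp only [Category.assoc]

theorem LSpan.of_cover {t : ((forg O).obj F).obj (op V)} {S : Sieve V} (hS : S ∈ J V)
    (h : ∀ ⦃W : C⦄ (a : W ⟶ V), S a → LSpan s (a ≫ g) (rs ((forg O).obj F) a.op t)) :
    LSpan s g t := by
  choose T hT hT' using h
  refine ⟨Sieve.bind S.arrows (fun W a ha => T a ha), J.bind_covering hS hT, ?_⟩
  rintro W _ ⟨Z, b, a, ha, hb, rfl⟩
  obtain ⟨r, hr⟩ := hT' a ha b hb
  refine ⟨r, ?_⟩
  rw [rs_rs, ← op_comp] at hr
  rw [hr]
  simp only [Category.assoc]

/-- Change of the family. -/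
theorem LSpan.trans {I' : Type*} [Fintype I'] {U' : C} {s' : I' → ((forg O).obj F).obj (op U')}
    {t : ((forg O).obj F).obj (op V)} (ht : LSpan s g t) (g' : V ⟶ U')
    (h : ∀ ⦃W : C⦄ (a : W ⟶ V) (i : I),
      LSpan s' (a ≫ g') (rs ((forg O).obj F) (a ≫ g).op (s i))) : LSpan s' g' t := by
  obtain ⟨S, hS, hS'⟩ := ht
  refine LSpan.of_cover hS fun W a ha => ?_
  obtain ⟨r, hr⟩ := hS' a ha
  rw [hr]
  exact LSpan.sum _ fun i _ => (h a i).smul (r i)

theorem LSpan.map {t : ((forg O).obj F).obj (op V)} (h : LSpan s g t) (φ : F ⟶ G) :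
    LSpan (fun i => (φ.val.app (op U)).hom (s i)) g ((φ.val.app (op V)).hom t) := by
  obtain ⟨S, hS, hS'⟩ := h
  refine ⟨S, hS, fun W a ha => ?_⟩
  obtain ⟨r, hr⟩ := hS' a ha
  refine ⟨r, ?_⟩
  refine (rs_app ((forg O).map φ) a.op t).symm.trans ((congrArg _ hr).trans ?_)
  rw [map_sum]
  refine Finset.sum_congr rfl fun i _ => ?_
  exact ((φ.val.app (op W)).hom.map_smul _ _).trans
    (congrArg (r i • ·) (rs_app ((forg O).map φ) _ _))

end Span

/-- Monomorphisms are injective on sections. -/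
theorem injective_app (φ : F ⟶ G) [Mono φ] (X : Cᵒᵖ) :
    Function.Injective (φ.val.app X).hom := by
  haveI := (adj O).isRightAdjoint
  haveI : Mono ((forg O).map φ) := inferInstance
  exact (ModuleCat.mono_iff_injective _).1
    (inferInstanceAs (Mono ((PresheafOfModules.evaluation _ X).map ((forg O).map φ))))

/-- Naturality of a map of sheaves of modules on sections. -/
theorem app_rs (φ : F ⟶ G) {X Y : Cᵒᵖ} (g : X ⟶ Y) (m : ((forg O).obj F).obj X) :
    (φ.val.app Y).hom (rs ((forg O).obj F) g m) =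
      rs ((forg O).obj G) g ((φ.val.app X).hom m) :=
  rs_app ((forg O).map φ) g m

/-- Restriction of a difference. -/
theorem rs_sub' {X Y : Cᵒᵖ} (g : X ⟶ Y) (m m' : ((forg O).obj F).obj X) :
    rs ((forg O).obj F) g (m - m') = rs ((forg O).obj F) g m - rs ((forg O).obj F) g m' :=
  map_sub (((forg O).obj F).presheaf.map g).hom m m'

/-- Linearity of a map of sheaves of modules on sections. -/
theorem app_sum_smul (φ : F ⟶ G) {X : Cᵒᵖ} {ι : Type*} (A : Finset ι)
    (c : ι → O.obj.obj X) (m : ι → ((forg O).obj F).obj X) :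
    (φ.val.app X).hom (∑ i ∈ A, c i • m i : ((forg O).obj F).obj X) =
      (∑ i ∈ A, c i • ((φ.val.app X).hom (m i) : ((forg O).obj G).obj X) :) :=
  (map_sum _ _ _).trans (Finset.sum_congr rfl fun _ _ => (φ.val.app X).hom.map_smul _ _)

/-- Composites vanish on sections. -/
theorem app_comp_zero {H : ModSite.Mod O} {φ : F ⟶ G} {ψ : G ⟶ H} (h : φ ≫ ψ = 0) {X : Cᵒᵖ}
    (m : ((forg O).obj F).obj X) : (ψ.val.app X).hom ((φ.val.app X).hom m) = 0 :=
  congrArg (fun θ : F ⟶ H => (θ.val.app X).hom m) h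

/-- In an exact sequence, sections killed by `g` come locally from `f`. -/
theorem exists_lift_of_exact {S : ShortComplex (ModSite.Mod O)} (hS : S.Exact) {V : C}
    (x : ((forg O).obj S.X₂).obj (op V)) (hx : (S.g.val.app (op V)).hom x = 0) :
    ∃ T ∈ J V, ∀ ⦃W : C⦄ (h : W ⟶ V), T h → ∃ y : ((forg O).obj S.X₁).obj (op W),
      (S.f.val.app (op W)).hom y = rs ((forg O).obj S.X₂) h.op x := by
  haveI := S.exact_iff_epi_kernel_lift.1 hS
  obtain ⟨z, hz⟩ := SitePerfLift.exists_kernel_lift_global S.g x hx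
  obtain ⟨T, hT, hT'⟩ := (epi_iff_locSurj (kernel.lift S.g S.f S.zero)).1 inferInstance V z
  refine ⟨T, hT, fun W h hh => ?_⟩
  obtain ⟨y, hy⟩ := hT' h hh
  refine ⟨y, ?_⟩
  have e := congrArg (fun ψ : S.X₁ ⟶ S.X₂ => (ψ.val.app (op W)).hom y)
    (kernel.lift_ι S.g S.f S.zero)
  refine e.symm.trans ((congrArg ((kernel.ι S.g).val.app (op W)).hom hy).trans ?_)
  exact (rs_app ((forg O).map (kernel.ι S.g)) h.op z).trans (congrArg _ hz)

/-- Finitely many sections lift, on a common covering, along an epimorphism. -/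
theorem exists_lifts (φ : G ⟶ F) [Epi φ] {I : Type*} [Finite I] {V : C}
    (t : I → ((forg O).obj F).obj (op V)) :
    ∃ T ∈ J V, ∀ ⦃W : C⦄ (h : W ⟶ V), T h → ∃ y : I → ((forg O).obj G).obj (op W),
      ∀ i, (φ.val.app (op W)).hom (y i) = rs ((forg O).obj F) h.op (t i) := by
  choose S hS hS' using fun i => (epi_iff_locSurj φ).1 inferInstance V (t i)
  obtain ⟨T, hT, hle⟩ := exists_common S hS
  exact ⟨T, hT, fun W h hh => ⟨fun i => (hS' i h (hle i _ hh)).choose,
    fun i => (hS' i h (hle i _ hh)).choose_spec⟩⟩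

variable (F) in
/-- Local finite generation. -/
def FG (W : C) : Prop :=
  ∃ (I : Type u) (_ : Fintype I) (s : I → ((forg O).obj F).obj (op W)), Gen s

variable (F) in
/-- Local finite presentation. -/
def FP (W : C) : Prop :=
  ∃ (I K : Type u) (_ : Fintype I) (_ : Fintype K) (s : I → ((forg O).obj F).obj (op W))
    (r : K → I → O.obj.obj (op W)), Gen s ∧ LocFP.Rel s r

theorem FG.res ⦃W V : C⦄ (g : V ⟶ W) : FG F W → FG F V := fun ⟨I, hI, _, hs⟩ =>
  ⟨I, hI, _, hs.restrict g⟩

theorem FP.res ⦃W V : C⦄ (g : V ⟶ W) : FP F W → FP F V := fun ⟨I, K, hI, hK, _, _, hs, hr⟩ =>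
  ⟨I, K, hI, hK, _, _, hs.restrict g, hr.restrict g⟩

variable (F) in
theorem lh_fg [h : SheafOfModules.IsFiniteType (R := ModSite.ringSh O) F] : LH J (FG F) := by
  obtain ⟨ι, X, hX, h'⟩ := (LocGen.isFiniteType_iff F).1 h
  refine lh_of_coversTop hX FG.res fun i => ?_
  obtain ⟨n, s, hs⟩ := h' i
  refine ⟨ULift.{u} (Fin n), inferInstance, fun j => s j.down, fun V g t => ?_⟩
  obtain ⟨S, hS, hS'⟩ := hs g t
  refine ⟨S, hS, fun W a ha => ?_⟩
  obtain ⟨r, hr⟩ := hS' a ha
  exact ⟨fun j => r j.down, hr.trans (Equiv.ulift.sum_comp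
    (fun j => r j • rs ((forg O).obj F) (a ≫ g).op (s j))).symm⟩

variable (F) in
theorem lh_fp [SheafOfModules.IsFinitePresentation (R := ModSite.ringSh O) F] : LH J (FP F) := by
  obtain ⟨ι, X, hX, h'⟩ := LocFP.exists_pres F
  exact lh_of_coversTop hX FP.res h'

theorem isFiniteType_of_lh (h : LH J (FG F)) :
    SheafOfModules.IsFiniteType (R := ModSite.ringSh O) F := by
  refine (LocGen.isFiniteType_iff F).2 ⟨_, _, coversTop_of_lh h, fun W => ?_⟩
  obtain ⟨I, hI, s, hs⟩ := W.2
  let e := (Fintype.equivFin I).symm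
  refine ⟨_, s ∘ e, fun V g t => ?_⟩
  obtain ⟨S, hS, hS'⟩ := hs g t
  refine ⟨S, hS, fun W h hh => ?_⟩
  obtain ⟨r, hr⟩ := hS' h hh
  exact ⟨r ∘ e, hr.trans (e.sum_comp fun j => r j • rs ((forg O).obj F) (h ≫ g).op (s j)).symm⟩

/-- The relations, as a map to the kernel of the generators. -/
theorem matMor_genMor {I K : Type u} [Fintype I] [Fintype K]
    {s : I → ((forg O).obj F).obj (op U)} {r : K → I → O.obj.obj (op U)}
    (hr : LocFP.Rel s r) : LocFP.matMor r ≫ genMor s = 0 := by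
  refine LocFP.hom_ext_free _ _ fun k W => ?_
  show ((genMor s).val.app (op W)).hom (((LocFP.matMor r).val.app (op W)).hom (LocFP.e k 1)) = 0
  rw [LocFP.matMor_e, map_sum]
  simp only [LocFP.genMor_e, one_mul]
  have h := congrArg (rs ((forg O).obj F) W.hom.op) (hr.zero k)
  rw [rs_sum, rs_zero] at h
  simpa only [rs_smul'] using h

/-- The relations generate the kernel. -/
theorem epi_lift_matMor {I K : Type u} [Fintype I] [Fintype K]
    {s : I → ((forg O).obj F).obj (op U)} {r : K → I → O.obj.obj (op U)}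
    (hr : LocFP.Rel s r) : Epi (kernel.lift (genMor s) (LocFP.matMor r) (matMor_genMor hr)) := by
  rw [epi_iff_locSurj]
  intro W y
  obtain ⟨c, hc⟩ := LocFP.exists_sum_e (((kernel.ι (genMor s)).val.app (op W)).hom y)
  have h0 : ((genMor s).val.app (op W)).hom (((kernel.ι (genMor s)).val.app (op W)).hom y) = 0 :=
    congrArg (fun ψ : kernel (genMor s) ⟶ (ModSite.restr O U).obj F => (ψ.val.app (op W)).hom y)
      (kernel.condition (genMor s))
  rw [hc, map_sum] at h0
  simp only [LocFP.genMor_e] at h0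
  obtain ⟨S, hS, hS'⟩ := hr.complete W.hom c h0
  refine ⟨(Sieve.overEquiv W).symm S, (J.mem_over_iff _).2 (by simpa using hS), fun Z h hh => ?_⟩
  obtain ⟨d, hd⟩ := hS' h.left ((Sieve.overEquiv_symm_iff S h).1 hh)
  refine ⟨∑ k, LocFP.e k (d k), injective_app (kernel.ι (genMor s)) (op Z) ?_⟩
  have e1 := congrArg (fun ψ : LocFP.fr' O U K ⟶ LocFP.fr' O U I =>
      (ψ.val.app (op Z)).hom (∑ k, LocFP.e k (d k)))
    (kernel.lift_ι (genMor s) (LocFP.matMor r) (matMor_genMor hr))
  refine e1.trans ?_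
  refine Eq.trans ?_ ((rs_app ((forg (O.over U)).map (kernel.ι (genMor s))) h.op y).trans
    (congrArg (rs ((forg (O.over U)).obj (LocFP.fr' O U I)) h.op) hc)).symm
  rw [rs_sum, map_sum]
  simp only [LocFP.matMor_e]
  rw [Finset.sum_comm]
  refine Finset.sum_congr rfl fun i _ => ?_
  refine Eq.trans (map_sum _ _ _).symm (Eq.trans ?_ (rs_app ((forg (O.over U)).map
    (SheafOfModules.ιFree (R := ModSite.ringSh (O.over U)) i)) h.op (c i)))
  show LocFP.e i _ = LocFP.e i (rr O h.left.op (c i))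
  rw [hd i, Over.w h]

theorem isFinitePresentation_of_lh (h : LH J (FP F)) :
    SheafOfModules.IsFinitePresentation (R := ModSite.ringSh O) F := by
  choose I K hI hK s r hs hr using fun W : { W : C // FP F W } => W.2
  let gens : ∀ W : { W : C // FP F W }, ((ModSite.restr O W.1).obj F).GeneratingSections :=
    fun W => { I := I W, s := fun i => restrSection (s W i), epi := (epi_genMor_iff _).2 (hs W) }
  let P : ∀ W : { W : C // FP F W },
      SheafOfModules.Presentation (R := ModSite.ringSh (O.over W.1)) ((ModSite.restr O W.1).obj F) :=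
    fun W =>
    { generators := gens W
      relations :=
        { I := K W
          s := SheafOfModules.freeHomEquiv _
            (kernel.lift (genMor (s W)) (LocFP.matMor (r W)) (matMor_genMor (hr W)))
          epi := by
            rw [Equiv.symm_apply_apply]
            exact epi_lift_matMor (hr W) } }
  let D : SheafOfModules.QuasicoherentData.{u} (R := ModSite.ringSh O) F :=
    { I := { W : C // FP F W }
      X := fun W => W.1
      coversTop := coversTop_of_lh h
      presentation := P }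
  have hD : D.IsFinitePresentation :=
    { isFinite_presentation := fun W =>
        { isFiniteType_generators := { finite := (Finite.of_fintype (I W) :) }
          isFiniteType_relations := { finite := (Finite.of_fintype (K W) :) } } }
  exact { exists_quasicoherentData := ⟨D, hD⟩ }

end Groth.Agent.H15Site.LocPres
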