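import Groth.Agent.H15Site.LocPres

/-!
# Extensions, kernels and cokernels of finite type / finitely presented modules
-/

universe u

open CategoryTheory CategoryTheory.Limits Opposite

set_option linter.style.haveILetI false
set_option backward.isDefEq.respectTransparency false
set_option linter.unusedSectionVars false

namespace Groth.Agent.H15Site.LocPres

open ModTensor ModRel LocGen

attribute [local instance 10000] SiteInst.hasSheafifySite SiteInst.hasWeakSheafifySite

variable {C : Type u} [SmallCategory C] {J : GrothendieckTopology C} {O : Sheaf J CommRingCat.{u}}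
  {F G : ModSite.Mod O}

/-- Extensions of finite type modules. -/
theorem isFiniteType_of_shortExact (S : ShortComplex (ModSite.Mod O)) (hS : S.ShortExact)
    [SheafOfModules.IsFiniteType (R := ModSite.ringSh O) S.X₁]
    [SheafOfModules.IsFiniteType (R := ModSite.ringSh O) S.X₃] :
    SheafOfModules.IsFiniteType (R := ModSite.ringSh O) S.X₂ := by
  haveI := hS.epi_g
  refine isFiniteType_of_lh (lh_bind (lh_and (lh_fg S.X₁) (lh_fg S.X₃) FG.res) ?_)
  rintro U ⟨⟨I, hI, s, hs⟩, K, hK, q, hq⟩
  obtain ⟨T, hT, hT'⟩ := exists_lifts S.g q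
  refine ⟨T, hT, fun U' k hk => ?_⟩
  obtain ⟨q', hq'⟩ := hT' k hk
  refine ⟨I ⊕ K, inferInstance,
    Sum.elim (fun i => (S.f.val.app (op U')).hom (rs ((forg O).obj S.X₁) k.op (s i))) q', ?_⟩
  intro V g t
  obtain ⟨A, hA, hA'⟩ := hq (g ≫ k) ((S.g.val.app (op V)).hom t)
  refine LSpan.of_cover hA fun W a ha => ?_
  obtain ⟨r, hr⟩ := hA' a ha
  let t₁ := rs ((forg O).obj S.X₂) a.op t - ∑ i, r i • rs ((forg O).obj S.X₂) (a ≫ g).op (q' i)
  have ht₁ : (S.g.val.app (op W)).hom t₁ = 0 := by
    refine (map_sub _ _ _).trans (sub_eq_zero.2 ?_)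
    refine ((app_rs S.g a.op t).trans hr).trans (Eq.trans ?_ (app_sum_smul S.g _ _ _).symm)
    refine Finset.sum_congr rfl fun i _ => congrArg (r i • ·) ?_
    refine Eq.trans ?_ ((congrArg (rs ((forg O).obj S.X₃) (a ≫ g).op) (hq' i)).symm.trans (app_rs S.g _ _).symm)
    rw [rs_rs, ← op_comp, Category.assoc]
  have h₁ : LSpan (Sum.elim (fun i => (S.f.val.app (op U')).hom
      (rs ((forg O).obj S.X₁) k.op (s i))) q') (a ≫ g) t₁ := by
    obtain ⟨B, hB, hB'⟩ := exists_lift_of_exact hS.exact t₁ ht₁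
    refine LSpan.of_cover hB fun Z b hb => ?_
    obtain ⟨y, hy⟩ := hB' b hb
    rw [← hy]
    refine (LSpan.map ((hs.restrict k) (b ≫ a ≫ g) y) S.f).trans _ fun Z' c i => ?_
    exact LSpan.single (Sum.inl i)
  have h₂ : LSpan (Sum.elim (fun i => (S.f.val.app (op U')).hom
      (rs ((forg O).obj S.X₁) k.op (s i))) q') (a ≫ g)
      (∑ i, r i • rs ((forg O).obj S.X₂) (a ≫ g).op (q' i)) :=
    LSpan.sum _ fun i _ => (LSpan.single (Sum.inr i)).smul (r i)
  simpa [t₁] using h₁.add h₂

/-- The kernel of a surjection from a finite type to a finitely presented module. -/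
theorem isFiniteType_kernel (θ : G ⟶ F) [Epi θ]
    [SheafOfModules.IsFiniteType (R := ModSite.ringSh O) G]
    [SheafOfModules.IsFinitePresentation (R := ModSite.ringSh O) F] :
    SheafOfModules.IsFiniteType (R := ModSite.ringSh O) (kernel θ) := by
  refine isFiniteType_of_lh (lh_bind (lh_and (lh_fg G) (lh_fp F) FG.res) ?_)
  rintro U ⟨⟨M, hM, q, hq⟩, I, K, hI, hK, s, r, hs, hr⟩
  obtain ⟨T₁, hT₁, hT₁'⟩ := exists_lifts θ s
  choose A hA hA' using fun m => hs (𝟙 U) ((θ.val.app (op U)).hom (q m))
  obtain ⟨T₂, hT₂, hle⟩ := exists_common A hA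
  refine ⟨T₁ ⊓ T₂, J.intersection_covering hT₁ hT₂, fun U' k hk => ?_⟩
  obtain ⟨s', hs'⟩ := hT₁' k hk.1
  choose a ha using fun m => hA' m k (hle m _ hk.2)
  simp only [Category.comp_id] at ha
  have hx : ∀ x : K ⊕ M, ∃ y : ((forg O).obj (kernel θ)).obj (op U'),
      ((kernel.ι θ).val.app (op U')).hom y = Sum.elim (fun l => ∑ i, rr O k.op (r l i) • s' i)
        (fun m => rs ((forg O).obj G) k.op (q m) - ∑ i, a m i • s' i) x := by
    intro x
    refine SitePerfLift.exists_kernel_lift_global θ _ ?_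
    rcases x with l | m
    · refine (app_sum_smul θ _ _ _).trans (Eq.trans (Finset.sum_congr rfl fun i _ =>
        congrArg _ (hs' i)) ?_)
      have h := congrArg (rs ((forg O).obj F) k.op) (hr.zero l)
      rw [rs_sum, rs_zero] at h
      simpa only [rs_smul'] using h
    · refine (map_sub _ _ _).trans (sub_eq_zero.2 ?_)
      exact ((app_rs θ k.op (q m)).trans (ha m)).trans (((app_sum_smul θ _ _ _).trans
        (Finset.sum_congr rfl fun i _ => congrArg _ (hs' i))).symm)
  choose w hw using hx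
  refine ⟨K ⊕ M, inferInstance, w, fun V g y => ?_⟩
  obtain ⟨B, hB, hB'⟩ := (hq.restrict k) g (((kernel.ι θ).val.app (op V)).hom y)
  refine LSpan.of_cover hB fun W b hb => ?_
  obtain ⟨c, hc⟩ := hB' b hb
  have hc₀ : ((θ.val.app (op W)).hom)
      (rs ((forg O).obj G) b.op (((kernel.ι θ).val.app (op V)).hom y)) = 0 := by
    exact (app_rs θ _ _).trans ((congrArg _ (app_comp_zero (kernel.condition θ) y)).trans
      (rs_zero _ _))
  let d : I → O.obj.obj (op W) := fun i => ∑ m, c m * rr O (b ≫ g).op (a m i)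
  have hd : ∑ i, d i • rs ((forg O).obj F) (b ≫ g ≫ k).op (s i) = 0 := by
    refine Eq.trans ?_ ((app_sum_smul θ _ _ _).symm.trans ((congrArg _ hc).symm.trans hc₀))
    simp only [d, Finset.sum_smul]
    rw [Finset.sum_comm]
    refine Finset.sum_congr rfl fun m _ => ?_
    refine Eq.trans ?_ (congrArg (c m • ·) ((app_rs θ _ _).trans
      (congrArg _ ((app_rs θ k.op (q m)).trans (ha m))))).symm
    rw [rs_sum, Finset.smul_sum]
    refine Finset.sum_congr rfl fun i _ => ?_
    rw [rs_smul', rs_rs, ← op_comp, Category.assoc, smul_smul]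
  obtain ⟨E, hE, hE'⟩ := hr.complete (b ≫ g ≫ k) d hd
  refine LSpan.of_cover hE fun Z e he => ?_
  obtain ⟨δ, hδ⟩ := hE' e he
  obtain ⟨y', hy'⟩ : ∃ y', y' = rs ((forg O).obj (kernel θ)) e.op
      (rs ((forg O).obj (kernel θ)) b.op y) := ⟨_, rfl⟩
  rw [← hy']
  have key : y' = ∑ l, δ l • rs ((forg O).obj (kernel θ)) (e ≫ b ≫ g).op (w (Sum.inl l)) +
      ∑ m, rr O e.op (c m) • rs ((forg O).obj (kernel θ)) (e ≫ b ≫ g).op (w (Sum.inr m)) := by
    apply injective_app (kernel.ι θ)
    rw [hy', map_add, map_sum, map_sum]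
    have hsm : ∀ (z : O.obj.obj (op Z)) (x : K ⊕ M),
        ((kernel.ι θ).val.app (op Z)).hom
          (z • rs ((forg O).obj (kernel θ)) (e ≫ b ≫ g).op (w x)) =
        z • rs ((forg O).obj G) (e ≫ b ≫ g).op (((kernel.ι θ).val.app (op U')).hom (w x)) :=
      fun z x => (((kernel.ι θ).val.app (op Z)).hom.map_smul _ _).trans
        (congrArg (z • ·) (app_rs (kernel.ι θ) _ _))
    simp only [hsm, hw, Sum.elim_inl, Sum.elim_inr]
    refine ((app_rs (kernel.ι θ) _ _).trans
      (congrArg _ ((app_rs (kernel.ι θ) _ _).trans hc))).trans ?_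
    rw [rs_sum]
    simp only [rs_smul', rs_sum, rs_sub', rs_rs, rr_rr, ← op_comp, Category.assoc,
      smul_sub, Finset.sum_sub_distrib]
    have e1 : ∑ l, δ l • ∑ i, rr O ((e ≫ b ≫ g) ≫ k).op (r l i) •
        rs ((forg O).obj G) (e ≫ b ≫ g).op (s' i) =
      ∑ m, rr O e.op (c m) • ∑ i, rr O (e ≫ b ≫ g).op (a m i) •
        rs ((forg O).obj G) (e ≫ b ≫ g).op (s' i) := by
      simp only [Finset.smul_sum, smul_smul]
      rw [Finset.sum_comm]
      conv_rhs => rw [Finset.sum_comm]
      refine Finset.sum_congr rfl fun i _ => ?_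
      rw [← Finset.sum_smul, ← Finset.sum_smul]
      congr 1
      have := hδ i
      simp only [d, map_sum, map_mul, rr_rr, ← op_comp, Category.assoc] at this ⊢
      rw [← this]
    simp only [← op_comp, rr_rr, Category.assoc] at e1
    rw [e1]
    abel
  rw [key]
  exact (LSpan.sum _ fun l _ => (LSpan.single (Sum.inl l)).smul _).add
    (LSpan.sum _ fun m _ => (LSpan.single (Sum.inr m)).smul _) |> fun h => by
      simpa only [Category.assoc] using h

/-- The cokernel of a map from a finite type to a finitely presented module. -/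
theorem isFinitePresentation_cokernel (φ : G ⟶ F)
    [SheafOfModules.IsFiniteType (R := ModSite.ringSh O) G]
    [SheafOfModules.IsFinitePresentation (R := ModSite.ringSh O) F] :
    SheafOfModules.IsFinitePresentation (R := ModSite.ringSh O) (cokernel φ) := by
  refine isFinitePresentation_of_lh (lh_bind (lh_and (lh_fg G) (lh_fp F) FG.res) ?_)
  rintro U ⟨⟨M, hM, q, hq⟩, I, K, hI, hK, s, r, hs, hr⟩
  choose A hA hA' using fun m => hs (𝟙 U) ((φ.val.app (op U)).hom (q m))
  obtain ⟨T, hT, hle⟩ := exists_common A hA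
  refine ⟨T, hT, fun U' k hk => ?_⟩
  choose a ha using fun m => hA' m k (hle m _ hk)
  simp only [Category.comp_id] at ha
  let π := cokernel.π φ
  refine ⟨I, K ⊕ M, hI, inferInstance,
    fun i => (π.val.app (op U')).hom (rs ((forg O).obj F) k.op (s i)),
    Sum.elim (fun l i => rr O k.op (r l i)) a, ?_, ?_⟩
  · intro V g t
    obtain ⟨B, hB, hB'⟩ := (epi_iff_locSurj π).1 inferInstance V t
    refine LSpan.of_cover hB fun W b hb => ?_
    obtain ⟨z, hz⟩ := hB' b hb
    rw [← hz]
    exact LSpan.map ((hs.restrict k) (b ≫ g) z) π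
  · refine ⟨fun x => ?_, fun V g c hc => ?_⟩
    · have hlin : ∀ b : I → O.obj.obj (op U'),
          ∑ i, b i • (π.val.app (op U')).hom (rs ((forg O).obj F) k.op (s i)) =
          (π.val.app (op U')).hom (∑ i, b i • rs ((forg O).obj F) k.op (s i)) := fun b => by
        rw [map_sum]
        exact Finset.sum_congr rfl fun i _ => ((π.val.app (op U')).hom.map_smul _ _).symm
      rw [hlin]
      rcases x with l | m
      · have h := congrArg (rs ((forg O).obj F) k.op) (hr.zero l)
        rw [rs_sum, rs_zero] at h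
        simp only [rs_smul'] at h
        exact (congrArg _ h).trans (map_zero _)
      · exact (congrArg _ ((ha m).symm.trans (app_rs φ k.op (q m)).symm)).trans
          (app_comp_zero (cokernel.condition φ) _)
    · let x := ∑ i, c i • rs ((forg O).obj F) (g ≫ k).op (s i)
      have hx : (π.val.app (op V)).hom x = 0 := by
        refine (map_sum _ _ _).trans (Eq.trans (Finset.sum_congr rfl fun i _ => ?_) hc)
        refine ((π.val.app (op V)).hom.map_smul _ _).trans (congrArg (c i • ·) ?_)
        rw [op_comp, ← rs_rs]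
        exact rs_app ((forg O).map π) _ _
      obtain ⟨B, hB, hB'⟩ :=
        exists_lift_of_exact (S := ShortComplex.mk φ π (cokernel.condition φ))
          (ShortComplex.exact_cokernel φ) x hx
      have key : ∀ ⦃W : C⦄ (b : W ⟶ V), B b → ∃ S ∈ J W, ∀ ⦃Z : C⦄ (h : Z ⟶ W), S h →
          ∃ d : K ⊕ M → O.obj.obj (op Z), ∀ i, rr O (h ≫ b).op (c i) =
            ∑ l, d l * rr O ((h ≫ b) ≫ g).op (Sum.elim (fun l i => rr O k.op (r l i)) a l i) := by
        intro W b hb
        obtain ⟨y, hy⟩ := hB' b hb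
        obtain ⟨E, hE, hE'⟩ := (hq.restrict k) (b ≫ g) y
        have inner : ∀ ⦃Z : C⦄ (h : Z ⟶ W), E h → ∃ S ∈ J Z, ∀ ⦃Z' : C⦄ (h' : Z' ⟶ Z), S h' →
            ∃ d : K ⊕ M → O.obj.obj (op Z'), ∀ i, rr O (h' ≫ h ≫ b).op (c i) =
              ∑ l, d l * rr O ((h' ≫ h ≫ b) ≫ g).op
                (Sum.elim (fun l i => rr O k.op (r l i)) a l i) := by
          intro Z h hh
          obtain ⟨e, he⟩ := hE' h hh
          let c' : I → O.obj.obj (op Z) := fun i =>
            rr O (h ≫ b).op (c i) - ∑ m, e m * rr O ((h ≫ b) ≫ g).op (a m i)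
          have hc' : ∑ i, c' i • rs ((forg O).obj F) ((h ≫ b ≫ g) ≫ k).op (s i) = 0 := by
            have h2 := (congrArg (rs ((forg O).obj F) h.op) hy).symm.trans
              ((app_rs φ h.op y).symm.trans ((congrArg _ he).trans (app_sum_smul φ _ _ _)))
            rw [rs_rs, ← op_comp, rs_sum] at h2
            simp only [c', sub_smul, Finset.sum_sub_distrib, Finset.sum_smul]
            rw [sub_eq_zero, Finset.sum_comm]
            simp only [rs_smul', rs_rs, ← op_comp, Category.assoc] at h2 ⊢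
            refine h2.trans (Finset.sum_congr rfl fun m _ => ?_)
            refine (congrArg (e m • ·) ((app_rs φ _ _).trans (?_))).trans
              Finset.smul_sum |>.trans (Finset.sum_congr rfl fun i _ => smul_smul _ _ _)
            have e1 := congrArg (rs ((forg O).obj F) (h ≫ b ≫ g).op) (ha m)
            rw [rs_sum] at e1
            simp only [rs_smul', rs_rs, ← op_comp, Category.assoc] at e1
            exact e1
          obtain ⟨S, hS, hS'⟩ := hr.complete ((h ≫ b ≫ g) ≫ k) c' hc'
          refine ⟨S, hS, fun Z' h' hh' => ?_⟩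
          obtain ⟨d, hd⟩ := hS' h' hh'
          refine ⟨Sum.elim d fun m => rr O h'.op (e m), fun i => ?_⟩
          have hi := hd i
          simp only [c', map_sub, map_sum, map_mul, Fintype.sum_sum_type, Sum.elim_inl,
            Sum.elim_inr, rr_rr, ← op_comp, Category.assoc, sub_eq_iff_eq_add] at hi ⊢
          exact hi
        choose S hS hS' using inner
        refine ⟨Sieve.bind E.arrows (fun Z h hh => S h hh), J.bind_covering hE hS, ?_⟩
        rintro Z' _ ⟨Z, h', h, hh, hh', rfl⟩
        simpa only [Category.assoc] using hS' h hh h' hh'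
      choose S hS hS' using key
      refine ⟨Sieve.bind B.arrows (fun W b hb => S b hb), J.bind_covering hB hS, ?_⟩
      rintro Z _ ⟨W, h, b, hb, hh, rfl⟩
      exact hS' b hb h hh

end Groth.Agent.H15Site.LocPres
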