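import Groth.Agent.H15Site.LocPres
import Groth.Agent.H15Site.FreeOn
import Groth.Agent.H15Site.ModOver
import Groth.Prelude.Def_CohCx

/-!
# Sections of coproducts of sheaves of modules

`exists_local_combination`: locally a finite sum; `exists_combination`: globally so over a
quasi-compact object.
-/

universe u

open CategoryTheory CategoryTheory.Limits Opposite

set_option linter.style.haveILetI false
set_option backward.isDefEq.respectTransparency false
set_option linter.unusedSectionVars false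

namespace Groth.Agent.H15Site.CoprodSect

open ModTensor ModRel LocGen LocPres

attribute [local instance 10000] SiteInst.hasSheafifySite SiteInst.hasWeakSheafifySite

variable {C : Type u} [SmallCategory C] {J : GrothendieckTopology C} {O : Sheaf J CommRingCat.{u}}
  {I : Type u} (M : I → ModSite.Mod O)

/-- The comparison from the coproduct of presheaves. -/
noncomputable def cmp : (∐ fun i => (forg O).obj (M i)) ⟶ (forg O).obj (∐ M) :=
  Sigma.desc fun i => (forg O).map (Sigma.ι M i)

lemma ι_cmp (i : I) : Sigma.ι (fun i => (forg O).obj (M i)) i ≫ cmp M =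
    (forg O).map (Sigma.ι M i) :=
  Sigma.ι_desc _ _

theorem isIso_map_cmp : IsIso ((aSh O).map (cmp M)) := by
  haveI := (SheafOfModules.fullyFaithfulForget (ModSite.ringSh O)).full
  haveI := (SheafOfModules.fullyFaithfulForget (ModSite.ringSh O)).faithful
  refine isIso_aSh_map_of_bijective _ fun F => ⟨fun a b h => ?_, fun b => ?_⟩
  · obtain ⟨a, rfl⟩ := (forg O).map_surjective a
    obtain ⟨b, rfl⟩ := (forg O).map_surjective b
    refine congrArg (forg O).map (Sigma.hom_ext _ _ fun i => (forg O).map_injective ?_)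
    have := congrArg (fun k => Sigma.ι (fun i => (forg O).obj (M i)) i ≫ k) h
    simpa only [← Category.assoc, ι_cmp, ← Functor.map_comp] using this
  · refine ⟨(forg O).map (Sigma.desc fun i => (forg O).preimage (Sigma.ι (fun i => (forg O).obj (M i)) i ≫ b)),
      Sigma.hom_ext _ _ fun i => ?_⟩
    rw [← Category.assoc, ι_cmp, ← Functor.map_comp, Sigma.ι_desc, Functor.map_preimage]

/-- In modules, the injections of a colimit cofan generate. -/
theorem iSup_range_eq_top {R : Type u} [Ring R] {Z : I → ModuleCat.{u} R} (c : Cofan Z)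
    (hc : IsColimit c) : ⨆ i, LinearMap.range (c.inj i).hom = ⊤ := by
  let N := ⨆ i, LinearMap.range (c.inj i).hom
  have h : ModuleCat.ofHom N.mkQ = 0 := Cofan.IsColimit.hom_ext hc _ _ fun i => by
    ext x
    exact (Submodule.Quotient.mk_eq_zero N).2 (Submodule.mem_iSup_of_mem i ⟨x, rfl⟩)
  refine eq_top_iff.2 fun x _ => ?_
  exact (Submodule.Quotient.mk_eq_zero N).1 (congrArg (fun k => k.hom x) h)

theorem exists_sum_sigma {V : Cᵒᵖ} (x : (∐ fun i => (forg O).obj (M i) : PMod O).obj V) :
    ∃ (A : Finset I) (y : ∀ i, ((forg O).obj (M i)).obj V),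
      x = ∑ i ∈ A, ((Sigma.ι (fun i => (forg O).obj (M i)) i).app V).hom (y i) := by
  classical
  let ev := PresheafOfModules.evaluation (O.obj ⋙ forget₂ CommRingCat.{u} RingCat.{u}) V
  let c : Cofan fun i => ev.obj ((forg O).obj (M i)) :=
    Cofan.mk (ev.obj (∐ fun i => (forg O).obj (M i)))
      fun i => ev.map (Sigma.ι (fun i => (forg O).obj (M i)) i)
  have hc : IsColimit c := isColimitCofanMkObjOfIsColimit ev _ _
    (coproductIsCoproduct fun i => (forg O).obj (M i))
  have hx : x ∈ ⨆ i, LinearMap.range (c.inj i).hom := by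
    rw [iSup_range_eq_top c hc]; trivial
  induction hx using Submodule.iSup_induction' with
  | mem i z hz =>
    obtain ⟨y, rfl⟩ := hz
    refine ⟨{i}, Pi.single i y, ?_⟩
    rw [Finset.sum_singleton, Pi.single_eq_same]
    rfl
  | zero => exact ⟨∅, fun _ => 0, Finset.sum_empty.symm⟩
  | add a b _ _ ha hb =>
    obtain ⟨A, y, rfl⟩ := ha
    obtain ⟨B, z, rfl⟩ := hb
    refine ⟨A ∪ B, fun i => (if i ∈ A then y i else 0) + (if i ∈ B then z i else 0), ?_⟩
    simp only [map_add]
    rw [Finset.sum_add_distrib]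
    congr 1
    · rw [← Finset.sum_subset Finset.subset_union_left fun i _ hi => by rw [if_neg hi, map_zero]]
      exact Finset.sum_congr rfl fun i hi => by rw [if_pos hi]
    · rw [← Finset.sum_subset Finset.subset_union_right fun i _ hi => by rw [if_neg hi, map_zero]]
      exact Finset.sum_congr rfl fun i hi => by rw [if_pos hi]

/-- A section of a coproduct is locally a finite sum. -/
theorem exists_local_combination {V : C} (t : ((forg O).obj (∐ M)).obj (op V)) :
    ∃ S ∈ J V, ∀ ⦃W : C⦄ (h : W ⟶ V), S h → ∃ (A : Finset I)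
      (y : ∀ i, ((forg O).obj (M i)).obj (op W)),
      rs ((forg O).obj (∐ M)) h.op t = ∑ i ∈ A, ((Sigma.ι M i).val.app (op W)).hom (y i) := by
  obtain ⟨-, hs⟩ := (isIso_aSh_map_iff (cmp M)).1 (isIso_map_cmp M)
  refine ⟨liftSieve (cmp M) (X := op V) t, liftSieve_mem (cmp M) t, fun W h hh => ?_⟩
  obtain ⟨x, hx⟩ := exists_lift (cmp M) (X := op V) hh
  obtain ⟨A, y, rfl⟩ := exists_sum_sigma M x
  refine ⟨A, y, hx.symm.trans ?_⟩
  rw [map_sum]
  refine Finset.sum_congr rfl fun i _ => ?_
  exact ConcreteCategory.congr_hom (congrArg (fun k => PresheafOfModules.Hom.app k (op W))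
    (ι_cmp M i)) (y i)

/-- The projections of a coproduct. -/
noncomputable def pr (i : I) : (∐ M) ⟶ M i :=
  haveI := Classical.decEq I
  Sigma.desc fun j => if h : j = i then eqToHom (congrArg M h) else 0

lemma pr_ι_self {i : I} {V : Cᵒᵖ} (y : ((forg O).obj (M i)).obj V) :
    ((pr M i).val.app V).hom (((Sigma.ι M i).val.app V).hom y) = y :=
  congrArg (fun k' : M i ⟶ M i => (k'.val.app V).hom y)
    (show Sigma.ι M i ≫ pr M i = 𝟙 _ by simp [pr])

lemma pr_ι_ne {i j : I} (e : j ≠ i) {V : Cᵒᵖ} (y : ((forg O).obj (M j)).obj V) :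
    ((pr M i).val.app V).hom (((Sigma.ι M j).val.app V).hom y) = 0 :=
  congrArg (fun k' : M j ⟶ M i => (k'.val.app V).hom y)
    (show Sigma.ι M j ≫ pr M i = 0 by simp [pr, e])

lemma pr_sum {V : Cᵒᵖ} (A : Finset I) (y : ∀ i, ((forg O).obj (M i)).obj V) {i : I} :
    ((pr M i).val.app V).hom (∑ j ∈ A, ((Sigma.ι M j).val.app V).hom (y j)) =
      (haveI := Classical.decEq I; if i ∈ A then y i else 0) := by
  classical
  rw [map_sum]
  split_ifs with hi
  · rw [Finset.sum_eq_single i (fun j _ hj => pr_ι_ne M hj (y j)) (fun h => absurd hi h)]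
    exact pr_ι_self M (y i)
  · exact Finset.sum_eq_zero fun j hj => pr_ι_ne M (fun e => hi (by rwa [e] at hj)) (y j)

/-- Coefficients of a finite sum are unique. -/
theorem eq_zero_of_sum_eq_zero {V : Cᵒᵖ} (A : Finset I) (y : ∀ i, ((forg O).obj (M i)).obj V)
    (h : ∑ j ∈ A, ((Sigma.ι M j).val.app V).hom (y j) = 0) : ∀ i ∈ A, y i = 0 := fun i hi => by
  classical
  have e := pr_sum M A y (i := i)
  rw [h, map_zero, if_pos hi] at e
  exact e.symm

/-- An object every covering of which has a finite refinement. -/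
def QcObj (J : GrothendieckTopology C) (W : C) : Prop :=
  ∀ S ∈ J W, ∃ (κ : Type u) (_ : Finite κ) (Y : κ → C) (g : ∀ k, Y k ⟶ W),
    (∀ k, S (g k)) ∧ Sieve.ofArrows Y g ∈ J W

/-- A section of a coproduct over a quasi-compact object is a finite sum. -/
theorem exists_combination {W : C} (hW : QcObj J W) (t : ((forg O).obj (∐ M)).obj (op W)) :
    ∃ (A : Finset I) (y : ∀ i, ((forg O).obj (M i)).obj (op W)),
      t = ∑ i ∈ A, ((Sigma.ι M i).val.app (op W)).hom (y i) := by
  classical
  obtain ⟨S, hS, hS'⟩ := exists_local_combination M t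
  obtain ⟨κ, _, Yk, g, hg, hcov⟩ := hW S hS
  haveI := Fintype.ofFinite κ
  choose A y hy using fun k => hS' (g k) (hg k)
  let B := Finset.univ.biUnion A
  refine ⟨B, fun i => ((pr M i).val.app (op W)).hom t,
    separated_forg (∐ M) (X := op W) _ hcov _ _ fun Z f hf => ?_⟩
  obtain ⟨_, a, _, ⟨k⟩, rfl⟩ := hf
  rw [op_comp, ← rs_rs, ← rs_rs]
  refine congrArg (rs _ a.op) ?_
  rw [rs_sum]
  have e : ∀ i, rs ((forg O).obj (∐ M)) (g k).op
      (((Sigma.ι M i).val.app (op W)).hom (((pr M i).val.app (op W)).hom t)) =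
      ((Sigma.ι M i).val.app (op (Yk k))).hom (if i ∈ A k then y k i else 0) := fun i => by
    rw [← pr_sum M (A k) (y k), ← hy k, app_rs (pr M i), app_rs (Sigma.ι M i)]
  simp only [e]
  rw [← Finset.sum_subset (Finset.subset_biUnion_of_mem A (Finset.mem_univ k))
    fun i _ hi => by rw [if_neg hi, map_zero]]
  exact (hy k).trans (Finset.sum_congr rfl fun i hi => by rw [if_pos hi])

open ModSite in
/-- A quasi-compact `h_W^#` gives a quasi-compact object. -/
theorem qcObj_of_isQcObject {W : C}
    (hW : CohCx.IsQcObject ((presheafToSheaf J (Type u)).obj (yoneda.obj W))) : QcObj J W := by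
  intro S hS
  let η : ∀ X : C, yoneda.obj X ⟶ ((presheafToSheaf J (Type u)).obj (yoneda.obj X)).obj :=
    fun X => CategoryTheory.toSheafify J (yoneda.obj X)
  let T := Σ V : C, { g : V ⟶ W // S g }
  let fam : ∀ k : T, (presheafToSheaf J (Type u)).obj (yoneda.obj k.1) ⟶
      (presheafToSheaf J (Type u)).obj (yoneda.obj W) :=
    fun k => (presheafToSheaf J (Type u)).map (yoneda.map k.2.1)
  have hnat : ∀ {X : C} (q : X ⟶ W) {Z : C} (a : Z ⟶ X),
      ((presheafToSheaf J (Type u)).map (yoneda.map q)).hom.app (op Z) ((η X).app (op Z) a) =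
        (η W).app (op Z) (a ≫ q) := fun q Z a =>
    (ConcreteCategory.congr_hom (congr_app (CategoryTheory.toSheafify_naturality J (yoneda.map q))
      (op _)) a).symm
  have hsurj : ∀ (X : C) {Z : C} (s : ((presheafToSheaf J (Type u)).obj (yoneda.obj X)).obj.obj (op Z)),
      Presheaf.imageSieve (η X) (U := Z) s ∈ J Z := fun X Z s => Presheaf.imageSieve_mem J _ _
  have hjs : CohCx.JointlySurjective fam := by
    intro U s
    refine ⟨Sieve.bind (Presheaf.imageSieve (η W) (U := U) s).arrows
      (fun V a ha => S.pullback ha.choose), J.bind_covering (hsurj W s)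
      (fun V a ha => J.pullback_stable _ hS), ?_⟩
    rintro Z _ ⟨V, b, a, ha, hb, rfl⟩
    refine ⟨⟨Z, b ≫ ha.choose, hb⟩, (η Z).app (op Z) (𝟙 Z), ?_⟩
    refine (hnat (b ≫ ha.choose) (𝟙 Z)).trans ?_
    rw [Category.id_comp, op_comp, Functor.map_comp, ConcreteCategory.comp_apply]
    exact (NatTrans.naturality_apply (η W) b.op ha.choose).trans (congrArg _ ha.choose_spec)
  obtain ⟨t, ht⟩ := hW T _ fam hjs
  refine ⟨{k // k ∈ t}, inferInstance, fun k => k.1.1, fun k => k.1.2.1, fun k => k.1.2.2, ?_⟩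
  obtain ⟨R, hR, hR'⟩ := ht W ((η W).app (op W) (𝟙 W))
  refine J.transitive hR _ fun V a ha => ?_
  obtain ⟨k, x, hx⟩ := hR' V a ha
  refine J.transitive (hsurj k.1.1 x) _ fun Z b hb => ?_
  have hk : (η W).app (op Z) (hb.choose ≫ k.1.2.1) = (η W).app (op Z) (b ≫ a) := by
    rw [← hnat, hb.choose_spec]
    refine (NatTrans.naturality_apply (fam k.1).hom b.op x).trans ?_
    rw [hx, ← ConcreteCategory.comp_apply, ← Functor.map_comp, ← op_comp]
    refine (NatTrans.naturality_apply (η W) (b ≫ a).op (𝟙 W)).symm.trans ?_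
    exact congrArg _ (Category.comp_id _)
  refine J.superset_covering ?_ (Presheaf.equalizerSieve_mem J (η W) (X := op Z) _ _ hk)
  intro Z' e he
  change (yoneda.obj W).map e.op (hb.choose ≫ k.1.2.1) = (yoneda.obj W).map e.op (b ≫ a) at he
  refine ⟨_, e ≫ hb.choose, _, Presieve.ofArrows.mk k, ?_⟩
  simpa using he

end Groth.Agent.H15Site.CoprodSect
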