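import Groth.Agent.H10Coh.SheafH
import Groth.Agent.H15Site.ClosedPushAb
import Groth.Agent.H16Derived.AcyclicLES
import Mathlib.CategoryTheory.Abelian.FunctorCategory

/-!
# Higher direct images as sheafified cohomology presheaves
-/

universe u

open CategoryTheory CategoryTheory.Limits Opposite TopologicalSpace Abelian

namespace Groth.Agent.H15Site.HigherDirect

open Groth.Agent.H10Coh Groth.Agent.H16Derived

section general

variable {A B : Type*} [Category A] [Category B] [Abelian A] [Abelian B] [EnoughInjectives A]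
  (F : A ⥤ B) [F.Additive] [PreservesFiniteLimits F] {S : ShortComplex A}

/-- `R¹F(X₁)` is the cokernel of `F(X₂) ⟶ F(X₃)` when `R¹F(X₂) = 0`. -/
theorem nonempty_rightDerived_one_iso (hS : S.ShortExact)
    (h₂ : IsZero ((F.rightDerived 1).obj S.X₂)) :
    Nonempty ((F.rightDerived 1).obj S.X₁ ≅ cokernel (F.map S.g)) := by
  obtain ⟨T, hT, e₁, e₂, e₃, a₂, a₃, ha₂, ha₃, hc⟩ := AcyclicLES.exists_les F S hS
  have hepi : Epi (hT.δ (0 : ℤ) ((1 : ℕ) : ℤ) (by simp)) :=
    (hT.homology_exact₁ (0 : ℤ) ((1 : ℕ) : ℤ) (by simp)).epi_f_iff.2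
      ((h₂.of_iso (e₂ 1).some.symm).eq_of_tgt _ _)
  have hex := hT.homology_exact₃ (0 : ℤ) ((1 : ℕ) : ℤ) (by simp)
  have hw : HomologicalComplex.homologyMap T.g (0 : ℤ) ≫
      hT.δ (0 : ℤ) ((1 : ℕ) : ℤ) (by simp) = 0 := hT.comp_δ _ _ _
  let e : cokernel (HomologicalComplex.homologyMap T.g (0 : ℤ)) ≅ T.X₁.homology ((1 : ℕ) : ℤ) :=
    (cokernelIsCokernel _).coconePointUniqueUpToIso hex.gIsCokernel
  exact ⟨(e₁ 1).some ≪≫ e.symm ≪≫
    (cokernel.mapIso (F.map S.g) (HomologicalComplex.homologyMap T.g (0 : ℤ))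
      (asIso a₂) (asIso a₃) (by simpa using hc.symm)).symm⟩

/-- `R^{p+1}F(X₃) ≅ R^{p+2}F(X₁)` when `X₂` is acyclic. -/
theorem nonempty_rightDerived_succ_iso (hS : S.ShortExact) (p : ℕ)
    (h₂ : IsZero ((F.rightDerived (p + 1)).obj S.X₂))
    (h₂' : IsZero ((F.rightDerived (p + 1 + 1)).obj S.X₂)) :
    Nonempty ((F.rightDerived (p + 1)).obj S.X₃ ≅ (F.rightDerived (p + 1 + 1)).obj S.X₁) := by
  obtain ⟨T, hT, e₁, e₂, e₃, -⟩ := AcyclicLES.exists_les F S hS
  exact ⟨(e₃ (p + 1)).some ≪≫ hT.δIso ((p + 1 : ℕ) : ℤ) ((p + 1 + 1 : ℕ) : ℤ) (by simp)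
    (h₂.of_iso (e₂ (p + 1)).some.symm) (h₂'.of_iso (e₂ (p + 1 + 1)).some.symm) ≪≫
    (e₁ (p + 1 + 1)).some.symm⟩

end general

attribute [local instance 10000] hasSheafifyAb hasWeakSheafifyAb hasExtAb enoughInjAb

variable {X Y : TopCat.{u}}

/-- The cohomology presheaf. -/
noncomputable abbrev cohP (F : CohTop.Ab X) (p : ℕ) : (Opens X)ᵒᵖ ⥤ AddCommGrpCat.{u} :=
  Sheaf.cohomologyPresheaf.{u} F p

theorem cohP_map (F : CohTop.Ab X) (p : ℕ) {U V : Opens X} (h : V ≤ U) (x : Hn F p U) :
    ((cohP F p).map (homOfLE h).op).hom x = resH F p h x := rfl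

/-- `H⁰` is sections. -/
noncomputable def cohPZero (F : CohTop.Ab X) : cohP F 0 ≅ F.obj :=
  NatIso.ofComponents (fun U => (H0Equiv F U.unop).toAddCommGrpIso) fun {U V} k => by
    ext x
    exact H0Equiv_res k.unop.le x

theorem cohPZero_naturality {F G : CohTop.Ab X} (f : F ⟶ G) :
    (Sheaf.cohomologyPresheafFunctor.{u} (Opens.grothendieckTopology X) 0).map f ≫ (cohPZero G).hom =
      (cohPZero F).hom ≫ f.hom := by
  ext U x
  exact H0Equiv_map f x

/-- The connecting map of cohomology presheaves. -/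
noncomputable def δP {S : ShortComplex (CohTop.Ab X)} (hS : S.ShortExact) (n : ℕ) :
    cohP S.X₃ n ⟶ cohP S.X₁ (n + 1) where
  app U := AddCommGrpCat.ofHom (hS.extClass.postcomp (Zsh U.unop) (rfl : n + 1 = n + 1))
  naturality U V k := by
    ext x
    exact (resH_comp (k.unop.le : V.unop ≤ U.unop) x hS.extClass rfl).symm

theorem exact_of_evaluation (T : ShortComplex ((Opens X)ᵒᵖ ⥤ AddCommGrpCat.{u}))
    (h : ∀ U, (T.map ((evaluation (Opens X)ᵒᵖ AddCommGrpCat.{u}).obj U)).Exact) : T.Exact := by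
  rw [ShortComplex.exact_iff_isZero_homology]
  exact Functor.isZero _ fun U => IsZero.of_iso ((ShortComplex.exact_iff_isZero_homology _).1 (h U))
    (T.mapHomologyIso ((evaluation (Opens X)ᵒᵖ AddCommGrpCat.{u}).obj U)).symm

theorem isIso_δP {S : ShortComplex (CohTop.Ab X)} (hS : S.ShortExact) (n : ℕ)
    [Injective S.X₂] : IsIso (δP hS (n + 1)) := by
  have : ∀ U, IsIso ((δP hS (n + 1)).app U) := fun U => by
    have h₂ : ∀ m, Subsingleton (Ext.{u} (Zsh U.unop) S.X₂ (m + 1)) := fun m =>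
      subsingleton_of_forall_eq 0 fun x => Ext.eq_zero_of_injective x
    rw [ConcreteCategory.isIso_iff_bijective]
    refine ⟨(injective_iff_map_eq_zero (hS.extClass.postcomp (Zsh U.unop) (rfl : n + 1 + 1 = n + 1 + 1))).2
      fun q hq => ?_, fun x => ?_⟩
    · have := h₂ n
      exact comp_extClass_injective hS hq
    · have : Subsingleton (Ext.{u} (Zsh U.unop) S.X₂ (n + 1 + 1)) := h₂ (n + 1)
      exact @exists_extClass_lift _ _ _ _ (Zsh U.unop) S hS (n + 1) this x
  exact NatIso.isIso_of_isIso_app _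

theorem nonempty_cohP_one_iso {S : ShortComplex (CohTop.Ab X)} (hS : S.ShortExact)
    [Injective S.X₂] : Nonempty (cohP S.X₁ 1 ≅ cokernel S.g.hom) := by
  have hw : (Sheaf.cohomologyPresheafFunctor.{u} (Opens.grothendieckTopology X) 0).map S.g ≫
      δP hS 0 = 0 := by
    have key : ∀ (U : Opens X) (x : Hn S.X₂ 0 U),
        (x.comp (Ext.mk₀ S.g) (add_zero 0)).comp hS.extClass (rfl : 0 + 1 = 1) = 0 := fun U x => by
      rw [Ext.comp_assoc_of_second_deg_zero, hS.comp_extClass, Ext.comp_zero]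
    ext U x
    exact key U.unop x
  let T : ShortComplex ((Opens X)ᵒᵖ ⥤ AddCommGrpCat.{u}) := ShortComplex.mk _ _ hw
  have h₂ : ∀ U : Opens X, Subsingleton (Ext.{u} (Zsh U) S.X₂ 1) := fun U =>
    subsingleton_of_forall_eq 0 fun x => Ext.eq_zero_of_injective x
  have hepi : Epi T.g := by
    have : ∀ U, Epi ((δP hS 0).app U) := fun U => by
      rw [AddCommGrpCat.epi_iff_surjective]
      intro x
      exact @exists_extClass_lift _ _ _ _ (Zsh U.unop) S hS 0 (h₂ U.unop) x
    exact NatTrans.epi_of_epi_app _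
  have hex : T.Exact := by
    refine exact_of_evaluation T fun U => ?_
    rw [ShortComplex.ab_exact_iff]
    intro x hx
    exact Ext.covariant_sequence_exact₃ (Zsh U.unop) hS x rfl hx
  let e : cokernel T.f ≅ cohP S.X₁ 1 := (cokernelIsCokernel _).coconePointUniqueUpToIso hex.gIsCokernel
  exact ⟨e.symm ≪≫ cokernel.mapIso T.f S.g.hom (cohPZero S.X₂) (cohPZero S.X₃)
    (cohPZero_naturality S.g)⟩

/-- Derived functors of the inclusion of sheaves into presheaves. -/
theorem nonempty_rightDerived_sheafToPresheaf_iso (p : ℕ) (F : CohTop.Ab X) :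
    Nonempty (((sheafToPresheaf (Opens.grothendieckTopology X) AddCommGrpCat.{u}).rightDerived p).obj F ≅
      cohP F p) := by
  let Φ := sheafToPresheaf (Opens.grothendieckTopology X) AddCommGrpCat.{u}
  induction p generalizing F with
  | zero => exact ⟨Φ.rightDerivedZeroIsoSelf.app F ≪≫ (cohPZero F).symm⟩
  | succ p ih =>
    have hS := injSeq_shortExact F
    have hI : ∀ m, IsZero ((Φ.rightDerived (m + 1)).obj (injSeq F).X₂) := fun m =>
      Φ.isZero_rightDerived_obj_injective_succ m _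
    cases p with
    | zero =>
      obtain ⟨e⟩ := nonempty_rightDerived_one_iso Φ hS (hI 0)
      obtain ⟨e'⟩ := nonempty_cohP_one_iso hS
      exact ⟨e ≪≫ e'.symm⟩
    | succ p =>
      obtain ⟨e⟩ := nonempty_rightDerived_succ_iso Φ hS p (hI p) (hI (p + 1))
      obtain ⟨e'⟩ := ih (injSeq F).X₃
      have := isIso_δP hS p
      exact ⟨e.symm ≪≫ e' ≪≫ asIso (δP hS (p + 1))⟩

variable (f : X ⟶ Y)

/-- Sheafify the pushed-forward presheaf. -/
noncomputable abbrev shPush : ((Opens X)ᵒᵖ ⥤ AddCommGrpCat.{u}) ⥤ CohTop.Ab Y :=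
  (Functor.whiskeringLeft _ _ AddCommGrpCat.{u}).obj (Opens.map f).op ⋙
    presheafToSheaf (Opens.grothendieckTopology Y) AddCommGrpCat.{u}

/-- On sheaves this is the direct image. -/
noncomputable def shPushIso :
    sheafToPresheaf (Opens.grothendieckTopology X) AddCommGrpCat.{u} ⋙ shPush f ≅ CohTop.push f :=
  NatIso.ofComponents
    (fun F => (asIso (sheafificationAdjunction (Opens.grothendieckTopology Y)
      AddCommGrpCat.{u}).counit).app ((CohTop.push f).obj F))
    fun {F G} φ =>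
      (sheafificationAdjunction (Opens.grothendieckTopology Y) AddCommGrpCat.{u}).counit.naturality
        ((CohTop.push f).map φ)

instance : PreservesFiniteColimits (shPush f) := by
  have : PreservesFiniteColimits (presheafToSheaf (Opens.grothendieckTopology Y) AddCommGrpCat.{u}) :=
    have := (sheafificationAdjunction (Opens.grothendieckTopology Y) AddCommGrpCat.{u}).leftAdjoint_preservesColimits
    PreservesColimitsOfSize.preservesFiniteColimits.{u, u} _
  exact comp_preservesFiniteColimits _ _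

/-- `R^p f_* F` is the sheafification of `V ↦ H^p(f⁻¹V, F)`. -/
theorem nonempty_Rpush_iso_sheafify (p : ℕ) (F : CohTop.Ab X) :
    Nonempty ((CohTop.Rpush f p).obj F ≅ (shPush f).obj (cohP F p)) := by
  have := ClosedPushAb.push_preservesFiniteLimits f
  induction p generalizing F with
  | zero =>
    exact ⟨(CohTop.push f).rightDerivedZeroIsoSelf.app F ≪≫ ((shPushIso f).app F).symm ≪≫
      (shPush f).mapIso (cohPZero F).symm⟩
  | succ p ih =>
    have hS := injSeq_shortExact F
    have hI : ∀ m, IsZero ((CohTop.Rpush f (m + 1)).obj (injSeq F).X₂) := fun m =>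
      (CohTop.push f).isZero_rightDerived_obj_injective_succ m _
    cases p with
    | zero =>
      obtain ⟨e⟩ := nonempty_rightDerived_one_iso (CohTop.push f) hS (hI 0)
      obtain ⟨e'⟩ := nonempty_cohP_one_iso hS
      exact ⟨e ≪≫ cokernel.mapIso _ ((shPush f).map (injSeq F).g.hom) ((shPushIso f).app _).symm
        ((shPushIso f).app _).symm ((shPushIso f).inv.naturality (injSeq F).g) ≪≫
        (PreservesCokernel.iso (shPush f) _).symm ≪≫ (shPush f).mapIso e'.symm⟩
    | succ p =>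
      obtain ⟨e⟩ := nonempty_rightDerived_succ_iso (CohTop.push f) hS p (hI p) (hI (p + 1))
      obtain ⟨e'⟩ := ih (injSeq F).X₃
      have := isIso_δP hS p
      exact ⟨e.symm ≪≫ e' ≪≫ (shPush f).mapIso (asIso (δP hS (p + 1)))⟩

end Groth.Agent.H15Site.HigherDirect
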