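import Mathlib
set_option linter.style.haveILetI false

open CategoryTheory CategoryTheory.Limits Opposite

universe u v

namespace Groth.Agent.H15Site

variable {ι : Type*} {c : ComplexShape ι} {K L : HomologicalComplex AddCommGrpCat.{u} c} (φ : K ⟶ L)

/-- The free abelian group on an abelian group, mapping onto it. -/
noncomputable def freeCover (A : AddCommGrpCat.{u}) :
    AddCommGrpCat.of (FreeAbelianGroup A) ⟶ A :=
  AddCommGrpCat.ofHom (FreeAbelianGroup.lift _root_.id)

lemma freeCover_of {A : AddCommGrpCat.{u}} (a : A) : freeCover A (FreeAbelianGroup.of a) = a :=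
  FreeAbelianGroup.lift_apply_of _root_.id a

instance epi_freeCover (A : AddCommGrpCat.{u}) : Epi (freeCover A) :=
  (AddCommGrpCat.epi_iff_surjective _).2 fun a => ⟨_, freeCover_of a⟩

/-- Elementwise criterion for a quasi-isomorphism of complexes of abelian groups. -/
theorem quasiIso_of_elementwise
    (hmono : ∀ (i : ι) (x : K.X i), K.d i (c.next i) x = 0 →
      ∀ y : L.X (c.prev i), φ.f i x = L.d (c.prev i) i y →
      ∃ w : K.X (c.prev i), K.d (c.prev i) i w = x)
    (hepi : ∀ (i : ι) (y : L.X i), L.d i (c.next i) y = 0 →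
      ∃ (x : K.X i) (v : L.X (c.prev i)), K.d i (c.next i) x = 0 ∧
        y = φ.f i x + L.d (c.prev i) i v) : QuasiIso φ := by
  refine (quasiIso_iff φ).2 fun i => ?_
  rw [quasiIsoAt_iff_isIso_homologyMap]
  have : Mono (HomologicalComplex.homologyMap φ i) := by
    rw [HomologicalComplex.mono_homologyMap_iff_up_to_refinements φ _ i _ rfl rfl]
    intro A x hx y hy
    have h : ∀ a : A, ∃ w, K.d (c.prev i) i w = x a := fun a =>
      hmono i (x a) (ConcreteCategory.congr_hom hx a) (y a) (ConcreteCategory.congr_hom hy a)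
    choose w hw using h
    refine ⟨_, freeCover A, inferInstance, AddCommGrpCat.ofHom (FreeAbelianGroup.lift w), ?_⟩
    refine AddCommGrpCat.hom_ext (FreeAbelianGroup.lift_ext _ _ fun a => ?_)
    change x (freeCover A (FreeAbelianGroup.of a)) =
      K.d (c.prev i) i (FreeAbelianGroup.lift w (FreeAbelianGroup.of a))
    rw [freeCover_of, FreeAbelianGroup.lift_apply_of, hw]
  have : Epi (HomologicalComplex.homologyMap φ i) := by
    rw [HomologicalComplex.epi_homologyMap_iff_up_to_refinements φ _ i _ rfl rfl]
    intro A y hy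
    have h : ∀ a : A, ∃ (x : K.X i) (v : L.X (c.prev i)), K.d i (c.next i) x = 0 ∧
        y a = φ.f i x + L.d (c.prev i) i v := fun a => hepi i (y a) (ConcreteCategory.congr_hom hy a)
    choose x v hx hxv using h
    refine ⟨_, freeCover A, inferInstance, AddCommGrpCat.ofHom (FreeAbelianGroup.lift x), ?_,
      AddCommGrpCat.ofHom (FreeAbelianGroup.lift v), ?_⟩
    · refine AddCommGrpCat.hom_ext (FreeAbelianGroup.lift_ext _ _ fun a => ?_)
      change K.d i (c.next i) (FreeAbelianGroup.lift x (FreeAbelianGroup.of a)) = 0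
      rw [FreeAbelianGroup.lift_apply_of, hx]
    · refine AddCommGrpCat.hom_ext (FreeAbelianGroup.lift_ext _ _ fun a => ?_)
      change y (freeCover A (FreeAbelianGroup.of a)) =
        φ.f i (FreeAbelianGroup.lift x (FreeAbelianGroup.of a)) +
          L.d (c.prev i) i (FreeAbelianGroup.lift v (FreeAbelianGroup.of a))
      rw [freeCover_of, FreeAbelianGroup.lift_apply_of, FreeAbelianGroup.lift_apply_of, hxv]
  exact isIso_of_mono_of_epi _

end Groth.Agent.H15Site
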