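import Groth.Agent.H15Site.FlatAdjD
import Mathlib.Algebra.Homology.DerivedCategory.TStructure

/-!
# The derived adjunction of a coreflection: counit at K-injective complexes, reflection of isos
-/

set_option autoImplicit false
set_option linter.style.haveILetI false

open CategoryTheory CategoryTheory.Limits CategoryTheory.Functor DerivedCategory

namespace Groth.Agent.H15Site.CoreflDer

open H16Derived FlatAdjD

universe w w' v u u'

variable {A : Type u} [Category.{v} A] [Abelian A] [HasDerivedCategory.{w} A]
  {B : Type u'} [Category.{v} B] [Abelian B] [HasDerivedCategory.{w'} B]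
  {G : A ⥤ B} [G.Additive] [PreservesFiniteLimits G] [PreservesFiniteColimits G]
  {F : B ⥤ A} [F.Additive]

/-- The derived adjunction, with its counit at K-injective complexes. -/
theorem exists_adjunction [IsGrothendieckAbelian.{v} B] (adj : G ⊣ F) :
    ∃ (R : DerivedCategory B ⥤ DerivedCategory A) (adjD : G.mapDerivedCategory ⊣ R),
      ∀ (I : CochainComplex B ℤ), I.IsKInjective →
        QuasiIso ((mapHomologicalComplexAdj adj (ComplexShape.up ℤ)).counit.app I) →
          IsIso (adjD.counit.app (DerivedCategory.Q.obj I)) := by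
  let W₁ := HomotopyCategory.quasiIso A (ComplexShape.up ℤ)
  let W₂ := HomotopyCategory.quasiIso B (ComplexShape.up ℤ)
  haveI : (toD F).HasPointwiseRightDerivedFunctor W₂ :=
    RDerived.hasPointwiseRightDerivedFunctor_of_resolutions DerivedCategory.Qh _ _ fun M => by
      obtain ⟨I, hI, s, hs⟩ := exists_local M
      exact ⟨_, s, hs, fun K => CochainComplex.IsKInjective.Qh_map_bijective K I⟩
  let R := (toD F).totalRightDerived DerivedCategory.Qh W₂
  let β := (toD F).totalRightDerivedUnit DerivedCategory.Qh W₂
  let α := G.mapDerivedCategoryFactorsh.hom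
  haveI : G.mapDerivedCategory.IsLeftDerivedFunctor α W₁ :=
    Functor.isLeftDerivedFunctor_of_inverts W₁ G.mapDerivedCategory G.mapDerivedCategoryFactorsh
  haveI : (G.mapDerivedCategory ⋙ R).IsLeftDerivedFunctor
      ((Functor.associator _ _ _).inv ≫ whiskerRight α R) W₁ :=
    Functor.isLeftDerivedFunctor_of_inverts W₁ (G.mapDerivedCategory ⋙ R)
      ((Functor.associator _ _ _).symm ≪≫ Functor.isoWhiskerRight G.mapDerivedCategoryFactorsh R)
  haveI : (R ⋙ G.mapDerivedCategory).IsRightDerivedFunctor
      (whiskerRight β G.mapDerivedCategory ≫ (Functor.associator _ _ _).hom) W₂ := by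
    refine RDerived.isRightDerivedFunctor_of_isIso_local _ _ _ _ _ fun M => ?_
    obtain ⟨I, hI, s, hs⟩ := exists_local M
    refine ⟨_, s, hs, fun K => CochainComplex.IsKInjective.Qh_map_bijective K I, ?_⟩
    haveI : IsIso (β.app ((HomotopyCategory.quotient _ _).obj I)) :=
      RDerived.isIso_unit_app_of_bijective DerivedCategory.Qh W₂ _ _ β _
        fun K => CochainComplex.IsKInjective.Qh_map_bijective K I
    simp only [NatTrans.comp_app, associator_hom_app, whiskerRight_app]
    infer_instance
  refine ⟨R, (homotopyAdj adj).derived W₁ W₂ α β, fun I hI hc => ?_⟩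
  haveI := hI
  let M : HomotopyCategory B (ComplexShape.up ℤ) := (HomotopyCategory.quotient _ _).obj I
  haveI hβ : IsIso (β.app M) :=
    RDerived.isIso_unit_app_of_bijective DerivedCategory.Qh W₂ _ _ β _
      fun K => CochainComplex.IsKInjective.Qh_map_bijective K I
  have h := (homotopyAdj adj).derivedε_fac_app W₂ α β M
  let c := (mapHomologicalComplexAdj adj (ComplexShape.up ℤ)).counit.app I
  haveI : IsIso (DerivedCategory.Q.map c) := (DerivedCategory.isIso_Q_map_iff_quasiIso B c).2 hc
  haveI hQh : IsIso (DerivedCategory.Qh.map ((HomotopyCategory.quotient _ _).map c)) := by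
    have e := quotientCompQhIso_hom_naturality c
    rw [← IsIso.eq_comp_inv] at e
    rw [e]
    infer_instance
  haveI : IsIso (DerivedCategory.Qh.map ((homotopyAdj adj).counit.app M)) := by
    dsimp only [homotopyAdj, M]
    rw [Adjunction.localization_counit_app]
    simp only [Functor.map_comp]
    infer_instance
  haveI : IsIso (G.mapDerivedCategory.map (β.app M) ≫
      ((homotopyAdj adj).derivedε W₂ α β).app (DerivedCategory.Qh.obj M)) := by
    rw [h]
    infer_instance
  haveI : IsIso (((homotopyAdj adj).derivedε W₂ α β).app (DerivedCategory.Qh.obj M)) :=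
    IsIso.of_isIso_comp_left (G.mapDerivedCategory.map (β.app M)) _
  exact WayOut.isIso_of_iso ((homotopyAdj adj).derived W₁ W₂ α β).counit
    ((quotientCompQhIso B).app I) this

variable (G) in
/-- The functor induced on derived categories by a faithful exact functor reflects
isomorphisms. -/
theorem reflectsIsomorphisms [G.Faithful] : G.mapDerivedCategory.ReflectsIsomorphisms where
  reflects {X Y} f hf := by
    obtain ⟨Z, g, d, hT⟩ := Pretriangulated.distinguished_cocone_triangle f
    refine ((Pretriangulated.Triangle.mk f g d).isZero₃_iff_isIso₁ hT).1 ?_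
    have hZ : IsZero (G.mapDerivedCategory.obj Z) :=
      ((G.mapDerivedCategory.mapTriangle.obj (Pretriangulated.Triangle.mk f g d)).isZero₃_iff_isIso₁
        (G.mapDerivedCategory.map_distinguished _ hT)).2 hf
    let K := DerivedCategory.Q.objPreimage Z
    let e : DerivedCategory.Q.obj K ≅ Z := DerivedCategory.Q.objObjPreimageIso Z
    have h2 : IsZero (DerivedCategory.Q.obj ((G.mapHomologicalComplex (ComplexShape.up ℤ)).obj K)) :=
      hZ.of_iso ((G.mapDerivedCategoryFactors.app K).symm ≪≫ G.mapDerivedCategory.mapIso e)
    refine IsZero.of_iso ?_ e.symm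
    rw [IsZero.iff_id_eq_zero, ← DerivedCategory.Q.map_id]
    have hex : ∀ i, K.ExactAt i := fun i => by
      have h3 : ((G.mapHomologicalComplex (ComplexShape.up ℤ)).obj K).ExactAt i := by
        rw [HomologicalComplex.exactAt_iff_isZero_homology]
        exact IsZero.of_iso ((homologyFunctor B i).map_isZero h2)
          ((homologyFunctorFactors B i).app _).symm
      rw [HomologicalComplex.exactAt_iff] at h3 ⊢
      exact ((K.sc i).exact_map_iff_of_faithful G).1 h3
    haveI : QuasiIso (0 : K ⟶ K) := ⟨fun i => by
      rw [quasiIsoAt_iff_isIso_homologyMap]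
      exact ⟨0, (hex i).isZero_homology.eq_of_src _ _, (hex i).isZero_homology.eq_of_src _ _⟩⟩
    haveI h0 : IsIso (DerivedCategory.Q.map (0 : K ⟶ K)) :=
      (DerivedCategory.isIso_Q_map_iff_quasiIso A _).2 inferInstance
    rw [Functor.map_zero] at h0
    rw [DerivedCategory.Q.map_id]
    exact (cancel_mono (0 : DerivedCategory.Q.obj K ⟶ DerivedCategory.Q.obj K)).1 (by simp)

/-- A coreflection whose counit is an isomorphism on the image: the left adjoint is fully
faithful. -/
theorem isIso_unit [G.Faithful] {R : DerivedCategory B ⥤ DerivedCategory A}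
    (adjD : G.mapDerivedCategory ⊣ R)
    (h : ∀ X, IsIso (adjD.counit.app (G.mapDerivedCategory.obj X))) : IsIso adjD.unit := by
  haveI : ∀ X, IsIso (adjD.unit.app X) := fun X => by
    haveI := reflectsIsomorphisms G
    haveI := h X
    haveI : IsIso (G.mapDerivedCategory.map (adjD.unit.app X) ≫
        adjD.counit.app (G.mapDerivedCategory.obj X)) := by
      have e : _ = 𝟙 (G.mapDerivedCategory.obj X) := adjD.left_triangle_components X
      exact e.symm ▸ IsIso.id _
    haveI : IsIso (G.mapDerivedCategory.map (adjD.unit.app X)) :=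
      IsIso.of_isIso_comp_right _ (adjD.counit.app (G.mapDerivedCategory.obj X))
    exact isIso_of_reflects_iso _ G.mapDerivedCategory
  exact NatIso.isIso_of_isIso_app _

end Groth.Agent.H15Site.CoreflDer
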