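import Groth.Agent.H15Site.HDUSheafify
import Groth.Agent.H15Site.CoreflDer
import Groth.Agent.H15Site.ClosedPushAb

/-!
# Negative vanishing on a basis
-/

set_option autoImplicit false
set_option linter.style.haveILetI false
set_option linter.unusedSectionVars false
set_option backward.isDefEq.respectTransparency false

universe w w' v u

open CategoryTheory CategoryTheory.Limits Opposite DerivedCategory DerivedCategory.TStructure
  TopologicalSpace CategoryTheory.Pretriangulated

namespace Groth.Agent.H15Site.HDUNeg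

section General

variable {A : Type u} [Category.{v} A] [Abelian A] [HasDerivedCategory.{w} A]

/-- Maps from an object of the heart into an object of `D^{≥0}`. -/
theorem bijective_cls_of_isGE (M : A) (L : DerivedCategory A) [L.IsGE 0] :
    Function.Bijective (fun φ : (singleFunctor A 0).obj M ⟶ L =>
      (homologyFunctor A 0).map φ) := by
  let T := (t.triangleLTGE 1).obj L
  have hT := t.triangleLTGE_distinguished 1 L
  haveI h3 : DerivedCategory.IsGE T.obj₃ 1 := inferInstanceAs (t.IsGE ((t.truncGE 1).obj L) 1)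
  haveI : DerivedCategory.IsLE T.obj₁ 0 := inferInstanceAs (t.IsLE ((t.truncLT 1).obj L) (1 - 1))
  haveI : DerivedCategory.IsGE T.obj₁ 0 := by
    haveI : t.IsGE L 0 := ‹L.IsGE 0›
    exact inferInstanceAs (t.IsGE ((t.truncLT 1).obj L) 0)
  obtain ⟨Z, ⟨e⟩⟩ := T.obj₁.exists_iso_singleFunctor_obj_of_isGE_of_isLE 0
  let a : (singleFunctor A 0).obj Z ⟶ L := e.inv ≫ T.mor₁
  haveI hiso : IsIso ((homologyFunctor A 0).map T.mor₁) := by
    haveI h1 : Epi ((homologyFunctor A 0).map T.mor₁) :=
      (HomologySequence.epi_homologyMap_mor₁_iff T hT 0).2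
        ((isZero_of_isGE T.obj₃ 1 0 (by omega)).eq_of_tgt _ _)
    haveI h2 : Mono ((homologyFunctor A 0).map T.mor₁) :=
      (HomologySequence.mono_homologyMap_mor₁_iff T hT (-1) 0 (by omega)).2
        ((isZero_of_isGE T.obj₃ 1 (-1) (by omega)).eq_of_src _ _)
    exact isIso_of_mono_of_epi _
  haveI : IsIso ((homologyFunctor A 0).map a) := by
    change IsIso ((homologyFunctor A 0).map (e.inv ≫ T.mor₁))
    rw [Functor.map_comp]
    infer_instance
  have hlift : ∀ φ : (singleFunctor A 0).obj M ⟶ L, ∃ ψ, (singleFunctor A 0).map ψ ≫ a = φ := by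
    intro φ
    obtain ⟨g, hg⟩ := Triangle.coyoneda_exact₂ T hT φ
      (t.zero_of_isLE_of_isGE _ 0 1 (by omega) inferInstance h3)
    obtain ⟨ψ, hψ⟩ := (singleFunctor A 0).map_surjective (g ≫ e.hom)
    exact ⟨ψ, by simp [a, hψ, hg]⟩
  let ι := (singleFunctorCompHomologyFunctorIso A 0)
  refine ⟨fun φ φ' h => ?_, fun s => ?_⟩
  · obtain ⟨ψ, rfl⟩ := hlift φ
    obtain ⟨ψ', rfl⟩ := hlift φ'
    have h1 : (singleFunctor A 0 ⋙ homologyFunctor A 0).map ψ =
        (singleFunctor A 0 ⋙ homologyFunctor A 0).map ψ' :=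
      (cancel_mono ((homologyFunctor A 0).map a)).1
        ((Functor.map_comp _ _ _).symm.trans (h.trans (Functor.map_comp _ _ _)))
    have h2 := congrArg (fun x => ι.inv.app M ≫ x ≫ ι.hom.app Z) h1
    rw [NatIso.naturality_1, NatIso.naturality_1] at h2
    exact congrArg (fun x => (singleFunctor A 0).map x ≫ a) h2
  · refine ⟨(singleFunctor A 0).map (ι.inv.app M ≫ s ≫ inv ((homologyFunctor A 0).map a) ≫
      ι.hom.app Z) ≫ a, ?_⟩
    dsimp only
    rw [Functor.map_comp]
    have h := ι.inv.naturality (ι.inv.app M ≫ s ≫ inv ((homologyFunctor A 0).map a) ≫ ι.hom.app Z)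
    dsimp at h
    simp only [Category.assoc, Iso.hom_inv_id_app] at h
    rw [← cancel_epi (ι.inv.app M), ← Category.assoc, ← h]
    simp

end General

section Site

open SiteGen SiteGenInst

attribute [local instance 10000] SiteInst.hasSheafifySite SiteInst.hasWeakSheafifySite

variable {C : Type u} [SmallCategory C] {J : GrothendieckTopology C}
  [HasDerivedCategory.{w} (Sheaf J AddCommGrpCat.{u})]
  (L : DerivedCategory (Sheaf J AddCommGrpCat.{u})) (B : Set C)
  (hB : ∀ U : C, ∃ (ι : Type u) (Y : ι → C) (g : ∀ i, Y i ⟶ U),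
    Sieve.ofArrows Y g ∈ J U ∧ ∀ i, Y i ∈ B)

include hB in
theorem isGE_of_vanishing (h : ∀ V ∈ B, ∀ i : ℤ, i < 0 → Subsingleton (CohCx.HDU L i V)) :
    L.IsGE 0 := by
  rw [isGE_iff]
  intro i hi
  rw [IsZero.iff_id_eq_zero]
  refine (genAb J).gen _ fun U s => ?_
  rw [Category.comp_id]
  obtain ⟨S, hS, hlift⟩ := exists_local_lift (genAb J) s
  obtain ⟨ι, Y, g, hg, hcov, hY⟩ := exists_cofinal_mem B hB hS
  refine (genAb J).sep hcov _ ?_
  rintro W _ ⟨_, q, _, ⟨j⟩, rfl⟩
  obtain ⟨y, hy⟩ := hlift (g j) (hg j)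
  rw [(h _ (hY j) i hi).elim y 0, cls_zero] at hy
  rw [Functor.map_comp, Category.assoc, ← hy, comp_zero]

theorem subsingleton_of_isGE [L.IsGE 0] (U : C) (i : ℤ) (hi : i < 0) :
    Subsingleton (CohCx.HDU L i U) := by
  haveI : t.IsGE L 0 := ‹L.IsGE 0›
  haveI : t.IsGE (L⟦i⟧) 1 := by
    haveI : t.IsGE (L⟦i⟧) (0 - i) := t.isGE_shift L 0 i (0 - i) (by omega)
    exact t.isGE_of_ge (L⟦i⟧) 1 (0 - i) (by omega)
  exact ⟨fun a b => (t.zero_of_isLE_of_isGE a 0 1 (by omega) inferInstance inferInstance).trans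
    (t.zero_of_isLE_of_isGE b 0 1 (by omega) inferInstance inferInstance).symm⟩

/-- The section of `H⁰` given by a class. -/
noncomputable def sectCls (U : C) : CohCx.HDU L 0 U →+ (CohCx.HD L 0).obj.obj (op U) :=
  AddMonoidHom.mk' (fun y => CohFree.homEquivSect J U (CohCx.HD L 0) (cls (m := (0 : ℤ)) y)) fun y y' => by
    refine Eq.trans ?_ (map_add _ _ _)
    refine congrArg _ ?_
    simp only [cls, Functor.map_add, Preadditive.add_comp, Preadditive.comp_add]

theorem sectCls_natural {U V : C} (g : V ⟶ U) (y : CohCx.HDU L 0 U) :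
    sectCls L V ((singleFunctor _ 0).map (CohCx.freeSheafMap J g) ≫ y) =
      (CohCx.HD L 0).obj.map g.op (sectCls L U y) := by
  refine (congrArg (CohFree.homEquivSect J V (CohCx.HD L 0))
    (cls_precomp ((freeAbFunctor J).map g) y)).trans ?_
  exact CohFree.evalGen_freeSheafMap_comp J g _ (cls (m := (0 : ℤ)) y)

theorem bijective_sectCls [L.IsGE 0] (U : C) : Function.Bijective (sectCls L U) := by
  refine (CohFree.homEquivSect J U (CohCx.HD L 0)).bijective.comp ?_
  haveI : t.IsGE L 0 := ‹L.IsGE 0›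
  haveI : t.IsGE ((𝟭 (DerivedCategory (Sheaf J AddCommGrpCat.{u}))).obj L) 0 := ‹L.IsGE 0›
  haveI : t.IsGE (L⟦(0 : ℤ)⟧) 0 :=
    t.isGE_of_iso ((shiftFunctorZero (DerivedCategory (Sheaf J AddCommGrpCat.{u})) ℤ).app L).symm 0
  have e : (fun y : CohCx.HDU L 0 U => cls (m := (0 : ℤ)) y) =
      (Iso.homCongr (ιX ((genAb J).G.obj U)).symm (σ L 0)) ∘
        (fun y => (homologyFunctor _ 0).map y) := by
    funext y
    simp only [cls, Function.comp_apply, Iso.homCongr_apply, Iso.symm_inv]
    rfl
  change Function.Bijective fun y : CohCx.HDU L 0 U => cls (m := (0 : ℤ)) y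
  rw [e]
  exact (Iso.homCongr _ _).bijective.comp (bijective_cls_of_isGE _ _)

end Site

section Space

open SiteGen SiteGenInst

attribute [local instance 10000] SiteInst.hasSheafifySite SiteInst.hasWeakSheafifySite

variable {X Y : TopCat.{u}} (f : X ⟶ Y) [HasDerivedCategory.{u} (CohTop.Ab X)]

set_option maxHeartbeats 1000000 in
theorem pull_free_iso :
    Nonempty (SiteGenInst.freeAbFunctor (Opens.grothendieckTopology Y) ⋙ CohTop.pull f ≅
      Opens.map f ⋙ SiteGenInst.freeAbFunctor (Opens.grothendieckTopology X)) := by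
  let adj := TopCat.Sheaf.pullbackPushforwardAdjunction AddCommGrpCat.{u} f
  let E : ∀ (V : Opens Y) (M : CohTop.Ab X),
      ((CohTop.pull f).obj (CohCx.freeSheaf (Opens.grothendieckTopology Y) V) ⟶ M) ≃
        (CohCx.freeSheaf (Opens.grothendieckTopology X) ((Opens.map f).obj V) ⟶ M) := fun V M =>
    (adj.homEquiv _ M).trans
      ((CohFree.homEquivSect (Opens.grothendieckTopology Y) V ((CohTop.push f).obj M)).toEquiv.trans
        (CohFree.homEquivSect (Opens.grothendieckTopology X) ((Opens.map f).obj V) M).toEquiv.symm)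
  have hE : ∀ (V : Opens Y) {M M' : CohTop.Ab X}
      (φ : (CohTop.pull f).obj (CohCx.freeSheaf (Opens.grothendieckTopology Y) V) ⟶ M) (χ : M ⟶ M'),
      E V M' (φ ≫ χ) = E V M φ ≫ χ := by
    intro V M M' φ χ
    apply (CohFree.homEquivSect (Opens.grothendieckTopology X) ((Opens.map f).obj V) M').injective
    simp only [E, Equiv.trans_apply]
    erw [AddEquiv.apply_symm_apply]
    rw [adj.homEquiv_naturality_right]
    refine Eq.trans ?_ (congrArg (χ.hom.app (op ((Opens.map f).obj V)))
      ((CohFree.homEquivSect (Opens.grothendieckTopology X) ((Opens.map f).obj V) M).apply_symm_apply _).symm)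
    rfl
  let a : ∀ V : Opens Y, CohCx.freeSheaf (Opens.grothendieckTopology X) ((Opens.map f).obj V) ⟶
      (CohTop.pull f).obj (CohCx.freeSheaf (Opens.grothendieckTopology Y) V) := fun V => E V _ (𝟙 _)
  have ha : ∀ (V : Opens Y) {M : CohTop.Ab X}
      (φ : (CohTop.pull f).obj (CohCx.freeSheaf (Opens.grothendieckTopology Y) V) ⟶ M),
      E V M φ = a V ≫ φ := fun V M φ => by
    rw [← hE V, Category.id_comp]
  haveI : ∀ V, IsIso (a V) := fun V => by
    refine ⟨(E V _).symm (𝟙 _), ?_, ?_⟩
    · rw [← ha, Equiv.apply_symm_apply]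
    · apply (E V _).injective
      rw [hE, Equiv.apply_symm_apply, Category.id_comp]
  refine ⟨(NatIso.ofComponents (fun V => asIso (a V)) fun {V V'} g => ?_).symm⟩
  change CohCx.freeSheafMap _ ((Opens.map f).map g) ≫ a V' =
    a V ≫ (CohTop.pull f).map (CohCx.freeSheafMap _ g)
  rw [← ha]
  apply (CohFree.homEquivSect (Opens.grothendieckTopology X) ((Opens.map f).obj V) _).injective
  simp only [a, E, Equiv.trans_apply]
  erw [AddEquiv.apply_symm_apply]
  rw [← Category.comp_id ((CohTop.pull f).map _), adj.homEquiv_naturality_left]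
  have h1 : ∀ φ : CohCx.freeSheaf (Opens.grothendieckTopology X) ((Opens.map f).obj V') ⟶
      (CohTop.pull f).obj (CohCx.freeSheaf (Opens.grothendieckTopology Y) V'),
      CohFree.homEquivSect (Opens.grothendieckTopology X) ((Opens.map f).obj V) _
        (CohCx.freeSheafMap _ ((Opens.map f).map g) ≫ φ) =
      ((CohTop.pull f).obj (CohCx.freeSheaf (Opens.grothendieckTopology Y) V')).obj.map
        ((Opens.map f).map g).op
        (CohFree.homEquivSect (Opens.grothendieckTopology X) ((Opens.map f).obj V') _ φ) := fun φ =>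
    CohFree.evalGen_freeSheafMap_comp (Opens.grothendieckTopology X) ((Opens.map f).map g) _ φ
  refine (h1 _).trans ?_
  have h2 : ∀ φ : CohCx.freeSheaf (Opens.grothendieckTopology Y) V' ⟶
      (CohTop.push f).obj ((CohTop.pull f).obj (CohCx.freeSheaf (Opens.grothendieckTopology Y) V')),
      CohFree.homEquivSect (Opens.grothendieckTopology Y) V _ (CohCx.freeSheafMap _ g ≫ φ) =
      ((CohTop.push f).obj
        ((CohTop.pull f).obj (CohCx.freeSheaf (Opens.grothendieckTopology Y) V'))).obj.map g.op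
        (CohFree.homEquivSect (Opens.grothendieckTopology Y) V' _ φ) := fun φ =>
    CohFree.evalGen_freeSheafMap_comp (Opens.grothendieckTopology Y) g _ φ
  refine Eq.trans ?_ (h2 _).symm
  refine congrArg _ ?_
  exact AddEquiv.apply_symm_apply _ _

set_option maxHeartbeats 1000000 in
/-- The theorem. -/
theorem main (B : Set (Opens Y)) (hB : Opens.IsBasis B) (K : DerivedCategory (CohTop.Ab X))
    (h : ∀ V ∈ B, ∀ i : ℤ, i < 0 → Subsingleton (CohCx.HDU K i ((Opens.map f).obj V))) :
    (∀ (V : Opens Y) (i : ℤ), i < 0 → Subsingleton (CohCx.HDU K i ((Opens.map f).obj V))) ∧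
    Presheaf.IsSheaf (Opens.grothendieckTopology Y) ((Opens.map f).op ⋙ CohCx.HDUPresheaf K 0) := by
  letI : HasDerivedCategory.{u + 1} (CohTop.Ab Y) := HasDerivedCategory.standard _
  haveI : PreservesFiniteLimits (CohTop.pull f) := ClosedPushAb.pull_preservesFiniteLimits f
  let adj : CohTop.pull f ⊣ CohTop.push f :=
    TopCat.Sheaf.pullbackPushforwardAdjunction AddCommGrpCat.{u} f
  haveI := adj.leftAdjoint_preservesColimits
  haveI : (CohTop.pull f).Additive := Functor.additive_of_preserves_binary_products _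
  obtain ⟨R, adjD, -⟩ := CoreflDer.exists_adjunction adj
  letI := adjD.rightAdjointCommShift ℤ
  obtain ⟨a⟩ := pull_free_iso f
  let L := R.obj K
  let β : (freeAbFunctor (Opens.grothendieckTopology Y) ⋙ singleFunctor _ 0) ⋙
      (CohTop.pull f).mapDerivedCategory ≅
      (Opens.map f ⋙ freeAbFunctor (Opens.grothendieckTopology X)) ⋙ singleFunctor _ 0 :=
    Functor.associator _ _ _ ≪≫
      Functor.isoWhiskerLeft _ ((CohTop.pull f).mapDerivedCategorySingleFunctor (0 : ℤ)) ≪≫
      (Functor.associator _ _ _).symm ≪≫ Functor.isoWhiskerRight a _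
  let Φ : ∀ (i : ℤ) (V : Opens Y), CohCx.HDU K i ((Opens.map f).obj V) ≃ CohCx.HDU L i V :=
    fun i V => ((β.app V).symm.homFromEquiv).trans ((adjD.homEquiv _ _).trans
      ((R.commShiftIso i).app K).homToEquiv)
  haveI : L.IsGE 0 := by
    refine isGE_of_vanishing L B (fun U => ?_) fun V hV i hi => ?_
    · obtain ⟨S, hS, rfl⟩ := Opens.isBasis_iff_cover.1 hB U
      refine ⟨ULift.{u} S, fun s => s.down.1, fun s => homOfLE (le_sSup s.down.2), ?_,
        fun s => hS s.down.2⟩
      intro x hx
      obtain ⟨V, hV, hxV⟩ := Opens.mem_sSup.1 hx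
      exact ⟨V, homOfLE (le_sSup hV), Sieve.ofArrows_mk _ _ (ULift.up ⟨V, hV⟩ : ULift.{u} S), hxV⟩
    · haveI := h V hV i hi
      exact (Φ i V).symm.subsingleton
  refine ⟨fun V i hi => ?_, ?_⟩
  · haveI := subsingleton_of_isGE L V i hi
    exact (Φ i V).subsingleton
  · let e : (Opens.map f).op ⋙ CohCx.HDUPresheaf K 0 ⟶ (CohCx.HD L 0).obj :=
      { app := fun V => AddCommGrpCat.ofHom (AddMonoidHom.mk'
          (fun y => sectCls L V.unop (Φ 0 V.unop y)) fun y y' => by
            refine Eq.trans (congrArg _ ?_) (map_add _ _ _)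
            haveI := adjD.right_adjoint_additive
            change (adjD.homAddEquiv _ _) ((β.app V.unop).hom ≫ (y + y')) ≫ _ = _
            exact (congrArg (· ≫ _) ((congrArg (adjD.homAddEquiv _ _)
              (Preadditive.comp_add _ _ _ (β.app V.unop).hom y y')).trans (map_add _ _ _))).trans
                (Preadditive.add_comp _ _ _ _ _ _))
        naturality := fun V W g => by
          ext y
          refine Eq.trans (congrArg (sectCls L W.unop) ?_) (sectCls_natural L g.unop _)
          refine Eq.trans ?_ ((congrArg (fun z => z ≫ ((R.commShiftIso (0 : ℤ)).app K).hom)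
            (adjD.homEquiv_naturality_left
              ((freeAbFunctor (Opens.grothendieckTopology Y) ⋙ singleFunctor _ 0).map g.unop)
              ((β.app V.unop).hom ≫ y))).trans (Category.assoc _ _ _))
          refine congrArg (fun z => (adjD.homEquiv _ _) z ≫ ((R.commShiftIso (0 : ℤ)).app K).hom) ?_
          exact ((Category.assoc _ _ _).symm.trans
            (congrArg (· ≫ y) (β.hom.naturality g.unop).symm)).trans (Category.assoc _ _ _) }
    haveI : IsIso e := by
      haveI : ∀ V, IsIso (e.app V) := fun V => by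
        rw [ConcreteCategory.isIso_iff_bijective]
        exact (bijective_sectCls L V.unop).comp (Φ 0 V.unop).bijective
      exact NatIso.isIso_of_isIso_app _
    exact (Presheaf.isSheaf_of_iso_iff (asIso e)).2 (CohCx.HD L 0).property

end Space

end Groth.Agent.H15Site.HDUNeg
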