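import Groth.Agent.H15Site.RlimTruncApps
import Groth.Agent.H15Site.HDUNeg
import Groth.Agent.H16Derived.KInjRes.Countable
import Mathlib.CategoryTheory.Abelian.GrothendieckAxioms.Sheaf
import Mathlib.CategoryTheory.Abelian.GrothendieckCategory.EnoughInjectives

/-!
# Hypercohomology on objects where all cohomology sheaves are acyclic
-/

set_option autoImplicit false
set_option linter.style.haveILetI false
set_option backward.isDefEq.respectTransparency false

universe w u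

open CategoryTheory CategoryTheory.Limits Opposite DerivedCategory DerivedCategory.TStructure

namespace Groth.Agent.H15Site.AcyclicBasis

open SiteGen RlimTrunc SiteGenInst

attribute [local instance 10000] SiteInst.hasSheafifySite SiteInst.hasWeakSheafifySite SiteInst.enoughInjSite

variable {C : Type u} [SmallCategory C] {J : GrothendieckTopology C}
  [HasDerivedCategory.{w} (Sheaf J AddCommGrpCat.{u})]

variable (B : Set C)
  (hB : ∀ U : C, ∃ (ι : Type u) (Y : ι → C) (f : ∀ i, Y i ⟶ U), Sieve.ofArrows Y f ∈ J U ∧ ∀ i, Y i ∈ B)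

include hB in
/-- The case of degree zero. -/
theorem nonempty_zero (L : DerivedCategory (Sheaf J AddCommGrpCat.{u}))
    (h : ∀ U ∈ B, ∀ (p : ℕ) (q : ℤ), Subsingleton (CohSite.HU (CohCx.HD L q) (p + 1) U)) (U : C) (hU : U ∈ B) :
    Nonempty (CohCx.HDU L 0 U ≃+ (CohCx.HD L 0).obj.obj (op U)) := by
  haveI : HasProduct (CohCx.truncTower L) :=
    H16Derived.KInjRes.Countable.hasProduct_of_isGE _ fun n =>
      ⟨-(n : ℤ), inferInstanceAs (t.IsGE ((t.truncGE (-(n : ℤ))).obj L) (-(n : ℤ)))⟩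
  have hvan : ∀ V ∈ B, ∀ (k : ℕ) (q : ℤ), 0 < k → Van (genAb J) k V (CohCx.HD L q) := fun V hV k q hk => by
    obtain ⟨p, rfl⟩ : ∃ p, k = p + 1 := ⟨k - 1, by omega⟩
    exact (van_ab_iff _ _ _).2 (h V hV p q)
  have hR : CohCx.IsRlimVia (CohCx.truncTower L) (CohCx.truncTowerMap L) L (CohCx.toTruncTower L) := by
    refine RlimTruncApps.isRlimVia_truncTower_of_bound (genAb J) L B hB fun V hV => ⟨fun _ => 0, fun T hT => ?_⟩
    obtain ⟨ι, Y, g, h1, h2, h3⟩ := exists_cofinal_mem B hB hT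
    exact ⟨ι, Y, g, h1, h2, fun i m k hk => hvan (Y i) (h3 i) k _ (by simpa using hk)⟩
  have hg : GoodTr (genAb J) (CohCx.truncTower L) (CohCx.truncTowerMap L) 0 0 U :=
    goodTr_truncTower (genAb J) L 0 0 U fun i hi k hk => hvan U hU k _ (by omega)
  let M := CohCx.truncTower L 0
  haveI : M.IsGE 0 :=
    haveI : t.IsGE M (-((0 : ℕ) : ℤ)) := inferInstanceAs (t.IsGE ((t.truncGE (-((0 : ℕ) : ℤ))).obj L) (-((0 : ℕ) : ℤ)))
    t.isGE_of_ge M 0 (-((0 : ℕ) : ℤ)) (by omega)
  let g : CohCx.HDU L 0 U →+ CohCx.HDU M 0 U := Preadditive.rightComp _ ((CohCx.toTruncTower L 0)⟦(0 : ℤ)⟧')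
  have hgb : Function.Bijective g := by
    refine ⟨(injective_iff_map_eq_zero g).2 fun y hy => ?_, fun x => ?_⟩
    · exact detInj_of_goodTr (genAb J) (CohCx.toTruncTower L) hR hg y hy
    · exact detSurj_of_goodTr (genAb J) (CohCx.toTruncTower L) hR hg x
  haveI : IsIso ((homologyFunctor (Sheaf J AddCommGrpCat.{u}) 0).map (CohCx.toTruncTower L 0)) :=
    H16Derived.DTrunc.isIso_homology_truncGEπ L (-((0 : ℕ) : ℤ)) 0 (by omega)
  exact ⟨((AddEquiv.ofBijective g hgb).trans (AddEquiv.ofBijective _ (HDUNeg.bijective_sectCls M U))).trans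
    (((sheafToPresheaf J AddCommGrpCat.{u} ⋙ (evaluation _ _).obj (op U)).mapIso
      (asIso ((homologyFunctor (Sheaf J AddCommGrpCat.{u}) 0).map (CohCx.toTruncTower L 0))).symm).addCommGroupIsoToAddEquiv)⟩

include hB in
/-- Hypercohomology is sections of the cohomology sheaf. -/
theorem main (K : DerivedCategory (Sheaf J AddCommGrpCat.{u}))
    (h : ∀ U ∈ B, ∀ (p : ℕ) (q : ℤ), Subsingleton (CohSite.HU (CohCx.HD K q) (p + 1) U))
    (U : C) (hU : U ∈ B) (q : ℤ) :
    Nonempty (CohCx.HDU K q U ≃+ (CohCx.HD K q).obj.obj (op U)) := by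
  let L := K⟦q⟧
  let e : ∀ i : ℤ, CohCx.HD L i ≅ CohCx.HD K (q + i) := fun i =>
    ((homologyFunctor (Sheaf J AddCommGrpCat.{u}) 0).shiftIso q i (q + i) rfl).app K
  have hL : ∀ V ∈ B, ∀ (p : ℕ) (i : ℤ), Subsingleton (CohSite.HU (CohCx.HD L i) (p + 1) V) := fun V hV p i =>
    (van_ab_iff _ _ _).1 (van_of_iso (genAb J) (e i) ((van_ab_iff _ _ _).2 (h V hV p (q + i))))
  obtain ⟨φ⟩ := nonempty_zero B hB L hL U hU
  refine ⟨(AddEquiv.mk' (((shiftFunctorZero (DerivedCategory (Sheaf J AddCommGrpCat.{u})) ℤ).app L).symm.homToEquiv)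
      fun x y => Preadditive.add_comp _ _ _ x y _).trans (φ.trans ?_)⟩
  refine ((sheafToPresheaf J AddCommGrpCat.{u} ⋙ (evaluation _ _).obj (op U)).mapIso
    (e 0 ≪≫ eqToIso (by rw [add_zero]))).addCommGroupIsoToAddEquiv

end Groth.Agent.H15Site.AcyclicBasis
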