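import Groth.Agent.H16Derived.LeftDerTri
import Groth.Agent.H15Site.FlatAdjD
import Mathlib.CategoryTheory.Limits.Preserves.Shapes.Products

/-!
# The derived adjunction `LG ⊣ RF` for a left adjoint with an adapted class of complexes
-/

set_option autoImplicit false
set_option linter.style.haveILetI false

open CategoryTheory CategoryTheory.Limits CategoryTheory.Functor CategoryTheory.Pretriangulated

namespace Groth.Agent.H15Site.AdaptedAdj

open H16Derived FlatAdjD

universe w w' v u u'

variable {A : Type u} [Category.{v} A] [Abelian A] [HasDerivedCategory.{w} A]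
  {B : Type u'} [Category.{v} B] [Abelian B] [HasDerivedCategory.{w'} B] [IsGrothendieckAbelian.{v} B]
  {G : A ⥤ B} [G.Additive] {F : B ⥤ A} [F.Additive]
  {P : ObjectProperty (CochainComplex A ℤ)} [P.IsStableUnderShift ℤ]

variable (G) in
/-- The functor whose left derived functor is taken. -/
noncomputable abbrev toDL : HomotopyCategory A (ComplexShape.up ℤ) ⥤ DerivedCategory B :=
  G.mapHomotopyCategory (ComplexShape.up ℤ) ⋙ DerivedCategory.Qh

omit [P.IsStableUnderShift ℤ] [IsGrothendieckAbelian.{v} B] in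
theorem isIso_toDL_map (h : LeftDerTri.Adapted G P) {X Y : CochainComplex A ℤ} (φ : X ⟶ Y)
    [QuasiIso φ] (hX : P X) (hY : P Y) :
    IsIso ((HomotopyCategory.quotient A (ComplexShape.up ℤ) ⋙ toDL G).map φ) := by
  rw [NatIso.isIso_map_iff (LeftDerTri.compIso (G := G))]
  exact LeftDerTri.isIso_map h φ hX hY

omit [P.IsStableUnderShift ℤ] [IsGrothendieckAbelian.{v} B] [HasDerivedCategory.{w} A] [HasDerivedCategory.{w'} B] in
theorem quasiIso_R_map (h : LeftDerTri.Adapted G P) {X Y : CochainComplex A ℤ} (f : X ⟶ Y)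
    [QuasiIso f] : QuasiIso (h.R.map f) := by
  haveI := h.quasiIso X
  haveI := h.quasiIso Y
  haveI : QuasiIso (h.R.map f ≫ h.ψ.app Y) := by
    rw [h.ψ.naturality f]; exact quasiIso_comp (h.ψ.app X) f
  exact quasiIso_of_comp_right (h.R.map f) (h.ψ.app Y)

omit [P.IsStableUnderShift ℤ] [IsGrothendieckAbelian.{v} B] in
theorem hasLeftDerived (h : LeftDerTri.Adapted G P) :
    (toDL G).HasLeftDerivedFunctor (HomotopyCategory.quasiIso A (ComplexShape.up ℤ)) :=
  haveI : (HomotopyCategory.quotient A (ComplexShape.up ℤ) ⋙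
      DerivedCategory.Qh (C := A)).IsLocalization (HomologicalComplex.quasiIso A (ComplexShape.up ℤ)) :=
    Functor.IsLocalization.of_iso _ (DerivedCategory.quotientCompQhIso A).symm
  LeftDer.hasLeftDerivedFunctor' (W₁ := HomologicalComplex.quasiIso A (ComplexShape.up ℤ)) _
    DerivedCategory.Qh (HomotopyCategory.quotient A (ComplexShape.up ℤ))
    (HomologicalComplex.homotopyEquivalences A (ComplexShape.up ℤ)) (ψ₀ := h.ψ) h.quasiIso
    (fun X Y f hf => haveI : QuasiIso f := hf; haveI := quasiIso_R_map h f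
      isIso_toDL_map h _ (h.mem X) (h.mem Y))
    (fun X => haveI := h.quasiIso (h.R.obj X); isIso_toDL_map h _ (h.mem _) (h.mem X))

/-- The right derived functor of `F` is a right adjoint of a triangulated functor, hence triangulated,
and commutes with derived limits. -/
theorem exists_triangulated_leftAdjoint (adj : G ⊣ F) (h : LeftDerTri.Adapted G P)
    [(toD F).HasRightDerivedFunctor (HomotopyCategory.quasiIso B (ComplexShape.up ℤ))] :
    ∃ (L : DerivedCategory A ⥤ DerivedCategory B) (_ : L.CommShift ℤ) (_ : L.IsTriangulated),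
      Nonempty (L ⊣ (toD F).totalRightDerived DerivedCategory.Qh
        (HomotopyCategory.quasiIso B (ComplexShape.up ℤ))) := by
  haveI := hasLeftDerived h
  haveI : (HomotopyCategory.quotient A (ComplexShape.up ℤ) ⋙
      DerivedCategory.Qh (C := A)).IsLocalization (HomologicalComplex.quasiIso A (ComplexShape.up ℤ)) :=
    Functor.IsLocalization.of_iso _ (DerivedCategory.quotientCompQhIso A).symm
  let W₁ := HomotopyCategory.quasiIso A (ComplexShape.up ℤ)
  let W₂ := HomotopyCategory.quasiIso B (ComplexShape.up ℤ)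
  let L := (toDL G).totalLeftDerived DerivedCategory.Qh W₁
  let α := (toDL G).totalLeftDerivedCounit DerivedCategory.Qh W₁
  let R := (toD F).totalRightDerived DerivedCategory.Qh W₂
  let β := (toD F).totalRightDerivedUnit DerivedCategory.Qh W₂
  let η := LeftDerTri.derivedIso α h
  letI := LeftDerTri.commShift η h
  haveI := LeftDerTri.isTriangulated η h
  refine ⟨L, inferInstance, inferInstance, ?_⟩
  haveI : (toD F).HasPointwiseRightDerivedFunctor W₂ :=
    RDerived.hasPointwiseRightDerivedFunctor_of_resolutions DerivedCategory.Qh _ _ fun M => by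
      obtain ⟨I, hI, s, hs⟩ := exists_local M
      exact ⟨_, s, hs, fun K => CochainComplex.IsKInjective.Qh_map_bijective K I⟩
  haveI : (L ⋙ R).IsLeftDerivedFunctor
      ((Functor.associator _ _ _).inv ≫ whiskerRight α R) W₁ := by
    refine LeftDer.isLeftDerivedFunctor_of_isIso_resolved
      (W₁ := HomologicalComplex.quasiIso A (ComplexShape.up ℤ)) W₁ DerivedCategory.Qh
      (HomotopyCategory.quotient A (ComplexShape.up ℤ))
      (HomologicalComplex.homotopyEquivalences A (ComplexShape.up ℤ)) (ψ₀ := h.ψ) h.quasiIso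
      (fun X Y f hf => ?_) (fun X => ?_) _ _ (fun X => ?_)
    · haveI : QuasiIso f := hf
      haveI := quasiIso_R_map h f
      haveI := isIso_toDL_map h (h.R.map f) (h.mem X) (h.mem Y)
      exact inferInstanceAs (IsIso (R.map
        ((HomotopyCategory.quotient A (ComplexShape.up ℤ) ⋙ toDL G).map (h.R.map f))))
    · haveI := h.quasiIso (h.R.obj X)
      haveI := isIso_toDL_map h (h.ψ.app (h.R.obj X)) (h.mem _) (h.mem X)
      exact inferInstanceAs (IsIso (R.map
        ((HomotopyCategory.quotient A (ComplexShape.up ℤ) ⋙ toDL G).map (h.ψ.app (h.R.obj X)))))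
    · haveI := LeftDerTri.isIso_counit α h (h.R.obj X) (h.mem X)
      simp only [NatTrans.comp_app, associator_inv_app, whiskerRight_app]
      infer_instance
  haveI : (R ⋙ L).IsRightDerivedFunctor
      (whiskerRight β L ≫ (Functor.associator _ _ _).hom) W₂ := by
    refine RDerived.isRightDerivedFunctor_of_isIso_local _ _ _ _ _ fun M => ?_
    obtain ⟨I, hI, s, hs⟩ := exists_local M
    refine ⟨_, s, hs, fun K => CochainComplex.IsKInjective.Qh_map_bijective K I, ?_⟩
    haveI : IsIso (β.app ((HomotopyCategory.quotient _ _).obj I)) :=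
      RDerived.isIso_unit_app_of_bijective DerivedCategory.Qh W₂ _ _ β _
        fun K => CochainComplex.IsKInjective.Qh_map_bijective K I
    simp only [NatTrans.comp_app, associator_hom_app, whiskerRight_app]
    infer_instance
  exact ⟨(homotopyAdj adj).derived W₁ W₂ α β⟩

section Rlim

variable {T T' : Type*} [Category T] [Category T'] [Preadditive T] [Preadditive T']
  [HasZeroObject T] [HasZeroObject T'] [HasShift T ℤ] [HasShift T' ℤ]
  [∀ n : ℤ, (shiftFunctor T n).Additive] [∀ n : ℤ, (shiftFunctor T' n).Additive]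
  [Pretriangulated T] [Pretriangulated T']

/-- A right adjoint of a triangulated functor commutes with derived limits. -/
theorem isRlimVia_map {L : T' ⥤ T} [L.CommShift ℤ] [L.IsTriangulated] {R : T ⥤ T'} (adj : L ⊣ R)
    {K : ℕ → T} {t : ∀ n, K (n + 1) ⟶ K n} [HasProduct K] [HasProduct fun n => R.obj (K n)]
    {X : T} {a : ∀ n, X ⟶ K n}
    (h : ∃ (c : ∏ᶜ K ⟶ X⟦(1 : ℤ)⟧), Triangle.mk (Pi.lift a)
      (Pi.lift fun n => Pi.π K n - Pi.π K (n + 1) ≫ t n) c ∈ distTriang T) :
    ∃ (c : ∏ᶜ (fun n => R.obj (K n)) ⟶ (R.obj X)⟦(1 : ℤ)⟧),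
      Triangle.mk (Pi.lift fun n => R.map (a n))
        (Pi.lift fun n => Pi.π (fun n => R.obj (K n)) n -
          Pi.π (fun n => R.obj (K n)) (n + 1) ≫ R.map (t n)) c ∈ distTriang T' := by
  obtain ⟨c, hT⟩ := h
  letI := adj.rightAdjointCommShift ℤ
  haveI : adj.CommShift ℤ := adj.commShift_of_leftAdjoint ℤ
  haveI := adj.isTriangulated_rightAdjoint
  haveI : PreservesLimit (Discrete.functor K) R :=
    adj.rightAdjoint_preservesLimits.preservesLimitsOfShape.preservesLimit
  let e := PreservesProduct.iso R K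
  refine ⟨e.inv ≫ R.map c ≫ (R.commShiftIso (1 : ℤ)).hom.app X, ?_⟩
  refine isomorphic_distinguished _ (R.map_distinguished _ hT) _ ?_
  refine Triangle.isoMk _ _ (Iso.refl _) e.symm e.symm ?_ ?_ ?_
  · show Pi.lift _ ≫ e.inv = 𝟙 _ ≫ R.map (Pi.lift a)
    rw [Category.id_comp, Iso.comp_inv_eq]
    refine Pi.hom_ext _ _ fun n => ?_
    simp [e]
  · show Pi.lift _ ≫ e.inv = e.inv ≫ R.map (Pi.lift _)
    rw [Iso.comp_inv_eq, Category.assoc, Iso.eq_inv_comp]
    refine Pi.hom_ext _ _ fun n => ?_
    simp [e, ← Functor.map_comp, Functor.map_sub, piComparison_comp_π_assoc, Preadditive.comp_sub]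
  · show (e.inv ≫ R.map c ≫ (R.commShiftIso (1 : ℤ)).hom.app X) ≫
        (shiftFunctor _ (1 : ℤ)).map (𝟙 _) = e.inv ≫ R.map c ≫ (R.commShiftIso (1 : ℤ)).hom.app X
    rw [CategoryTheory.Functor.map_id]
    exact Category.comp_id _

end Rlim

end Groth.Agent.H15Site.AdaptedAdj
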