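import Mathlib.CategoryTheory.Adjunction.Basic
import Mathlib.CategoryTheory.Yoneda
import Mathlib.CategoryTheory.Adjunction.FullyFaithful

/-!
# A formal base change lemma for three adjunctions
-/

set_option autoImplicit false

universe v₁ v₂ v₃ u₁ u₂ u₃

open CategoryTheory

namespace Groth.Agent.H15Site.AdjBC

variable {B : Type u₁} [Category.{v₁} B] {T : Type u₂} [Category.{v₂} T] {W : Type u₃} [Category.{v₃} W]

/-- A natural transformation built from units is invertible on the image of the left adjoint `E`. -/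
theorem isIso_app {E : B ⥤ T} {R₀ : T ⥤ B} (aE : E ⊣ R₀) {Sg : T ⥤ W} {Rn : W ⥤ T} (aS : Sg ⊣ Rn)
    {P : W ⥤ T} {Q : T ⥤ W} (aP : P ⊣ Q) (Lr : W ⥤ T) (c : 𝟭 T ⟶ Sg ⋙ Lr) (e : Q ⋙ Lr ≅ 𝟭 T)
    (hψ : ∀ w : W, IsIso (R₀.map (c.app (Rn.obj w) ≫ Lr.map (aS.counit.app w))))
    (γ : 𝟭 T ⟶ Sg ⋙ P)
    (hγ : ∀ N : T, γ.app N = c.app N ≫ Lr.map (aP.unit.app (Sg.obj N)) ≫ e.hom.app (P.obj (Sg.obj N)))
    (b : B) : IsIso (γ.app (E.obj b)) := by
  refine isIso_of_coyoneda_map_bijective _ fun t => ?_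
  let ψ : Rn.obj (Q.obj t) ⟶ Lr.obj (Q.obj t) :=
    c.app (Rn.obj (Q.obj t)) ≫ Lr.map (aS.counit.app (Q.obj t))
  have key : ∀ k : P.obj (Sg.obj (E.obj b)) ⟶ t,
      γ.app (E.obj b) ≫ k = aS.homEquiv _ _ (aP.homEquiv _ _ k) ≫ ψ ≫ e.hom.app t := by
    intro k
    have h1 : aS.homEquiv _ _ (aP.homEquiv _ _ k) ≫ ψ = c.app (E.obj b) ≫ Lr.map (aP.homEquiv _ _ k) := by
      have hc : aS.homEquiv _ _ (aP.homEquiv _ _ k) ≫ c.app (Rn.obj (Q.obj t)) =
          c.app (E.obj b) ≫ Lr.map (Sg.map (aS.homEquiv _ _ (aP.homEquiv _ _ k))) := c.naturality _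
      simp only [ψ, ← Category.assoc, hc]
      simp only [Category.assoc, ← Functor.map_comp]
      congr 2
      exact ((aS.homEquiv_counit (g := aS.homEquiv _ _ (aP.homEquiv _ _ k))).symm.trans
        (Equiv.symm_apply_apply _ _))
    rw [← Category.assoc (aS.homEquiv _ _ _), h1, hγ, aP.homEquiv_unit, Functor.map_comp]
    simp only [Category.assoc]
    congr 2
    exact (e.hom.naturality k).symm
  have h2 : Function.Bijective fun z : E.obj b ⟶ Rn.obj (Q.obj t) => z ≫ ψ ≫ e.hom.app t := by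
    haveI : IsIso (R₀.map ψ) := hψ _
    haveI : IsIso (R₀.map (ψ ≫ e.hom.app t)) := by
      rw [Functor.map_comp]
      infer_instance
    have h3 : ∀ z : E.obj b ⟶ Rn.obj (Q.obj t), aE.homEquiv _ _ (z ≫ ψ ≫ e.hom.app t) =
        aE.homEquiv _ _ z ≫ R₀.map (ψ ≫ e.hom.app t) := fun z => aE.homEquiv_naturality_right z _
    refine ⟨fun z z' hz => ?_, fun y => ?_⟩
    · have h4 := (h3 z).symm.trans ((congrArg (aE.homEquiv _ _) hz).trans (h3 z'))
      exact (aE.homEquiv _ _).injective ((cancel_mono _).1 h4)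
    · refine ⟨(aE.homEquiv _ _).symm (aE.homEquiv _ _ y ≫ inv (R₀.map (ψ ≫ e.hom.app t))),
        (aE.homEquiv _ _).injective ?_⟩
      rw [h3, Equiv.apply_symm_apply, Category.assoc, IsIso.inv_hom_id, Category.comp_id]
  have h5 : (fun k : P.obj (Sg.obj (E.obj b)) ⟶ t => γ.app (E.obj b) ≫ k) =
      (fun z => z ≫ ψ ≫ e.hom.app t) ∘ (fun k => aS.homEquiv _ _ (aP.homEquiv _ _ k)) := funext key
  change Function.Bijective fun k : P.obj (Sg.obj (E.obj b)) ⟶ t => γ.app (E.obj b) ≫ k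
  rw [h5]
  exact h2.comp ((aS.homEquiv _ _).bijective.comp (aP.homEquiv _ _).bijective)

end Groth.Agent.H15Site.AdjBC
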