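import Groth.Prelude.Def_BigSite
import Mathlib.CategoryTheory.Sites.Continuous
import Mathlib.CategoryTheory.Sites.LocallyBijective
import Mathlib.CategoryTheory.Sites.Limits
import Mathlib.CategoryTheory.Sites.LeftExact

/-!
# Almost cocontinuous functors and sheafification
-/

set_option autoImplicit false
set_option linter.style.haveILetI false
set_option linter.unusedSectionVars false
set_option backward.isDefEq.respectTransparency false

universe u

noncomputable section

open CategoryTheory CategoryTheory.Limits Opposite

namespace Groth.Agent.H15Site.AlmostCocont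

variable {C D : Type u} [SmallCategory C] [SmallCategory D]
  (J : GrothendieckTopology C) (K : GrothendieckTopology D) (u : C ⥤ D) [u.IsContinuous J K]

/-- The comparison map. -/
def cmp (G : Dᵒᵖ ⥤ Type u) :
    (presheafToSheaf J (Type u)).obj (u.op ⋙ G) ⟶
      (u.sheafPushforwardContinuous (Type u) J K).obj ((presheafToSheaf K (Type u)).obj G) :=
  ((sheafificationAdjunction J (Type u)).homEquiv (u.op ⋙ G)
      ((u.sheafPushforwardContinuous (Type u) J K).obj ((presheafToSheaf K (Type u)).obj G))).symm
        (Functor.whiskerLeft u.op (toSheafify K G))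

/-- The comparison as a natural transformation. -/
def cmpNat : (Functor.whiskeringLeft Cᵒᵖ Dᵒᵖ (Type u)).obj u.op ⋙ presheafToSheaf J (Type u) ⟶
    presheafToSheaf K (Type u) ⋙ u.sheafPushforwardContinuous (Type u) J K where
  app G := cmp J K u G
  naturality G G' f := by
    refine (((sheafificationAdjunction J (Type u)).homEquiv_naturality_left_symm _ _).symm.trans ?_).trans
      ((sheafificationAdjunction J (Type u)).homEquiv_naturality_right_symm _ _)
    congr 1
    ext X x
    exact ConcreteCategory.congr_hom (NatTrans.congr_app (toSheafify_naturality K f) (op (u.obj X.unop))) x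

variable (hu : BigSite.IsAlmostCocontinuous u J K)

include hu in
theorem isIso_cmp (G : Dᵒᵖ ⥤ Type u)
    (hG : ∀ V : D, (⊥ : Sieve V) ∈ K V → Nonempty (Unique (G.obj (op V)))) : IsIso (cmp J K u G) := by
  let η := toSheafify K G
  have hη : J.W (Functor.whiskerLeft u.op η) := by
    rw [J.W_iff_isLocallyBijective]
    refine ⟨⟨fun {X} x y h => ?_⟩, ⟨fun {U} s => ?_⟩⟩
    · obtain ⟨R', hR', hcases⟩ := hu X.unop _
        (Presheaf.equalizerSieve_mem K η (X := op (u.obj X.unop)) x y h)
      refine J.superset_covering (fun V g hg => ?_) hR'
      rcases hcases g hg with hbot | h'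
      · obtain ⟨hq⟩ := hG _ hbot
        exact @Subsingleton.elim _ (@Unique.instSubsingleton _ hq) _ _
      · exact h'
    · obtain ⟨R', hR', hcases⟩ := hu U _ (Presheaf.imageSieve_mem K η (U := op (u.obj U)) s)
      refine J.superset_covering (fun V g hg => ?_) hR'
      rcases hcases g hg with hbot | h'
      · obtain ⟨hq⟩ := hG _ hbot
        exact ⟨hq.default, ((isSheaf_iff_isSheaf_of_type _ _).1 ((presheafToSheaf K (Type u)).obj G).property
          _ hbot).isSeparatedFor.ext fun _ _ h => h.elim⟩
      · exact h'
  haveI : IsIso ((presheafToSheaf J (Type u)).map (Functor.whiskerLeft u.op η)) := (J.W_iff _).1 hη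
  exact IsIso.comp_isIso' this (NatIso.isIso_app_of_isIso (sheafificationAdjunction J (Type u)).counit _)

end Groth.Agent.H15Site.AlmostCocont
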