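import Mathlib.AlgebraicTopology.AlternatingFaceMapComplex
import Mathlib.AlgebraicTopology.ExtraDegeneracy
import Mathlib.Algebra.Homology.QuasiIso
import Mathlib.Algebra.Category.Grp.Abelian
import Mathlib.Algebra.Category.Grp.Colimits
import Mathlib.CategoryTheory.Abelian.FunctorCategory
import Mathlib.CategoryTheory.Limits.FunctorCategory.EpiMono

/-!
# Augmented alternating face map complexes: functoriality and pointwise criteria
-/

set_option autoImplicit false
set_option linter.style.haveILetI false
set_option linter.unusedSectionVars false
set_option backward.isDefEq.respectTransparency false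

universe v v' u u' w

open CategoryTheory CategoryTheory.Limits Opposite AlgebraicTopology
open scoped Simplicial

namespace Groth.Agent.H15Site.AugQuasiIso

variable {A : Type u} [Category.{v} A] [Abelian A] {B : Type u'} [Category.{v'} B] [Abelian B]
  (G : A ⥤ B) [G.Additive]

/-- An additive functor commutes with the alternating face map complex. -/
noncomputable def altIso (X : SimplicialObject A) :
    (G.mapHomologicalComplex (ComplexShape.down ℕ)).obj (AlternatingFaceMapComplex.obj X) ≅
      AlternatingFaceMapComplex.obj (((SimplicialObject.whiskering A B).obj G).obj X) :=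
  HomologicalComplex.Hom.isoOfComponents (fun _ => Iso.refl _) (by
    rintro i j (rfl : j + 1 = i)
    refine (Category.id_comp _).trans (Eq.trans ?_ (Category.comp_id _).symm)
    rw [Functor.mapHomologicalComplex_obj_d, AlternatingFaceMapComplex.obj_d_eq,
      AlternatingFaceMapComplex.obj_d_eq, Functor.map_sum]
    refine Finset.sum_congr rfl fun i _ => ?_
    rw [Functor.map_zsmul]
    rfl)

theorem ε_comm (X : SimplicialObject.Augmented A) :
    (altIso G (SimplicialObject.Augmented.drop.obj X)).hom ≫
      AlternatingFaceMapComplex.ε.app (((SimplicialObject.Augmented.whiskering A B).obj G).obj X) =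
    (G.mapHomologicalComplex (ComplexShape.down ℕ)).map (AlternatingFaceMapComplex.ε.app X) ≫
      (HomologicalComplex.singleMapHomologicalComplex G (ComplexShape.down ℕ) 0).hom.app
        (SimplicialObject.Augmented.point.obj X) := by
  refine HomologicalComplex.to_single_hom_ext ?_
  simp only [HomologicalComplex.comp_f, altIso, HomologicalComplex.Hom.isoOfComponents_hom_f,
    Functor.mapHomologicalComplex_map_f, AlternatingFaceMapComplex.ε_app_f_zero,
    HomologicalComplex.singleMapHomologicalComplex_hom_app_self]
  simp
  rfl

/-- An exact functor preserves resolutions by augmented simplicial objects. -/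
theorem quasiIso_ε_map [G.PreservesHomology] (X : SimplicialObject.Augmented A)
    [QuasiIso (AlternatingFaceMapComplex.ε.app X)] :
    QuasiIso (AlternatingFaceMapComplex.ε.app
      (((SimplicialObject.Augmented.whiskering A B).obj G).obj X)) := by
  have h : QuasiIso ((altIso G (SimplicialObject.Augmented.drop.obj X)).hom ≫
      AlternatingFaceMapComplex.ε.app
        (((SimplicialObject.Augmented.whiskering A B).obj G).obj X)) := by
    rw [ε_comm]
    infer_instance
  exact quasiIso_of_comp_left (altIso G (SimplicialObject.Augmented.drop.obj X)).hom _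

theorem quasiIso_map_ε (X : SimplicialObject.Augmented A) [G.PreservesHomology]
    [QuasiIso (AlternatingFaceMapComplex.ε.app
      (((SimplicialObject.Augmented.whiskering A B).obj G).obj X))] :
    QuasiIso ((G.mapHomologicalComplex (ComplexShape.down ℕ)).map
      (AlternatingFaceMapComplex.ε.app X)) := by
  have h : QuasiIso ((G.mapHomologicalComplex (ComplexShape.down ℕ)).map
      (AlternatingFaceMapComplex.ε.app X) ≫
      (HomologicalComplex.singleMapHomologicalComplex G (ComplexShape.down ℕ) 0).hom.app
        (SimplicialObject.Augmented.point.obj X)) := by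
    rw [← ε_comm]
    infer_instance
  exact quasiIso_of_comp_right _ ((HomologicalComplex.singleMapHomologicalComplex G
    (ComplexShape.down ℕ) 0).hom.app (SimplicialObject.Augmented.point.obj X))

variable {E : Type w} [SmallCategory E]

theorem quasiIso_of_evaluation {K L : ChainComplex (E ⥤ AddCommGrpCat.{w}) ℕ} (φ : K ⟶ L)
    (h : ∀ c : E, QuasiIso ((((evaluation E AddCommGrpCat.{w}).obj c).mapHomologicalComplex
      (ComplexShape.down ℕ)).map φ)) : QuasiIso φ := by
  rw [quasiIso_iff]
  intro i
  rw [quasiIsoAt_iff, ShortComplex.quasiIso_iff]
  set ψ := (HomologicalComplex.shortComplexFunctor _ (ComplexShape.down ℕ) i).map φ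
  suffices ∀ c, IsIso (((evaluation E AddCommGrpCat.{w}).obj c).map (ShortComplex.homologyMap ψ)) from
    @NatIso.isIso_of_isIso_app _ _ _ _ _ _ _ this
  intro c
  set ev := (evaluation E AddCommGrpCat.{w}).obj c
  have h1 := (quasiIso_iff _).1 (h c) i
  rw [quasiIsoAt_iff, ShortComplex.quasiIso_iff] at h1
  haveI : IsIso (ShortComplex.homologyMap (ev.mapShortComplex.map ψ)) := h1
  exact (NatIso.isIso_map_iff (ShortComplex.homologyFunctorIso ev) ψ).1 h1

/-- An augmented simplicial presheaf of abelian groups with extra degeneracies at each point. -/
theorem quasiIso_ε_of_extraDegeneracy (X : SimplicialObject.Augmented (E ⥤ AddCommGrpCat.{w}))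
    (ed : ∀ c : E, SimplicialObject.Augmented.ExtraDegeneracy
      (((SimplicialObject.Augmented.whiskering _ _).obj
        ((evaluation E AddCommGrpCat.{w}).obj c)).obj X)) :
    QuasiIso (AlternatingFaceMapComplex.ε.app X) := by
  refine quasiIso_of_evaluation _ fun c => ?_
  haveI : QuasiIso (AlternatingFaceMapComplex.ε.app
      (((SimplicialObject.Augmented.whiskering _ _).obj
        ((evaluation E AddCommGrpCat.{w}).obj c)).obj X)) :=
    (inferInstance : QuasiIso (ed c).homotopyEquiv.hom)
  exact quasiIso_map_ε ((evaluation E AddCommGrpCat.{w}).obj c) X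

end Groth.Agent.H15Site.AugQuasiIso
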