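import Groth.Agent.H15Site.DerivedFF
import Mathlib.CategoryTheory.Adjunction.Unique

/-!
# Base change of an adjunction and locality of the criterion `DerivedFF.Good`
-/

set_option autoImplicit false
set_option linter.style.haveILetI false

universe v u u' u₁ u₂

open CategoryTheory CategoryTheory.Limits

namespace Groth.Agent.H15Site.BaseChange

section Formal

variable {A : Type u} [Category.{v} A] {B : Type u'} [Category.{v} B]
  {A' : Type u₁} [Category.{v} A'] {B' : Type u₂} [Category.{v} B']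
  {P : A ⥤ B} {F : B ⥤ A} (adj : P ⊣ F) {P' : A' ⥤ B'} {F' : B' ⥤ A'} (adj' : P' ⊣ F')
  {jA : A ⥤ A'} {rA : A' ⥤ A} (adA : jA ⊣ rA) {jB : B ⥤ B'} {rB : B' ⥤ B} (adB : jB ⊣ rB)

/-- The comparison of left adjoints coming from one of right adjoints. -/
noncomputable def φ (e : rB ⋙ F ≅ F' ⋙ rA) : jA ⋙ P' ≅ P ⋙ jB :=
  Adjunction.leftAdjointUniq (adA.comp adj') ((adj.comp adB).ofNatIsoRight e)

/-- The mate of a comparison of left adjoints. -/
noncomputable def θ (ξ : jA ⋙ P' ≅ P ⋙ jB) (J : B) : jA.obj (F.obj J) ⟶ F'.obj (jB.obj J) :=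
  adj'.homEquiv _ _ (ξ.hom.app (F.obj J) ≫ jB.map (adj.counit.app J))

theorem θ_spec (ξ : jA ⋙ P' ≅ P ⋙ jB) {X : A} {J : B} (a : P.obj X ⟶ J) :
    adj'.homEquiv _ _ (ξ.hom.app X ≫ jB.map a) = jA.map (adj.homEquiv _ _ a) ≫ θ adj adj' ξ J := by
  rw [θ, ← adj'.homEquiv_naturality_left]
  congr 1
  have h := ξ.hom.naturality (adj.homEquiv _ _ a)
  simp only [Functor.comp_map] at h
  rw [reassoc_of% h, ← jB.map_comp, ← adj.homEquiv_counit, Equiv.symm_apply_apply]

theorem θ_natural (ξ : jA ⋙ P' ≅ P ⋙ jB) {J J' : B} (g : J ⟶ J') :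
    jA.map (F.map g) ≫ θ adj adj' ξ J' = θ adj adj' ξ J ≫ F'.map (jB.map g) := by
  rw [θ, θ, ← adj'.homEquiv_naturality_left, ← adj'.homEquiv_naturality_right]
  congr 1
  have h := ξ.hom.naturality (F.map g)
  simp only [Functor.comp_map] at h
  rw [reassoc_of% h, Category.assoc, ← jB.map_comp, ← jB.map_comp]
  congr 2
  exact adj.counit_naturality g

/-- The mate is invertible when the pushforwards of `jA`, `jB` are fully faithful and `jA ∘ F` only
depends on `jB`. -/
theorem isIso_θ (ξ : jA ⋙ P' ≅ P ⋙ jB) [IsIso adA.counit] [IsIso adB.counit]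
    (hkill : ∀ {J J' : B} (g : J ⟶ J'), IsIso (jB.map g) → IsIso (jA.map (F.map g))) (J : B) :
    IsIso (θ adj adj' ξ J) := by
  have main : ∀ J' : B', IsIso (θ adj adj' ξ (rB.obj J')) := by
    intro J'
    let θ' := θ adj adj' ξ (rB.obj J') ≫ F'.map (adB.counit.app J')
    have key : ∀ {Z : A} (g : Z ⟶ F.obj (rB.obj J')), jA.map g ≫ θ' =
        adj'.homEquiv _ _ (ξ.hom.app Z ≫ (adB.homEquiv _ _).symm ((adj.homEquiv _ _).symm g)) := by
      intro Z g
      rw [adB.homEquiv_counit]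
      refine Eq.trans ?_ (congrArg (adj'.homEquiv _ _) (Category.assoc _ _ _))
      refine Eq.trans ?_ (adj'.homEquiv_naturality_right _ _).symm
      refine Eq.trans ?_ (congrArg (· ≫ F'.map (adB.counit.app J')) (θ_spec adj adj' ξ _).symm)
      rw [Equiv.apply_symm_apply]
      exact (Category.assoc _ _ _).symm
    let m := adA.homEquiv _ _ θ'
    haveI : IsIso m := by
      refine isIso_of_yoneda_map_bijective m fun Z => ?_
      have : (fun g : Z ⟶ F.obj (rB.obj J') => g ≫ m) =
          (adA.homEquiv _ _) ∘ (adj'.homEquiv _ _) ∘ ((ξ.app Z).homCongr (Iso.refl _)).symm ∘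
            (adB.homEquiv _ _).symm ∘ (adj.homEquiv _ _).symm := by
        funext g
        simp only [Function.comp_apply, m, ← adA.homEquiv_naturality_left, key]
        congr 2
        simp [Iso.homCongr]
      rw [this]
      exact (Equiv.bijective _).comp ((Equiv.bijective _).comp ((Equiv.bijective _).comp
        ((Equiv.bijective _).comp (Equiv.bijective _))))
    have h : θ' = jA.map m ≫ adA.counit.app _ :=
      ((adA.homEquiv _ _).symm_apply_apply θ').symm.trans (adA.homEquiv_counit _ _ m)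
    haveI : IsIso θ' := by
      rw [h]
      infer_instance
    exact IsIso.of_isIso_comp_right (θ adj adj' ξ (rB.obj J')) (F'.map (adB.counit.app J'))
  haveI := main (jB.obj J)
  have hu : IsIso (jB.map (adB.unit.app J)) := by
    haveI : IsIso (jB.map (adB.unit.app J) ≫ adB.counit.app (jB.obj J)) := by
      rw [adB.left_triangle_components J]
      exact IsIso.id _
    exact IsIso.of_isIso_comp_right _ (adB.counit.app (jB.obj J))
  haveI := hkill _ hu
  haveI : IsIso (θ adj adj' ξ J ≫ F'.map (jB.map (adB.unit.app J))) := by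
    rw [← θ_natural adj adj' ξ]
    exact IsIso.comp_isIso' (hkill _ hu) (main (jB.obj J))
  exact IsIso.of_isIso_comp_right _ (F'.map (jB.map (adB.unit.app J)))

end Formal

section Complexes

variable {A : Type u} [Category.{v} A] [Abelian A] {B : Type u'} [Category.{v} B] [Abelian B]
  {P : A ⥤ B} {F : B ⥤ A} [P.Additive] [F.Additive]

/-- A family of exact functors which jointly detects isomorphisms detects quasi-isomorphisms. -/
theorem quasiIso_of_jointly {ι : Type*} {A₁ : ι → Type u₁} [∀ i, Category.{v} (A₁ i)] [∀ i, Abelian (A₁ i)]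
    (j : ∀ i, A ⥤ A₁ i) [∀ i, (j i).Additive] [∀ i, PreservesFiniteLimits (j i)]
    [∀ i, PreservesFiniteColimits (j i)]
    (hj : ∀ {X Y : A} (f : X ⟶ Y), (∀ i, IsIso ((j i).map f)) → IsIso f)
    {K L : CochainComplex A ℤ} (f : K ⟶ L)
    (h : ∀ i, QuasiIso (((j i).mapHomologicalComplex (ComplexShape.up ℤ)).map f)) : QuasiIso f := by
  refine ⟨fun n => ?_⟩
  rw [quasiIsoAt_iff, ShortComplex.quasiIso_iff]
  refine hj _ fun i => ?_
  have h1 := (h i).quasiIsoAt n
  rw [quasiIsoAt_iff, ShortComplex.quasiIso_iff] at h1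
  exact (NatIso.isIso_map_iff (ShortComplex.homologyFunctorIso (j i))
    ((HomologicalComplex.shortComplexFunctor A (ComplexShape.up ℤ) n).map f)).1 h1

/-- The criterion is local. -/
theorem good_of_local (adj : P ⊣ F) {ι : Type*} {A₁ : ι → Type u₁} {B₁ : ι → Type u₂}
    [∀ i, Category.{v} (A₁ i)] [∀ i, Abelian (A₁ i)] [∀ i, Category.{v} (B₁ i)] [∀ i, Abelian (B₁ i)]
    {P₁ : ∀ i, A₁ i ⥤ B₁ i} {F₁ : ∀ i, B₁ i ⥤ A₁ i} [∀ i, (P₁ i).Additive] [∀ i, (F₁ i).Additive]
    (adj₁ : ∀ i, P₁ i ⊣ F₁ i)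
    (jA : ∀ i, A ⥤ A₁ i) (jB : ∀ i, B ⥤ B₁ i)
    [∀ i, (jA i).Additive] [∀ i, PreservesFiniteLimits (jA i)] [∀ i, PreservesFiniteColimits (jA i)]
    [∀ i, (jB i).Additive] [∀ i, PreservesFiniteLimits (jB i)] [∀ i, PreservesFiniteColimits (jB i)]
    (hA : ∀ i (X : A), Injective X → Injective ((jA i).obj X))
    (hB : ∀ i (X : B), Injective X → Injective ((jB i).obj X))
    (hj : ∀ {X Y : A} (f : X ⟶ Y), (∀ i, IsIso ((jA i).map f)) → IsIso f)
    (ξ : ∀ i, jA i ⋙ P₁ i ≅ P ⋙ jB i) (hθ : ∀ i J, IsIso (θ adj (adj₁ i) (ξ i) J))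
    (h : ∀ i, DerivedFF.Good (adj₁ i)) : DerivedFF.Good adj := by
  intro I n _ hI J m _ hJ a ha
  refine quasiIso_of_jointly jA hj _ fun i => ?_
  let c := ComplexShape.up ℤ
  haveI : CochainComplex.IsStrictlyGE (((jA i).mapHomologicalComplex c).obj I) n := by
    rw [CochainComplex.isStrictlyGE_iff]
    exact fun k hk => (jA i).map_isZero (CochainComplex.isZero_of_isStrictlyGE I n k hk)
  haveI : CochainComplex.IsStrictlyGE (((jB i).mapHomologicalComplex c).obj J) m := by
    rw [CochainComplex.isStrictlyGE_iff]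
    exact fun k hk => (jB i).map_isZero (CochainComplex.isZero_of_isStrictlyGE J m k hk)
  let ξc : ((P₁ i).mapHomologicalComplex c).obj (((jA i).mapHomologicalComplex c).obj I) ≅
      ((jB i).mapHomologicalComplex c).obj ((P.mapHomologicalComplex c).obj I) :=
    HomologicalComplex.Hom.isoOfComponents (fun k => (ξ i).app (I.X k))
      (fun k l _ => ((ξ i).hom.naturality (I.d k l)).symm)
  let θc : ((jA i).mapHomologicalComplex c).obj ((F.mapHomologicalComplex c).obj J) ≅
      ((F₁ i).mapHomologicalComplex c).obj (((jB i).mapHomologicalComplex c).obj J) :=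
    HomologicalComplex.Hom.isoOfComponents (fun k => @asIso _ _ _ _ (θ adj (adj₁ i) (ξ i) (J.X k)) (hθ i (J.X k)))
      (fun k l _ => (θ_natural adj (adj₁ i) (ξ i) (J.d k l)).symm)
  haveI := ha
  let a' := ξc.hom ≫ ((jB i).mapHomologicalComplex c).map a
  have hq := h i _ n inferInstance (fun k => hA i _ (hI k)) _ m inferInstance (fun k => hB i _ (hJ k)) a'
    inferInstance
  have e : DerivedFF.adjunct (adj₁ i) a' =
      ((jA i).mapHomologicalComplex c).map (DerivedFF.adjunct adj a) ≫ θc.hom := by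
    ext k
    rw [DerivedFF.adjunct_f]
    change _ = (jA i).map ((DerivedFF.adjunct adj a).f k) ≫ θ adj (adj₁ i) (ξ i) (J.X k)
    refine ((adj₁ i).homEquiv_unit _ _ _).symm.trans ((θ_spec adj (adj₁ i) (ξ i) (a.f k)).trans ?_)
    rw [DerivedFF.adjunct_f, adj.homEquiv_unit]
    rfl
  rw [e] at hq
  exact quasiIso_of_comp_right _ θc.hom

end Complexes

end Groth.Agent.H15Site.BaseChange
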