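import Groth.Prelude.Def_W4stktopologysheavesBas
import Mathlib.Topology.Sheaves.SheafCondition.UniqueGluing
import Mathlib.Topology.Sheaves.SheafCondition.Sites

/-!
# Sheaves of sets on a basis of a topological space
-/

universe u

open CategoryTheory TopologicalSpace Opposite ShB

namespace Groth.Agent.H15Site.BasisSheaf

variable {X : Type u} [TopologicalSpace X] {B : Set (Opens X)}

theorem exists_mem_le (hB : Opens.IsBasis B) {U : Opens X} {x : X} (hx : x ∈ U) :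
    ∃ N : B, x ∈ (N : Opens X) ∧ (N : Opens X) ≤ U := by
  obtain ⟨N, hN, hxN, hNU⟩ := Opens.isBasis_iff_nbhd.1 hB hx
  exact ⟨⟨N, hN⟩, hxN, hNU⟩

/-- Separatedness: sections which agree near every point are equal. -/
def Sep (F : Pre B) : Prop :=
  ∀ (U : B) (t t' : F.obj U), (∀ x ∈ (U : Opens X), ∃ (N : B) (h : (N : Opens X) ≤ (U : Opens X)),
    x ∈ (N : Opens X) ∧ F.res h t = F.res h t') → t = t'

/-- Gluing: sections given near every point which agree on small opens glue. -/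
def Glue (F : Pre B) : Prop :=
  ∀ (U : B) (ι : Type u) (V : ι → B) (hV : ∀ i, (V i : Opens X) ≤ (U : Opens X)),
    (U : Opens X) ≤ ⨆ i, (V i : Opens X) → ∀ s : ∀ i, F.obj (V i),
    (∀ i j (N : B) (h₁ : (N : Opens X) ≤ (V i : Opens X)) (h₂ : (N : Opens X) ≤ (V j : Opens X)),
      F.res h₁ (s i) = F.res h₂ (s j)) → ∃ t : F.obj U, ∀ i, F.res (hV i) t = s i

theorem mem_iSup_of_le {ι : Sort*} {V : ι → Opens X} {U : Opens X} (h : U ≤ ⨆ i, V i) {x : X}
    (hx : x ∈ U) : ∃ i, x ∈ V i :=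
  Opens.mem_iSup.1 (h hx)

theorem le_iSup_of_points {ι : Sort*} {V : ι → Opens X} {U : Opens X}
    (h : ∀ x ∈ U, ∃ i, x ∈ V i) : U ≤ ⨆ i, V i :=
  fun x hx => Opens.mem_iSup.2 (h x hx)

variable (hB : Opens.IsBasis B)

/-- The maximal covering data attached to a covering. -/
noncomputable def mkCover (U : B) (ι : Type u) (V : ι → B) (hV : ∀ i, (V i : Opens X) ≤ (U : Opens X))
    (hc : (U : Opens X) ≤ ⨆ i, (V i : Opens X)) : Cover B where
  U := U
  ι := ι
  V := V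
  V_le := hV
  V_cover := hc
  κ i j := {N : B // (N : Opens X) ≤ (V i : Opens X) ∧ (N : Opens X) ≤ (V j : Opens X)}
  W _ _ k := k.1
  W_le_left _ _ k := k.2.1
  W_le_right _ _ k := k.2.2
  W_cover i j := le_iSup_of_points fun x hx => by
    obtain ⟨N, hxN, hN⟩ := exists_mem_le hB hx
    exact ⟨⟨N, hN.trans inf_le_left, hN.trans inf_le_right⟩, hxN⟩

include hB in
theorem IsSheaf.sep {F : Pre B} (hF : IsSheaf F) : Sep F := by
  intro U t t' h
  choose N hN hxN hres using h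
  let V : {x // x ∈ (U : Opens X)} → B := fun x => N x.1 x.2
  have hV : ∀ x, (V x : Opens X) ≤ (U : Opens X) := fun x => hN x.1 x.2
  have hc : (U : Opens X) ≤ ⨆ x, (V x : Opens X) :=
    le_iSup_of_points fun x hx => ⟨⟨x, hx⟩, hxN x hx⟩
  obtain ⟨a, -, ha⟩ := hF (mkCover hB U _ V hV hc) (fun x => F.res (hV x) t)
    (fun i j k => (F.res_comp (hV i) _ t).trans (F.res_comp (hV j) _ t).symm)
  exact (ha t fun x => rfl).trans (ha t' fun x => (hres x.1 x.2).symm).symm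

theorem isSheaf_of {F : Pre B} (hsep : Sep F)
    (hex : ∀ c : Cover B, ∀ s : ∀ i, F.obj (c.V i),
      (∀ i j k, F.res (c.W_le_left i j k) (s i) = F.res (c.W_le_right i j k) (s j)) →
      ∃ t : F.obj c.U, ∀ i, F.res (c.V_le i) t = s i) : IsSheaf F := by
  intro c s hs
  obtain ⟨t, ht⟩ := hex c s hs
  refine ⟨t, ht, fun t' ht' => hsep _ t' t fun x hx => ?_⟩
  obtain ⟨i, hi⟩ := mem_iSup_of_le c.V_cover hx
  exact ⟨c.V i, c.V_le i, hi, (ht' i).trans (ht i).symm⟩

include hB in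
/-- Compatibility on the chosen covers of the intersections gives compatibility on all small opens. -/
theorem compat_extend {F : Pre B} (hsep : Sep F) {ι : Type u} {V : ι → B} {κ : ι → ι → Type u}
    {W : ∀ i j, κ i j → B} (hl : ∀ i j k, (W i j k : Opens X) ≤ (V i : Opens X))
    (hr : ∀ i j k, (W i j k : Opens X) ≤ (V j : Opens X))
    (hW : ∀ i j, (V i : Opens X) ⊓ (V j : Opens X) ≤ ⨆ k, (W i j k : Opens X))
    (s : ∀ i, F.obj (V i)) (hs : ∀ i j k, F.res (hl i j k) (s i) = F.res (hr i j k) (s j))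
    (i j : ι) (N : B) (h₁ : (N : Opens X) ≤ (V i : Opens X)) (h₂ : (N : Opens X) ≤ (V j : Opens X)) :
    F.res h₁ (s i) = F.res h₂ (s j) := by
  refine hsep N _ _ fun x hx => ?_
  obtain ⟨k, hk⟩ := mem_iSup_of_le (hW i j) (show x ∈ (V i : Opens X) ⊓ (V j : Opens X) from
    ⟨h₁ hx, h₂ hx⟩)
  obtain ⟨M, hxM, hM⟩ := exists_mem_le hB (show x ∈ (N : Opens X) ⊓ (W i j k : Opens X) from ⟨hx, hk⟩)
  have hMN : (M : Opens X) ≤ (N : Opens X) := hM.trans inf_le_left
  have hMW : (M : Opens X) ≤ (W i j k : Opens X) := hM.trans inf_le_right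
  refine ⟨M, hMN, hxM, ?_⟩
  rw [F.res_comp h₁ hMN, F.res_comp h₂ hMN]
  calc F.res (hMN.trans h₁) (s i) = F.res hMW (F.res (hl i j k) (s i)) := (F.res_comp _ _ _).symm
    _ = F.res hMW (F.res (hr i j k) (s j)) := by rw [hs]
    _ = _ := F.res_comp _ _ _

include hB in
theorem IsSheaf.glue {F : Pre B} (hF : IsSheaf F) : Glue F := by
  intro U ι V hV hc s hs
  obtain ⟨t, ht, -⟩ := hF (mkCover hB U ι V hV hc) s (fun i j k => hs i j k.1 k.2.1 k.2.2)
  exact ⟨t, ht⟩

section cofinal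

variable (C : ∀ U : B, Set (Cover B)) (hCU : ∀ U, ∀ c ∈ C U, c.U = U)
  (hC : ∀ (U : B) (ι : Type u) (V : ι → B), (∀ i, (V i : Opens X) ≤ (U : Opens X)) →
    (U : Opens X) ≤ ⨆ i, (V i : Opens X) →
    ∃ c ∈ C U, ∀ i' : c.ι, ∃ i, (c.V i' : Opens X) ≤ (V i : Opens X))
  {F : Pre B}

include hCU hC in
theorem sep_of_cofinal
    (hu : ∀ U, ∀ c ∈ C U, ∀ t t' : F.obj c.U,
      (∀ i, F.res (c.V_le i) t = F.res (c.V_le i) t') → t = t') : Sep F := by
  intro U t t' h
  choose N hN hxN hres using h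
  obtain ⟨c, hc, href⟩ := hC U {x // x ∈ (U : Opens X)} (fun x => N x.1 x.2) (fun x => hN x.1 x.2)
    (le_iSup_of_points fun x hx => ⟨⟨x, hx⟩, hxN x hx⟩)
  have e := hCU U c hc
  subst e
  refine hu _ c hc t t' fun i' => ?_
  obtain ⟨x, hx⟩ := href i'
  rw [← F.res_comp (hN x.1 x.2) hx t, ← F.res_comp (hN x.1 x.2) hx t', hres]

include hB hCU hC in
theorem isSheaf_of_cofinal (hsep : Sep F)
    (hg : ∀ U, ∀ c ∈ C U, ∀ s : ∀ i, F.obj (c.V i),
      (∀ i j (N : B) (h₁ : (N : Opens X) ≤ (c.V i : Opens X)) (h₂ : (N : Opens X) ≤ (c.V j : Opens X)),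
        F.res h₁ (s i) = F.res h₂ (s j)) →
      ∃ t : F.obj c.U, ∀ i, F.res (c.V_le i) t = s i) : IsSheaf F := by
  refine isSheaf_of hsep fun c₀ s hs => ?_
  have hcompat := compat_extend hB hsep c₀.W_le_left c₀.W_le_right c₀.W_cover s hs
  obtain ⟨U, ι, V, hV, hcov, κ, W, hl, hr, hW⟩ := c₀
  obtain ⟨c, hc, href⟩ := hC U ι V hV hcov
  have e := hCU U c hc
  subst e
  choose σ hσ using href
  obtain ⟨t, ht⟩ := hg _ c hc (fun i' => F.res (hσ i') (s (σ i'))) (fun i j N h₁ h₂ => by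
    rw [F.res_comp, F.res_comp]
    exact hcompat _ _ N _ _)
  refine ⟨t, fun a => hsep _ _ _ fun x hx => ?_⟩
  obtain ⟨i', hi'⟩ := mem_iSup_of_le c.V_cover (hV a hx)
  obtain ⟨N, hxN, hN⟩ :=
    exists_mem_le hB (show x ∈ (V a : Opens X) ⊓ (c.V i' : Opens X) from ⟨hx, hi'⟩)
  have hN₁ : (N : Opens X) ≤ (V a : Opens X) := hN.trans inf_le_left
  have hN₂ : (N : Opens X) ≤ (c.V i' : Opens X) := hN.trans inf_le_right
  refine ⟨N, hN₁, hxN, ?_⟩
  rw [F.res_comp (hV a) hN₁, ← F.res_comp (c.V_le i') hN₂, ht i', F.res_comp]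
  exact hcompat _ _ N _ _

include hB hCU hC in
theorem isSheaf_of_glues (h : ∀ U, ∀ c ∈ C U, GluesUniquely F c) : IsSheaf F := by
  refine isSheaf_of_cofinal hB C hCU hC (sep_of_cofinal C hCU hC fun U c hc t t' ht => ?_)
    fun U c hc s hs => (h U c hc s fun i j k => hs i j _ _ _).exists
  obtain ⟨a, -, ha⟩ := h U c hc (fun i => F.res (c.V_le i) t)
    (fun i j k => (F.res_comp (c.V_le i) _ t).trans (F.res_comp (c.V_le j) _ t).symm)
  exact (ha t fun i => rfl).trans (ha t' fun i => (ht i).symm).symm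

end cofinal

section germs

variable (F : Pre B)

theorem germ_res {U V : B} (h : (V : Opens X) ≤ (U : Opens X)) {x : X} (hx : x ∈ (V : Opens X))
    (s : F.obj U) : germ F x hx (F.res h s) = germ F x (h hx) s :=
  Quot.sound ⟨V, hx, le_refl _, h, F.res_id _ _⟩

include hB in
theorem stalkRel_equivalence (x : X) : Equivalence (StalkRel F x) where
  refl a := ⟨a.1.1, a.1.2, le_refl _, le_refl _, rfl⟩
  symm := fun ⟨W, hx, ha, hb, h⟩ => ⟨W, hx, hb, ha, h.symm⟩
  trans := fun ⟨W, hx, ha, hb, h⟩ ⟨W', hx', hb', hc, h'⟩ => by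
    obtain ⟨N, hxN, hN⟩ := exists_mem_le hB (show x ∈ (W : Opens X) ⊓ (W' : Opens X) from ⟨hx, hx'⟩)
    have hN₁ : (N : Opens X) ≤ (W : Opens X) := hN.trans inf_le_left
    have hN₂ : (N : Opens X) ≤ (W' : Opens X) := hN.trans inf_le_right
    refine ⟨N, hxN, hN₁.trans ha, hN₂.trans hc, ?_⟩
    calc _ = F.res hN₁ (F.res ha _) := (F.res_comp _ _ _).symm
      _ = F.res hN₁ (F.res hb _) := by rw [h]
      _ = F.res hN₂ (F.res hb' _) := by rw [F.res_comp, F.res_comp]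
      _ = F.res hN₂ (F.res hc _) := by rw [h']
      _ = _ := F.res_comp _ _ _

include hB in
theorem exists_of_germ_eq {U V : B} {x : X} {hx : x ∈ (U : Opens X)} {hx' : x ∈ (V : Opens X)}
    {s : F.obj U} {t : F.obj V} (h : germ F x hx s = germ F x hx' t) :
    ∃ (W : B) (_ : x ∈ (W : Opens X)) (h₁ : (W : Opens X) ≤ (U : Opens X))
      (h₂ : (W : Opens X) ≤ (V : Opens X)), F.res h₁ s = F.res h₂ t :=
  (stalkRel_equivalence hB F x).eqvGen_iff.1 (Quot.eqvGen_exact h)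

include hB in
theorem eq_of_germ_eq {F : Pre B} (hF : IsSheaf F) {U : B} {s t : F.obj U}
    (h : ∀ x (hx : x ∈ (U : Opens X)), germ F x hx s = germ F x hx t) : s = t :=
  IsSheaf.sep hB hF U s t fun x hx => by
    obtain ⟨W, hxW, h₁, h₂, e⟩ := exists_of_germ_eq hB F (h x hx)
    exact ⟨W, h₁, hxW, e⟩

end germs

section extension

variable (F : Pre B)

/-- Compatible families of sections over the members contained in `V`. -/
def extObj (V : Opens X) : Type u :=
  {s : ∀ N : B, (N : Opens X) ≤ V → F.obj N //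
    ∀ (M N : B) (h : (M : Opens X) ≤ (N : Opens X)) (hN : (N : Opens X) ≤ V),
      F.res h (s N hN) = s M (h.trans hN)}

/-- The extension of a presheaf on a basis to all opens. -/
def ext : TopCat.Presheaf (Type u) (TopCat.of X) where
  obj V := extObj F V.unop
  map {V W} i := ↾fun s => ⟨fun N hN => s.1 N (hN.trans i.unop.le),
    fun M N h hN => s.2 M N h (hN.trans i.unop.le)⟩
  map_id V := rfl
  map_comp f g := rfl

variable {F}

theorem ext_map_val {V W : (Opens (TopCat.of X))ᵒᵖ} (i : V ⟶ W) (s : (ext F).obj V) (N : B)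
    (hN : (N : Opens X) ≤ W.unop) :
    ((ext F).map i s).1 N hN = s.1 N (hN.trans i.unop.le) := rfl

include hB in
theorem ext_isSheaf (hF : IsSheaf F) : (ext F).IsSheaf := by
  refine TopCat.Presheaf.isSheaf_of_isSheafUniqueGluing_types _ fun ι U sf hsf => ?_
  have hcompat : ∀ (i j : ι) (K : B) (h₁ : (K : Opens X) ≤ U i) (h₂ : (K : Opens X) ≤ U j),
      (sf i).1 K h₁ = (sf j).1 K h₂ :=
    fun i j K h₁ h₂ => congrArg (fun t => t.1 K (le_inf h₁ h₂)) (hsf i j)
  have hloc : ∀ (N : B), (N : Opens X) ≤ iSup U → ∀ x : {x // x ∈ (N : Opens X)},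
      ∃ (M : B) (i : ι), x.1 ∈ (M : Opens X) ∧ (M : Opens X) ≤ (N : Opens X) ∧
        (M : Opens X) ≤ U i := fun N hN x => by
    obtain ⟨i, hi⟩ := mem_iSup_of_le hN x.2
    obtain ⟨M, hxM, hM⟩ := exists_mem_le hB (show x.1 ∈ (N : Opens X) ⊓ U i from ⟨x.2, hi⟩)
    exact ⟨M, i, hxM, hM.trans inf_le_left, hM.trans inf_le_right⟩
  have hex : ∀ (N : B), (N : Opens X) ≤ iSup U → ∃ t : F.obj N,
      ∀ (K : B) (i : ι) (hKN : (K : Opens X) ≤ (N : Opens X)) (hKi : (K : Opens X) ≤ U i),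
        F.res hKN t = (sf i).1 K hKi := fun N hN => by
    choose M a hxM hMN hMa using hloc N hN
    obtain ⟨t, ht⟩ := IsSheaf.glue hB hF N _ M hMN
      (le_iSup_of_points fun x hx => ⟨⟨x, hx⟩, hxM ⟨x, hx⟩⟩) (fun x => (sf (a x)).1 (M x) (hMa x))
      (fun x y K h₁ h₂ => by
        rw [(sf (a x)).2, (sf (a y)).2]
        exact hcompat _ _ K _ _)
    refine ⟨t, fun K i hKN hKi => IsSheaf.sep hB hF K _ _ fun x hx => ?_⟩
    obtain ⟨L, hxL, hL⟩ := exists_mem_le hB
      (show x ∈ (K : Opens X) ⊓ (M ⟨x, hKN hx⟩ : Opens X) from ⟨hx, hxM ⟨x, hKN hx⟩⟩)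
    have hL₁ : (L : Opens X) ≤ (K : Opens X) := hL.trans inf_le_left
    have hL₂ : (L : Opens X) ≤ (M ⟨x, hKN hx⟩ : Opens X) := hL.trans inf_le_right
    refine ⟨L, hL₁, hxL, ?_⟩
    rw [F.res_comp, (sf i).2, ← F.res_comp (hMN _) hL₂, ht, (sf _).2]
    exact hcompat _ _ L _ _
  choose t ht using hex
  refine ⟨⟨fun N hN => t N hN, fun M N h hN => IsSheaf.sep hB hF M _ _ fun x hx => ?_⟩, ?_, ?_⟩
  · obtain ⟨K, i, hxK, hKM, hKi⟩ := hloc M (h.trans hN) ⟨x, hx⟩
    refine ⟨K, hKM, hxK, ?_⟩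
    rw [F.res_comp, ht N hN K i _ hKi, ht M _ K i _ hKi]
  · intro i
    refine Subtype.ext (funext fun N => funext fun hN => ?_)
    exact (F.res_id _ _).symm.trans (ht N (le_iSup_of_le i hN) N i (le_refl _) hN)
  · intro s hs
    refine Subtype.ext (funext fun N => funext fun hN => IsSheaf.sep hB hF N _ _ fun x hx => ?_)
    obtain ⟨K, i, hxK, hKN, hKi⟩ := hloc N hN ⟨x, hx⟩
    refine ⟨K, hKN, hxK, ?_⟩
    rw [ht N hN K i _ hKi, s.2]
    exact congrArg (fun r => r.1 K hKi) (hs i)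

/-- The extension restricts to the presheaf we started with. -/
def extIso : ShB.Iso (ShB.restrict B (ext F)) F where
  hom := { app := fun U s => s.1 U (le_refl _), natural := fun h s => s.2 _ _ h (le_refl _) }
  inv :=
    { app := fun U t => ⟨fun N hN => F.res hN t, fun M N h hN => F.res_comp _ _ _⟩
      natural := fun h t => Subtype.ext (funext fun N => funext fun hN =>
        (F.res_comp h hN t).symm) }
  hom_inv U s := Subtype.ext (funext fun N => funext fun hN => s.2 N U hN (le_refl _))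
  inv_hom U t := F.res_id _ _

end extension

end Groth.Agent.H15Site.BasisSheaf
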