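import Mathlib.CategoryTheory.Triangulated.Functor
import Mathlib.CategoryTheory.Triangulated.TriangleShift

/-!
# Dévissage for full faithfulness of triangulated functors
-/

set_option autoImplicit false
set_option linter.unusedSectionVars false
set_option linter.style.haveILetI false

open CategoryTheory CategoryTheory.Limits CategoryTheory.Pretriangulated

namespace Groth.Agent.H15Site.TriFF

universe v v' u u'

variable {C : Type u} [Category.{v} C] [Preadditive C] [HasZeroObject C] [HasShift C ℤ]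
  [∀ n : ℤ, (shiftFunctor C n).Additive] [Pretriangulated C]
  {D : Type u'} [Category.{v'} D] [Preadditive D] [HasZeroObject D] [HasShift D ℤ]
  [∀ n : ℤ, (shiftFunctor D n).Additive] [Pretriangulated D]
  (G : C ⥤ D) [G.CommShift ℤ] [G.IsTriangulated]

/-- `G` is bijective on maps from `K` to all shifts of `L`. -/
def Bij (K L : C) : Prop := ∀ n : ℤ, Function.Bijective (G.map : (K ⟶ L⟦n⟧) → _)

variable {G}

omit [Preadditive C] [HasZeroObject C] [∀ n : ℤ, (shiftFunctor C n).Additive] [Pretriangulated C]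
  [Preadditive D] [HasZeroObject D] [∀ n : ℤ, (shiftFunctor D n).Additive] [Pretriangulated D]
  [G.CommShift ℤ] [G.IsTriangulated] in
theorem map_bijective_of_iso {K K' L L' : C} (e : K ≅ K') (e' : L ≅ L')
    (h : Function.Bijective (G.map : (K ⟶ L) → _)) :
    Function.Bijective (G.map : (K' ⟶ L') → _) := by
  constructor
  · intro f g hfg
    have : G.map (e.hom ≫ f ≫ e'.inv) = G.map (e.hom ≫ g ≫ e'.inv) := by
      simp only [Functor.map_comp, hfg]
    simpa using h.1 this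
  · intro y
    obtain ⟨x, hx⟩ := h.2 ((G.mapIso e).hom ≫ y ≫ (G.mapIso e').inv)
    refine ⟨e.inv ≫ x ≫ e'.hom, ?_⟩
    rw [G.map_comp, G.map_comp, hx]
    simp

omit [HasZeroObject C] [Pretriangulated C] [HasZeroObject D] [Pretriangulated D]
  [G.IsTriangulated] [Preadditive C] [∀ n : ℤ, (shiftFunctor C n).Additive] [Preadditive D]
  [∀ n : ℤ, (shiftFunctor D n).Additive] in
theorem map_shift_bijective {K L : C} (n : ℤ) (h : Function.Bijective (G.map : (K ⟶ L) → _)) :
    Function.Bijective (G.map : (K⟦n⟧ ⟶ L⟦n⟧) → _) := by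
  constructor
  · intro f g hfg
    obtain ⟨f, rfl⟩ := (shiftFunctor C n).map_surjective f
    obtain ⟨g, rfl⟩ := (shiftFunctor C n).map_surjective g
    refine congrArg _ (h.1 ((shiftFunctor D n).map_injective ?_))
    have e := fun (f : K ⟶ L) => (G.commShiftIso n).hom.naturality f
    dsimp at e
    rw [← cancel_epi ((G.commShiftIso n).hom.app K), ← e, ← e, hfg]
  · intro y
    obtain ⟨z, hz⟩ := (shiftFunctor D n).map_surjective
      ((G.commShiftIso n).inv.app K ≫ y ≫ (G.commShiftIso n).hom.app L)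
    obtain ⟨x, rfl⟩ := h.2 z
    refine ⟨(shiftFunctor C n).map x, ?_⟩
    have e := (G.commShiftIso n).hom.naturality x
    dsimp at e
    rw [← cancel_mono ((G.commShiftIso n).hom.app L), e, hz]
    simp

theorem Bij.of_iso {K K' L L' : C} (e : K ≅ K') (e' : L ≅ L') (h : Bij G K L) : Bij G K' L' :=
  fun n => map_bijective_of_iso e ((shiftFunctor C n).mapIso e') (h n)

theorem Bij.shift {K L : C} (a b : ℤ) (h : Bij G K L) : Bij G (K⟦a⟧) (L⟦b⟧) := fun n =>
  map_bijective_of_iso (Iso.refl _)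
    (((shiftFunctorAdd' C (b + n - a) a (b + n) (by omega)).app L).symm ≪≫
      (shiftFunctorAdd' C b n (b + n) rfl).app L)
    (map_shift_bijective a (h (b + n - a)))

/-- Five lemma in the second variable. -/
theorem bijective_obj₂ {K : C} (T : Triangle C) (hT : T ∈ distTriang C)
    (h₀ : Function.Surjective (G.map : (K ⟶ T.obj₃⟦(-1 : ℤ)⟧) → _))
    (h₁ : Function.Bijective (G.map : (K ⟶ T.obj₁) → _))
    (h₃ : Function.Bijective (G.map : (K ⟶ T.obj₃) → _))
    (h₄ : Function.Injective (G.map : (K ⟶ T.obj₁⟦(1 : ℤ)⟧) → _)) :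
    Function.Bijective (G.map : (K ⟶ T.obj₂) → _) := by
  have hGT := G.map_distinguished T hT
  have hT' := inv_rot_of_distTriang T hT
  have hGT' := G.map_distinguished _ hT'
  constructor
  · intro x x' hxx
    rw [← sub_eq_zero]
    have hx : G.map (x - x') = 0 := by rw [G.map_sub, hxx, sub_self]
    obtain ⟨x₁, hx₁⟩ := Triangle.coyoneda_exact₂ T hT (x - x')
      (h₃.1 (by rw [G.map_comp, hx, zero_comp, G.map_zero]))
    obtain ⟨w, hw⟩ := Triangle.coyoneda_exact₂ _ hGT' (G.map x₁) (by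
      change G.map x₁ ≫ G.map T.mor₁ = 0
      rw [← G.map_comp, ← hx₁, hx])
    obtain ⟨w₀, rfl⟩ := h₀ w
    have : x₁ = w₀ ≫ T.invRotate.mor₁ := h₁.1 (hw.trans (G.map_comp _ _).symm)
    rw [hx₁, this]
    refine (Category.assoc _ _ _).trans ?_
    exact (congrArg (w₀ ≫ ·) (comp_distTriang_mor_zero₁₂ _ hT')).trans comp_zero
  · intro y
    obtain ⟨x₃, hx₃⟩ := h₃.2 (y ≫ G.map T.mor₂)
    have h0 : x₃ ≫ T.mor₃ = 0 := h₄ (by
      rw [G.map_comp, G.map_zero, hx₃, Category.assoc, ← G.map_comp,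
        comp_distTriang_mor_zero₂₃ _ hT, G.map_zero, comp_zero])
    obtain ⟨x₂, hx₂⟩ := Triangle.coyoneda_exact₃ T hT x₃ h0
    obtain ⟨w, hw⟩ := Triangle.coyoneda_exact₂ _ hGT (y - G.map x₂) (by
      change (y - G.map x₂) ≫ G.map T.mor₂ = 0
      rw [Preadditive.sub_comp, ← G.map_comp, ← hx₂, hx₃, sub_self])
    obtain ⟨w₀, rfl⟩ := h₁.2 w
    refine ⟨x₂ + w₀ ≫ T.mor₁, ?_⟩
    have hw' : y - G.map x₂ = G.map w₀ ≫ G.map T.mor₁ := hw
    rw [G.map_add, G.map_comp, ← hw', add_sub_cancel]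

/-- Five lemma in the first variable. -/
theorem bijective_obj₂' {L : C} (T : Triangle C) (hT : T ∈ distTriang C)
    (h₀ : Function.Surjective (G.map : (T.obj₁⟦(1 : ℤ)⟧ ⟶ L) → _))
    (h₁ : Function.Bijective (G.map : (T.obj₁ ⟶ L) → _))
    (h₃ : Function.Bijective (G.map : (T.obj₃ ⟶ L) → _))
    (h₄ : Function.Injective (G.map : (T.obj₃⟦(-1 : ℤ)⟧ ⟶ L) → _)) :
    Function.Bijective (G.map : (T.obj₂ ⟶ L) → _) := by
  have hGT := G.map_distinguished T hT
  have hT' := rot_of_distTriang T hT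
  have hGT' := G.map_distinguished _ hT'
  have hT'' := inv_rot_of_distTriang T hT
  constructor
  · intro x x' hxx
    rw [← sub_eq_zero]
    have hx : G.map (x - x') = 0 := by rw [G.map_sub, hxx, sub_self]
    obtain ⟨x₃, hx₃⟩ := Triangle.yoneda_exact₂ T hT (x - x')
      (h₁.1 (by rw [G.map_comp, hx, comp_zero, G.map_zero]))
    obtain ⟨w, hw⟩ := Triangle.yoneda_exact₂ _ hGT' (G.map x₃) (by
      change G.map T.mor₂ ≫ G.map x₃ = 0
      rw [← G.map_comp, ← hx₃, hx])
    obtain ⟨w₀, rfl⟩ := h₀ w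
    have : x₃ = T.rotate.mor₂ ≫ w₀ := h₃.1 (hw.trans (G.map_comp _ _).symm)
    rw [hx₃, this]
    refine (Category.assoc _ _ _).symm.trans ?_
    exact (congrArg (· ≫ w₀) (comp_distTriang_mor_zero₁₂ _ hT')).trans zero_comp
  · intro y
    obtain ⟨x₁, hx₁⟩ := h₁.2 (G.map T.mor₁ ≫ y)
    have h0 : T.invRotate.mor₁ ≫ x₁ = 0 := h₄ (by
      refine ((G.map_comp _ _).trans ?_).trans (G.map_zero _ _).symm
      refine (congrArg (G.map T.invRotate.mor₁ ≫ ·) hx₁).trans ?_
      refine (Category.assoc _ _ _).symm.trans ((congrArg (· ≫ y) ?_).trans zero_comp)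
      exact (G.map_comp _ _).symm.trans
        ((congrArg G.map (comp_distTriang_mor_zero₁₂ _ hT'')).trans (G.map_zero _ _)))
    obtain ⟨(x₂ : T.obj₂ ⟶ L), hx₂⟩ := Triangle.yoneda_exact₂ _ hT'' x₁ h0
    obtain ⟨w, hw⟩ := Triangle.yoneda_exact₂ _ hGT (y - G.map x₂) (by
      change G.map T.mor₁ ≫ (y - G.map x₂) = 0
      rw [Preadditive.comp_sub, ← G.map_comp]
      have : x₁ = T.mor₁ ≫ x₂ := hx₂
      rw [← this, hx₁, sub_self])
    obtain ⟨w₀, rfl⟩ := h₃.2 w
    refine ⟨x₂ + T.mor₂ ≫ w₀, ?_⟩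
    have hw' : y - G.map x₂ = G.map T.mor₂ ≫ G.map w₀ := hw
    exact (G.map_add).trans (by rw [G.map_comp, ← hw', add_sub_cancel])

theorem Bij.obj₂ {K : C} (T : Triangle C) (hT : T ∈ distTriang C)
    (h₁ : Bij G K T.obj₁) (h₃ : Bij G K T.obj₃) : Bij G K T.obj₂ := fun n => by
  have key : ∀ {L : C}, Bij G K L → ∀ a b : ℤ, Function.Bijective (G.map : (K ⟶ L⟦a⟧⟦b⟧) → _) :=
    fun h a b => map_bijective_of_iso (Iso.refl _) ((shiftFunctorAdd' C a b (a + b) rfl).app _)
      (h (a + b))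
  exact bijective_obj₂ _ (Triangle.shift_distinguished T hT n) (key h₃ n (-1)).2 (h₁ n) (h₃ n)
    (key h₁ n 1).1

theorem Bij.obj₂' {L : C} (T : Triangle C) (hT : T ∈ distTriang C)
    (h₁ : Bij G T.obj₁ L) (h₃ : Bij G T.obj₃ L) : Bij G T.obj₂ L := fun n => by
  have key : ∀ {K : C}, Bij G K L → ∀ a : ℤ, Function.Bijective (G.map : (K⟦a⟧ ⟶ L⟦n⟧) → _) :=
    fun h a => map_bijective_of_iso (Iso.refl _)
      (((shiftFunctorAdd' C (n - a) a n (by omega)).app L).symm)
      (map_shift_bijective a (h (n - a)))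
  exact bijective_obj₂' T hT (key h₁ 1).2 (h₁ n) (h₃ n) (key h₃ (-1)).1

end Groth.Agent.H15Site.TriFF
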