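import Groth.Agent.H15Site.CohInTri
import Groth.Agent.H15Site.TriFF

/-!
# Dévissage for bounded objects with cohomology in a weak Serre subcategory
-/

set_option autoImplicit false
set_option linter.style.haveILetI false

open CategoryTheory CategoryTheory.Limits CategoryTheory.Pretriangulated DerivedCategory
open DerivedCategory.TStructure
open scoped ZeroObject

namespace Groth.Agent.H15Site.BddDevissage

open H16Derived

universe w w' v v' u u'

variable {A : Type u} [Category.{v} A] [Abelian A] [HasDerivedCategory.{w} A]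
  (P : ObjectProperty A) [WSerre.IsWeakSerre P]

theorem induction_bounded (Q : ObjectProperty (DerivedCategory A))
    (hiso : ∀ {X Y : DerivedCategory A} (_ : X ≅ Y), Q X → Q Y)
    (hshift : ∀ (X : DerivedCategory A) (n : ℤ), Q X → Q (X⟦n⟧))
    (htri : ∀ (T : Triangle (DerivedCategory A)), T ∈ distTriang _ → Q T.obj₁ → Q T.obj₃ → Q T.obj₂)
    (hs : ∀ M : A, P M → Q ((singleFunctor A 0).obj M))
    (X : DerivedCategory A) (hX : WSerre.cohInBdd P X) : Q X := by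
  obtain ⟨hX, ⟨a, ha⟩, ⟨b, hb⟩⟩ := hX
  haveI : X.IsGE a := ha
  haveI : X.IsLE b := hb
  have hz : ∀ Z : A, IsZero Z → P Z := fun Z hZ =>
    P.prop_of_iso ((isZero_zero _).iso hZ) P.prop_zero
  have hs' : ∀ (M : A) (a : ℤ), P M → Q ((singleFunctor A a).obj M) := fun M a hM =>
    hiso (((singleFunctors A).shiftIso (-a) a 0 (by simp)).app M) (hshift _ (-a) (hs M hM))
  rcases lt_or_ge b a with hab | hab
  · refine hiso (IsZero.iso ((singleFunctor A 0).map_isZero (isZero_zero A)) ?_) (hs _ P.prop_zero)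
    rw [IsZero.iff_id_eq_zero]
    exact t.zero_of_isLE_of_isGE _ b a hab inferInstance inferInstance
  obtain ⟨k, hk⟩ := Int.le.dest hab
  subst hk
  clear ha hb hab
  induction k generalizing X with
  | zero =>
    have : X.IsLE a := by simpa using ‹X.IsLE (a + ((0 : ℕ) : ℤ))›
    obtain ⟨M, ⟨e⟩⟩ := X.exists_iso_singleFunctor_obj_of_isGE_of_isLE a
    refine hiso e.symm (hs' M a ?_)
    exact P.prop_of_iso ((homologyFunctor A a).mapIso e ≪≫
      (singleFunctorCompHomologyFunctorIso A a).app M) (hX a)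
  | succ k ih =>
    have h1 : DerivedCategory.IsGE ((t.truncLT (a + k + 1)).obj X) a :=
      DTrunc.isGE_truncLT X _ a
    have h2 : DerivedCategory.IsLE ((t.truncLT (a + k + 1)).obj X) (a + k) :=
      inferInstanceAs (t.IsLE ((t.truncLT (a + k + 1)).obj X) (a + k))
    have h3 : DerivedCategory.IsGE ((t.truncGE (a + k + 1)).obj X) (a + k + 1) :=
      inferInstanceAs (t.IsGE _ (a + k + 1))
    have h4 : DerivedCategory.IsLE ((t.truncGE (a + k + 1)).obj X) (a + k + 1) := by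
      have : X.IsLE (a + k + 1) := by
        simpa [add_assoc] using ‹X.IsLE (a + ((k + 1 : ℕ) : ℤ))›
      exact DTrunc.isLE_truncGE X _ _
    refine htri _ (t.triangleLTGE_distinguished (a + k + 1) X)
      (@ih ((t.truncLT (a + k + 1)).obj X) (WayOut.p_truncLT P hz hX _) h1 h2) ?_
    obtain ⟨M, ⟨e⟩⟩ :=
      DerivedCategory.exists_iso_singleFunctor_obj_of_isGE_of_isLE
        ((t.truncGE (a + k + 1)).obj X) (a + k + 1)
    refine hiso e.symm (hs' M _ ?_)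
    exact P.prop_of_iso ((homologyFunctor A _).mapIso e ≪≫
      (singleFunctorCompHomologyFunctorIso A _).app M) (WayOut.p_truncGE P hz hX _ _)

theorem cohInBdd_of_iso {X Y : DerivedCategory A} (e : X ≅ Y) (h : WSerre.cohInBdd P X) :
    WSerre.cohInBdd P Y :=
  ⟨CohInTri.cohIn_of_iso P e h.1,
    ⟨h.2.1.choose, haveI := h.2.1.choose_spec; t.isGE_of_iso e _⟩,
    ⟨h.2.2.choose, haveI := h.2.2.choose_spec; t.isLE_of_iso e _⟩⟩

theorem cohInBdd_shift (X : DerivedCategory A) (n : ℤ) (h : WSerre.cohInBdd P X) :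
    WSerre.cohInBdd P (X⟦n⟧) := by
  obtain ⟨hX, ⟨a, ha⟩, ⟨b, hb⟩⟩ := h
  haveI : t.IsGE X a := ha
  haveI : t.IsLE X b := hb
  exact ⟨CohInTri.cohIn_shift P X n hX, ⟨a - n, t.isGE_shift X a n (a - n) (by omega)⟩,
    ⟨b - n, t.isLE_shift X b n (b - n) (by omega)⟩⟩

theorem cohInBdd_obj₂ (T : Triangle (DerivedCategory A)) (hT : T ∈ distTriang _)
    (h₁ : WSerre.cohInBdd P T.obj₁) (h₃ : WSerre.cohInBdd P T.obj₃) :
    WSerre.cohInBdd P T.obj₂ := by
  obtain ⟨hc₁, ⟨a₁, ha₁⟩, ⟨b₁, hb₁⟩⟩ := h₁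
  obtain ⟨hc₃, ⟨a₃, ha₃⟩, ⟨b₃, hb₃⟩⟩ := h₃
  exact ⟨CohInTri.cohIn_obj₂ P T hT hc₁ hc₃,
    ⟨min a₁ a₃, t.isGE₂ T hT _ (haveI : t.IsGE T.obj₁ a₁ := ha₁; t.isGE_of_ge _ _ a₁ (min_le_left _ _))
      (haveI : t.IsGE T.obj₃ a₃ := ha₃; t.isGE_of_ge _ _ a₃ (min_le_right _ _))⟩,
    ⟨max b₁ b₃, t.isLE₂ T hT _ (haveI : t.IsLE T.obj₁ b₁ := hb₁; t.isLE_of_le _ b₁ _ (le_max_left _ _))
      (haveI : t.IsLE T.obj₃ b₃ := hb₃; t.isLE_of_le _ b₃ _ (le_max_right _ _))⟩⟩

variable {B : Type u'} [Category.{v'} B] [Abelian B] [HasDerivedCategory.{w'} B]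
  (R : DerivedCategory A ⥤ DerivedCategory B) [R.CommShift ℤ] [R.IsTriangulated]
  (P' : ObjectProperty B) [WSerre.IsWeakSerre P']

/-- Full faithfulness on bounded objects follows from the heart. -/
theorem bij_of_cohInBdd
    (h : ∀ M N : A, P M → P N →
      TriFF.Bij R ((singleFunctor A 0).obj M) ((singleFunctor A 0).obj N))
    {K L : DerivedCategory A} (hK : WSerre.cohInBdd P K) (hL : WSerre.cohInBdd P L) :
    TriFF.Bij R K L := by
  refine induction_bounded P (fun L => TriFF.Bij R K L) (fun e => TriFF.Bij.of_iso (Iso.refl _) e)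
    (fun X n hX => TriFF.Bij.of_iso ((shiftFunctorZero (DerivedCategory A) ℤ).app K) (Iso.refl _)
      (hX.shift 0 n))
    (fun T hT => TriFF.Bij.obj₂ T hT) (fun N hN => ?_) L hL
  exact induction_bounded P (fun K => TriFF.Bij R K ((singleFunctor A 0).obj N))
    (fun e => TriFF.Bij.of_iso e (Iso.refl _))
    (fun X n hX => TriFF.Bij.of_iso (Iso.refl _)
      ((shiftFunctorZero (DerivedCategory A) ℤ).app ((singleFunctor A 0).obj N)) (hX.shift n 0))
    (fun T hT => TriFF.Bij.obj₂' T hT) (fun M hM => h M N hM hN) K hK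

/-- Bounded objects with cohomology in the essential image of the heart are in the image. -/
theorem exists_iso_of_cohInBdd
    (h : ∀ M N : A, P M → P N →
      TriFF.Bij R ((singleFunctor A 0).obj M) ((singleFunctor A 0).obj N))
    (hs : ∀ N : B, P' N → ∃ M, P M ∧ Nonempty (R.obj ((singleFunctor A 0).obj M) ≅
      (singleFunctor B 0).obj N))
    (Y : DerivedCategory B) (hY : WSerre.cohInBdd P' Y) :
    ∃ X, WSerre.cohInBdd P X ∧ Nonempty (R.obj X ≅ Y) := by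
  refine induction_bounded P' (fun Y => ∃ X, WSerre.cohInBdd P X ∧ Nonempty (R.obj X ≅ Y))
    (fun e ⟨X, hX, ⟨i⟩⟩ => ⟨X, hX, ⟨i ≪≫ e⟩⟩)
    (fun Y n ⟨X, hX, ⟨i⟩⟩ => ⟨X⟦n⟧, cohInBdd_shift P X n hX,
      ⟨(R.commShiftIso n).app X ≪≫ (shiftFunctor _ n).mapIso i⟩⟩)
    ?_ (fun N hN => ?_) Y hY
  · rintro T hT ⟨X₁, hX₁, ⟨i₁⟩⟩ ⟨X₃, hX₃, ⟨i₃⟩⟩
    obtain ⟨c, hc⟩ := ((bij_of_cohInBdd P R h hX₃ hX₁) 1).2
      (i₃.hom ≫ T.mor₃ ≫ i₁.inv⟦(1 : ℤ)⟧' ≫ (R.commShiftIso (1 : ℤ)).inv.app X₁)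
    obtain ⟨X₂, a, b, hX⟩ := distinguished_cocone_triangle₂ c
    refine ⟨X₂, cohInBdd_obj₂ P _ hX hX₁ hX₃, ?_⟩
    obtain ⟨m, hm₁, hm₂⟩ := complete_distinguished_triangle_morphism₂ _ T
      (R.map_distinguished _ hX) hT i₁.hom i₃.hom (by
        change (R.map c ≫ (R.commShiftIso (1 : ℤ)).hom.app X₁) ≫ i₁.hom⟦(1 : ℤ)⟧' = i₃.hom ≫ T.mor₃
        rw [hc]
        simp only [Category.assoc]
        simp [← Functor.map_comp])
    let φ : R.mapTriangle.obj (Triangle.mk a b c) ⟶ T :=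
      { hom₁ := i₁.hom, hom₂ := m, hom₃ := i₃.hom
        comm₁ := hm₁, comm₂ := hm₂
        comm₃ := by
          change (R.map c ≫ (R.commShiftIso (1 : ℤ)).hom.app X₁) ≫ i₁.hom⟦(1 : ℤ)⟧' = i₃.hom ≫ T.mor₃
          rw [hc]
          simp only [Category.assoc]
          simp [← Functor.map_comp] }
    have hφ : IsIso φ.hom₂ := isIso₂_of_isIso₁₃ φ (R.map_distinguished _ hX) hT
      (inferInstanceAs (IsIso i₁.hom)) (inferInstanceAs (IsIso i₃.hom))
    exact ⟨@asIso _ _ _ _ _ hφ⟩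
  · obtain ⟨M, hM, i⟩ := hs N hN
    exact ⟨_, ⟨CohInTri.cohIn_single P M hM 0, ⟨0, inferInstanceAs (t.IsGE _ 0)⟩,
      ⟨0, inferInstanceAs (t.IsLE _ 0)⟩⟩, i⟩

end Groth.Agent.H15Site.BddDevissage
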