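import Mathlib.CategoryTheory.Sites.Sheafification
import Mathlib.CategoryTheory.Limits.Shapes.Products
import Mathlib.CategoryTheory.Yoneda
import Mathlib.CategoryTheory.Sites.LeftExact
import Mathlib.CategoryTheory.Limits.Types.Filtered

/-!
# Colimit cofans of sheafified representables
-/

set_option autoImplicit false

namespace Groth.Agent.H15Site

open CategoryTheory CategoryTheory.Limits Opposite

universe u

variable {C : Type u} [SmallCategory C] (J : GrothendieckTopology C)

/-- Morphisms from a sheafified representable are sections. -/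
noncomputable def sheafifyYonedaHomEquiv (X : C) (F : Sheaf J (Type u)) :
    ((presheafToSheaf J (Type u)).obj (yoneda.obj X) ⟶ F) ≃ F.obj.obj (op X) :=
  ((sheafificationAdjunction J (Type u)).homEquiv _ _).trans yonedaEquiv

theorem sheafifyYonedaHomEquiv_naturality {X Y : C} (s : Y ⟶ X) (F : Sheaf J (Type u))
    (g : (presheafToSheaf J (Type u)).obj (yoneda.obj X) ⟶ F) :
    sheafifyYonedaHomEquiv J Y F ((presheafToSheaf J (Type u)).map (yoneda.map s) ≫ g) =
      F.obj.map s.op (sheafifyYonedaHomEquiv J X F g) := by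
  simp only [sheafifyYonedaHomEquiv, Equiv.trans_apply]
  rw [Adjunction.homEquiv_naturality_left]
  exact (yonedaEquiv_naturality _ s).symm

theorem sheafifyYonedaHomEquiv_naturality_right {X : C} {F G : Sheaf J (Type u)}
    (g : (presheafToSheaf J (Type u)).obj (yoneda.obj X) ⟶ F) (φ : F ⟶ G) :
    sheafifyYonedaHomEquiv J X G (g ≫ φ) = φ.hom.app (op X) (sheafifyYonedaHomEquiv J X F g) := by
  simp only [sheafifyYonedaHomEquiv, Equiv.trans_apply]
  rw [Adjunction.homEquiv_naturality_right, yonedaEquiv_comp]
  rfl

/-- `X` is the coproduct of the `Y i` among sheafified representables iff `F X → Π F (Y i)` is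
bijective for all sheaves `F`. -/
theorem isColimit_cofan_sheafify_yoneda_iff {X : C} {ι : Type u} (Y : ι → C) (s : ∀ i, Y i ⟶ X) :
    Nonempty (IsColimit (Cofan.mk ((presheafToSheaf J (Type u)).obj (yoneda.obj X))
      (fun i => (presheafToSheaf J (Type u)).map (yoneda.map (s i))))) ↔
    ∀ F : Sheaf J (Type u), Function.Bijective
      (fun x (i : ι) => F.obj.map (s i).op x : F.obj.obj (op X) → ∀ i, F.obj.obj (op (Y i))) := by
  constructor
  · rintro ⟨h⟩ F
    refine ⟨fun x y hxy => ?_, fun x => ?_⟩
    · obtain ⟨a, rfl⟩ := (sheafifyYonedaHomEquiv J X F).surjective x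
      obtain ⟨b, rfl⟩ := (sheafifyYonedaHomEquiv J X F).surjective y
      refine congrArg _ (Cofan.IsColimit.hom_ext h _ _ fun i => ?_)
      apply (sheafifyYonedaHomEquiv J (Y i) F).injective
      simp only [cofan_mk_inj]
      rw [sheafifyYonedaHomEquiv_naturality, sheafifyYonedaHomEquiv_naturality]
      exact congrFun hxy i
    · refine ⟨sheafifyYonedaHomEquiv J X F
        (Cofan.IsColimit.desc h fun i => (sheafifyYonedaHomEquiv J (Y i) F).symm (x i)), ?_⟩
      funext i
      simp only [← sheafifyYonedaHomEquiv_naturality]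
      rw [show (presheafToSheaf J (Type u)).map (yoneda.map (s i)) ≫
          Cofan.IsColimit.desc h (fun j => (sheafifyYonedaHomEquiv J (Y j) F).symm (x j)) =
          (sheafifyYonedaHomEquiv J (Y i) F).symm (x i) from Cofan.IsColimit.fac h _ i,
        Equiv.apply_symm_apply]
  · intro h
    refine ⟨Cofan.IsColimit.mk _ (fun t => (sheafifyYonedaHomEquiv J X t.pt).symm
      ((Equiv.ofBijective _ (h t.pt)).symm fun i => sheafifyYonedaHomEquiv J (Y i) t.pt (t.inj i))) ?_ ?_⟩
    · intro t i
      apply (sheafifyYonedaHomEquiv J (Y i) t.pt).injective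
      simp only [cofan_mk_inj]
      rw [sheafifyYonedaHomEquiv_naturality, Equiv.apply_symm_apply]
      exact congrFun (Equiv.apply_symm_apply (Equiv.ofBijective _ (h t.pt))
        (fun i => sheafifyYonedaHomEquiv J (Y i) t.pt (t.inj i))) i
    · intro t m hm
      apply (sheafifyYonedaHomEquiv J X t.pt).injective
      rw [Equiv.apply_symm_apply]
      apply (h t.pt).1
      funext i
      show t.pt.obj.map (s i).op (sheafifyYonedaHomEquiv J X t.pt m) = _
      refine (sheafifyYonedaHomEquiv_naturality J (s i) t.pt m).symm.trans ?_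
      have e := congrFun (Equiv.apply_symm_apply (Equiv.ofBijective _ (h t.pt))
        (fun i => sheafifyYonedaHomEquiv J (Y i) t.pt (t.inj i))) i
      refine Eq.trans ?_ e.symm
      exact congrArg _ (hm i)

end Groth.Agent.H15Site
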