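import Groth.Agent.H15Site.GiraudJoint
import Groth.Agent.H15Site.CofanSheafify
import Mathlib.CategoryTheory.Adjunction.Evaluation

/-!
# Diagrams in a topos form a topos
-/

set_option autoImplicit false
set_option linter.style.haveILetI false
set_option backward.isDefEq.respectTransparency false

universe u

noncomputable section

open CategoryTheory CategoryTheory.Limits Opposite SGA4

namespace Groth.Agent.H15Site

/-- The sheafified representable. -/
abbrev shRep {C : Type u} [SmallCategory C] (J : GrothendieckTopology C) (c : C) : Sheaf J (Type u) :=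
  (presheafToSheaf J (Type u)).obj (yoneda.obj c)

lemma isIso_of_shRep_lifts {C : Type u} [SmallCategory C] {J : GrothendieckTopology C}
    {X Y : Sheaf J (Type u)} (m : X ⟶ Y) [Mono m]
    (h : ∀ (c : C) (g : shRep J c ⟶ Y), ∃ a, a ≫ m = g) : IsIso m := by
  haveI : Sheaf.IsLocallySurjective m := ⟨fun {U} y => by
    obtain ⟨a, ha⟩ := h U ((sheafifyYonedaHomEquiv J U Y).symm y)
    refine J.superset_covering (fun V f _ => ⟨X.obj.map f.op (sheafifyYonedaHomEquiv J U X a), ?_⟩)
      (J.top_mem U)
    refine (ConcreteCategory.congr_hom (m.hom.naturality f.op) _).trans ?_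
    refine congrArg (fun t => Y.obj.map f.op t) ?_
    have := sheafifyYonedaHomEquiv_naturality_right J a m
    rw [ha, Equiv.apply_symm_apply] at this
    exact this.symm⟩
  haveI : Epi m := (Sheaf.isLocallySurjective_iff_epi m).1 inferInstance
  exact isIso_of_mono_of_epi m

theorem isTopos_functor {C : Type u} [SmallCategory C] (J : GrothendieckTopology C)
    (D : Type u) [SmallCategory D] : IsTopos.{u + 1, u} (D ⥤ Sheaf J (Type u)) := by
  haveI : ∀ ι : Type u, HasColimitsOfShape (Discrete ι) (D ⥤ Sheaf J (Type u)) := fun _ => inferInstance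
  let F : ∀ _ : D, (D ⥤ Sheaf J (Type u)) ⥤ Sheaf J (Type u) := fun d => (evaluation _ _).obj d
  haveI : ∀ d, PreservesFiniteLimits (F d) := fun d => inferInstanceAs (PreservesFiniteLimits ((evaluation _ _).obj d))
  haveI : ∀ d, PreservesFiniteColimits (F d) := fun d => inferInstanceAs (PreservesFiniteColimits ((evaluation _ _).obj d))
  haveI : ∀ d (ι : Type u), PreservesColimitsOfShape (Discrete ι) (F d) := fun d ι =>
    inferInstanceAs (PreservesColimitsOfShape (Discrete ι) ((evaluation _ _).obj d))
  have hiso : ∀ {X Y : D ⥤ Sheaf J (Type u)} (f : X ⟶ Y), (∀ d, IsIso ((F d).map f)) → IsIso f :=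
    fun f h => by
      haveI : ∀ d, IsIso (f.app d) := h
      exact NatIso.isIso_of_isIso_app f
  refine Giraud.Axioms.isTopos
    ({ ι := D × C
       G := fun p => (evaluationLeftAdjoint (Sheaf J (Type u)) p.1).obj (shRep J p.2)
       coprod := GiraudJoint.hasDisjointUniversalCoproducts (fun _ => J) F hiso
       rel := GiraudJoint.isEffectiveUniversalEquivRel (fun _ => J) F hiso
       detect := ?_ } : Giraud.Axioms (D ⥤ Sheaf J (Type u)))
  intro X Y m hm h
  refine hiso m fun d => ?_
  haveI : Mono (m.app d) := inferInstance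
  refine isIso_of_shRep_lifts (m.app d) fun c g => ?_
  let adj := evaluationAdjunctionRight (Sheaf J (Type u)) d
  obtain ⟨a, ha⟩ := h (d, c) ((adj.homEquiv _ _).symm g)
  refine ⟨adj.homEquiv _ _ a, ?_⟩
  have := (adj.homEquiv_naturality_right a m).symm
  rw [ha, Equiv.apply_symm_apply] at this
  exact this

end Groth.Agent.H15Site
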