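import Groth.Agent.H15Site.ToposFin.Epi
import Groth.Agent.H15Site.CofanSheafify
import Groth.Agent.H15Site.GiraudFun
import Mathlib.CategoryTheory.Sites.Canonical
import Mathlib.CategoryTheory.Limits.Constructions.LimitsOfProductsAndEqualizers
import Mathlib.CategoryTheory.Limits.Types.Equalizers
import Mathlib.CategoryTheory.Limits.Preserves.Opposites
import Mathlib.CategoryTheory.Limits.Shapes.Opposites.Products

/-!
# The canonical topology of a topos
-/

set_option autoImplicit false
set_option linter.style.haveILetI false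
set_option linter.unusedSectionVars false
set_option backward.isDefEq.respectTransparency false

universe w v u

noncomputable section

open CategoryTheory CategoryTheory.Limits Opposite

namespace Groth.Agent.H15Site.CanTopos

variable {C : Type u} [SmallCategory C] {J : GrothendieckTopology C}

/-- Maps out of sheafified representables are jointly epimorphic. -/
lemma jEpi_shRep (X : Sheaf J (Type u)) :
    TFin.JEpi (fun p : Σ c, shRep J c ⟶ X => p.2) := by
  intro Z a b hab
  ext c x
  have h := congrArg (sheafifyYonedaHomEquiv J c.unop Z)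
    (hab ⟨c.unop, (sheafifyYonedaHomEquiv J c.unop X).symm x⟩)
  rw [sheafifyYonedaHomEquiv_naturality_right, sheafifyYonedaHomEquiv_naturality_right,
    Equiv.apply_symm_apply] at h
  exact h

lemma bijective_of_isLimit_fan {ι : Type u} {T : ι → Type w} {X : Type w} (p : ∀ i, X ⟶ T i)
    (h : IsLimit (Fan.mk X p)) : Function.Bijective (fun x i => p i x) := by
  have hl := (Types.isLimit_iff (Fan.mk X p)).1 ⟨h⟩
  refine ⟨fun x y e => ?_, fun t => ?_⟩
  · exact (hl (fun i => p i.as x) (by rintro ⟨i⟩ ⟨j⟩ ⟨⟨rfl : i = j⟩⟩; simp)).unique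
      (fun _ => rfl) (fun i => (congrFun e i.as).symm)
  · obtain ⟨x, hx, -⟩ := hl (fun i => t i.as) (by rintro ⟨i⟩ ⟨j⟩ ⟨⟨rfl : i = j⟩⟩; simp)
    exact ⟨x, funext fun i => hx ⟨i⟩⟩

/-- A fan of sets with bijective comparison map is a product. -/
def isLimitFanOfBijective {ι : Type u} {T : ι → Type w} {X : Type w} (p : ∀ i, X ⟶ T i)
    (h : Function.Bijective (fun x i => p i x)) : IsLimit (Fan.mk X p) :=
  mkFanLimit _ (fun s => ↾fun x => (Equiv.ofBijective _ h).symm fun i => s.proj i x)
    (fun s i => by ext x; exact congrFun ((Equiv.ofBijective _ h).apply_symm_apply fun i => s.proj i x) i)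
    (fun s m hm => by
      ext x
      refine h.1 ?_
      refine Eq.trans ?_ ((Equiv.ofBijective _ h).apply_symm_apply fun i => s.proj i x).symm
      funext i
      exact ConcreteCategory.congr_hom (hm i) x)

/-- The opposite of a coequalizer is an equalizer. -/
def isLimitForkOp {D : Type v} [Category.{u} D] {A B Q : D} {a b : A ⟶ B} (q : B ⟶ Q)
    (w' : a ≫ q = b ≫ q) (h : IsColimit (Cofork.ofπ q w')) :
    IsLimit (Fork.ofι q.op (by rw [← op_comp, ← op_comp, w'] : q.op ≫ a.op = q.op ≫ b.op)) :=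
  Fork.IsLimit.mk _
    (fun s => (Cofork.IsColimit.desc h s.ι.unop (Quiver.Hom.op_inj s.condition)).op)
    (fun s => Quiver.Hom.unop_inj (Cofork.IsColimit.π_desc' h _ _))
    (fun s m hm => Quiver.Hom.unop_inj (Cofork.IsColimit.hom_ext h
      ((congrArg Quiver.Hom.unop hm).trans (Cofork.IsColimit.π_desc' h _ _).symm)))

lemma pullback_ofArrows {D : Type v} [Category.{u} D] [HasPullbacks D] {ι : Type w} {X Y : D}
    {A : ι → D} (π : ∀ i, A i ⟶ X) (f : Y ⟶ X) :
    (Sieve.ofArrows A π).pullback f = Sieve.ofArrows _ (fun i => pullback.snd (π i) f) := by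
  ext V g
  simp only [Sieve.pullback_apply, Sieve.mem_ofArrows_iff]
  constructor
  · rintro ⟨i, a, ha⟩
    exact ⟨i, pullback.lift a g ha.symm, (pullback.lift_snd _ _ _).symm⟩
  · rintro ⟨i, a, rfl⟩
    exact ⟨i, a ≫ pullback.fst (π i) f, by simp [pullback.condition]⟩

variable (P : (Sheaf J (Type u))ᵒᵖ ⥤ Type w)

/-- A functor turning colimits into limits glues along small epimorphic families. -/
lemma isSheafFor_of_preservesLimits [PreservesLimitsOfSize.{u, u} P] {ι : Type u}
    {X : Sheaf J (Type u)} {A : ι → Sheaf J (Type u)} (π : ∀ i, A i ⟶ X) (h : TFin.JEpi π) :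
    Presieve.IsSheafFor P (Presieve.ofArrows A π) := by
  rw [Presieve.isSheafFor_arrows_iff_pullbacks]
  intro x hx
  let Q : ι × ι → Sheaf J (Type u) := fun p => pullback (π p.1) (π p.2)
  let a : ∐ Q ⟶ ∐ A := Sigma.desc fun p => pullback.fst (π p.1) (π p.2) ≫ Sigma.ι A p.1
  let b : ∐ Q ⟶ ∐ A := Sigma.desc fun p => pullback.snd (π p.1) (π p.2) ≫ Sigma.ι A p.2
  have hw : a ≫ Sigma.desc π = b ≫ Sigma.desc π := Sigma.hom_ext _ _ fun p => by
    simp [a, b, pullback.condition]
  haveI : Epi (Sigma.desc π) := (TFin.jEpi_iff_epi π).1 h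
  haveI := IsRegularEpiCategory.regularEpiOfEpi (Sigma.desc π)
  have heff : EffectiveEpi (Sigma.desc π) := inferInstance
  have hj : TFin.JEpi (Sigma.ι A) := fun _ _ _ hab => Sigma.hom_ext _ _ hab
  have hdesc : ∀ {Z : Sheaf J (Type u)} (d : ∐ A ⟶ Z), a ≫ d = b ≫ d →
      ∀ {T : Sheaf J (Type u)} (g₁ g₂ : T ⟶ ∐ A), g₁ ≫ Sigma.desc π = g₂ ≫ Sigma.desc π →
        g₁ ≫ d = g₂ ≫ d := by
    intro Z d hd T g₁ g₂ hg
    refine hj.pullback g₁ _ _ fun i => ?_
    refine hj.pullback (pullback.snd (Sigma.ι A i) g₁ ≫ g₂) _ _ fun j => ?_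
    let s := pullback.snd (Sigma.ι A j) (pullback.snd (Sigma.ι A i) g₁ ≫ g₂)
    let k₁ := s ≫ pullback.fst (Sigma.ι A i) g₁
    let k₂ := pullback.fst (Sigma.ι A j) (pullback.snd (Sigma.ι A i) g₁ ≫ g₂)
    have hk₁ : k₁ ≫ Sigma.ι A i = s ≫ pullback.snd (Sigma.ι A i) g₁ ≫ g₁ := by
      simp only [k₁, Category.assoc, pullback.condition]
    have hk₂ : k₂ ≫ Sigma.ι A j = s ≫ pullback.snd (Sigma.ι A i) g₁ ≫ g₂ := pullback.condition
    have hk : k₁ ≫ π i = k₂ ≫ π j := by
      rw [← Sigma.ι_desc π i, ← Sigma.ι_desc π j, reassoc_of% hk₁, reassoc_of% hk₂, hg]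
    have hQ : pullback.fst (π i) (π j) ≫ Sigma.ι A i ≫ d = pullback.snd (π i) (π j) ≫ Sigma.ι A j ≫ d := by
      simpa [a, b, Q] using congrArg (fun t => Sigma.ι Q (i, j) ≫ t) hd
    calc s ≫ pullback.snd (Sigma.ι A i) g₁ ≫ g₁ ≫ d = k₁ ≫ Sigma.ι A i ≫ d := by
          rw [reassoc_of% hk₁]
      _ = k₂ ≫ Sigma.ι A j ≫ d := by
          rw [← pullback.lift_fst (f := π i) (g := π j) k₁ k₂ hk, Category.assoc, hQ,
            pullback.lift_snd_assoc]
      _ = s ≫ pullback.snd (Sigma.ι A i) g₁ ≫ g₂ ≫ d := by rw [reassoc_of% hk₂]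
  have hq : IsColimit (Cofork.ofπ (Sigma.desc π) hw) := Cofork.IsColimit.mk _
    (fun s => @EffectiveEpi.desc _ _ _ _ _ (Sigma.desc π) heff s.π fun g₁ g₂ hg => hdesc s.π s.condition g₁ g₂ hg)
    (fun s => @EffectiveEpi.fac _ _ _ _ _ (Sigma.desc π) heff _ _)
    (fun s m hm => @EffectiveEpi.uniq _ _ _ _ _ (Sigma.desc π) heff _ _ _ hm)
  have bijA : Function.Bijective (fun y : P.obj (op (∐ A)) => fun i => P.map (Sigma.ι A i).op y) := by
    let hl := isLimitMapConeFanMkEquiv P _ _ (isLimitOfPreserves P (Cofan.IsColimit.op (coproductIsCoproduct A)))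
    exact bijective_of_isLimit_fan _ hl
  have injQ : Function.Injective (fun y : P.obj (op (∐ Q)) => fun p => P.map (Sigma.ι Q p).op y) := by
    let hl := isLimitMapConeFanMkEquiv P _ _ (isLimitOfPreserves P (Cofan.IsColimit.op (coproductIsCoproduct Q)))
    exact (bijective_of_isLimit_fan _ hl).1
  obtain ⟨y, hy⟩ := bijA.2 x
  have hy' : ∀ i, P.map (Sigma.ι A i).op y = x i := congrFun hy
  have hab : P.map a.op y = P.map b.op y := by
    apply injQ
    funext p
    obtain ⟨i, j⟩ := p
    simp only [← Functor.map_comp_apply, ← op_comp, a, b, Sigma.ι_desc]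
    simp only [op_comp, Functor.map_comp_apply, hy']
    exact hx i j
  haveI : PreservesFiniteLimits P := PreservesLimitsOfSize.preservesFiniteLimits P
  have hl := isLimitMapConeForkEquiv P _ (isLimitOfPreserves P (isLimitForkOp _ hw hq))
  obtain ⟨t, ht, ht'⟩ := Limits.Types.unique_of_type_equalizer _ _ hl y hab
  refine ⟨t, fun i => ?_, fun t₁ ht₁ => ht' t₁ ?_⟩
  · rw [← hy' i, ← ht, ← Functor.map_comp_apply, ← op_comp, Sigma.ι_desc]
  · apply bijA.1
    funext i
    simp only [← Functor.map_comp_apply, ← op_comp, Sigma.ι_desc, hy', ht₁]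

/-- Small epimorphic families are covering for the canonical topology. -/
lemma ofArrows_mem {ι : Type u} {X : Sheaf J (Type u)} {A : ι → Sheaf J (Type u)} (π : ∀ i, A i ⟶ X)
    (h : TFin.JEpi π) : Sieve.ofArrows A π ∈ Sheaf.canonicalTopology (Sheaf J (Type u)) X := by
  refine Sheaf.mem_finestTopology_of_forall_isSheafFor ?_
  rintro _ ⟨Z, rfl⟩ Y f
  rw [pullback_ofArrows, Sieve.ofArrows, ← Presieve.isSheafFor_iff_generate]
  exact isSheafFor_of_preservesLimits (yoneda.obj Z) _ (h.pullback f)

/-- A canonical covering sieve contains a small epimorphic family. -/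
lemma exists_jEpi_of_mem {X : Sheaf J (Type u)} {S : Sieve X}
    (hS : S ∈ Sheaf.canonicalTopology (Sheaf J (Type u)) X) :
    TFin.JEpi (fun p : Σ c, {f : shRep J c ⟶ X // S f} => p.2.1) := by
  intro Z a b hab
  refine ((Sheaf.isSheaf_yoneda_obj Z) S hS).isSeparatedFor.ext fun Y f hf => ?_
  exact jEpi_shRep Y (f ≫ a) (f ≫ b) fun p => by
    simpa using hab ⟨p.1, p.2 ≫ f, S.downward_closed hf p.2⟩

/-- Being a sheaf for the canonical topology is tested on small epimorphic families. -/
lemma isSheaf_of_small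
    (h : ∀ {ι : Type u} {X : Sheaf J (Type u)} {A : ι → Sheaf J (Type u)} (π : ∀ i, A i ⟶ X),
      TFin.JEpi π → Presieve.IsSheafFor P (Presieve.ofArrows A π)) :
    Presieve.IsSheaf (Sheaf.canonicalTopology (Sheaf J (Type u))) P := by
  intro X S hS
  let π : ∀ p : Σ c, {f : shRep J c ⟶ X // S f}, shRep J p.1 ⟶ X := fun p => p.2.1
  refine Presieve.isSheafFor_subsieve P (S := Sieve.ofArrows _ π) ?_ fun Y f => ?_
  · intro Y g hg
    obtain ⟨p, a, rfl⟩ := (Sieve.mem_ofArrows_iff _ π g).1 hg
    exact S.downward_closed p.2.2 a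
  · rw [pullback_ofArrows, Sieve.ofArrows, ← Presieve.isSheafFor_iff_generate]
    exact h _ ((exists_jEpi_of_mem hS).pullback f)

theorem isSheaf_of_preservesLimits [PreservesLimitsOfSize.{u, u} P] :
    Presieve.IsSheaf (Sheaf.canonicalTopology (Sheaf J (Type u))) P :=
  isSheaf_of_small P fun π h => isSheafFor_of_preservesLimits P π h

section

variable {P}
variable (hP : Presieve.IsSheaf (Sheaf.canonicalTopology (Sheaf J (Type u))) P)

include hP in
lemma isSheafFor_jEpi {ι : Type u} {X : Sheaf J (Type u)} {A : ι → Sheaf J (Type u)} (π : ∀ i, A i ⟶ X)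
    (h : TFin.JEpi π) : Presieve.IsSheafFor P (Presieve.ofArrows A π) :=
  (Presieve.isSheafFor_iff_generate _).2 (hP _ (ofArrows_mem π h))

include hP in
lemma ext_jEpi {ι : Type u} {X : Sheaf J (Type u)} {A : ι → Sheaf J (Type u)} {π : ∀ i, A i ⟶ X}
    (h : TFin.JEpi π) {s t : P.obj (op X)} (e : ∀ i, P.map (π i).op s = P.map (π i).op t) : s = t :=
  (isSheafFor_jEpi hP π h).isSeparatedFor.ext fun _ _ hg => by
    obtain ⟨i⟩ := hg
    exact e i

include hP in
lemma ext_of_isInitial {X : Sheaf J (Type u)} (hX : IsInitial X) (s t : P.obj (op X)) : s = t :=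
  ext_jEpi hP (π := fun i : PEmpty.{u + 1} => (i.elim : X ⟶ X)) (TFin.jEpi_of_isInitial hX _)
    fun i => i.elim

include hP in
lemma bijective_coproduct {ι : Type u} (A : ι → Sheaf J (Type u)) :
    Function.Bijective (fun y : P.obj (op (∐ A)) => fun i => P.map (Sigma.ι A i).op y) := by
  have hj : TFin.JEpi (Sigma.ι A) := fun _ _ _ hab => Sigma.hom_ext _ _ hab
  have hd := CoprodVK.coproductDisjoint (J := J) A
  refine ⟨fun s t h => ext_jEpi hP hj (congrFun h), fun x => ?_⟩
  have h := (Presieve.isSheafFor_arrows_iff_pullbacks _ _).1 (isSheafFor_jEpi hP _ hj) x ?_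
  · exact ⟨h.choose, funext h.choose_spec.1⟩
  · intro i j
    by_cases hij : i = j
    · subst hij
      haveI : Mono (Sigma.ι A i) := hd.mono_inj (coproductIsCoproduct A) i
      rw [(cancel_mono (Sigma.ι A i)).1 (pullback.condition (f := Sigma.ι A i) (g := Sigma.ι A i))]
    · obtain ⟨hI⟩ := hd.nonempty_isInitial_of_ne (coproductIsCoproduct A) hij
        (PullbackCone.mk (pullback.fst (Sigma.ι A i) (Sigma.ι A j))
          (pullback.snd (Sigma.ι A i) (Sigma.ι A j)) pullback.condition) (pullbackIsPullback _ _)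
      exact ext_of_isInitial hP hI _ _

include hP in
lemma eq_of_coequalizer {A B : Sheaf J (Type u)} (f g : A ⟶ B) (y : P.obj (op B))
    (hy : P.map f.op y = P.map g.op y) {c : C} (a b : shRep J c ⟶ B)
    (hab : a ≫ coequalizer.π f g = b ≫ coequalizer.π f g) : P.map a.op y = P.map b.op y := by
  let σ : ∀ {Z : C}, B.obj.obj (op Z) → (shRep J Z ⟶ B) := fun {Z} x => (sheafifyYonedaHomEquiv J Z B).symm x
  let val : ∀ {Z : C}, B.obj.obj (op Z) → P.obj (op (shRep J Z)) := fun x => P.map (σ x).op y
  have hσ : ∀ {Z W : C} (v : W ⟶ Z) (x : B.obj.obj (op Z)),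
      σ (B.obj.map v.op x) = (presheafToSheaf J (Type u)).map (yoneda.map v) ≫ σ x := by
    intro Z W v x
    apply (sheafifyYonedaHomEquiv J W B).injective
    simp [σ, sheafifyYonedaHomEquiv_naturality]
  have hval : ∀ {Z W : C} (v : W ⟶ Z) (x : B.obj.obj (op Z)),
      val (B.obj.map v.op x) = P.map ((presheafToSheaf J (Type u)).map (yoneda.map v)).op (val x) :=
    fun v x => by simp only [val, hσ, op_comp, Functor.map_comp_apply]
  let Q₀ : Cᵒᵖ ⥤ Type u :=
    { obj := fun Z => Quotient (Setoid.ker (fun x : B.obj.obj (op Z.unop) => val x))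
      map := fun {Z W} v => ↾Quotient.map (fun x => B.obj.map v.unop.op x) (fun x x' (h : val x = val x') => by
        show val _ = val _
        rw [hval, hval, h])
      map_id := fun Z => by
        ext q
        induction q using Quotient.inductionOn with
        | h x => exact congrArg (Quotient.mk _) (B.obj.map_id_apply _ x)
      map_comp := fun {Z W V} v v' => by
        ext q
        induction q using Quotient.inductionOn with
        | h x => exact congrArg (Quotient.mk _) (B.obj.map_comp_apply _ _ x) }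
  let q₀ : B.obj ⟶ Q₀ := { app := fun Z => ↾fun x => Quotient.mk _ x }
  let q : B ⟶ (presheafToSheaf J (Type u)).obj Q₀ := ⟨q₀ ≫ toSheafify J Q₀⟩
  have hq₀ : f.hom ≫ q₀ = g.hom ≫ q₀ := by
    ext Z x
    refine Quotient.sound (show val _ = val _ from ?_)
    have e : ∀ φ : A ⟶ B, σ (φ.hom.app (op Z.unop) x) = (sheafifyYonedaHomEquiv J Z.unop A).symm x ≫ φ :=
      fun φ => by
        apply (sheafifyYonedaHomEquiv J Z.unop B).injective
        refine (Equiv.apply_symm_apply _ _).trans
          (Eq.trans ?_ (sheafifyYonedaHomEquiv_naturality_right J _ φ).symm)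
        exact (congrArg (fun t => φ.hom.app (op Z.unop) t) (Equiv.apply_symm_apply _ _)).symm
    simp only [val]
    refine (congrArg (fun t => P.map t.op y) (e f)).trans
      (Eq.trans ?_ (congrArg (fun t => P.map t.op y) (e g)).symm)
    simp only [op_comp, Functor.map_comp_apply, hy]
  have hq : f ≫ q = g ≫ q := by
    ext1
    exact (Category.assoc _ _ _).symm.trans ((congrArg (fun t => t ≫ toSheafify J Q₀) hq₀).trans (Category.assoc _ _ _))
  let x₁ := sheafifyYonedaHomEquiv J c B a
  let x₂ := sheafifyYonedaHomEquiv J c B b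
  have hx : q.hom.app (op c) x₁ = q.hom.app (op c) x₂ := by
    have := congrArg (fun t => t ≫ coequalizer.desc q hq) hab
    simp only [Category.assoc, coequalizer.π_desc] at this
    have := congrArg (sheafifyYonedaHomEquiv J c _) this
    rwa [sheafifyYonedaHomEquiv_naturality_right, sheafifyYonedaHomEquiv_naturality_right] at this
  have ha : a = σ x₁ := (Equiv.symm_apply_apply _ _).symm
  have hb : b = σ x₂ := (Equiv.symm_apply_apply _ _).symm
  let z₁ : ToType (Q₀.obj (op c)) := q₀.app (op c) x₁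
  let z₂ : ToType (Q₀.obj (op c)) := q₀.app (op c) x₂
  have hS := Presheaf.equalizerSieve_mem J (toSheafify J Q₀) z₁ z₂ hx
  have hjepi : TFin.JEpi (fun p : Σ W, {v : W ⟶ c // Presheaf.equalizerSieve z₁ z₂ v} => (presheafToSheaf J (Type u)).map (yoneda.map p.2.1)) := by
    intro Z s t hst
    apply (sheafifyYonedaHomEquiv J c Z).injective
    refine TFin.sep Z _ hS fun W v hv => ?_
    rw [← sheafifyYonedaHomEquiv_naturality, ← sheafifyYonedaHomEquiv_naturality]
    exact congrArg _ (hst ⟨W, v, hv⟩)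
  refine ext_jEpi hP hjepi fun p => ?_
  rw [ha, hb]
  have h := Quotient.exact p.2.2
  exact ((hval p.2.1 x₁).symm.trans h).trans (hval p.2.1 x₂)

include hP in
lemma existsUnique_coequalizer {A B : Sheaf J (Type u)} (f g : A ⟶ B) (y : P.obj (op B))
    (hy : P.map f.op y = P.map g.op y) : ∃! t, P.map (coequalizer.π f g).op t = y := by
  have hj : TFin.JEpi (fun _ : PUnit.{u + 1} => coequalizer.π f g) := TFin.jEpi_single _
  obtain ⟨t, ht, ht'⟩ := (Presieve.isSheafFor_arrows_iff_pullbacks _ _).1 (isSheafFor_jEpi hP _ hj)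
    (fun _ => y) fun _ _ => ext_jEpi hP (jEpi_shRep _) fun p => by
      simp only [← Functor.map_comp_apply, ← op_comp]
      refine eq_of_coequalizer hP f g y hy _ _ ?_
      simp only [Category.assoc, pullback.condition]
  exact ⟨t, ht ⟨⟩, fun t' h => ht' t' fun _ => h⟩

include hP in
theorem preservesLimits_of_isSheaf : PreservesLimitsOfSize.{u, u} P := by
  haveI : ∀ ι : Type u, PreservesLimitsOfShape (Discrete ι) P := fun ι => by
    refine ⟨fun {K} => ?_⟩
    let A : ι → Sheaf J (Type u) := fun i => (K.obj ⟨i⟩).unop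
    haveI : PreservesLimit (Discrete.functor (K.obj ∘ Discrete.mk)) P := by
      show PreservesLimit (Discrete.functor fun i => op (A i)) P
      refine preservesLimit_of_preserves_limit_cone (Cofan.IsColimit.op (coproductIsCoproduct A))
        ((isLimitMapConeFanMkEquiv P _ _).symm ?_)
      exact isLimitFanOfBijective _ (bijective_coproduct hP A)
    exact preservesLimit_of_iso_diagram P Discrete.natIsoFunctor.symm
  haveI : PreservesLimitsOfShape WalkingParallelPair P := by
    refine ⟨fun {K} => ?_⟩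
    let f := (K.map WalkingParallelPairHom.left).unop
    let g := (K.map WalkingParallelPairHom.right).unop
    haveI : PreservesLimit (parallelPair (K.map WalkingParallelPairHom.left) (K.map WalkingParallelPairHom.right)) P := by
      refine preservesLimit_of_preserves_limit_cone
        (isLimitForkOp (coequalizer.π f g) (coequalizer.condition f g) (coequalizerIsCoequalizer f g))
        ((isLimitMapConeForkEquiv P _).symm ?_)
      exact Limits.Types.typeEqualizerOfUnique _ _ fun y hy => existsUnique_coequalizer hP f g y hy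
    exact preservesLimit_of_iso_diagram P (diagramIsoParallelPair K).symm
  exact preservesLimits_of_preservesEqualizers_and_products P

end

theorem isSheaf_iff_preservesLimits :
    Presieve.IsSheaf (Sheaf.canonicalTopology (Sheaf J (Type u))) P ↔ PreservesLimitsOfSize.{u, u} P :=
  ⟨fun h => preservesLimits_of_isSheaf h, fun _ => isSheaf_of_preservesLimits P⟩

/-- A presheaf with values in any category is a canonical sheaf iff it preserves limits. -/
theorem isSheaf_iff {E' : Type v} [Category.{w} E'] (F : (Sheaf J (Type u))ᵒᵖ ⥤ E') :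
    Presheaf.IsSheaf (Sheaf.canonicalTopology (Sheaf J (Type u))) F ↔ PreservesLimitsOfSize.{u, u} F := by
  constructor
  · intro h
    refine ⟨fun {K} _ => ⟨fun {D} => ⟨fun {c} hc => ⟨coyonedaJointlyReflectsLimits _ _ fun E => ?_⟩⟩⟩⟩
    haveI := preservesLimits_of_isSheaf (h E.unop)
    exact isLimitOfPreserves (F ⋙ coyoneda.obj E) hc
  · intro h E
    exact isSheaf_of_preservesLimits _

end Groth.Agent.H15Site.CanTopos
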