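import Groth.Agent.H15Site.CechSite
import Groth.Prelude.Def_CechEdge

/-!
# The degree zero Čech group on a site
-/

universe u

open CategoryTheory CategoryTheory.Limits Opposite

namespace Groth.Agent.H15Site.CechSite

variable {C : Type u} [SmallCategory C] [HasPullbacks C] {U : C} {ι : Type u}
  (Y : ι → Over U) (P : Cᵒᵖ ⥤ AddCommGrpCat.{u})

theorem isIso_homologyπ_zero (K : CochainComplex AddCommGrpCat.{u} ℕ) : IsIso (K.homologyπ 0) :=
  K.isIso_homologyπ 0 0 (by simp) (K.shape _ _ (by simp))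

/-- An element killed by the differential is a cycle. -/
theorem exists_cycle (K : CochainComplex AddCommGrpCat.{u} ℕ) (i : ℕ) (x : K.X i)
    (hx : (K.d i (i + 1)).hom x = 0) : ∃ z, (K.iCycles i).hom z = x := by
  let k : AddCommGrpCat.of (ULift.{u} ℤ) ⟶ K.X i :=
    AddCommGrpCat.ofHom ((zmultiplesHom _ x).comp AddEquiv.ulift.toAddMonoidHom)
  have hk : k ≫ K.d i (i + 1) = 0 := by
    ext m
    change (K.d i (i + 1)).hom (m.down • x) = 0
    rw [map_zsmul, hx, smul_zero]
  refine ⟨(K.liftCycles k (i + 1) (by simp) hk).hom ⟨1⟩, ?_⟩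
  exact (ConcreteCategory.congr_hom (K.liftCycles_i k (i + 1) (by simp) hk) ⟨1⟩).trans (one_smul ℤ x)

/-- The class of a `0`-cocycle. -/
noncomputable def cls (x : C' Y P 0) (hx : (d Y P 0).hom x = 0) : CohCx.cechH P Y 0 :=
  (((cechComplexFunctor Y).obj ((Over.forget U).op ⋙ P)).homologyπ 0).hom
    (exists_cycle ((cechComplexFunctor Y).obj ((Over.forget U).op ⋙ P)) 0 x hx).choose

/-- The cocycle of a class. -/
noncomputable def rep : CohCx.cechH P Y 0 →+ C' Y P 0 :=
  haveI := isIso_homologyπ_zero ((cechComplexFunctor Y).obj ((Over.forget U).op ⋙ P))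
  (inv (((cechComplexFunctor Y).obj ((Over.forget U).op ⋙ P)).homologyπ 0) ≫
    ((cechComplexFunctor Y).obj ((Over.forget U).op ⋙ P)).iCycles 0).hom

theorem rep_π (z : ((cechComplexFunctor Y).obj ((Over.forget U).op ⋙ P)).cycles 0) :
    rep Y P ((((cechComplexFunctor Y).obj ((Over.forget U).op ⋙ P)).homologyπ 0).hom z) =
      (((cechComplexFunctor Y).obj ((Over.forget U).op ⋙ P)).iCycles 0).hom z := by
  haveI := isIso_homologyπ_zero ((cechComplexFunctor Y).obj ((Over.forget U).op ⋙ P))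
  exact ConcreteCategory.congr_hom (IsIso.hom_inv_id_assoc
    (((cechComplexFunctor Y).obj ((Over.forget U).op ⋙ P)).homologyπ 0)
    (((cechComplexFunctor Y).obj ((Over.forget U).op ⋙ P)).iCycles 0)) z

theorem rep_cls (x : C' Y P 0) (hx : (d Y P 0).hom x = 0) : rep Y P (cls Y P x hx) = x :=
  (rep_π Y P _).trans
    (exists_cycle ((cechComplexFunctor Y).obj ((Over.forget U).op ⋙ P)) 0 x hx).choose_spec

theorem rep_injective : Function.Injective (rep Y P) := by
  haveI := isIso_homologyπ_zero ((cechComplexFunctor Y).obj ((Over.forget U).op ⋙ P))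
  refine (AddCommGrpCat.mono_iff_injective _).1 ?_
  show Mono (inv (((cechComplexFunctor Y).obj ((Over.forget U).op ⋙ P)).homologyπ 0) ≫ _)
  infer_instance

theorem d_rep (z : CohCx.cechH P Y 0) : (d Y P 0).hom (rep Y P z) = 0 := by
  haveI := isIso_homologyπ_zero ((cechComplexFunctor Y).obj ((Over.forget U).op ⋙ P))
  exact (ConcreteCategory.congr_hom
    (((cechComplexFunctor Y).obj ((Over.forget U).op ⋙ P)).iCycles_d 0 1) _)

theorem exists_cls_eq (z : CohCx.cechH P Y 0) : ∃ x hx, cls Y P x hx = z :=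
  ⟨rep Y P z, d_rep Y P z, rep_injective Y P (rep_cls Y P _ _)⟩

theorem rep_cechHMap {Q : Cᵒᵖ ⥤ AddCommGrpCat.{u}} (α : P ⟶ Q) (z : CohCx.cechH P Y 0) :
    rep Y Q (CechEdge.cechHMap Y α 0 z) = (mapC Y P α 0).hom (rep Y P z) := by
  haveI := isIso_homologyπ_zero ((cechComplexFunctor Y).obj ((Over.forget U).op ⋙ P))
  obtain ⟨w, rfl⟩ := ((AddCommGrpCat.epi_iff_surjective
    (((cechComplexFunctor Y).obj ((Over.forget U).op ⋙ P)).homologyπ 0)).1 inferInstance) z
  rw [rep_π]
  refine (congrArg (rep Y Q) (ConcreteCategory.congr_hom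
    (HomologicalComplex.homologyπ_naturality ((CechEdge.cxFunctor Y).map α) 0) w)).trans ?_
  refine (rep_π Y Q _).trans ?_
  exact ConcreteCategory.congr_hom
    (HomologicalComplex.cyclesMap_i ((CechEdge.cxFunctor Y).map α) 0) w

theorem rep_toCech (s : P.obj (op U)) :
    rep Y P (CechEdge.toCech Y P s) = (CechEdge.toCech₀ P Y).hom s :=
  (rep_π Y P _).trans (ConcreteCategory.congr_hom (CechEdge.toCycles_i P Y) s)

theorem ev_toCech₀ (s : P.obj (op U)) {V : C} {g : V ⟶ U} (τ : Fin 1 → T Y g) :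
    ev Y P τ ((CechEdge.toCech₀ P Y).hom s) = (P.map g.op).hom s := by
  have h : CechEdge.toCech₀ P Y ≫ Pi.π (val Y P 0) (idx τ) = P.map (∏ᶜ (Y ∘ idx τ)).hom.op :=
    Pi.lift_π _ _
  rw [ev_apply]
  refine (congrArg (P.map (liftT τ).left.op).hom (ConcreteCategory.congr_hom h s)).trans ?_
  refine (ConcreteCategory.congr_hom
    (P.map_comp (∏ᶜ (Y ∘ idx τ)).hom.op (liftT τ).left.op) s).symm.trans ?_
  exact congrArg (fun m : V ⟶ U => (P.map m.op).hom s) (Over.w (liftT τ))

theorem ev_rep_toCech (s : P.obj (op U)) {V : C} {g : V ⟶ U} (τ : Fin 1 → T Y g) :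
    ev Y P τ (rep Y P (CechEdge.toCech Y P s)) = (P.map g.op).hom s := by
  rw [rep_toCech, ev_toCech₀]

theorem toCech_eq_iff (s : P.obj (op U)) (z : CohCx.cechH P Y 0) :
    CechEdge.toCech Y P s = z ↔
      ∀ (V : C) (g : V ⟶ U) (τ : Fin 1 → T Y g), (P.map g.op).hom s = ev Y P τ (rep Y P z) := by
  refine ⟨fun h V g τ => by rw [← h, ev_rep_toCech], fun h => rep_injective Y P ?_⟩
  exact hom_ext Y P fun V g τ => (ev_rep_toCech Y P s τ).trans (h V g τ)

/-- A `0`-cocycle takes equal values at any two maps over the same `g`. -/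
theorem ev_eq_of_d_eq_zero {x : C' Y P 0} (hx : (d Y P 0).hom x = 0) {V : C} {g : V ⟶ U}
    (t t' : T Y g) : ev Y P (fun _ : Fin 1 => t) x = ev Y P (fun _ : Fin 1 => t') x := by
  have h := congrArg (ev Y P ![t, t']) hx
  rw [ev_d, map_zero, Fin.sum_univ_two, Fin.val_zero, pow_zero, one_smul, Fin.val_one, pow_one,
    neg_smul, one_smul, ← sub_eq_add_neg, sub_eq_zero] at h
  have e0 : (![t, t'] : Fin 2 → T Y g) ∘ (0 : Fin 2).succAbove = fun _ => t' := by
    funext k; fin_cases k; rfl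
  have e1 : (![t, t'] : Fin 2 → T Y g) ∘ (1 : Fin 2).succAbove = fun _ => t := by
    funext k; fin_cases k; rfl
  rw [e0, e1] at h
  exact h.symm

theorem d_eq_zero_of_ev_eq {x : C' Y P 0}
    (h : ∀ (V : C) (g : V ⟶ U) (τ τ' : Fin 1 → T Y g), ev Y P τ x = ev Y P τ' x) :
    (d Y P 0).hom x = 0 := by
  refine hom_ext Y P fun V g τ => ?_
  rw [ev_d, map_zero, Fin.sum_univ_two, Fin.val_zero, pow_zero, one_smul, Fin.val_one, pow_one,
    neg_smul, one_smul, h V g _ (τ ∘ (1 : Fin 2).succAbove), add_neg_cancel]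

/-- For a sheaf and a covering, sections are degree zero Čech cohomology. -/
theorem bijective_toCech_of_isSheaf {J : GrothendieckTopology C} (hP : Presheaf.IsSheaf J P)
    (hY : Sieve.ofArrows (fun i => (Y i).left) (fun i => (Y i).hom) ∈ J U) :
    Function.Bijective (CechEdge.toCech Y P) := by
  have hP' : Presieve.IsSheaf J (P ⋙ CategoryTheory.forget AddCommGrpCat.{u}) :=
    (CategoryTheory.isSheaf_iff_isSheaf_of_type _ _).1
      ((Presheaf.isSheaf_iff_isSheaf_forget J P (CategoryTheory.forget AddCommGrpCat.{u})).1 hP)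
  constructor
  · intro s t hst
    refine (hP'.isSeparated _ hY).ext fun V g hg => ?_
    obtain ⟨i, a, ha⟩ := (Sieve.mem_ofArrows_iff _ _ _).1 hg
    have h := congrArg (fun z => ev Y P (fun _ : Fin 1 => (⟨⟨i, a⟩, ha.symm⟩ : T Y g)) (rep Y P z)) hst
    simp only [ev_rep_toCech] at h
    exact h
  · intro z
    choose i a ha using fun (V : C) (g : V ⟶ U)
      (hg : Sieve.ofArrows (fun i => (Y i).left) (fun i => (Y i).hom) g) =>
        (Sieve.mem_ofArrows_iff _ _ _).1 hg
    let x : Presieve.FamilyOfElements (P ⋙ CategoryTheory.forget AddCommGrpCat.{u})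
        (Sieve.ofArrows (fun i => (Y i).left) (fun i => (Y i).hom)).arrows :=
      fun V g hg => ev Y P (fun _ : Fin 1 => (⟨⟨i V g hg, a V g hg⟩, (ha V g hg).symm⟩ : T Y g))
        (rep Y P z)
    have hx : x.Compatible := by
      rw [Presieve.compatible_iff_sieveCompatible]
      intro V W g b hg
      refine (ev_eq_of_d_eq_zero Y P (d_rep Y P z) _
        (⟨⟨i V g hg, b ≫ a V g hg⟩, (Category.assoc _ _ _).trans
          (congrArg (b ≫ ·) (ha V g hg).symm)⟩ : T Y (b ≫ g))).trans ?_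
      exact ev_natural Y P b rfl
        (fun _ : Fin 1 => (⟨⟨i V g hg, a V g hg⟩, (ha V g hg).symm⟩ : T Y g)) (rep Y P z)
    obtain ⟨s, hs, -⟩ := hP' _ hY x hx
    refine ⟨s, (toCech_eq_iff Y P s z).2 fun V g τ => ?_⟩
    have hg : Sieve.ofArrows (fun i => (Y i).left) (fun i => (Y i).hom) g :=
      (Sieve.mem_ofArrows_iff _ _ _).2 ⟨(τ 0).1.1, (τ 0).1.2, (τ 0).2.symm⟩
    refine (hs g hg).trans ((ev_eq_of_d_eq_zero Y P (d_rep Y P z) _ (τ 0)).trans ?_)
    exact ev_congr Y P (fun k => by rw [Fin.fin_one_eq_zero k]) _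

/-- If sections are degree zero Čech cohomology for all coverings, we have a sheaf. -/
theorem isSheaf_of_bijective_toCech (J : GrothendieckTopology C)
    (h : ∀ (U : C) (ι : Type u) (Y : ι → Over U),
      Sieve.ofArrows (fun i => (Y i).left) (fun i => (Y i).hom) ∈ J U →
        Function.Bijective (CechEdge.toCech Y P)) : Presheaf.IsSheaf J P := by
  rw [Presheaf.isSheaf_iff_isSheaf_forget J P (CategoryTheory.forget AddCommGrpCat.{u}),
    CategoryTheory.isSheaf_iff_isSheaf_of_type]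
  intro U S hS x hx
  let Y : (Σ V : C, {f : V ⟶ U // S f}) → Over U := fun i => Over.mk i.2.1
  have hY : Sieve.ofArrows (fun i => (Y i).left) (fun i => (Y i).hom) = S := by
    ext V g
    refine ⟨fun hg => ?_, fun hg => ?_⟩
    · obtain ⟨i, a, rfl⟩ := (Sieve.mem_ofArrows_iff _ _ _).1 hg
      exact S.downward_closed i.2.2 a
    · exact (Sieve.mem_ofArrows_iff _ _ _).2 ⟨⟨V, g, hg⟩, 𝟙 V, (Category.id_comp g).symm⟩
  have hmem : ∀ {V : C} {g : V ⟶ U} (τ : Fin 1 → T Y g), S g := fun τ => by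
    rw [← (τ 0).2]
    exact S.downward_closed (τ 0).1.1.2.2 _
  obtain ⟨c, hc⟩ := exists_ev_eq Y P (n := 0) (fun V g τ => x g (hmem τ))
    (fun V W g b τ => ((Presieve.compatible_iff_sieveCompatible x).1 hx g b (hmem τ)))
  have hd : (d Y P 0).hom c = 0 := d_eq_zero_of_ev_eq Y P fun V g τ τ' => by rw [hc, hc]
  obtain ⟨s, hs⟩ := (h U _ Y (hY.symm ▸ hS)).2 (cls Y P c hd)
  have key : ∀ t : P.obj (op U),
      (∀ (V : C) (g : V ⟶ U) (hg : S g), (P.map g.op).hom t = x g hg) ↔
        CechEdge.toCech Y P t = cls Y P c hd := by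
    intro t
    rw [toCech_eq_iff, rep_cls]
    refine ⟨fun ht V g τ => by rw [hc, ht V g (hmem τ)], fun ht V g hg => ?_⟩
    rw [ht V g (fun _ => ⟨⟨⟨V, g, hg⟩, 𝟙 V⟩, Category.id_comp g⟩), hc]
  exact ⟨s, (key s).2 hs, fun t ht => (h U _ Y (hY.symm ▸ hS)).1 (((key t).1 ht).trans hs.symm)⟩

end Groth.Agent.H15Site.CechSite
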