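import Groth.Agent.H15Site.RDSeq
import Groth.Agent.H18Cech.InjectiveVanish

/-!
# Čech cohomology of presheaves as right derived functors
-/

set_option autoImplicit false
set_option linter.style.haveILetI false
set_option linter.unusedSectionVars false
set_option backward.isDefEq.respectTransparency false
set_option backward.isDefEq.respectTransparency.types false

universe v₁ v₂ u₁ u₂ w v u

open CategoryTheory CategoryTheory.Limits Opposite

namespace Groth.Agent.H15Site.CechDerived

section General

variable {A : Type u₁} [Category.{v₁} A] [Abelian A] [HasInjectiveResolutions A]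
  {B : Type u₂} [Category.{v₂} B] [Abelian B]

/-- An exact functor has no higher derived functors. -/
theorem isZero_rightDerived_of_exact (H : A ⥤ B) [H.Additive] [H.PreservesHomology] (X : A) (n : ℕ) :
    IsZero ((H.rightDerived (n + 1)).obj X) := by
  refine IsZero.of_iso ?_ ((injectiveResolution X).isoRightDerivedObj H (n + 1))
  refine (HomologicalComplex.exactAt_iff_isZero_homology _ _).1 ?_
  exact ((injectiveResolution X).cocomplex_exactAt_succ n).map H

variable (K : A ⥤ CochainComplex B ℕ) [K.Additive] [PreservesFiniteLimits K] [PreservesFiniteColimits K]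

instance preservesFiniteLimits_cycles (k : ℕ) :
    PreservesFiniteLimits (K ⋙ HomologicalComplex.cyclesFunctor B (ComplexShape.up ℕ) k) := by
  haveI : (HomologicalComplex.cyclesFunctor B (ComplexShape.up ℕ) k).Additive :=
    ⟨fun {M N f g} => by
      show HomologicalComplex.cyclesMap (f + g) k = _
      rw [← cancel_mono (N.iCycles k)]
      simp⟩
  rw [Functor.preservesFiniteLimits_iff_forall_exact_map_and_mono]
  intro S hS
  have hK : (S.map K).ShortExact := hS.map_of_exact K
  haveI := hK.mono_f
  exact ⟨HomologicalComplex.cycles_left_exact (S.map K) hK.exact k,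
    inferInstanceAs (Mono (HomologicalComplex.cyclesMap (S.map K).f k))⟩

/-- The terms. -/
noncomputable abbrev E' (k : ℕ) : A ⥤ B := K ⋙ HomologicalComplex.eval B (ComplexShape.up ℕ) k

/-- The cycles. -/
noncomputable abbrev Z' (k : ℕ) : A ⥤ B := K ⋙ HomologicalComplex.cyclesFunctor B (ComplexShape.up ℕ) k

instance additive_cycles (k : ℕ) : (Z' K k).Additive :=
  Functor.additive_of_preserves_binary_products _

/-- The inclusion of cycles. -/
noncomputable def ia (k : ℕ) : Z' K k ⟶ E' K k where
  app X := (K.obj X).iCycles k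
  naturality _ _ f := HomologicalComplex.cyclesMap_i (K.map f) k

/-- The differential. -/
noncomputable def ib (k : ℕ) : E' K k ⟶ Z' K (k + 1) where
  app X := (K.obj X).toCycles k (k + 1)
  naturality X Y f := by
    show (K.map f).f k ≫ _ = _ ≫ HomologicalComplex.cyclesMap (K.map f) (k + 1)
    rw [← cancel_mono ((K.obj Y).iCycles (k + 1))]
    simp

theorem ia_ib (k : ℕ) : ia K k ≫ ib K k = 0 := by
  ext X
  show (K.obj X).iCycles k ≫ (K.obj X).toCycles k (k + 1) = 0
  rw [← cancel_mono ((K.obj X).iCycles (k + 1))]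
  simp

variable (hK : ∀ (I : A) [Injective I] (k : ℕ), IsZero ((K.obj I).homology (k + 1)))

include hK in
theorem shortExact_ia_ib (k : ℕ) (I : A) [Injective I] :
    (ShortComplex.mk ((ia K k).app I) ((ib K k).app I)
      (by rw [← NatTrans.comp_app, ia_ib]; rfl)).ShortExact := by
  haveI : Mono ((ia K k).app I) := inferInstanceAs (Mono ((K.obj I).iCycles k))
  haveI : Epi ((ib K k).app I) := by
    show Epi ((K.obj I).toCycles k (k + 1))
    exact (ShortComplex.exact_of_g_is_cokernel
      (ShortComplex.mk ((K.obj I).toCycles k (k + 1)) ((K.obj I).homologyπ (k + 1))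
        (HomologicalComplex.toCycles_comp_homologyπ _ _ _))
      ((K.obj I).homologyIsCokernel k (k + 1) (by simp))).epi_f ((hK I k).eq_of_tgt _ _)
  refine { exact := ?_, mono_f := inferInstance, epi_g := inferInstance }
  have he : (ShortComplex.mk ((K.obj I).iCycles k) ((K.obj I).d k (k + 1)) (HomologicalComplex.iCycles_d _ _ _)).Exact :=
    ShortComplex.exact_of_f_is_kernel _ ((K.obj I).cyclesIsKernel k (k + 1) (by simp))
  let φ : ShortComplex.mk ((ia K k).app I) ((ib K k).app I) (by rw [← NatTrans.comp_app, ia_ib]; rfl) ⟶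
      ShortComplex.mk ((K.obj I).iCycles k) ((K.obj I).d k (k + 1)) (HomologicalComplex.iCycles_d _ _ _) :=
    { τ₁ := 𝟙 _
      τ₂ := 𝟙 _
      τ₃ := (K.obj I).iCycles (k + 1)
      comm₁₂ := (Category.id_comp _).trans (Category.comp_id _).symm
      comm₂₃ := (Category.id_comp _).trans (HomologicalComplex.toCycles_i _ _ _).symm }
  haveI : Epi φ.τ₁ := inferInstanceAs (Epi (𝟙 _))
  haveI : IsIso φ.τ₂ := inferInstanceAs (IsIso (𝟙 _))
  haveI : Mono φ.τ₃ := inferInstanceAs (Mono ((K.obj I).iCycles (k + 1)))
  exact (ShortComplex.exact_iff_of_epi_of_isIso_of_mono φ).2 he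

include hK in
/-- The cohomology functors of an exact family of complexes are derived. -/
theorem nonempty_iso (hE : ∀ k, (E' K k).PreservesHomology) (n : ℕ) :
    Nonempty (K ⋙ HomologicalComplex.homologyFunctor B (ComplexShape.up ℕ) (n + 1) ≅
      (Z' K 0).rightDerived (n + 1)) := by
  haveI := hE
  have hz : ∀ (k m : ℕ) (X : A), IsZero (((E' K k).rightDerived (m + 1)).obj X) :=
    fun k m X => isZero_rightDerived_of_exact _ X m
  obtain ⟨e₁⟩ := RDSeq.nonempty_cokernelIso (ia K n) (ib K n) (ia_ib K n)
    (fun I _ => shortExact_ia_ib K hK n I) (fun X => hz n 0 X)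
  let π : Z' K (n + 1) ⟶ K ⋙ HomologicalComplex.homologyFunctor B (ComplexShape.up ℕ) (n + 1) :=
    Functor.whiskerLeft K (HomologicalComplex.natTransHomologyπ B (ComplexShape.up ℕ) (n + 1))
  have hπ : ib K n ≫ π = 0 := by
    ext X
    exact HomologicalComplex.toCycles_comp_homologyπ _ _ _
  let θ := cokernel.desc (ib K n) π hπ
  haveI : ∀ X, IsIso (θ.app X) := fun X => by
    let cX : IsColimit (CokernelCofork.ofπ ((cokernel.π (ib K n)).app X)
        (by rw [← NatTrans.comp_app, cokernel.condition]; rfl) : CokernelCofork ((ib K n).app X)) :=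
      isColimitOfHasCokernelOfPreservesColimit ((evaluation A B).obj X) (ib K n)
    have e : θ.app X = (IsColimit.coconePointUniqueUpToIso cX
        ((K.obj X).homologyIsCokernel n (n + 1) (by simp))).hom := by
      refine Cofork.IsColimit.hom_ext cX ?_
      refine Eq.trans ?_ (IsColimit.comp_coconePointUniqueUpToIso_hom cX ((K.obj X).homologyIsCokernel n (n + 1) (by simp)) WalkingParallelPair.one).symm
      exact congr_app (cokernel.π_desc (ib K n) π hπ) X
    rw [e]
    infer_instance
  haveI : IsIso θ := NatIso.isIso_of_isIso_app _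
  have key : ∀ m j : ℕ, m + j = n →
      Nonempty ((Z' K m).rightDerived (j + 1) ≅ (Z' K n).rightDerived 1) := by
    intro m j
    induction j generalizing m with
    | zero => rintro rfl; exact ⟨Iso.refl _⟩
    | succ j ih =>
      intro h
      obtain ⟨e⟩ := ih (m + 1) (by omega)
      exact ⟨(RDSeq.δIsoNat (ia K m) (ib K m) (ia_ib K m) (fun I _ => shortExact_ia_ib K hK m I) (j + 1)
        (fun X => hz m j X) (fun X => hz m (j + 1) X)).symm ≪≫ e⟩
  obtain ⟨e⟩ := key 0 n (by omega)
  exact ⟨(asIso θ).symm ≪≫ e₁.symm ≪≫ e.symm⟩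

theorem nonempty_zero_iso : Nonempty (Z' K 0 ≅
    K ⋙ HomologicalComplex.homologyFunctor B (ComplexShape.up ℕ) 0) :=
  ⟨NatIso.ofComponents (fun X => CochainComplex.isoHomologyπ₀ (K.obj X))
    (fun f => (HomologicalComplex.homologyπ_naturality (K.map f) 0).symm)⟩

end General

section Cech

variable {C : Type u} [Category.{v} C] [LocallySmall.{w} C] {U : C} [HasFiniteProducts (Over U)]
  {ι : Type w} (Y : ι → Over U)

/-- The complex functor. -/
noncomputable abbrev KC : (Cᵒᵖ ⥤ AddCommGrpCat.{w}) ⥤ CochainComplex AddCommGrpCat.{w} ℕ :=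
  (Functor.whiskeringLeft (Over U)ᵒᵖ Cᵒᵖ AddCommGrpCat.{w}).obj (Over.forget U).op ⋙ cechComplexFunctor Y

/-- The degree `n` term as a product. -/
noncomputable def evalIso (n : ℕ) : E' (KC Y) n ≅
    (Functor.whiskeringLeft (Discrete (Fin (n + 1) → ι)) Cᵒᵖ AddCommGrpCat.{w}).obj
      (Discrete.functor fun a => op (∏ᶜ (Y ∘ a)).left) ⋙ lim :=
  NatIso.ofComponents (fun P => HasLimit.isoOfNatIso (Discrete.natIso fun _ => Iso.refl _))
    fun {P Q} f => limit.hom_ext fun a => by
      simp [cechComplexFunctor]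
      exact limMap_π _ _

theorem preservesFiniteLimits_E (n : ℕ) : PreservesFiniteLimits (E' (KC Y) n) :=
  preservesFiniteLimits_of_natIso (evalIso Y n).symm

theorem preservesEpi_E (n : ℕ) : (E' (KC Y) n).PreservesEpimorphisms := ⟨fun {P Q} f hf => by
  rw [AddCommGrpCat.epi_iff_surjective]
  intro x
  have hs : ∀ a : Fin (n + 1) → ι, Function.Surjective (f.app (op (∏ᶜ (Y ∘ a)).left)) := fun a =>
    (AddCommGrpCat.epi_iff_surjective _).1 inferInstance
  choose y hy using fun a => hs a ((Pi.π (H18Cech.val Y Q n) a).hom x)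
  refine ⟨(Concrete.productEquiv (H18Cech.val Y P n)).symm y, ?_⟩
  apply (Concrete.productEquiv (H18Cech.val Y Q n)).injective
  funext a
  rw [Concrete.productEquiv_apply_apply, Concrete.productEquiv_apply_apply]
  refine Eq.trans ?_ (hy a)
  refine Eq.trans (b := (f.app (op (∏ᶜ (Y ∘ a)).left)).hom
    ((Pi.π (H18Cech.val Y P n) a).hom ((Concrete.productEquiv (H18Cech.val Y P n)).symm y))) ?_
    (congrArg _ (Concrete.productEquiv_symm_apply_π (H18Cech.val Y P n) y a))
  exact ConcreteCategory.congr_hom (Pi.map_π (fun a => f.app (op (∏ᶜ (Y ∘ a)).left)) a) _⟩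

instance additive_KC : (KC Y).Additive :=
  haveI := fun n => preservesFiniteLimits_E Y n
  haveI : ∀ n, (E' (KC Y) n).Additive := fun n => Functor.additive_of_preserves_binary_products _
  ⟨fun {P Q f g} => HomologicalComplex.hom_ext _ _ fun n => (E' (KC Y) n).map_add⟩

theorem preservesHomology_E (n : ℕ) : (E' (KC Y) n).PreservesHomology := by
  haveI := preservesFiniteLimits_E Y n
  haveI := preservesEpi_E Y n
  haveI : (E' (KC Y) n).Additive := Functor.additive_of_preserves_binary_products _
  exact Functor.preservesHomology_of_preservesEpis_and_kernels _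

instance preservesFiniteLimits_KC : PreservesFiniteLimits (KC Y) :=
  haveI := fun n => preservesFiniteLimits_E Y n
  ⟨fun J _ _ => ⟨fun {D} => ⟨fun {c} hc =>
    ⟨HomologicalComplex.isLimitOfEval _ _ fun n => isLimitOfPreserves (E' (KC Y) n) hc⟩⟩⟩⟩

instance preservesFiniteColimits_KC : PreservesFiniteColimits (KC Y) :=
  haveI : ∀ n, PreservesFiniteColimits (E' (KC Y) n) := fun n =>
    haveI := preservesFiniteLimits_E Y n
    haveI : (E' (KC Y) n).Additive := Functor.additive_of_preserves_binary_products _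
    (show PreservesFiniteLimits (E' (KC Y) n) ∧ PreservesFiniteColimits (E' (KC Y) n) from
      ((Functor.exact_tfae (E' (KC Y) n)).out 2 3).1 (preservesHomology_E Y n)).2
  ⟨fun J _ _ => ⟨fun {D} => ⟨fun {c} hc =>
    ⟨HomologicalComplex.isColimitOfEval _ _ fun n => isColimitOfPreserves (E' (KC Y) n) hc⟩⟩⟩⟩

theorem nonempty_cechH_iso [(EtCech.cechHFunctor (C := C) Y 0).Additive]
    [HasInjectiveResolutions (Cᵒᵖ ⥤ AddCommGrpCat.{w})] (p : ℕ) :
    Nonempty (EtCech.cechHFunctor (C := C) Y p ≅ (EtCech.cechHFunctor (C := C) Y 0).rightDerived p) := by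
  have hE : ∀ n, (E' (KC Y) n).PreservesHomology := preservesHomology_E Y
  obtain ⟨e₀⟩ := nonempty_zero_iso (KC Y)
  let e₀' : Z' (KC Y) 0 ≅ EtCech.cechHFunctor (C := C) Y 0 := e₀ ≪≫ Functor.associator _ _ _
  cases p with
  | zero =>
    haveI : PreservesFiniteLimits (EtCech.cechHFunctor (C := C) Y 0) := preservesFiniteLimits_of_natIso e₀'
    exact ⟨(EtCech.cechHFunctor (C := C) Y 0).rightDerivedZeroIsoSelf.symm⟩
  | succ m =>
    obtain ⟨e⟩ := nonempty_iso (KC Y) (fun I _ k => H18Cech.isZero_cechH_of_injective Y I k) hE m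
    exact ⟨(Functor.associator _ _ _).symm ≪≫ e ≪≫
      { hom := NatTrans.rightDerived e₀'.hom (m + 1)
        inv := NatTrans.rightDerived e₀'.inv (m + 1)
        hom_inv_id := by rw [← NatTrans.rightDerived_comp, e₀'.hom_inv_id, NatTrans.rightDerived_id]
        inv_hom_id := by rw [← NatTrans.rightDerived_comp, e₀'.inv_hom_id, NatTrans.rightDerived_id] }⟩

end Cech

end Groth.Agent.H15Site.CechDerived
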