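import Mathlib.CategoryTheory.Sites.SheafCohomology.Cech
import Mathlib.CategoryTheory.Sites.Sieves
import Mathlib.CategoryTheory.Sites.IsSheafFor
import Mathlib.CategoryTheory.Sites.SheafOfTypes
import Mathlib.CategoryTheory.Limits.Shapes.ConcreteCategory
import Mathlib.CategoryTheory.Comma.Over.Basic
import Mathlib.Algebra.Category.Grp.Limits
import Mathlib.Algebra.Category.Grp.Colimits
import Mathlib.Algebra.Category.Grp.Abelian

/-!
# Čech complex of a disjoint covering family and of its union
-/

set_option autoImplicit false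
set_option linter.style.haveILetI false
set_option linter.unusedSectionVars false
set_option backward.isDefEq.respectTransparency false
set_option backward.isDefEq.respectTransparency.types false

universe w v u

open CategoryTheory CategoryTheory.Limits Opposite
open scoped Simplicial

namespace Groth.Agent.H15Site.CechDisjoint

variable {C : Type u} [Category.{v} C] {J : GrothendieckTopology C}
  (P : Cᵒᵖ ⥤ AddCommGrpCat.{w})
  {U : C} [HasFiniteProducts (Over U)] {ι : Type w} (Uf : ι → Over U) {V : Over U}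
  (incl : ∀ i, Uf i ⟶ V)

/-- The presheaf on the slice. -/
abbrev PU : (Over U)ᵒᵖ ⥤ AddCommGrpCat.{w} := (Over.forget U).op ⋙ P

variable {α : Type} [Finite α]

/-- A piece of a power of `V`. -/
noncomputable abbrev pieceMap (x : α → ι) : (∏ᶜ fun a => Uf (x a)) ⟶ ∏ᶜ fun _ : α => V :=
  Limits.Pi.map fun a => incl (x a)

variable (hsh : Presieve.IsSheaf J (P ⋙ forget AddCommGrpCat.{w}))
  (hmono : ∀ (i : ι) {T : C} (f g : T ⟶ (Uf i).left), f ≫ (incl i).left = g ≫ (incl i).left → f = g)
  (hcov : Sieve.ofArrows (fun i => (Uf i).left) (fun i => (incl i).left) ∈ J V.left)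
  (hdisj : ∀ (i j : ι), i ≠ j → ∀ {T : C} (f : T ⟶ (Uf i).left) (g : T ⟶ (Uf j).left),
    f ≫ (incl i).left = g ≫ (incl j).left → (⊥ : Sieve T) ∈ J T)

include hcov in
theorem pieces_cover :
    Sieve.ofArrows (fun x : α → ι => (∏ᶜ fun a => Uf (x a)).left) (fun x => (pieceMap Uf incl x).left) ∈
      J (∏ᶜ fun _ : α => V).left := by
  classical
  haveI := Fintype.ofFinite α
  let S : α → Sieve (∏ᶜ fun _ : α => V).left := fun a =>
    (Sieve.ofArrows (fun i => (Uf i).left) (fun i => (incl i).left)).pullback (Limits.Pi.π (fun _ : α => V) a).left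
  have hS : Finset.univ.inf S ∈ J _ :=
    Finset.inf_induction (J.top_mem _) (fun a ha b hb => J.intersection_covering ha hb)
      fun a _ => J.pullback_stable _ hcov
  refine J.superset_covering ?_ hS
  intro T g hg
  have hga : ∀ a, ∃ (i : ι) (h : T ⟶ (Uf i).left), g ≫ (Limits.Pi.π (fun _ : α => V) a).left = h ≫ (incl i).left :=
    fun a => (Sieve.mem_ofArrows_iff _ _ _).1 ((Finset.inf_le (Finset.mem_univ a) : Finset.univ.inf S ≤ S a) g hg)
  choose x h hh using hga
  let T' : Over U := Over.mk (g ≫ (∏ᶜ fun _ : α => V).hom)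
  let h' : ∀ a, T' ⟶ Uf (x a) := fun a => Over.homMk (h a) (by
    show h a ≫ (Uf (x a)).hom = g ≫ _
    rw [← Over.w (incl (x a)), ← Category.assoc, ← hh a, Category.assoc, Over.w])
  have e : Limits.Pi.lift h' ≫ pieceMap Uf incl x = (Over.homMk g : T' ⟶ _) := Limits.Pi.hom_ext _ _ fun a => by
    rw [Category.assoc, Limits.Pi.map_π, Limits.Pi.lift_π_assoc]
    ext
    exact (hh a).symm
  exact (Sieve.mem_ofArrows_iff _ _ _).2 ⟨x, (Limits.Pi.lift h').left, (congrArg CommaMorphism.left e).symm⟩

include hsh hmono hdisj hcov in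
theorem bijective_pieces :
    Function.Bijective fun (s : ToType ((PU P (U := U)).obj (op (∏ᶜ fun _ : α => V)))) (x : α → ι) =>
      ((PU P (U := U)).map (pieceMap Uf incl x).op).hom s := by
  have hS := pieces_cover (J := J) Uf incl (α := α) hcov
  have hs := hsh _ hS
  constructor
  · intro s t h
    refine hs.isSeparatedFor.ext fun T g hg => ?_
    obtain ⟨x, k, rfl⟩ := (Sieve.mem_ofArrows_iff _ _ _).1 hg
    show (P.map (k ≫ (pieceMap Uf incl x).left).op).hom s = (P.map (k ≫ (pieceMap Uf incl x).left).op).hom t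
    rw [op_comp, P.map_comp]
    exact congrArg (P.map k.op).hom (congrFun h x)
  · intro t
    -- two factorisations restrict equally
    have key : ∀ {T : C} (x y : α → ι) (k : T ⟶ (∏ᶜ fun a => Uf (x a)).left) (l : T ⟶ (∏ᶜ fun a => Uf (y a)).left),
        k ≫ (pieceMap Uf incl x).left = l ≫ (pieceMap Uf incl y).left →
          (P.map k.op).hom (t x) = (P.map l.op).hom (t y) := by
      intro T x y k l h
      have ha : ∀ a, (k ≫ (Limits.Pi.π (fun a => Uf (x a)) a).left) ≫ (incl (x a)).left =
          (l ≫ (Limits.Pi.π (fun a => Uf (y a)) a).left) ≫ (incl (y a)).left := fun a => by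
        have e := congrArg (· ≫ (Limits.Pi.π (fun _ : α => V) a).left) h
        simp only [Category.assoc, ← Over.comp_left, Limits.Pi.map_π] at e
        simpa only [Category.assoc, Over.comp_left] using e
      by_cases hxy : x = y
      · subst hxy
        let T' : Over U := Over.mk (k ≫ (∏ᶜ fun a => Uf (x a)).hom)
        have hl : l ≫ (∏ᶜ fun a => Uf (x a)).hom = k ≫ (∏ᶜ fun a => Uf (x a)).hom := by
          rw [← Over.w (pieceMap Uf incl x), ← Category.assoc, ← Category.assoc, h]
        have e : (Over.homMk k : T' ⟶ ∏ᶜ fun a => Uf (x a)) = Over.homMk l hl := Limits.Pi.hom_ext _ _ fun a => by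
          ext
          exact hmono (x a) _ _ (ha a)
        obtain rfl : k = l := congrArg CommaMorphism.left e
        rfl
      · obtain ⟨a, hne⟩ := Function.ne_iff.1 hxy
        exact (hsh _ (hdisj _ _ hne _ _ (ha a))).isSeparatedFor.ext fun _ _ hf => absurd hf (by simp)
    let fam : Presieve.FamilyOfElements (P ⋙ forget AddCommGrpCat.{w})
        (Sieve.ofArrows (fun x : α → ι => (∏ᶜ fun a => Uf (x a)).left) (fun x => (pieceMap Uf incl x).left)).arrows :=
      fun T g hg => (P.map (((Sieve.mem_ofArrows_iff _ _ _).1 hg).choose_spec.choose).op).hom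
        (t ((Sieve.mem_ofArrows_iff _ _ _).1 hg).choose)
    have hfam : fam.Compatible := by
      intro T₁ T₂ Z g₁ g₂ f₁ f₂ h₁ h₂ fac
      have e₁ := ((Sieve.mem_ofArrows_iff _ _ _).1 h₁).choose_spec.choose_spec
      have e₂ := ((Sieve.mem_ofArrows_iff _ _ _).1 h₂).choose_spec.choose_spec
      show (P.map g₁.op).hom ((P.map _).hom _) = (P.map g₂.op).hom ((P.map _).hom _)
      rw [← ConcreteCategory.comp_apply, ← ConcreteCategory.comp_apply, ← P.map_comp, ← P.map_comp, ← op_comp, ← op_comp]
      refine key _ _ _ _ ?_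
      rw [Category.assoc, Category.assoc, ← e₁, ← e₂, fac]
    refine ⟨hs.amalgamate fam hfam, funext fun x => ?_⟩
    have hx : (Sieve.ofArrows (fun x : α → ι => (∏ᶜ fun a => Uf (x a)).left)
        (fun x => (pieceMap Uf incl x).left)).arrows (pieceMap Uf incl x).left :=
      (Sieve.mem_ofArrows_iff _ _ _).2 ⟨x, 𝟙 _, (Category.id_comp _).symm⟩
    refine (hs.valid_glue hfam _ hx).trans ?_
    refine (key _ x _ (𝟙 _) ?_).trans ?_
    · rw [Category.id_comp]
      exact ((Sieve.mem_ofArrows_iff _ _ _).1 hx).choose_spec.choose_spec.symm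
    · rw [op_id, P.map_id]
      rfl

/-- The map of formal coproducts. -/
noncomputable def toV : (FormalCoproduct.mk ι Uf) ⟶ FormalCoproduct.mk PUnit.{w + 1} fun _ => V :=
  { f := fun _ => PUnit.unit, φ := incl }

/-- The cosimplicial comparison map. -/
noncomputable def cosimp :
    (FormalCoproduct.cosimplicialObjectFunctor (FormalCoproduct.mk PUnit.{w + 1} fun _ => V).cech).obj (PU P (U := U)) ⟶
      (FormalCoproduct.cosimplicialObjectFunctor (FormalCoproduct.mk ι Uf).cech).obj (PU P (U := U)) :=
  Functor.whiskerRight (NatTrans.rightOp (FormalCoproduct.cechFunctor.map (toV Uf incl)))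
    ((FormalCoproduct.evalOp (Over U) AddCommGrpCat.{w}).obj (PU P (U := U)))

include hsh hmono hdisj hcov in
theorem isIso_cosimp : IsIso (cosimp P Uf incl) := by
  haveI : ∀ n, IsIso ((cosimp P Uf incl).app n) := fun n => by
    rw [ConcreteCategory.isIso_iff_bijective]
    let α := ToType n
    let e₁ := Concrete.productEquiv fun _ : α → PUnit.{w + 1} => (PU P (U := U)).obj (op (∏ᶜ fun _ : α => V))
    let e₂ := Concrete.productEquiv fun x : α → ι => (PU P (U := U)).obj (op (∏ᶜ fun a => Uf (x a)))
    let c : ToType ((PU P (U := U)).obj (op (∏ᶜ fun _ : α => V))) ≃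
        ∀ _ : α → PUnit.{w + 1}, ToType ((PU P (U := U)).obj (op (∏ᶜ fun _ : α => V))) :=
      (Equiv.funUnique _ _).symm
    have hb := (e₂.symm.bijective.comp (bijective_pieces (α := α) P Uf incl hsh hmono hcov hdisj)).comp
      (c.symm.bijective.comp e₁.bijective)
    suffices he : ∀ z, ((cosimp P Uf incl).app n).hom z = e₂.symm (fun x =>
        ((PU P (U := U)).map (pieceMap Uf incl x).op).hom (c.symm (e₁ z))) by
      refine ⟨fun a b h => hb.1 ((he a).symm.trans (h.trans (he b))), fun y => ?_⟩
      obtain ⟨a, ha⟩ := hb.2 y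
      exact ⟨a, (he a).trans ha⟩
    intro z
    apply e₂.injective
    funext x
    show e₂ (((cosimp P Uf incl).app n).hom z) x = e₂ (e₂.symm _) x
    rw [e₂.apply_symm_apply]
    refine (Concrete.productEquiv_apply_apply _ _ x).trans ?_
    show ((((cosimp P Uf incl).app n) ≫ Limits.Pi.π _ x) z) = _
    rw [show (cosimp P Uf incl).app n ≫ Limits.Pi.π _ x =
        Limits.Pi.π (fun _ : α → PUnit.{w + 1} => (PU P (U := U)).obj (op (∏ᶜ fun _ : α => V))) (fun _ => PUnit.unit) ≫
          (PU P (U := U)).map (pieceMap Uf incl x).op from Limits.Pi.lift_π _ x]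
    exact congrArg ((PU P (U := U)).map (pieceMap Uf incl x).op).hom (Concrete.productEquiv_apply_apply
      (fun _ : α → PUnit.{w + 1} => (PU P (U := U)).obj (op (∏ᶜ fun _ : α => V))) z (fun _ => PUnit.unit)).symm
  exact NatIso.isIso_of_isIso_app _

include hsh hmono hdisj hcov in
/-- The two Čech complexes are isomorphic. -/
theorem nonempty_iso :
    Nonempty ((cechComplexFunctor Uf).obj (PU P (U := U)) ≅
      (cechComplexFunctor (fun _ : PUnit.{w + 1} => V)).obj (PU P (U := U))) :=
  haveI := isIso_cosimp P Uf incl hsh hmono hcov hdisj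
  ⟨(AlgebraicTopology.alternatingCofaceMapComplex AddCommGrpCat.{w}).mapIso (asIso (cosimp P Uf incl)).symm⟩

end Groth.Agent.H15Site.CechDisjoint
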