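import Groth.Agent.H15Site.HyperSite
import Mathlib.CategoryTheory.Limits.FormalCoproducts.Cech
import Mathlib.CategoryTheory.Sites.Over

/-!
# The Čech nerve of a covering family is locally fillable
-/

set_option autoImplicit false
set_option linter.style.haveILetI false
set_option linter.unusedSectionVars false
set_option backward.isDefEq.respectTransparency false

universe u

open CategoryTheory CategoryTheory.Limits Opposite SimplexCategory
open scoped Simplicial

namespace Groth.Agent.H15Site.CechFill

open HyperFill HyperSite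

variable {D : Type u} [SmallCategory D] [HasFiniteProducts D] (U : FormalCoproduct.{u} D)

/-- The components of a simplex of the Čech nerve. -/
noncomputable def tup {n : ℕ} {V : D} (x : sx (XK U.cech) n V) :
    Fin (n + 1) → ((FormalCoproduct.incl D).obj V ⟶ U) :=
  fun a => (show (FormalCoproduct.incl D).obj V ⟶ U.power (Fin (n + 1)) from x) ≫ U.powerπ a

lemma tup_injective {n : ℕ} {V : D} :
    Function.Injective (tup U : sx (XK U.cech) n V → _) := fun x y h =>
  Fan.IsLimit.hom_ext (U.isLimitPowerFan (Fin (n + 1)))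
    (show (FormalCoproduct.incl D).obj V ⟶ U.power (Fin (n + 1)) from x)
    (show (FormalCoproduct.incl D).obj V ⟶ U.power (Fin (n + 1)) from y) (fun a => congrFun h a)

lemma tup_surjective {n : ℕ} {V : D} (t : Fin (n + 1) → ((FormalCoproduct.incl D).obj V ⟶ U)) :
    ∃ x : sx (XK U.cech) n V, tup U x = t :=
  ⟨Fan.IsLimit.lift (U.isLimitPowerFan (Fin (n + 1))) t, funext fun a =>
    Fan.IsLimit.fac (U.isLimitPowerFan (Fin (n + 1))) t a⟩

lemma tup_dd {n : ℕ} {V : D} (i : Fin (n + 2)) (x : sx (XK U.cech) (n + 1) V) :
    tup U (dd i x) = fun a => tup U x (i.succAbove a) :=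
  funext fun a => (Category.assoc (show (FormalCoproduct.incl D).obj V ⟶ U.power (Fin (n + 1 + 1))
    from x) (U.mapPower i.succAbove) (U.powerπ a)).trans
      (congrArg (_ ≫ ·) (U.mapPower_π i.succAbove a))

lemma tup_rs {n : ℕ} {V W : D} (v : W ⟶ V) (x : sx (XK U.cech) n V) :
    tup U (rs v x) = fun a => (FormalCoproduct.incl D).map v ≫ tup U x a :=
  funext fun a => Category.assoc ((FormalCoproduct.incl D).map v)
    (show (FormalCoproduct.incl D).obj V ⟶ U.power (Fin (n + 1)) from x) (U.powerπ a)

/-- A locally inhabited Čech nerve is locally fillable. -/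
theorem locFill {J : GrothendieckTopology D}
    (h : ∀ V : D, ∃ R ∈ J V, ∀ ⦃W : D⦄ (v : W ⟶ V), R v →
      Nonempty ((FormalCoproduct.incl D).obj W ⟶ U)) :
    LocFill J (XK U.cech) where
  nonempty V := by
    obtain ⟨R, hR, hR'⟩ := h V
    refine ⟨R, hR, fun W v hv => ?_⟩
    obtain ⟨t⟩ := hR' v hv
    exact ⟨(tup_surjective U fun _ => t).choose⟩
  zero V x₀ x₁ := by
    refine ⟨⊤, J.top_mem V, fun W v _ => ?_⟩
    obtain ⟨y, hy⟩ := tup_surjective (n := 1) U ![tup U (rs v x₁) 0, tup U (rs v x₀) 0]
    refine ⟨y, tup_injective U (funext fun a => ?_), tup_injective U (funext fun a => ?_)⟩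
    · obtain rfl : a = 0 := Fin.fin_one_eq_zero a
      rw [tup_dd, hy]
      rfl
    · obtain rfl : a = 0 := Fin.fin_one_eq_zero a
      rw [tup_dd, hy]
      rfl
  succ p V x hx := by
    refine ⟨⊤, J.top_mem V, fun W v _ => ?_⟩
    let X : Fin (p + 3) → Fin (p + 2) → ((FormalCoproduct.incl D).obj W ⟶ U) :=
      fun i => tup U (rs v (x i))
    have hX : ∀ (i j : Fin (p + 2)), i ≤ j → ∀ a : Fin (p + 1),
        X j.succ (i.succAbove a) = X i.castSucc (j.succAbove a) := by
      intro i j hij a
      have := congrArg (fun z => tup U (rs v z) a) (hx i j hij)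
      simp only [← dd_rs, tup_dd] at this
      exact this
    obtain ⟨y, hy⟩ := tup_surjective (n := p + 1 + 1) U
      (Fin.lastCases (X 0 (Fin.last (p + 1))) (fun a => X (Fin.last (p + 2)) a))
    refine ⟨y, fun i => tup_injective U (funext fun a => ?_)⟩
    rw [tup_dd, hy]
    show Fin.lastCases _ _ (i.succAbove a) = X i a
    induction i using Fin.lastCases with
    | last => rw [Fin.succAbove_last, Fin.lastCases_castSucc]
    | cast i =>
      induction a using Fin.lastCases with
      | last =>
        rw [Fin.succAbove_castSucc_of_le i _ (Fin.le_last i), Fin.succ_last, Fin.lastCases_last]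
        rcases Fin.eq_zero_or_eq_succ i with rfl | ⟨k, rfl⟩
        · rfl
        · have := hX 0 k.castSucc (Fin.zero_le _) (Fin.last p)
          rw [Fin.succAbove_zero, Fin.succ_last, Fin.castSucc_zero',
            Fin.succAbove_castSucc_of_le k _ (Fin.le_last k), Fin.succ_last] at this
          rw [← Fin.succ_castSucc]
          exact this.symm
      | cast a =>
        have := hX i (Fin.last (p + 1)) (Fin.le_last i) a
        rw [Fin.succ_last, Fin.succAbove_last] at this
        rw [← this]
        have hs : i.castSucc.succAbove a.castSucc = (i.succAbove a).castSucc :=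
          Fin.castSucc_succAbove_castSucc
        rw [hs, Fin.lastCases_castSucc]

/-- The Čech nerve of a covering family, on the localized site. -/
theorem locFill_of_cover {C : Type u} [SmallCategory C] [HasPullbacks C] (J : GrothendieckTopology C)
    {X : C} {ι : Type u} (Y : ι → Over X) [HasFiniteProducts (Over X)]
    (hY : Sieve.ofArrows (fun i => (Y i).left) (fun i => (Y i).hom) ∈ J X) :
    LocFill (J.over X) (XK (FormalCoproduct.mk ι Y).cech) := by
  refine locFill _ fun V => ⟨(Sieve.overEquiv V).symm
    ((Sieve.ofArrows (fun i => (Y i).left) (fun i => (Y i).hom)).pullback V.hom),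
    GrothendieckTopology.overEquiv_symm_mem_over _ _ _ (J.pullback_stable _ hY), fun W v hv => ?_⟩
  rw [Sieve.overEquiv_symm_iff, Sieve.pullback_apply, Over.w v] at hv
  obtain ⟨Z, a, b, ⟨i⟩, hab⟩ := hv
  exact ⟨FormalCoproduct.Hom.fromIncl i (Over.homMk a hab)⟩

end Groth.Agent.H15Site.CechFill
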