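import Groth.Agent.H15Site.AugQuasiIso
import Groth.Agent.H15Site.SiteInst
import Mathlib.CategoryTheory.Sites.PreservesSheafification
import Mathlib.CategoryTheory.Sites.LocallyBijective
import Mathlib.CategoryTheory.Sites.EpiMono
import Mathlib.CategoryTheory.Sites.Limits
import Mathlib.CategoryTheory.Subfunctor.Image
import Mathlib.AlgebraicTopology.CechNerve
import Mathlib.Algebra.Category.Grp.Adjunctions
import Mathlib.CategoryTheory.Limits.ConcreteCategory.Basic
import Mathlib.CategoryTheory.Sites.Abelian
import Mathlib.CategoryTheory.Sites.Adjunction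

/-!
# The free Čech nerve of an epimorphism of sheaves of sets is a resolution
-/

set_option autoImplicit false
set_option linter.style.haveILetI false
set_option linter.unusedSectionVars false
set_option backward.isDefEq.respectTransparency false

universe u

open CategoryTheory CategoryTheory.Limits Opposite AlgebraicTopology
open scoped Simplicial

namespace Groth.Agent.H15Site.CechFree

attribute [local instance 10000] SiteInst.hasSheafifySite SiteInst.hasWeakSheafifySite

variable {C : Type u} [SmallCategory C] {J : GrothendieckTopology C}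
  {K' K : Sheaf J (Type u)} (f : K' ⟶ K)

/-- The presheaf image. -/
abbrev img : Cᵒᵖ ⥤ Type u := (Subfunctor.range f.hom).toFunctor

/-- Its inclusion. -/
abbrev imgι : img f ⟶ K.obj := (Subfunctor.range f.hom).ι

/-- Projections of the Čech nerve. -/
noncomputable abbrev pr (n : SimplexCategoryᵒᵖ) (i : Fin (n.unop.len + 1)) :
    (Arrow.mk f).cechNerve.obj n ⟶ K' :=
  WidePullback.π (fun _ : Fin (n.unop.len + 1) => f) i

/-- The Čech nerve augmented to the presheaf image. -/
noncomputable def imgNerve : SimplicialObject.Augmented (Cᵒᵖ ⥤ Type u) where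
  left := (Arrow.mk f).cechNerve ⋙ sheafToPresheaf J (Type u)
  right := img f
  hom :=
    { app := fun n => (pr f n 0).hom ≫ Subfunctor.toRange f.hom
      naturality := fun n m g => by
        haveI : Mono (imgι f) := inferInstance
        rw [← cancel_mono (imgι f)]
        have h : ∀ (k : SimplexCategoryᵒᵖ) (i : Fin (k.unop.len + 1)), (pr f k i).hom ≫ f.hom =
            (WidePullback.base (fun _ : Fin (k.unop.len + 1) => f)).hom := fun k i =>
          congrArg (fun t => t.hom) (WidePullback.π_arrow (fun _ : Fin (k.unop.len + 1) => f) i)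
        refine (congrArg (fun t => ((Arrow.mk f).cechNerve.map g).hom ≫ t) (h m 0)).trans ?_
        refine Eq.trans ?_ (h n 0).symm
        exact congrArg (fun t => t.hom)
          ((Arrow.mk f).augmentedCechNerve.hom.naturality g |>.trans (Category.comp_id _)) }

/-- The inclusion of the image, as a map of augmented nerves. -/
noncomputable def imgNerveι :
    imgNerve f ⟶ ((SimplicialObject.Augmented.whiskering _ _).obj (sheafToPresheaf J (Type u))).obj
      (Arrow.mk f).augmentedCechNerve where
  left := 𝟙 ((Arrow.mk f).cechNerve ⋙ sheafToPresheaf J (Type u))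
  right := imgι f
  w := by
    refine NatTrans.ext (funext fun n => ?_)
    have h : (pr f n 0).hom ≫ f.hom =
        (WidePullback.base (fun _ : Fin (n.unop.len + 1) => f)).hom :=
      congrArg (fun t => t.hom) (WidePullback.π_arrow (fun _ : Fin (n.unop.len + 1) => f) 0)
    show 𝟙 _ ≫ (WidePullback.base (fun _ : Fin (n.unop.len + 1) => f)).hom ≫ _ =
      ((pr f n 0).hom ≫ Subfunctor.toRange f.hom) ≫ imgι f
    rw [Category.assoc, Subfunctor.toRange_ι, h]
    simp
    exact Category.comp_id _

section Pointwise

variable (c : Cᵒᵖ)

/-- The surjection onto the image at `c`. -/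
abbrev toImg : K'.obj.obj c ⟶ (img f).obj c := (Subfunctor.toRange f.hom).app c

theorem toImg_surjective : Function.Surjective (toImg f c) := by
  rintro ⟨y, x, rfl⟩
  exact ⟨x, rfl⟩

/-- The nerve at `c` maps to the nerve of the surjection. -/
noncomputable def toNerveApp (n : SimplexCategoryᵒᵖ) :
    ((Arrow.mk f).cechNerve.obj n).obj.obj c ⟶ (Arrow.mk (toImg f c)).cechNerve.obj n :=
  WidePullback.lift (((imgNerve f).hom.app n).app c) (fun i => (pr f n i).hom.app c) fun i => by
    haveI : Mono ((imgι f).app c) := inferInstance
    rw [← cancel_mono ((imgι f).app c)]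
    have h : ∀ j, (pr f n j).hom.app c ≫ f.hom.app c =
        (WidePullback.base (fun _ : Fin (n.unop.len + 1) => f)).hom.app c := fun j =>
      congrArg (fun t => t.hom.app c) (WidePullback.π_arrow (fun _ : Fin (n.unop.len + 1) => f) j)
    exact (h i).trans (h 0).symm

lemma toNerveApp_π (n : SimplexCategoryᵒᵖ) (i : Fin (n.unop.len + 1)) :
    toNerveApp f c n ≫ WidePullback.π (fun _ : Fin (n.unop.len + 1) => toImg f c) i =
      (pr f n i).hom.app c :=
  WidePullback.lift_π _ _ _ _ _

lemma toNerveApp_base (n : SimplexCategoryᵒᵖ) :
    toNerveApp f c n ≫ WidePullback.base (fun _ : Fin (n.unop.len + 1) => toImg f c) =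
      ((imgNerve f).hom.app n).app c :=
  WidePullback.lift_base _ _ _ _

theorem toNerveApp_bijective (n : SimplexCategoryᵒᵖ) : Function.Bijective (toNerveApp f c n) := by
  let G : Sheaf J (Type u) ⥤ Type u :=
    sheafToPresheaf J (Type u) ⋙ (evaluation Cᵒᵖ (Type u)).obj c
  let D := WidePullbackShape.wideCospan K (fun _ : Fin (n.unop.len + 1) => K') fun _ => f
  have hl := isLimitOfPreserves G (limit.isLimit D)
  constructor
  · intro x y h
    refine Concrete.isLimit_ext (D ⋙ G) hl x y ?_
    have hp : ∀ i, (pr f n i).hom.app c x = (pr f n i).hom.app c y := fun i => by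
      rw [← toNerveApp_π f c n i]
      exact congrArg (WidePullback.π (fun _ : Fin (n.unop.len + 1) => toImg f c) i) h
    rintro (_ | i)
    · have hb := fun z => ConcreteCategory.congr_hom (congrArg (fun t => t.hom.app c)
        (WidePullback.π_arrow (fun _ : Fin (n.unop.len + 1) => f) 0)) z
      exact (hb x).symm.trans ((congrArg (f.hom.app c) (hp 0)).trans (hb y))
    · exact hp i
  · intro y
    have hy : ∀ i, f.hom.app c (WidePullback.π (fun _ : Fin (n.unop.len + 1) => toImg f c) i y) =
        (imgι f).app c (WidePullback.base (fun _ : Fin (n.unop.len + 1) => toImg f c) y) := fun i =>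
      congrArg ((imgι f).app c) (ConcreteCategory.congr_hom
        (WidePullback.π_arrow (fun _ : Fin (n.unop.len + 1) => toImg f c) i) y)
    let s : Cone (D ⋙ G) := WidePullbackShape.mkCone (X := PUnit.{u + 1})
      (↾fun _ => (imgι f).app c (WidePullback.base (fun _ : Fin (n.unop.len + 1) => toImg f c) y))
      (fun i => ↾fun _ => WidePullback.π (fun _ : Fin (n.unop.len + 1) => toImg f c) i y)
      (fun i => by
        ext
        exact hy i)
    let x := hl.lift s PUnit.unit
    have hx : ∀ i, (pr f n i).hom.app c x =
        WidePullback.π (fun _ : Fin (n.unop.len + 1) => toImg f c) i y := fun i =>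
      ConcreteCategory.congr_hom (hl.fac s (some i)) PUnit.unit
    refine ⟨x, Concrete.isLimit_ext
      (WidePullbackShape.wideCospan _ _ fun _ : Fin (n.unop.len + 1) => toImg f c)
      (limit.isLimit _) _ _ ?_⟩
    rintro (_ | i)
    · refine Subtype.ext ?_
      refine Eq.trans ?_ (hy 0)
      refine (congrArg ((imgι f).app c) (ConcreteCategory.congr_hom (toNerveApp_base f c n) x)).trans ?_
      exact congrArg (f.hom.app c) (hx 0)
    · exact (ConcreteCategory.congr_hom (toNerveApp_π f c n i) x).trans (hx i)

/-- At each point the nerve is the nerve of a surjection of sets. -/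
noncomputable def nerveIso :
    ((SimplicialObject.Augmented.whiskering _ _).obj ((evaluation Cᵒᵖ (Type u)).obj c)).obj
      (imgNerve f) ≅ (Arrow.mk (toImg f c)).augmentedCechNerve :=
  Comma.isoMk (NatIso.ofComponents
    (fun n => haveI : IsIso (toNerveApp f c n) :=
      (isIso_iff_bijective _).2 (toNerveApp_bijective f c n)
      asIso (toNerveApp f c n))
    (fun {n m} g => by
      haveI : Mono ((imgι f).app c) := inferInstance
      refine WidePullback.hom_ext _ _ _ (fun i => ?_) ?_
      · rw [Category.assoc, Category.assoc]
        refine (congrArg _ (toNerveApp_π f c m i)).trans ?_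
        refine Eq.trans ?_ (congrArg _ (WidePullback.lift_π _ _ _ _ _)).symm
        refine Eq.trans ?_ (toNerveApp_π f c n _).symm
        have h2 : (Arrow.mk f).cechNerve.map g ≫ pr f m i =
            pr f n (g.unop.toOrderHom i) := WidePullback.lift_π _ _ _ _ i
        exact congrArg (fun t : (Arrow.mk f).cechNerve.obj n ⟶ K' => t.hom.app c) h2
      · rw [Category.assoc, Category.assoc]
        refine (congrArg _ (toNerveApp_base f c m)).trans ?_
        refine Eq.trans ?_ (congrArg _ (WidePullback.lift_base _ _ _ _)).symm
        refine Eq.trans ?_ (toNerveApp_base f c n).symm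
        exact congrArg (fun t => t.app c) (((imgNerve f).hom.naturality g).trans (Category.comp_id _))))
    (Iso.refl _) (by
      refine NatTrans.ext (funext fun n => ?_)
      refine (toNerveApp_base f c n).trans ?_
      simp [SimplicialObject.Augmented.whiskering, SimplicialObject.Augmented.whiskeringObj])

/-- The extra degeneracy at a point. -/
noncomputable def extraDeg :
    SimplicialObject.Augmented.ExtraDegeneracy
      (((SimplicialObject.Augmented.whiskering _ _).obj ((evaluation Cᵒᵖ (Type u)).obj c)).obj
        (imgNerve f)) :=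
  SimplicialObject.Augmented.ExtraDegeneracy.ofIso (nerveIso f c).symm
    (Arrow.AugmentedCechNerve.extraDegeneracy (Arrow.mk (toImg f c))
      { section_ := ↾Function.surjInv (toImg_surjective f c)
        id := by
          ext x
          exact Function.surjInv_eq (toImg_surjective f c) x })

end Pointwise

/-- The free abelian presheaf functor. -/
noncomputable abbrev freeP (C : Type u) [SmallCategory C] :
    (Cᵒᵖ ⥤ Type u) ⥤ (Cᵒᵖ ⥤ AddCommGrpCat.{u}) :=
  (Functor.whiskeringRight _ _ _).obj AddCommGrpCat.free.{u}

theorem quasiIso_presheaf :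
    QuasiIso (AlternatingFaceMapComplex.ε.app
      (((SimplicialObject.Augmented.whiskering _ _).obj (freeP C)).obj (imgNerve f))) :=
  AugQuasiIso.quasiIso_ε_of_extraDegeneracy _ fun c =>
    SimplicialObject.Augmented.ExtraDegeneracy.ofIso
      (Comma.isoMk (Iso.refl _) (Iso.refl _) (by
        ext n : 2
        simp [SimplicialObject.Augmented.whiskering, SimplicialObject.Augmented.whiskeringObj]))
      ((extraDeg f c).map AddCommGrpCat.free.{u})

theorem isIso_sheafify_imgι [Epi f] :
    IsIso ((presheafToSheaf J AddCommGrpCat.{u}).map ((freeP C).map (imgι f))) := by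
  have : J.PreservesSheafification AddCommGrpCat.free.{u} :=
    CategoryTheory.Sheaf.preservesSheafification_of_adjunction J AddCommGrpCat.adj
  refine (J.W_iff _).1 (J.W_of_preservesSheafification _ _ ?_)
  rw [GrothendieckTopology.W_iff_isLocallyBijective]
  refine ⟨Presheaf.isLocallyInjective_of_injective J _ fun c x y h => Subtype.ext h, ⟨fun {U} s => ?_⟩⟩
  have : Sheaf.IsLocallySurjective f := (Sheaf.isLocallySurjective_iff_epi f).2 inferInstance
  refine J.superset_covering ?_ (Presheaf.imageSieve_mem J f.hom s)
  rintro V a ⟨t, ht⟩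
  exact ⟨⟨f.hom.app _ t, t, rfl⟩, ht⟩

theorem quasiIso_sheaf [Epi f] :
    QuasiIso (AlternatingFaceMapComplex.ε.app
      (((SimplicialObject.Augmented.whiskering _ _).obj
        (Sheaf.composeAndSheafify J AddCommGrpCat.free.{u})).obj (Arrow.mk f).augmentedCechNerve)) := by
  let G := freeP C ⋙ presheafToSheaf J AddCommGrpCat.{u}
  let X := ((SimplicialObject.Augmented.whiskering _ _).obj
    (Sheaf.composeAndSheafify J AddCommGrpCat.free.{u})).obj (Arrow.mk f).augmentedCechNerve
  let Z := ((SimplicialObject.Augmented.whiskering _ _).obj G).obj (imgNerve f)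
  let m : Z ⟶ X :=
    { left := 𝟙 _
      right := G.map (imgι f)
      w := by
        refine NatTrans.ext (funext fun n => ?_)
        have h : (𝟙 _ : _ ⟶ _) ≫ (WidePullback.base (fun _ : Fin (n.unop.len + 1) => f)).hom =
            (imgNerve f).hom.app n ≫ imgι f := congr_app (imgNerveι f).w n
        have h' := congrArg (fun t => G.map t) h
        simp only [Functor.map_comp, Functor.map_id, Category.id_comp] at h'
        simp [SimplicialObject.Augmented.whiskering, SimplicialObject.Augmented.whiskeringObj,
          X, Z]
        exact h' }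
  haveI := quasiIso_presheaf f
  haveI : PreservesFiniteLimits (presheafToSheaf J AddCommGrpCat.{u}) :=
    HasSheafify.isLeftExact
  haveI : PreservesFiniteColimits (presheafToSheaf J AddCommGrpCat.{u}) :=
    have := (sheafificationAdjunction J AddCommGrpCat.{u}).leftAdjoint_preservesColimits
    PreservesColimitsOfSize.preservesFiniteColimits.{u, u} _
  haveI : QuasiIso (AlternatingFaceMapComplex.ε.app Z) :=
    AugQuasiIso.quasiIso_ε_map (presheafToSheaf J AddCommGrpCat.{u})
      (((SimplicialObject.Augmented.whiskering _ _).obj (freeP C)).obj (imgNerve f))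
  haveI : IsIso (SimplicialObject.Augmented.point.map m) := isIso_sheafify_imgι f
  haveI : IsIso (SimplicialObject.Augmented.drop.map m) := inferInstanceAs (IsIso (𝟙 _))
  have h := (AlternatingFaceMapComplex.ε (C := Sheaf J AddCommGrpCat.{u})).naturality m
  haveI : QuasiIso ((SimplicialObject.Augmented.drop ⋙ alternatingFaceMapComplex _).map m ≫
      AlternatingFaceMapComplex.ε.app X) := by
    rw [h]
    haveI : IsIso ((SimplicialObject.Augmented.point ⋙ ChainComplex.single₀ _).map m) :=
      inferInstanceAs (IsIso ((ChainComplex.single₀ _).map (SimplicialObject.Augmented.point.map m)))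
    infer_instance
  haveI : IsIso ((SimplicialObject.Augmented.drop ⋙ alternatingFaceMapComplex
      (Sheaf J AddCommGrpCat.{u})).map m) :=
    inferInstanceAs (IsIso ((alternatingFaceMapComplex _).map (SimplicialObject.Augmented.drop.map m)))
  exact quasiIso_of_comp_left ((SimplicialObject.Augmented.drop ⋙ alternatingFaceMapComplex _).map m) _

end Groth.Agent.H15Site.CechFree
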