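import Groth.Agent.H15Site.CechSite
import Groth.Agent.H15Site.SiteInst
import Groth.Prelude.Def_CechEdge
import Mathlib.Algebra.Category.Grp.EpiMono
import Mathlib.CategoryTheory.Abelian.FunctorCategory
import Mathlib.CategoryTheory.Preadditive.Injective.Basic

/-!
# Čech cohomology on a site vanishes on injective presheaves
-/

universe u

open CategoryTheory CategoryTheory.Limits Opposite

namespace Groth.Agent.H15Site.CechSite

variable {C : Type u} [SmallCategory C]

/-- The Godement presheaf `W ↦ ∏_{V ⟶ W} P(V)`. -/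
noncomputable def God (P : Cᵒᵖ ⥤ AddCommGrpCat.{u}) : Cᵒᵖ ⥤ AddCommGrpCat.{u} where
  obj W := AddCommGrpCat.of (∀ p : Σ V : C, (V ⟶ W.unop), P.obj (op p.1))
  map {W W'} b := AddCommGrpCat.ofHom
    (AddMonoidHom.mk' (fun s p => s ⟨p.1, p.2 ≫ b.unop⟩) (fun _ _ => rfl))
  map_id W := by
    ext s p
    change s ⟨p.1, p.2 ≫ 𝟙 _⟩ = s p
    rw [Category.comp_id]
  map_comp {W W' W''} b b' := by
    ext s p
    change s ⟨p.1, p.2 ≫ b'.unop ≫ b.unop⟩ = s ⟨p.1, (p.2 ≫ b'.unop) ≫ b.unop⟩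
    rw [Category.assoc]

/-- The embedding into the Godement presheaf. -/
noncomputable def toGod (P : Cᵒᵖ ⥤ AddCommGrpCat.{u}) : P ⟶ God P where
  app W := AddCommGrpCat.ofHom
    (AddMonoidHom.mk' (fun s p => (P.map p.2.op).hom s) (fun _ _ => funext fun _ => map_add _ _ _))
  naturality W W' b := by
    ext s
    funext p
    change (P.map p.2.op).hom ((P.map b).hom s) = (P.map (p.2 ≫ b.unop).op).hom s
    rw [op_comp, P.map_comp]
    rfl

instance mono_toGod (P : Cᵒᵖ ⥤ AddCommGrpCat.{u}) : Mono (toGod P) := by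
  have : ∀ W, Mono ((toGod P).app W) := fun W => by
    rw [AddCommGrpCat.mono_iff_injective]
    intro s t h
    have h' : (P.map (𝟙 W.unop).op).hom s = (P.map (𝟙 W.unop).op).hom t :=
      congrFun h ⟨W.unop, 𝟙 _⟩
    rw [op_id, P.map_id] at h'
    exact h'
  exact NatTrans.mono_of_mono_app _

/-- Functoriality of `God`. -/
noncomputable def godMap {P Q : Cᵒᵖ ⥤ AddCommGrpCat.{u}} (α : P ⟶ Q) : God P ⟶ God Q where
  app W := AddCommGrpCat.ofHom (AddMonoidHom.mk' (fun s p => (α.app (op p.1)).hom (s p))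
    (fun _ _ => funext fun _ => map_add _ _ _))
  naturality _ _ _ := rfl

theorem toGod_natural {P Q : Cᵒᵖ ⥤ AddCommGrpCat.{u}} (α : P ⟶ Q) :
    toGod P ≫ godMap α = α ≫ toGod Q := by
  ext W s
  funext p
  exact ConcreteCategory.congr_hom (α.naturality p.2.op) s

/-- Evaluation of a section of `God P` at a map. -/
noncomputable abbrev gEv {P : Cᵒᵖ ⥤ AddCommGrpCat.{u}} {W : Cᵒᵖ} (p : Σ V : C, (V ⟶ W.unop)) :
    (God P).obj W →+ P.obj (op p.1) :=
  AddMonoidHom.mk' (fun s => s p) (fun _ _ => rfl)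

variable [HasPullbacks C] {U : C} {ι : Type u} (Y : ι → Over U)

theorem ev_god_congr {P : Cᵒᵖ ⥤ AddCommGrpCat.{u}} {n : ℕ} (x : C' Y (God P) n) {V : C}
    {g g' : V ⟶ U} {τ : Fin (n + 1) → T Y g} {τ' : Fin (n + 1) → T Y g'}
    (h : ∀ k, (τ k).1 = (τ' k).1) (q : Σ V' : C, (V' ⟶ V)) :
    gEv (W := op V) q (ev Y (God P) τ x) = gEv (W := op V) q (ev Y (God P) τ' x) := by
  rw [ev_congr Y (God P) h x]

theorem isZero_cechH_god (P : Cᵒᵖ ⥤ AddCommGrpCat.{u}) (n : ℕ) :
    IsZero (CohCx.cechH (God P) Y (n + 1)) := by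
  classical
  refine isZero_cechH_succ Y (God P) fun x hx => ?_
  -- the value at `(p.1, p.2 ≫ g)` of the contracted cochain
  let ch : ∀ {V : C} (g : V ⟶ U), T Y g → T Y g := fun g t => Classical.choice (α := T Y g) ⟨t⟩
  have hch : ∀ {V : C} {g g' : V ⟶ U} (e : g = g') (t : T Y g) (t' : T Y g'),
      (ch g t).1 = (ch g' t').1 := by
    intro V g g' e t t'
    subst e
    rfl
  let f : ∀ (V : C) (g : V ⟶ U), (Fin (n + 1) → T Y g) → (God P).obj (op V) := fun V g τ p =>
    gEv (W := op p.1) ⟨p.1, 𝟙 _⟩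
      (ev Y (God P) (Fin.cons (ch (p.2 ≫ g) (pullT p.2 rfl τ 0)) (pullT p.2 rfl τ) :
        Fin (n + 2) → T Y (p.2 ≫ g)) x)
  have hf : ∀ (V W : C) (g : V ⟶ U) (b : W ⟶ V) (τ : Fin (n + 1) → T Y g),
      f W (b ≫ g) (pullT b rfl τ) = ((God P).map b.op).hom (f V g τ) := by
    intro V W g b τ
    funext p
    refine ev_god_congr Y x (fun k => ?_) ⟨p.1, 𝟙 _⟩
    cases k using Fin.cases with
    | zero =>
      simp only [Fin.cons_zero]
      exact hch (Category.assoc _ _ _).symm (pullT p.2 rfl (pullT b rfl τ) 0) (pullT (p.2 ≫ b) rfl τ 0)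
    | succ k => exact Sigma.ext rfl (heq_of_eq (Category.assoc _ _ _).symm)
  obtain ⟨y, hy⟩ := exists_ev_eq Y (God P) f hf
  refine ⟨y, hom_ext Y _ fun V g τ => ?_⟩
  funext p
  change gEv (W := op V) p (ev Y (God P) τ ((d Y (God P) n).hom y)) = gEv (W := op V) p (ev Y (God P) τ x)
  rw [ev_d, map_sum]
  let τ' : Fin (n + 2) → T Y (p.2 ≫ g) := pullT p.2 rfl τ
  let t₀ : T Y (p.2 ≫ g) := ch (p.2 ≫ g) (τ' 0)
  have h0 := congrArg (fun z => gEv (W := op p.1) ⟨p.1, 𝟙 _⟩
    (ev Y (God P) (Fin.cons t₀ τ' : Fin (n + 3) → T Y (p.2 ≫ g)) z)) hx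
  simp only [map_zero] at h0
  rw [ev_d, map_sum, Fin.sum_univ_succ, Fin.val_zero, pow_zero, one_smul,
    show (Fin.cons t₀ τ' : Fin (n + 3) → T Y (p.2 ≫ g)) ∘ (0 : Fin (n + 3)).succAbove = τ' from
      funext fun k => by simp] at h0
  have hb : gEv (W := op V) p (ev Y (God P) τ x) =
      gEv (W := op p.1) ⟨p.1, 𝟙 _⟩ (ev Y (God P) τ' x) := by
    rw [ev_natural Y (God P) p.2 rfl τ x]
    have key : ∀ m m' : p.1 ⟶ V, m = m' → gEv (W := op V) ⟨p.1, m'⟩ (ev Y (God P) τ x) =
        gEv (W := op V) ⟨p.1, m⟩ (ev Y (God P) τ x) := by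
      rintro m _ rfl
      rfl
    exact key _ _ (Category.id_comp p.2)
  rw [hb, eq_neg_of_add_eq_zero_left h0, ← Finset.sum_neg_distrib]
  refine Finset.sum_congr rfl fun j _ => ?_
  rw [map_zsmul, map_zsmul, Fin.val_succ, pow_succ, mul_neg_one, neg_smul, neg_neg]
  refine congrArg (_ • ·) ?_
  rw [hy]
  refine ev_god_congr Y x (fun k => ?_) ⟨p.1, 𝟙 _⟩
  cases k using Fin.cases with
  | zero =>
    simp only [Fin.cons_zero, Function.comp_apply, Fin.succ_succAbove_zero, t₀]
    exact hch rfl (pullT p.2 rfl (τ ∘ j.succAbove) 0) (τ' 0)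
  | succ k => exact congrArg Subtype.val (by simp [τ', pullT])

theorem shortExact_map_cxFunctor {S : ShortComplex (Cᵒᵖ ⥤ AddCommGrpCat.{u})}
    (h : ∀ (n : ℕ) (a : Fin (n + 1) → ι),
      (S.map ((evaluation Cᵒᵖ AddCommGrpCat.{u}).obj (op (∏ᶜ (Y ∘ a)).left))).ShortExact) :
    (S.map (CechEdge.cxFunctor Y)).ShortExact := by
  refine HomologicalComplex.shortExact_of_degreewise_shortExact _ fun n => ?_
  have hex : ∀ a : Fin (n + 1) → ι, _ := fun a => (ShortComplex.ab_exact_iff _).1 (h n a).exact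
  have hf : ∀ {A B : Cᵒᵖ ⥤ AddCommGrpCat.{u}} (α : A ⟶ B) (x : C' Y A n) (a : Fin (n + 1) → ι),
      (Pi.π (val Y B n) a).hom ((mapC Y A α n).hom x) =
        (α.app _).hom ((Pi.π (val Y A n) a).hom x) := by
    intro A B α x a
    exact ConcreteCategory.congr_hom (Pi.map_π (f := val Y A n) (g := val Y B n) (fun i => α.app _) a) x
  refine { exact := ?_, mono_f := ?_, epi_g := ?_ }
  · rw [ShortComplex.ab_exact_iff]
    intro (x : C' Y S.X₂ n) (hx : (mapC Y S.X₂ S.g n).hom x = 0)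
    have hx' : ∀ a, (S.g.app _).hom ((Pi.π (val Y S.X₂ n) a).hom x) = 0 := fun a => by
      rw [← hf S.g x a, hx, map_zero]
    choose y hy using fun a => hex a _ (hx' a)
    refine ⟨(Concrete.productEquiv (val Y S.X₁ n)).symm y, ?_⟩
    change (mapC Y S.X₁ S.f n).hom ((Concrete.productEquiv (val Y S.X₁ n)).symm y) = x
    apply (Concrete.productEquiv (val Y S.X₂ n)).injective
    funext a
    rw [Concrete.productEquiv_apply_apply, Concrete.productEquiv_apply_apply]
    refine (hf S.f _ a).trans (Eq.trans ?_ (hy a))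
    exact congrArg (S.f.app _).hom (Concrete.productEquiv_symm_apply_π (val Y S.X₁ n) y a)
  · refine (AddCommGrpCat.mono_iff_injective _).2 fun (x : C' Y S.X₁ n) (x' : C' Y S.X₁ n) hxx => ?_
    apply (Concrete.productEquiv (val Y S.X₁ n)).injective
    funext a
    rw [Concrete.productEquiv_apply_apply, Concrete.productEquiv_apply_apply]
    refine (AddCommGrpCat.mono_iff_injective _).1 (h n a).mono_f ?_
    exact ((hf S.f x a).symm.trans (congrArg (Pi.π (val Y S.X₂ n) a).hom hxx)).trans (hf S.f x' a)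
  · refine (AddCommGrpCat.epi_iff_surjective _).2 fun (x : C' Y S.X₃ n) => ?_
    choose y hy using fun a =>
      (AddCommGrpCat.epi_iff_surjective _).1 (h n a).epi_g ((Pi.π (val Y S.X₃ n) a).hom x)
    refine ⟨(Concrete.productEquiv (val Y S.X₂ n)).symm y, ?_⟩
    change (mapC Y S.X₂ S.g n).hom ((Concrete.productEquiv (val Y S.X₂ n)).symm y) = x
    apply (Concrete.productEquiv (val Y S.X₃ n)).injective
    funext a
    rw [Concrete.productEquiv_apply_apply, Concrete.productEquiv_apply_apply]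
    refine (hf S.g _ a).trans (Eq.trans ?_ (hy a))
    exact congrArg (S.g.app _).hom (Concrete.productEquiv_symm_apply_π (val Y S.X₂ n) y a)

theorem shortExact_map_cxFunctor_of_shortExact {S : ShortComplex (Cᵒᵖ ⥤ AddCommGrpCat.{u})}
    (hS : S.ShortExact) : (S.map (CechEdge.cxFunctor Y)).ShortExact :=
  shortExact_map_cxFunctor Y fun _ _ => hS.map_of_exact _

theorem isZero_cechH_of_retract {P Q : Cᵒᵖ ⥤ AddCommGrpCat.{u}} (i : P ⟶ Q) (r : Q ⟶ P)
    (h : i ≫ r = 𝟙 P) {n : ℕ} (hQ : IsZero (CohCx.cechH Q Y n)) : IsZero (CohCx.cechH P Y n) := by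
  rw [IsZero.iff_id_eq_zero]
  have e : HomologicalComplex.homologyMap ((CechEdge.cxFunctor Y).map i) n ≫
      HomologicalComplex.homologyMap ((CechEdge.cxFunctor Y).map r) n =
        HomologicalComplex.homologyMap (𝟙 (CechEdge.cx P Y)) n := by
    rw [← HomologicalComplex.homologyMap_comp, ← Functor.map_comp, h]
    exact congrArg (HomologicalComplex.homologyMap · n) ((CechEdge.cxFunctor Y).map_id P)
  rw [HomologicalComplex.homologyMap_id,
    hQ.eq_of_tgt (HomologicalComplex.homologyMap ((CechEdge.cxFunctor Y).map i) n) 0, zero_comp] at e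
  exact e.symm

theorem isZero_cechH_of_injective (P : Cᵒᵖ ⥤ AddCommGrpCat.{u}) [Injective P] (n : ℕ) :
    IsZero (CohCx.cechH P Y (n + 1)) :=
  isZero_cechH_of_retract Y (toGod P) (Injective.factorThru (𝟙 P) (toGod P))
    (Injective.comp_factorThru _ _) (isZero_cechH_god Y P n)

attribute [local instance 10000] SiteInst.hasSheafifySite SiteInst.hasWeakSheafifySite

omit [HasPullbacks C] in
theorem injective_obj {J : GrothendieckTopology C} (I : Sheaf J AddCommGrpCat.{u}) [Injective I] :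
    Injective I.obj :=
  Injective.injective_of_adjoint (sheafificationAdjunction J AddCommGrpCat.{u}) I

theorem isZero_cechH_of_injective_sheaf {J : GrothendieckTopology C}
    (I : Sheaf J AddCommGrpCat.{u}) [Injective I] (n : ℕ) :
    IsZero (CohCx.cechH I.obj Y (n + 1)) :=
  haveI := injective_obj I
  isZero_cechH_of_injective Y I.obj n

end Groth.Agent.H15Site.CechSite
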