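import Groth.Agent.H15Site.CechFlasque
import Groth.Agent.H10Coh.Kill
import Mathlib.Algebra.Homology.HomologySequence
import Mathlib.Algebra.Homology.HomologicalComplexAbelian

/-!
# Čech cohomology and cohomology: Cartan's criterion and Leray's theorem
-/

universe u

open CategoryTheory CategoryTheory.Limits Opposite TopologicalSpace Abelian

namespace Groth.Agent.H15Site.CechLeray

open CechTop Groth.Agent.H10Coh

attribute [local instance 10000] hasSheafifyAb hasWeakSheafifyAb hasExtAb enoughInjAb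

variable {X : TopCat.{u}} {ι : Type u} (U : ι → Opens X) {S : ShortComplex (CohTop.Ab X)}

theorem g_f_apply (S : ShortComplex (CohTop.Ab X)) (W : Opens X) (y : S.X₁.obj.obj (op W)) :
    (S.g.hom.app (op W)).hom ((S.f.hom.app (op W)).hom y) = 0 := by
  have h := congrArg (fun φ : S.X₁ ⟶ S.X₃ => (φ.hom.app (op W)).hom y) S.zero
  exact h

theorem exists_lift_app (hS : S.ShortExact) (W : Opens X) (x : S.X₂.obj.obj (op W))
    (hx : (S.g.hom.app (op W)).hom x = 0) : ∃ y, (S.f.hom.app (op W)).hom y = x := by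
  have := hS.mono_f
  have h : ((S.map (sheafToPresheaf _ _)).map ((evaluation _ _).obj (op W))).Exact :=
    ShortComplex.exact_of_f_is_kernel _ (KernelFork.mapIsLimit _ (KernelFork.mapIsLimit _ hS.fIsKernel
      (sheafToPresheaf (Opens.grothendieckTopology X) AddCommGrpCat.{u})) ((evaluation _ _).obj (op W)))
  rw [ShortComplex.ab_exact_iff] at h
  exact h x hx

/-- Lifting of sections along a covering on which `Ȟ¹` vanishes. -/
theorem exists_lift_section (hS : S.ShortExact) {V : Opens X} (hU : ∀ k, U k ≤ V) (hV : V ≤ iSup U)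
    (hH : IsZero (CohTop.cechH S.X₁.obj U 1)) (s : S.X₃.obj.obj (op V))
    (hs : ∀ k, ∃ t, (S.g.hom.app (op (U k))).hom t = res S.X₃.obj (hU k) s) :
    ∃ t, (S.g.hom.app (op V)).hom t = s := by
  have := hS.mono_f
  choose t ht using hs
  have hc : ∀ c : Fin 2 → ι, ∃ y, (S.f.hom.app (op (cap U c))).hom y =
      res S.X₂.obj (V := U (c 1)) (show cap U c ≤ U (c 1) from iInf_le (fun l => U (c l)) 1) (t (c 1)) -
        res S.X₂.obj (V := U (c 0)) (show cap U c ≤ U (c 0) from iInf_le (fun l => U (c l)) 0) (t (c 0)) := fun c =>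
    exists_lift_app hS _ _ (by
      rw [map_sub, ← res_map, ← res_map, ht, ht, res_res, res_res, sub_self])
  choose y hy using hc
  obtain ⟨z, hz⟩ := exists_proj_eq U S.X₁.obj y
  have hinj : ∀ W, Function.Injective (S.f.hom.app (op W)).hom := fun W => injective_app_of_mono S.f W
  have dz : (d U S.X₁.obj 1).hom z = 0 := by
    refine hom_ext U _ fun c => hinj _ ?_
    rw [proj_d, map_zero, map_zero, Fin.sum_univ_three, map_add, map_add, hz, hz, hz, map_zsmul,
      map_zsmul, map_zsmul, ← res_map, ← res_map, ← res_map, hy, hy, hy, map_sub, map_sub, map_sub,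
      res_res, res_res, res_res, res_res, res_res, res_res]
    change _ • (res S.X₂.obj (V := U (c 2)) (W := cap U c) (iInf_le (fun l => U (c l)) 2) (t (c 2)) - res S.X₂.obj (V := U (c 1)) (W := cap U c) (iInf_le (fun l => U (c l)) 1) (t (c 1))) +
      _ • (res S.X₂.obj (V := U (c 2)) (W := cap U c) (iInf_le (fun l => U (c l)) 2) (t (c 2)) - res S.X₂.obj (V := U (c 0)) (W := cap U c) (iInf_le (fun l => U (c l)) 0) (t (c 0))) +
      _ • (res S.X₂.obj (V := U (c 1)) (W := cap U c) (iInf_le (fun l => U (c l)) 1) (t (c 1)) - res S.X₂.obj (V := U (c 0)) (W := cap U c) (iInf_le (fun l => U (c l)) 0) (t (c 0))) = 0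
    rw [Fin.val_zero, Fin.val_one, Fin.val_two, pow_zero, pow_one, neg_one_sq, one_smul, neg_smul,
      one_smul, one_smul]
    abel
  obtain ⟨w, hw⟩ := exists_of_isZero_cechH_succ U S.X₁.obj hH z dz
  let e : ι → Fin 1 → ι := fun k _ => k
  obtain ⟨w', hwdef⟩ : ∃ w' : ∀ k, S.X₁.obj.obj (op (U k)), ∀ k, w' k =
      res S.X₁.obj (show U k ≤ cap U (e k) from le_iInf fun _ => le_rfl) ((proj U S.X₁.obj (e k)).hom w) :=
    ⟨_, fun _ => rfl⟩
  have hw' : ∀ c : Fin 2 → ι, y c = res S.X₁.obj (V := U (c 1)) (show cap U c ≤ U (c 1) from iInf_le (fun l => U (c l)) 1) (w' (c 1)) -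
      res S.X₁.obj (V := U (c 0)) (show cap U c ≤ U (c 0) from iInf_le (fun l => U (c l)) 0) (w' (c 0)) := fun c => by
    rw [← hz c, ← hw, proj_d, Fin.sum_univ_two, Fin.val_zero, pow_zero, one_smul, Fin.val_one,
      pow_one, neg_smul, one_smul, ← sub_eq_add_neg, hwdef, hwdef, res_res, res_res,
      res_proj_congr U S.X₁.obj (show c ∘ (0 : Fin 2).succAbove = e (c 1) from
        funext fun k => by fin_cases k; simp [e]) w _ (le_iInf fun _ => iInf_le (fun l => U (c l)) 1),
      res_proj_congr U S.X₁.obj (show c ∘ (1 : Fin 2).succAbove = e (c 0) from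
        funext fun k => by fin_cases k; simp [e]) w _ (le_iInf fun _ => iInf_le (fun l => U (c l)) 0)]
  let t' : ∀ k, S.X₂.obj.obj (op (U k)) := fun k => t k - (S.f.hom.app (op (U k))).hom (w' k)
  obtain ⟨T, hT, -⟩ := TopCat.Sheaf.existsUnique_gluing' (F := (S.X₂ : TopCat.Sheaf AddCommGrpCat.{u} X))
    U V (fun k => homOfLE (hU k)) hV t' (fun k l => by
      let c : Fin 2 → ι := ![k, l]
      have h₁ : U k ⊓ U l ≤ cap U c := le_iInf fun j => by fin_cases j <;> simp [c]
      have h := congrArg (res S.X₂.obj h₁) (hy c)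
      rw [hw' c, map_sub, map_sub, map_sub, ← res_map, ← res_map, res_res, res_res, res_res, res_res] at h
      change res S.X₂.obj inf_le_left (t' k) = res S.X₂.obj inf_le_right (t' l)
      rw [map_sub, map_sub]
      change res S.X₂.obj (inf_le_right : _ ≤ U l) ((S.f.hom.app (op (U l))).hom (w' l)) -
        res S.X₂.obj (inf_le_left : _ ≤ U k) ((S.f.hom.app (op (U k))).hom (w' k)) =
        res S.X₂.obj (inf_le_right : _ ≤ U l) (t l) - res S.X₂.obj (inf_le_left : _ ≤ U k) (t k) at h
      rw [sub_eq_sub_iff_add_eq_add] at h ⊢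
      rw [add_comm] at h
      exact h)
  refine ⟨T, TopCat.Sheaf.eq_of_locally_eq' (F := (S.X₃ : TopCat.Sheaf AddCommGrpCat.{u} X))
    U V (fun k => homOfLE (hU k)) hV _ _ fun k => ?_⟩
  have h : res S.X₂.obj (hU k) T = t' k := hT k
  change res S.X₃.obj (hU k) _ = res S.X₃.obj (hU k) s
  rw [res_map, h, map_sub, g_f_apply, sub_zero, ht]

/-- The sequence of Čech complexes of a short exact sequence. -/
noncomputable def cechSeq (S : ShortComplex (CohTop.Ab X)) :
    ShortComplex (CochainComplex AddCommGrpCat.{u} ℕ) :=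
  ShortComplex.mk ((cechComplexFunctor U).map S.f.hom) ((cechComplexFunctor U).map S.g.hom) (by
    refine HomologicalComplex.hom_ext _ _ fun n => ?_
    have key : ∀ x : C U S.X₁.obj n, (mapC U _ S.g.hom n).hom ((mapC U _ S.f.hom n).hom x) = 0 :=
      fun x => hom_ext U _ fun a => by rw [proj_mapC, proj_mapC, g_f_apply, map_zero]
    ext x
    exact key x)

theorem cechSeq_shortExact (hS : S.ShortExact)
    (h : ∀ (n : ℕ) (a : Fin (n + 1) → ι), Function.Surjective (S.g.hom.app (op (cap U a))).hom) :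
    (cechSeq U S).ShortExact := by
  have := hS.mono_f
  refine HomologicalComplex.shortExact_of_degreewise_shortExact _ fun n => ?_
  have hex : ∀ x : C U S.X₂.obj n, (mapC U _ S.g.hom n).hom x = 0 →
      ∃ y, (mapC U _ S.f.hom n).hom y = x := fun x hx => by
    have hc : ∀ a, (S.g.hom.app (op (cap U a))).hom ((proj U S.X₂.obj a).hom x) = 0 := fun a => by
      rw [← proj_mapC, hx, map_zero]
    choose y hy using fun a => exists_lift_app hS _ _ (hc a)
    obtain ⟨z, hz⟩ := exists_proj_eq U S.X₁.obj y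
    exact ⟨z, hom_ext U _ fun a => by rw [proj_mapC, hz, hy]⟩
  have hsurj : Function.Surjective (mapC U _ S.g.hom n).hom := fun x => by
    choose y hy using fun a => h n a ((proj U S.X₃.obj a).hom x)
    obtain ⟨z, hz⟩ := exists_proj_eq U S.X₂.obj y
    exact ⟨z, hom_ext U _ fun a => by rw [proj_mapC, hz, hy]⟩
  have hinj : Function.Injective (mapC U _ S.f.hom n).hom := fun x y hxy => hom_ext U _ fun a =>
    injective_app_of_mono S.f (cap U a) (by
      have := congrArg (fun z => (proj U S.X₂.obj a).hom z) hxy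
      simp only [proj_mapC] at this
      exact this)
  exact
    { exact := (ShortComplex.ab_exact_iff _).2 hex
      mono_f := (AddCommGrpCat.mono_iff_injective _).2 hinj
      epi_g := (AddCommGrpCat.epi_iff_surjective _).2 hsurj }

theorem isZero_cechH_of_flasque {F : CohTop.Ab X} (hF : Flasque F) (n : ℕ) :
    IsZero (CohTop.cechH F.obj U (n + 1)) :=
  CechFlasque.isZero_cechH U F (fun _ _ _ => hF _) n

theorem isZero_cechH_X₃ (hS : S.ShortExact)
    (h : ∀ (n : ℕ) (a : Fin (n + 1) → ι), Function.Surjective (S.g.hom.app (op (cap U a))).hom) {p : ℕ}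
    (h₂ : IsZero (CohTop.cechH S.X₂.obj U (p + 1))) (h₁ : IsZero (CohTop.cechH S.X₁.obj U (p + 1 + 1))) :
    IsZero (CohTop.cechH S.X₃.obj U (p + 1)) :=
  (((cechSeq_shortExact U hS h).homology_exact₃ (p + 1) (p + 1 + 1) (by simp))).isZero_X₂
    (h₂.eq_of_src _ _) (h₁.eq_of_tgt _ _)

/-- Cartan's criterion. -/
theorem subsingleton_Hn_of_cech (B : Set (Opens X))
    (Cov : ∀ (ι : Type u), (ι → Opens X) → Prop)
    (h1 : ∀ (ι : Type u) (V : ι → Opens X), Cov ι V →
      iSup V ∈ B ∧ ∀ (p : ℕ) (a : Fin (p + 1) → ι), (iInf fun k => V (a k)) ∈ B)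
    (h2 : ∀ U ∈ B, ∀ (κ : Type u) (W : κ → Opens X), iSup W = U →
      ∃ (ι : Type u) (V : ι → Opens X), Cov ι V ∧ iSup V = U ∧ ∀ i, ∃ k, V i ≤ W k)
    {F : CohTop.Ab X}
    (h3 : ∀ (ι : Type u) (V : ι → Opens X), Cov ι V → ∀ p : ℕ, IsZero (CohTop.cechH F.obj V (p + 1)))
    (W : Opens X) (hW : W ∈ B) (p : ℕ) : Subsingleton (Hn F (p + 1) W) := by
  have key : ∀ F : CohTop.Ab X, (∀ (ι : Type u) (V : ι → Opens X), Cov ι V → ∀ p : ℕ,
      IsZero (CohTop.cechH F.obj V (p + 1))) → ∀ U ∈ B,
      Function.Surjective ((injSeq F).g.hom.app (op U)).hom := by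
    intro F h3 U hU s
    have hS := injSeq_shortExact F
    have := (TopCat.Presheaf.isLocallySurjective_iff _).1
      ((TopCat.Sheaf.isLocallySurjective_iff_epi _).2 hS.epi_g) U s
    choose W hWU hW' hxW using fun x : U => this x.1 x.2
    obtain ⟨ι, V, hV, hVU, hr⟩ := h2 U hU U W (le_antisymm (iSup_le hWU)
      fun x hx => Opens.mem_iSup.2 ⟨⟨x, hx⟩, hxW ⟨x, hx⟩⟩)
    refine exists_lift_section V hS (fun k => (le_iSup V k).trans hVU.le) hVU.ge (h3 ι V hV 0) s
      fun k => ?_
    obtain ⟨x, hx⟩ := hr k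
    obtain ⟨t, ht⟩ := hW' x
    refine ⟨res (injSeq F).X₂.obj hx t, ?_⟩
    rw [← res_map]
    refine (congrArg (res (injSeq F).X₃.obj hx) ht).trans ?_
    exact res_res (injSeq F).X₃.obj (hWU x) hx s
  induction p generalizing F with
  | zero =>
    have : Subsingleton (Ext.{u} (Zsh W) (injSeq F).X₂ 1) :=
      subsingleton_of_forall_eq 0 fun x => Ext.eq_zero_of_injective x
    exact subsingleton_ext_one (injSeq_shortExact F)
      (surjective_hom_of_surjective_sections _ W (key F h3 W hW))
  | succ p ih =>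
    have : Subsingleton (Ext.{u} (Zsh W) (injSeq F).X₂ (p + 1 + 1)) :=
      subsingleton_of_forall_eq 0 fun x => Ext.eq_zero_of_injective x
    refine subsingleton_ext_X₁ (injSeq_shortExact F) (ih (F := (injSeq F).X₃) fun ι V hV q => ?_)
    exact isZero_cechH_X₃ V (injSeq_shortExact F) (fun n a => key F h3 _ ((h1 ι V hV).2 n a))
      (isZero_cechH_of_flasque V (flasque_of_injective _) q) (h3 ι V hV (q + 1))

/-! ### Degree zero -/

variable {U} (V : Opens X) (hU : ∀ k, U k ≤ V)

/-- `F(V) ⟶ Ȟ⁰(U, F)`. -/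
noncomputable def θ (F : CohTop.Ab X) : F.obj.obj (op V) ⟶ CohTop.cechH F.obj U 0 :=
  ((cechComplexFunctor U).obj F.obj).liftCycles (aug (P := F.obj) hU) 1 (by simp)
    (by ext g; exact d_aug (P := F.obj) hU g) ≫ HomologicalComplex.homologyπ _ 0

theorem θ_naturality {F G : CohTop.Ab X} (f : F ⟶ G) :
    θ V hU F ≫ HomologicalComplex.homologyMap ((cechComplexFunctor U).map f.hom) 0 =
      f.hom.app (op V) ≫ θ V hU G := by
  have h : aug (P := F.obj) hU ≫ ((cechComplexFunctor U).map f.hom).f 0 =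
      f.hom.app (op V) ≫ aug (P := G.obj) hU := by
    ext g
    refine hom_ext U _ fun a => ?_
    change (proj U G.obj a).hom ((mapC U _ f.hom 0).hom ((aug (P := F.obj) hU).hom g)) =
      (proj U G.obj a).hom ((aug (P := G.obj) hU).hom ((f.hom.app (op V)).hom g))
    rw [proj_mapC, proj_aug, proj_aug, res_map]
  rw [θ, θ, Category.assoc, HomologicalComplex.homologyπ_naturality]
  simp only [← Category.assoc]
  congr 1
  rw [← cancel_mono (HomologicalComplex.iCycles _ 0), Category.assoc, Category.assoc,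
    HomologicalComplex.cyclesMap_i]
  erw [HomologicalComplex.liftCycles_i_assoc, HomologicalComplex.liftCycles_i]
  exact h

theorem exists_aug_eq (hV : V ≤ iSup U) (F : CohTop.Ab X) {x : C U F.obj 0}
    (hx : (d U F.obj 0).hom x = 0) : ∃ g, (aug (P := F.obj) hU).hom g = x := by
  let e : ι → Fin 1 → ι := fun k _ => k
  let s : ∀ k, F.obj.obj (op (U k)) := fun k =>
    res F.obj (show U k ≤ cap U (e k) from le_iInf fun _ => le_rfl) ((proj U F.obj (e k)).hom x)
  obtain ⟨g, hg, -⟩ := TopCat.Sheaf.existsUnique_gluing' (F := (F : TopCat.Sheaf AddCommGrpCat.{u} X))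
    U V (fun k => homOfLE (hU k)) hV s (fun k l => by
      have h := res_proj_eq_of_d_eq_zero U F.obj l hx (e k)
      have h' := congrArg (res F.obj (show U k ⊓ U l ≤ cap U (Fin.cons l (e k) : Fin 2 → ι) from
        le_cap_cons U l (e k) (le_iInf fun _ => inf_le_left) inf_le_right)) h
      rw [res_res, res_res] at h'
      change res F.obj inf_le_left (s k) = res F.obj inf_le_right (s l)
      rw [res_res, res_res]
      exact h')
  refine ⟨g, hom_ext U _ fun a => ?_⟩
  have h : res F.obj (hU (a 0)) g = s (a 0) := hg (a 0)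
  rw [proj_aug, ← res_res F.obj (hU (a 0)) (iInf_le _ 0) g, h, res_res,
    res_proj_congr U F.obj (show e (a 0) = a from funext fun k => by fin_cases k; rfl) x
      (W := cap U a) _ le_rfl, res_self]

theorem isIso_θ (hV : V ≤ iSup U) (F : CohTop.Ab X) : IsIso (θ V hU F) := by
  let K := (cechComplexFunctor U).obj F.obj
  have hw : aug (P := F.obj) hU ≫ K.d 0 1 = 0 := by ext g; exact d_aug (P := F.obj) hU g
  let S₀ : ShortComplex AddCommGrpCat.{u} := ShortComplex.mk (aug (P := F.obj) hU) (K.d 0 1) hw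
  have hmono : Mono S₀.f := (AddCommGrpCat.mono_iff_injective _).2 fun g g' hgg =>
    TopCat.Sheaf.eq_of_locally_eq' (F := (F : TopCat.Sheaf AddCommGrpCat.{u} X))
      U V (fun k => homOfLE (hU k)) hV g g' fun k => by
      have h := congrArg (fun z => res F.obj (show U k ≤ cap U (fun _ : Fin 1 => k) from
        le_iInf fun _ => le_rfl) ((proj U F.obj (fun _ : Fin 1 => k)).hom z)) hgg
      change res F.obj _ ((proj U F.obj _).hom ((aug (P := F.obj) hU).hom g)) =
        res F.obj _ ((proj U F.obj _).hom ((aug (P := F.obj) hU).hom g')) at h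
      rw [proj_aug, proj_aug, res_res, res_res] at h
      exact h
  have hex : S₀.Exact := (ShortComplex.ab_exact_iff _).2 fun x hx => exists_aug_eq V hU hV F hx
  let e := hex.fIsKernel.conePointUniqueUpToIso (K.cyclesIsKernel 0 1 (by simp))
  have he : e.hom = K.liftCycles (aug (P := F.obj) hU) 1 (by simp) hw := by
    rw [← cancel_mono (K.iCycles 0)]
    erw [HomologicalComplex.liftCycles_i]
    exact hex.fIsKernel.conePointUniqueUpToIso_hom_comp (K.cyclesIsKernel 0 1 (by simp))
      WalkingParallelPair.zero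
  have : IsIso (K.homologyπ 0) :=
    K.isIso_homologyπ 0 0 (by simp) (K.shape 0 0 (by simp))
  have : IsIso (K.liftCycles (aug (P := F.obj) hU) 1 (by simp) hw) := he ▸ Iso.isIso_hom e
  exact IsIso.comp_isIso' ‹_› ‹_›

theorem exists_addEquiv_of_ker_eq {A B B' : Type u} [AddCommGroup A] [AddCommGroup B]
    [AddCommGroup B'] (α : A →+ B) (β : A →+ B') (hα : Function.Surjective α)
    (hβ : Function.Surjective β) (h : α.ker = β.ker) : Nonempty (B ≃+ B') :=
  ⟨(QuotientAddGroup.quotientKerEquivOfSurjective α hα).symm.trans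
    ((QuotientAddGroup.quotientAddEquivOfEq h).trans
      (QuotientAddGroup.quotientKerEquivOfSurjective β hβ))⟩

include hU in
/-- Leray's theorem for an acyclic covering. -/
theorem nonempty_cechH_equiv (hV : V ≤ iSup U) (p : ℕ) (F : CohTop.Ab X)
    (h : ∀ (p : ℕ) (a : Fin (p + 1) → ι) (q : ℕ), Subsingleton (Hn F (q + 1) (cap U a))) :
    Nonempty (CohTop.cechH F.obj U p ≃+ Hn F p V) := by
  induction p generalizing F with
  | zero =>
    have := isIso_θ V hU hV F
    exact ⟨((asIso (θ V hU F)).addCommGroupIsoToAddEquiv).symm.trans (H0Equiv F V).symm⟩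
  | succ p ih =>
    have hS := injSeq_shortExact F
    have hsurj : ∀ (n : ℕ) (a : Fin (n + 1) → ι),
        Function.Surjective ((injSeq F).g.hom.app (op (cap U a))).hom := fun n a =>
      surjective_sections_of_subsingleton hS _ (h n a 0)
    have hT := cechSeq_shortExact U hS hsurj
    have hIz : ∀ q, IsZero (CohTop.cechH (injSeq F).X₂.obj U (q + 1)) := fun q =>
      isZero_cechH_of_flasque U (flasque_of_injective _) q
    have hI : ∀ (W : Opens X) (q : ℕ), Subsingleton (Hn (injSeq F).X₂ (q + 1) W) := fun W q =>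
      subsingleton_of_forall_eq 0 fun x => Ext.eq_zero_of_injective x
    have hext : Function.Surjective (hS.extClass.postcomp (Zsh V) (show p + 1 = p + 1 from rfl)) :=
      fun x => by
        have := hI V p
        exact exists_extClass_lift hS x
    cases p with
    | zero =>
      have : IsIso (θ V hU (injSeq F).X₃) := isIso_θ V hU hV _
      have : IsIso (θ V hU (injSeq F).X₂) := isIso_θ V hU hV _
      have hepi : Epi (hT.δ 0 1 (by simp)) :=
        (hT.homology_exact₁ 0 1 (by simp)).epi_f_iff.2 ((hIz 0).eq_of_tgt _ _)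
      let α := θ V hU (injSeq F).X₃ ≫ hT.δ 0 1 (by simp)
      have hα : Function.Surjective α.hom := (AddCommGrpCat.epi_iff_surjective α).1
        (epi_comp' (IsIso.epi_of_iso _) hepi)
      let β : (injSeq F).X₃.obj.obj (op V) →+ Hn F 1 V :=
        (hS.extClass.postcomp (Zsh V) (show 0 + 1 = 1 from rfl)).comp
          (H0Equiv (injSeq F).X₃ V).symm.toAddMonoidHom
      refine exists_addEquiv_of_ker_eq α.hom β hα
        (hext.comp (H0Equiv (injSeq F).X₃ V).symm.surjective) (le_antisymm ?_ ?_)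
      · intro s hs
        obtain ⟨z, hz⟩ := (ShortComplex.ab_exact_iff _).1 (hT.homology_exact₃ 0 1 (by simp))
          ((θ V hU (injSeq F).X₃).hom s) hs
        obtain ⟨w, rfl⟩ := (AddCommGrpCat.epi_iff_surjective (θ V hU (injSeq F).X₂)).1
          (IsIso.epi_of_iso _) z
        have h₁ := ConcreteCategory.congr_hom (θ_naturality V hU (injSeq F).g) w
        have h₂ : s = ((injSeq F).g.hom.app (op V)).hom w :=
          (AddCommGrpCat.mono_iff_injective (θ V hU (injSeq F).X₃)).1 (IsIso.mono_of_iso _)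
            (hz.symm.trans h₁)
        obtain ⟨v, rfl⟩ := (H0Equiv (injSeq F).X₂ V).surjective w
        rw [← H0Equiv_map] at h₂
        subst h₂
        change ((H0Equiv (injSeq F).X₃ V).symm (H0Equiv (injSeq F).X₃ V _)).comp hS.extClass rfl = 0
        rw [AddEquiv.symm_apply_apply, Ext.comp_assoc_of_second_deg_zero, hS.comp_extClass,
          Ext.comp_zero]
      · intro s hs
        obtain ⟨v, hv⟩ := Ext.covariant_sequence_exact₃ (Zsh V) hS
          ((H0Equiv (injSeq F).X₃ V).symm s) rfl hs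
        have h₁ : ((injSeq F).g.hom.app (op V)).hom (H0Equiv (injSeq F).X₂ V v) = s := by
          rw [← H0Equiv_map, hv, AddEquiv.apply_symm_apply]
        have h₂ := ConcreteCategory.congr_hom (θ_naturality V hU (injSeq F).g)
          (H0Equiv (injSeq F).X₂ V v)
        change (hT.δ 0 1 _).hom ((θ V hU (injSeq F).X₃).hom s) = 0
        rw [← h₁]
        refine (congrArg (hT.δ 0 1 _).hom h₂.symm).trans ?_
        exact ConcreteCategory.congr_hom (hT.comp_δ 0 1 (by simp)) _
    | succ p =>
      obtain ⟨e⟩ := ih (injSeq F).X₃ fun n a q => by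
        refine subsingleton_of_forall_eq 0 fun x => ?_
        have := hI (cap U a) q
        exact comp_extClass_injective hS ((h n a (q + 1)).elim _ _)
      have hinj : Function.Injective (hS.extClass.postcomp (Zsh V) (show p + 1 + 1 = p + 1 + 1 from rfl)) := by
        rw [injective_iff_map_eq_zero]
        intro q hq
        have := hI V p
        exact comp_extClass_injective hS hq
      exact ⟨(hT.δIso (p + 1) (p + 1 + 1) (by simp) (hIz p) (hIz (p + 1))).addCommGroupIsoToAddEquiv.symm.trans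
        (e.trans (AddEquiv.ofBijective _ ⟨hinj, hext⟩))⟩

end Groth.Agent.H15Site.CechLeray
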