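import Groth.Agent.H15Site.CechGod
import Groth.Agent.H15Site.CartanSite
import Mathlib.CategoryTheory.Limits.Preserves.Shapes.Over
import Mathlib.CategoryTheory.Limits.Preserves.Shapes.Products
import Mathlib.CategoryTheory.Limits.Constructions.FiniteProductsOfBinaryProducts

/-!
# The direct image of an injective sheaf along a functor preserving fibre products is acyclic

The target category need not have fibre products.
-/

set_option linter.style.haveILetI false
set_option linter.unusedSectionVars false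

universe u

open CategoryTheory CategoryTheory.Limits Opposite

namespace Groth.Agent.H15Site.CechSite

attribute [local instance 10000] SiteInst.hasSheafifySite SiteInst.hasWeakSheafifySite
  SiteInst.hasExtSite SiteInst.enoughInjSite

variable {C D : Type u} [SmallCategory C] [SmallCategory D] [HasPullbacks C]
  (F : C ⥤ D) [PreservesLimitsOfShape WalkingCospan F]

theorem preservesFiniteProducts_overPost (U : C) :
    PreservesFiniteProducts (Over.post F : Over U ⥤ Over (F.obj U)) := by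
  haveI : PreservesLimitsOfShape (WidePullbackShape WalkingPair) F :=
    inferInstanceAs (PreservesLimitsOfShape WalkingCospan F)
  haveI : PreservesLimitsOfShape (Discrete WalkingPair)
      (Over.post F : Over U ⥤ Over (F.obj U)) := inferInstance
  let t : IsTerminal ((Over.post F).obj (Over.mk (𝟙 U))) :=
    Over.mkIdTerminal.ofIso (Over.isoMk (Iso.refl _) ((Category.id_comp _).trans (F.map_id U)))
  haveI : PreservesLimit (Functor.empty.{0} (Over U)) (Over.post F : Over U ⥤ Over (F.obj U)) :=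
    preservesLimit_of_preserves_limit_cone Over.mkIdTerminal
      ((isLimitMapConeEmptyConeEquiv (Over.post F) (Over.mk (𝟙 U))).symm t)
  haveI := preservesLimitsOfShape_pempty_of_preservesTerminal
    (Over.post F : Over U ⥤ Over (F.obj U))
  exact PreservesFiniteProducts.of_preserves_binary_and_terminal _

variable {U : C} {ι : Type u} (Y : ι → Over U)

/-- A map over `F U` from `g : V ⟶ F U` to the image of a member of the family. -/
abbrev T' {V : D} (g : V ⟶ F.obj U) : Type u :=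
  {p : Σ i : ι, V ⟶ F.obj (Y i).left // p.2 ≫ F.map (Y p.1).hom = g}

theorem existsUnique_liftT' {n : ℕ} (a : Fin (n + 1) → ι) {V : D} {g : V ⟶ F.obj U}
    (m : ∀ k, V ⟶ F.obj (Y (a k)).left) (hm : ∀ k, m k ≫ F.map (Y (a k)).hom = g) :
    ∃! l : V ⟶ F.obj (∏ᶜ (Y ∘ a)).left, ∀ k, l ≫ F.map (Pi.π (Y ∘ a) k).left = m k := by
  haveI := preservesFiniteProducts_overPost F U
  let hl := isLimitOfHasProductOfPreservesLimit (Over.post F) (Y ∘ a)
  let l₀ := Fan.IsLimit.lift hl fun k =>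
    (Over.homMk (m k) (hm k) : Over.mk g ⟶ (Over.post F).obj (Y (a k)))
  have h₀ : ∀ k, l₀.left ≫ F.map (Pi.π (Y ∘ a) k).left = m k := fun k =>
    congrArg (fun t : Over.mk g ⟶ (Over.post F).obj (Y (a k)) => t.left)
      (Fan.IsLimit.fac hl (fun k => (Over.homMk (m k) (hm k) :
        Over.mk g ⟶ (Over.post F).obj (Y (a k)))) k)
  refine ⟨l₀.left, h₀, fun l hl' => ?_⟩
  have hw : l ≫ F.map (∏ᶜ (Y ∘ a)).hom = g := by
    rw [← Over.w (Pi.π (Y ∘ a) 0), F.map_comp, ← Category.assoc, hl' 0]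
    exact hm 0
  have e : (Over.homMk l hw : Over.mk g ⟶ (Over.post F).obj (∏ᶜ (Y ∘ a))) = l₀ :=
    Fan.IsLimit.hom_ext hl _ _ fun k => Over.OverMorphism.ext ((hl' k).trans (h₀ k).symm)
  exact congrArg (fun t : Over.mk g ⟶ (Over.post F).obj (∏ᶜ (Y ∘ a)) => t.left) e

/-- The map given by a tuple. -/
noncomputable def liftT' {n : ℕ} {V : D} {g : V ⟶ F.obj U} (σ : Fin (n + 1) → T' F Y g) :
    V ⟶ F.obj (∏ᶜ (Y ∘ fun k => (σ k).1.1)).left :=
  (existsUnique_liftT' F Y (fun k => (σ k).1.1) (fun k => (σ k).1.2) (fun k => (σ k).2)).choose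

theorem liftT'_π {n : ℕ} {V : D} {g : V ⟶ F.obj U} (σ : Fin (n + 1) → T' F Y g) (k : Fin (n + 1)) :
    liftT' F Y σ ≫ F.map (Pi.π (Y ∘ fun k => (σ k).1.1) k).left = (σ k).1.2 :=
  (existsUnique_liftT' F Y (fun k => (σ k).1.1) (fun k => (σ k).1.2)
    (fun k => (σ k).2)).choose_spec.1 k

theorem liftT'_unique {n : ℕ} {V : D} {g : V ⟶ F.obj U} (σ : Fin (n + 1) → T' F Y g)
    (l : V ⟶ F.obj (∏ᶜ (Y ∘ fun k => (σ k).1.1)).left)
    (hl : ∀ k, l ≫ F.map (Pi.π (Y ∘ fun k => (σ k).1.1) k).left = (σ k).1.2) :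
    l = liftT' F Y σ :=
  (existsUnique_liftT' F Y (fun k => (σ k).1.1) (fun k => (σ k).1.2)
    (fun k => (σ k).2)).choose_spec.2 l hl

/-- Move a tuple along `m : V ⟶ F V₀`. -/
def moveT {n : ℕ} {V₀ : C} {g₀ : V₀ ⟶ U} (τ : Fin (n + 1) → T Y g₀) {V : D} (m : V ⟶ F.obj V₀) :
    Fin (n + 1) → T' F Y (m ≫ F.map g₀) :=
  fun k => ⟨⟨(τ k).1.1, m ≫ F.map (τ k).1.2⟩,
    by rw [Category.assoc, ← F.map_comp, (τ k).2]⟩

variable (P : Dᵒᵖ ⥤ AddCommGrpCat.{u})

/-- The value of a cochain at a tuple downstairs. -/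
noncomputable def evD {n : ℕ} {V : D} {g : V ⟶ F.obj U} (σ : Fin (n + 1) → T' F Y g)
    (x : C' Y (F.op ⋙ God P) n) : P.obj (op V) :=
  (Pi.π (val Y (F.op ⋙ God P) n) (fun k => (σ k).1.1)).hom x ⟨V, liftT' F Y σ⟩

theorem evD_congr {n : ℕ} (x : C' Y (F.op ⋙ God P) n) {V : D} {g g' : V ⟶ F.obj U}
    {σ : Fin (n + 1) → T' F Y g} {σ' : Fin (n + 1) → T' F Y g'}
    (h : ∀ k, (σ k).1 = (σ' k).1) : evD F Y P σ x = evD F Y P σ' x := by
  obtain rfl : g = g' := by
    have h' := (σ' 0).2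
    rw [← h 0, (σ 0).2] at h'
    exact h'
  obtain rfl : σ = σ' := funext fun k => Subtype.ext (h k)
  rfl

/-- Evaluation of the value of a cochain at a map. -/
noncomputable abbrev evAt {n : ℕ} {V₀ : C} {g₀ : V₀ ⟶ U} (τ : Fin (n + 1) → T Y g₀) {V : D}
    (m : V ⟶ F.obj V₀) : C' Y (F.op ⋙ God P) n →+ P.obj (op V) :=
  (gEv (P := P) (W := op (F.obj V₀)) ⟨V, m⟩).comp (ev Y (F.op ⋙ God P) τ)

theorem evAt_eq {n : ℕ} {V₀ : C} {g₀ : V₀ ⟶ U} (τ : Fin (n + 1) → T Y g₀) {V : D}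
    (m : V ⟶ F.obj V₀) (x : C' Y (F.op ⋙ God P) n) :
    evAt F Y P τ m x = evD F Y P (moveT F Y τ m) x := by
  have e : m ≫ F.map (liftT τ).left = liftT' F Y (moveT F Y τ m) := by
    refine liftT'_unique F Y (moveT F Y τ m) _ fun k => ?_
    refine (Category.assoc _ _ _).trans ((congrArg (m ≫ ·) (F.map_comp _ _).symm).trans ?_)
    exact congrArg (fun t : V₀ ⟶ _ => m ≫ F.map t)
      (congrArg (fun t : Over.mk g₀ ⟶ (Y ∘ idx τ) k => t.left) (liftT_π τ k))
  change (Pi.π (val Y (F.op ⋙ God P) n) (idx τ)).hom x ⟨V, m ≫ F.map (liftT τ).left⟩ = _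
  rw [e]
  rfl

theorem evD_d {n : ℕ} (x : C' Y (F.op ⋙ God P) n) {V : D} {g : V ⟶ F.obj U}
    (σ : Fin (n + 2) → T' F Y g) :
    evD F Y P σ ((d Y (F.op ⋙ God P) n).hom x) =
      ∑ j : Fin (n + 2), ((-1 : ℤ) ^ (j : ℕ)) • evD F Y P (σ ∘ j.succAbove) x := by
  let a : Fin (n + 2) → ι := fun k => (σ k).1.1
  have h : evD F Y P σ ((d Y (F.op ⋙ God P) n).hom x) =
      evAt F Y P (taut Y a) (liftT' F Y σ) ((d Y (F.op ⋙ God P) n).hom x) := by
    exact (congrArg (gEv (P := P) (W := op (F.obj (∏ᶜ (Y ∘ a)).left)) ⟨V, liftT' F Y σ⟩)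
      (ev_taut Y (F.op ⋙ God P) a _)).symm
  rw [h]
  refine (congrArg (fun t => gEv (P := P) (W := op (F.obj (∏ᶜ (Y ∘ a)).left)) ⟨V, liftT' F Y σ⟩ t)
    (ev_d Y (F.op ⋙ God P) x (taut Y a))).trans ?_
  refine (map_sum _ _ _).trans (Finset.sum_congr rfl fun j _ => ?_)
  refine (map_zsmul _ _ _).trans (congrArg (_ • ·) ?_)
  refine (evAt_eq F Y P (taut Y a ∘ j.succAbove) (liftT' F Y σ) x).trans ?_
  exact evD_congr F Y P x fun k =>
    Sigma.ext rfl (heq_of_eq (liftT'_π F Y σ (j.succAbove k)))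

theorem evD_ext {n : ℕ} {x y : C' Y (F.op ⋙ God P) n}
    (h : ∀ (V : D) (g : V ⟶ F.obj U) (σ : Fin (n + 1) → T' F Y g),
      evD F Y P σ x = evD F Y P σ y) : x = y := by
  refine hom_ext Y (F.op ⋙ God P) fun V₀ g₀ τ => ?_
  funext p
  exact (evAt_eq F Y P τ p.2 x).trans ((h _ _ _).trans (evAt_eq F Y P τ p.2 y).symm)

theorem exists_evD_eq {n : ℕ}
    (f : ∀ (V : D) (g : V ⟶ F.obj U), (Fin (n + 1) → T' F Y g) → P.obj (op V)) :
    ∃ x : C' Y (F.op ⋙ God P) n, ∀ (V : D) (g : V ⟶ F.obj U) (σ : Fin (n + 1) → T' F Y g),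
      evD F Y P σ x = f V g σ := by
  refine ⟨(Concrete.productEquiv (val Y (F.op ⋙ God P) n)).symm
    (fun a p => f p.1 _ (moveT F Y (taut Y a) p.2)), fun V g σ => ?_⟩
  refine (congrArg (fun t : (God P).obj (op (F.obj (∏ᶜ (Y ∘ fun k => (σ k).1.1)).left)) =>
    t ⟨V, liftT' F Y σ⟩)
    (Concrete.productEquiv_symm_apply_π (val Y (F.op ⋙ God P) n) _ (fun k => (σ k).1.1))).trans ?_
  have key : ∀ (g' : V ⟶ F.obj U) (σ' : Fin (n + 1) → T' F Y g'),
      (∀ k, (σ' k).1 = (σ k).1) → f V g' σ' = f V g σ := by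
    intro g' σ' hσ
    obtain rfl : g' = g := by
      have h' := (σ 0).2
      rw [← hσ 0, (σ' 0).2] at h'
      exact h'
    obtain rfl : σ' = σ := funext fun k => Subtype.ext (hσ k)
    rfl
  exact key _ _ fun k => Sigma.ext rfl (heq_of_eq (liftT'_π F Y σ k))

theorem isZero_cechH_push_god (n : ℕ) :
    IsZero (CohCx.cechH (F.op ⋙ God P) Y (n + 1)) := by
  classical
  refine isZero_cechH_succ Y (F.op ⋙ God P) fun x hx => ?_
  let ch : ∀ {V : D} (g : V ⟶ F.obj U), T' F Y g → T' F Y g :=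
    fun g t => Classical.choice (α := T' F Y g) ⟨t⟩
  obtain ⟨y, hy⟩ := exists_evD_eq F Y P fun V g (σ : Fin (n + 1) → T' F Y g) =>
    evD F Y P (Fin.cons (ch g (σ 0)) σ : Fin (n + 2) → T' F Y g) x
  refine ⟨y, evD_ext F Y P fun V g σ => ?_⟩
  rw [evD_d]
  have h0 : evD F Y P (Fin.cons (ch g (σ 0)) σ : Fin (n + 3) → T' F Y g)
      ((d Y (F.op ⋙ God P) (n + 1)).hom x) = 0 := by
    rw [hx]
    change (Pi.π (val Y (F.op ⋙ God P) (n + 1 + 1)) _).hom 0 _ = 0
    rw [map_zero]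
    rfl
  rw [evD_d, Fin.sum_univ_succ, Fin.val_zero, pow_zero, one_smul,
    show (Fin.cons (ch g (σ 0)) σ : Fin (n + 3) → T' F Y g) ∘ (0 : Fin (n + 3)).succAbove = σ from
      funext fun k => by simp] at h0
  rw [eq_neg_of_add_eq_zero_left h0, ← Finset.sum_neg_distrib]
  refine Finset.sum_congr rfl fun j _ => ?_
  rw [Fin.val_succ, pow_succ, mul_neg_one, neg_smul, neg_neg]
  refine congrArg (_ • ·) ?_
  rw [hy]
  refine evD_congr F Y P x fun k => ?_
  cases k using Fin.cases with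
  | zero =>
    simp only [Fin.cons_zero, Function.comp_apply, Fin.succ_succAbove_zero]
    rfl
  | succ k => simp

variable {J : GrothendieckTopology C} {K : GrothendieckTopology D} [F.IsContinuous J K]

theorem isZero_cechH_push_injective (I : Sheaf K AddCommGrpCat.{u}) [Injective I] (n : ℕ) :
    IsZero (CohCx.cechH ((CohSite.push K J F).obj I).obj Y (n + 1)) := by
  haveI hI : Injective ((sheafToPresheaf K AddCommGrpCat.{u}).obj I) :=
    Injective.injective_of_adjoint (sheafificationAdjunction K AddCommGrpCat.{u}) I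
  refine isZero_cechH_of_retract Y
    (Functor.whiskerLeft F.op (toGod ((sheafToPresheaf K AddCommGrpCat.{u}).obj I)))
    (Functor.whiskerLeft F.op (Injective.factorThru (𝟙 _)
      (toGod ((sheafToPresheaf K AddCommGrpCat.{u}).obj I)))) ?_
    (isZero_cechH_push_god F Y ((sheafToPresheaf K AddCommGrpCat.{u}).obj I) n)
  rw [← Functor.whiskerLeft_comp, Injective.comp_factorThru]
  rfl

/-- The direct image of an injective sheaf has no higher cohomology. -/
theorem subsingleton_HU_push_injective (I : Sheaf K AddCommGrpCat.{u}) [Injective I] (p : ℕ)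
    (U : C) : Subsingleton (CohSite.HU ((CohSite.push K J F).obj I) (p + 1) U) := by
  refine Edge.subsingleton_HU_of_cech Set.univ
    (fun U ι Y => Sieve.ofArrows (fun i => (Y i).left) (fun i => (Y i).hom) ∈ J U)
    (fun U ι Y h => ⟨trivial, h, fun _ _ => trivial⟩) (fun U _ T hT => ?_) p _
    (fun U ι Y _ q => isZero_cechH_push_injective F Y I q) U trivial
  refine ⟨Σ V : C, {f : V ⟶ U // T.arrows f}, fun i => Over.mk i.2.1,
    J.superset_covering (fun V f hf => ?_) hT, fun i => i.2.2⟩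
  exact Sieve.ofArrows_mk (fun i : Σ V : C, {f : V ⟶ U // T.arrows f} => i.1) (fun i => i.2.1)
    ⟨V, f, hf⟩

end Groth.Agent.H15Site.CechSite
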