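import Groth.Agent.H15Site.SplitDescent

/-!
# The Čech nerve of a map with a section is of cohomological descent
-/

set_option autoImplicit false
set_option linter.style.haveILetI false
set_option backward.isDefEq.respectTransparency false
set_option backward.isDefEq.respectTransparency.types false

universe u

open CategoryTheory CategoryTheory.Limits Opposite SimplexCategory
open Groth.Agent.H15Site.OpensFib

noncomputable section

namespace Groth.Agent.H15Site.CechSplit

/-- `[n] ↦ [0] ⋆ [n]`. -/
def shift : SimplexCategory ⥤ SimplexCategory where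
  obj n := SimplexCategory.mk (n.len + 1)
  map {n m} g := SimplexCategory.Hom.mk ⟨Fin.cases 0 (fun i => (g.toOrderHom i).succ), fun i j hij => by
    cases i using Fin.cases with
    | zero => exact Fin.zero_le _
    | succ i =>
      cases j using Fin.cases with
      | zero => exact absurd hij (by simp)
      | succ j => simpa using g.toOrderHom.monotone (Fin.succ_le_succ_iff.1 hij)⟩
  map_id n := SimplexCategory.Hom.ext _ _ (OrderHom.ext _ _ (funext fun i => by
    cases i using Fin.cases <;> rfl))
  map_comp g g' := SimplexCategory.Hom.ext _ _ (OrderHom.ext _ _ (funext fun i => by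
    cases i using Fin.cases <;> rfl))

/-- The decalage index functor. -/
def dec : WithInitial SimplexCategory ⥤ SimplexCategory :=
  WithInitial.lift (Z := SimplexCategory.mk 0) shift (fun n => SimplexCategory.const _ _ 0)
    (fun _ _ _ => SimplexCategory.Hom.ext _ _ (OrderHom.ext _ _ (funext fun _ => rfl)))

/-- The face omitting the new vertex. -/
def δ₀ : 𝟭 (WithInitial SimplexCategory) ⟶ dec ⋙ WithInitial.incl where
  app X := match X with
    | .of n => WithInitial.incl.map (SimplexCategory.δ (n := n.len) 0)
    | .star => WithInitial.starInitial.to _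
  naturality X Z f := by
    match X, Z, f with
    | .star, _, f => exact WithInitial.starInitial.hom_ext _ _
    | .of n, .of m, f =>
      refine congrArg WithInitial.incl.map (?_ : WithInitial.down f ≫ SimplexCategory.δ (n := m.len) 0 =
        SimplexCategory.δ (n := n.len) 0 ≫ shift.map (WithInitial.down f))
      refine SimplexCategory.Hom.ext _ _ (OrderHom.ext _ _ (funext fun i => ?_))
      rfl

/-- The index functor. -/
abbrev ψ : (WithInitial SimplexCategory)ᵒᵖ ⥤ SimplexCategoryᵒᵖ := dec.op

/-- The face as a transformation. -/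
def d : idx ψ ⟶ 𝟭 (K SimplexCategory) where
  app k := (δ₀.app k.unop).op
  naturality k l f := Quiver.Hom.unop_inj (δ₀.naturality f.unop).symm

variable {X S : TopCat.{u}} (f : X ⟶ S) (s : S ⟶ X) (hs : s ≫ f = 𝟙 S)

/-- `n`-fold fibre product. -/
abbrev P (n : ℕ) : TopCat.{u} := widePullback S (fun _ : Fin n => X) (fun _ => f)

/-- Reindexing. -/
def pm {n m : ℕ} (a : Fin n → Fin m) : P f m ⟶ P f n :=
  WidePullback.lift (WidePullback.base _) (fun i => WidePullback.π (fun _ : Fin m => f) (a i))
    (fun _ => WidePullback.π_arrow _ _)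

/-- Adjoining the section as first factor. -/
def ex (n : ℕ) : P f n ⟶ P f (n + 1) :=
  WidePullback.lift (WidePullback.base _)
    (Fin.cases (WidePullback.base (fun _ : Fin n => f) ≫ s) (fun i => WidePullback.π (fun _ : Fin n => f) i))
    (fun j => by
      cases j using Fin.cases with
      | zero => simp [hs]
      | succ j => simp)

theorem pm_ex {n m : ℕ} (a : Fin n → Fin m) (a' : Fin (n + 1) → Fin (m + 1)) (h0 : a' 0 = 0)
    (hsucc : ∀ i, a' i.succ = (a i).succ) : pm f a ≫ ex f s hs n = ex f s hs m ≫ pm f a' := by
  refine WidePullback.hom_ext _ _ _ (fun j => ?_) ?_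
  · cases j using Fin.cases with
    | zero => simp [pm, ex, h0]
    | succ j => simp [pm, ex, hsucc]
  · simp [pm, ex]

/-- The section into the single factor. -/
def ex₀ : S ⟶ P f 1 :=
  WidePullback.lift (objs := fun _ : Fin 1 => X) (arrows := fun _ => f) (𝟙 S) (fun _ => s) (fun _ => hs)

theorem base_ex₀ {m : ℕ} (a : Fin 1 → Fin (m + 1)) (h0 : a 0 = 0) :
    WidePullback.base (fun _ : Fin m => f) ≫ ex₀ f s hs = ex f s hs m ≫ pm f a := by
  refine WidePullback.hom_ext _ _ _ (fun j => ?_) ?_
  · obtain rfl : j = 0 := Subsingleton.elim _ _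
    simp [pm, ex, ex₀, h0]
  · simp [pm, ex, ex₀]

theorem ex₀_base : ex₀ f s hs ≫ WidePullback.base (fun _ : Fin 1 => f) = 𝟙 S :=
  WidePullback.lift_base _ _ _ _

theorem ex_pm {n : ℕ} (a : Fin n → Fin (n + 1)) (ha : ∀ i, a i = i.succ) : ex f s hs n ≫ pm f a = 𝟙 _ := by
  refine WidePullback.hom_ext _ _ _ (fun j => ?_) ?_
  · simp [pm, ex, ha]
  · simp [pm, ex]

/-- The extra degeneracy. -/
def extra : ∀ k : WithInitial SimplexCategory,
    (FibDesc.cechAug f).obj (op k) ⟶ (FibDesc.cechAug f).obj (op (WithInitial.incl.obj (dec.obj k)))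
  | .star => ex₀ f s hs
  | .of n => ex f s hs (n.len + 1)

theorem map_of {n m : SimplexCategory} (g : n ⟶ m) :
    (FibDesc.cechAug f).map (WithInitial.incl.map g).op = pm f (fun i => g.toOrderHom i) :=
  rfl

theorem map_to (n : SimplexCategory) :
    (FibDesc.cechAug f).map (WithInitial.starInitial.to (WithInitial.incl.obj n)).op =
      WidePullback.base (fun _ : Fin (n.len + 1) => f) :=
  rfl

theorem extra_nat {k l : WithInitial SimplexCategory} (g : k ⟶ l) :
    (FibDesc.cechAug f).map g.op ≫ extra f s hs k =
      extra f s hs l ≫ (FibDesc.cechAug f).map (WithInitial.incl.map (dec.map g)).op := by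
  match k, l, g with
  | .star, .star, g =>
    obtain rfl : g = 𝟙 _ := WithInitial.starInitial.hom_ext _ _
    rw [dec.map_id, WithInitial.incl.map_id]
    exact ((congrArg (· ≫ _) ((FibDesc.cechAug f).map_id (op WithInitial.star))).trans
      (Category.id_comp _)).trans ((congrArg (_ ≫ ·) ((FibDesc.cechAug f).map_id _)).trans
      (Category.comp_id _)).symm
  | .star, .of m, g =>
    obtain rfl : g = WithInitial.starInitial.to _ := WithInitial.starInitial.hom_ext _ _
    erw [map_to f m, map_of f (n := SimplexCategory.mk 0) (m := shift.obj m) (SimplexCategory.const _ _ 0)]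
    exact base_ex₀ f s hs _ rfl
  | .of n, .of m, g =>
    erw [map_of f (WithInitial.down g), map_of f (shift.map (WithInitial.down g))]
    exact pm_ex f s hs _ _ rfl (fun _ => rfl)

/-- The extra degeneracy as a transformation. -/
def h : FibDesc.cechAug f ⟶ idx ψ ⋙ FibDesc.cechAug f where
  app k := extra f s hs k.unop
  naturality k l g := extra_nat f s hs g.unop

theorem h_d (k : K SimplexCategory) :
    (h f s hs).app k ≫ (FibDesc.cechAug f).map (d.app k) = 𝟙 _ := by
  induction k with
  | op k =>
  match k with
  | .star =>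
    erw [map_to f (SimplexCategory.mk 0)]
    exact ex₀_base f s hs
  | .of n =>
    erw [map_of f (SimplexCategory.δ (n := n.len) 0)]
    exact ex_pm f s hs _ (fun i => rfl)

include hs in
/-- A map with a section is of cohomological descent. -/
theorem isCohDescentMap_of_section : FibDesc.IsCohDescentMap f :=
  SplitDescent.isCohDescentTop (FibDesc.cechAug f) d (h f s hs) (h_d f s hs)

end Groth.Agent.H15Site.CechSplit
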