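import Groth.Agent.H15Site.OpensRestrict
import Groth.Agent.H15Site.CechSplit

/-!
# Čech nerves of restrictions over open subspaces, and locality of cohomological descent on the base
-/

set_option autoImplicit false
set_option linter.style.haveILetI false
set_option linter.unusedSectionVars false
set_option backward.isDefEq.respectTransparency false
set_option backward.isDefEq.respectTransparency.types false

universe u

open CategoryTheory CategoryTheory.Limits Opposite TopologicalSpace Topology
open Groth.Agent.H15Site.OpensFib

noncomputable section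

namespace Groth.Agent.H15Site.CechRestrict

open CechSplit (P)

variable {X S T : TopCat.{u}} (f : X ⟶ S) (j : T ⟶ S)

/-- Comparison of fibre powers. -/
def cmp (n : ℕ) : P (pullback.snd f j) n ⟶ P f n :=
  WidePullback.lift (WidePullback.base _ ≫ j)
    (fun i => WidePullback.π (fun _ : Fin n => pullback.snd f j) i ≫ pullback.fst f j)
    (fun i => by rw [Category.assoc, pullback.condition, WidePullback.π_arrow_assoc])

theorem cmp_isPullback (n : ℕ) :
    IsPullback (cmp f j n) (WidePullback.base _) (WidePullback.base (fun _ : Fin n => f)) j := by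
  refine ⟨⟨WidePullback.lift_base _ _ _ _⟩, ⟨PullbackCone.IsLimit.mk _
    (fun s => WidePullback.lift s.snd
      (fun i => pullback.lift (s.fst ≫ WidePullback.π _ i) s.snd
        (by rw [Category.assoc, WidePullback.π_arrow, s.condition]))
      (fun i => pullback.lift_snd _ _ _))
    (fun s => ?_) (fun s => WidePullback.lift_base _ _ _ _) (fun s m h1 h2 => ?_)⟩⟩
  · refine WidePullback.hom_ext _ _ _ (fun i => ?_) ?_
    · simp [cmp]
    · simp [cmp, s.condition]
  · refine WidePullback.hom_ext _ _ _ (fun i => ?_) ?_
    · refine pullback.hom_ext ?_ ?_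
      · simp [← h1, cmp]
      · simp [← h2, WidePullback.π_arrow]
    · simp [h2]

theorem cmp_pm {n m : ℕ} (a : Fin n → Fin m) :
    CechSplit.pm (pullback.snd f j) a ≫ cmp f j n = cmp f j m ≫ CechSplit.pm f a := by
  refine WidePullback.hom_ext _ _ _ (fun i => ?_) ?_
  · simp [CechSplit.pm, cmp]
  · simp [CechSplit.pm, cmp]

/-- The map of Čech nerves at an index. -/
def mapApp : ∀ k : WithInitial SimplexCategory,
    (FibDesc.cechAug (pullback.snd f j)).obj (op k) ⟶ (FibDesc.cechAug f).obj (op k)
  | .star => j
  | .of n => cmp f j (n.len + 1)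

theorem mapApp_nat {k l : WithInitial SimplexCategory} (g : k ⟶ l) :
    (FibDesc.cechAug (pullback.snd f j)).map g.op ≫ mapApp f j k =
      mapApp f j l ≫ (FibDesc.cechAug f).map g.op := by
  match k, l, g with
  | .star, .star, g =>
    obtain rfl : g = 𝟙 _ := WithInitial.starInitial.hom_ext _ _
    exact ((congrArg (· ≫ _) ((FibDesc.cechAug _).map_id (op WithInitial.star))).trans (Category.id_comp _)).trans
      ((congrArg (_ ≫ ·) ((FibDesc.cechAug _).map_id (op WithInitial.star))).trans (Category.comp_id _)).symm
  | .star, .of m, g =>
    obtain rfl : g = WithInitial.starInitial.to _ := WithInitial.starInitial.hom_ext _ _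
    erw [CechSplit.map_to (pullback.snd f j) m, CechSplit.map_to f m]
    exact (WidePullback.lift_base _ _ _ _).symm
  | .of n, .of m, g =>
    erw [CechSplit.map_of (pullback.snd f j) (WithInitial.down g), CechSplit.map_of f (WithInitial.down g)]
    exact cmp_pm f j _

/-- The map of augmented Čech nerves. -/
def e : FibDesc.cechAug (pullback.snd f j) ⟶ FibDesc.cechAug f where
  app k := mapApp f j k.unop
  naturality _ _ g := mapApp_nat f j g.unop

variable (hj : IsOpenEmbedding j)

include hj in
theorem cmp_isOpenEmbedding (n : ℕ) : IsOpenEmbedding (cmp f j n) := by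
  have h := (cmp_isPullback f j n).isoPullback_hom_fst
  rw [← h]
  exact (TopCat.fst_isOpenEmbedding_of_right _ hj).comp
    (TopCat.homeoOfIso (cmp_isPullback f j n).isoPullback).isOpenEmbedding

include hj in
theorem range_cmp (n : ℕ) :
    Set.range (cmp f j n) = { y | WidePullback.base (fun _ : Fin n => f) y ∈ Set.range j } := by
  have h := (cmp_isPullback f j n).isoPullback_hom_fst
  rw [← h]
  change Set.range (pullback.fst _ j ∘ (cmp_isPullback f j n).isoPullback.hom) = _
  have hs : Function.Surjective (cmp_isPullback f j n).isoPullback.hom :=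
    (TopCat.homeoOfIso (cmp_isPullback f j n).isoPullback).surjective
  rw [hs.range_comp, TopCat.pullback_fst_range]
  ext y
  exact ⟨fun ⟨x, hx⟩ => ⟨x, hx.symm⟩, fun ⟨x, hx⟩ => ⟨x, hx.symm⟩⟩

include hj in
theorem isOpenEmbedding_e (k : K SimplexCategory) : IsOpenEmbedding ((e f j).app k) := by
  induction k with
  | op k =>
  match k with
  | .star => exact hj
  | .of n => exact cmp_isOpenEmbedding f j hj (n.len + 1)

include hj in
theorem hr_e (k : K SimplexCategory) (y : (FibDesc.cechAug f).obj k)
    (hy : (FibDesc.cechAug f).map ((botTerminal (D := SimplexCategory)).from k) y ∈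
      Set.range ((e f j).app (FibDesc.bot SimplexCategory))) : y ∈ Set.range ((e f j).app k) := by
  induction k with
  | op k =>
  match k, y, hy with
  | .star, y, hy =>
    rw [bot_ext ((botTerminal (D := SimplexCategory)).from (op WithInitial.star)) (𝟙 _),
      (FibDesc.cechAug f).map_id] at hy
    exact hy
  | .of n, y, hy =>
    rw [bot_ext ((botTerminal (D := SimplexCategory)).from (op (WithInitial.of n)))
      (WithInitial.starInitial.to (WithInitial.incl.obj n)).op] at hy
    change y ∈ Set.range (cmp f j (n.len + 1))
    rw [range_cmp f j hj]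
    exact hy

end Groth.Agent.H15Site.CechRestrict
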