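import Groth.Prelude.Def_CohCx
import Mathlib.Algebra.Homology.ShortComplex.Ab
import Mathlib.Algebra.Homology.ConcreteCategory

/-!
# Elementwise description of the Čech complex of a family of objects over `U` on a category with pullbacks

A Čech `n`-cochain is determined by its values `ev x τ : P(V)` at all `(n+1)`-tuples `τ` of maps from a
given `g : V ⟶ U` to members of the family.
-/

universe u

open CategoryTheory CategoryTheory.Limits Opposite

namespace Groth.Agent.H15Site.CechSite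

variable {C : Type u} [SmallCategory C] [HasPullbacks C] {U : C} {ι : Type u}

/-- A map over `U` from `g : V ⟶ U` to a member of the family. -/
abbrev T (Y : ι → Over U) {V : C} (g : V ⟶ U) : Type u :=
  {p : Σ i : ι, V ⟶ (Y i).left // p.2 ≫ (Y p.1).hom = g}

variable (Y : ι → Over U) (P : Cᵒᵖ ⥤ AddCommGrpCat.{u})

/-- The terms of the Čech complex, typed as products. -/
noncomputable abbrev val (n : ℕ) : (Fin (n + 1) → ι) → AddCommGrpCat.{u} :=
  fun a => P.obj (op (∏ᶜ (Y ∘ a)).left)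

/-- Degree `n` of the Čech complex. -/
noncomputable abbrev C' (n : ℕ) : AddCommGrpCat.{u} := ∏ᶜ (val Y P n)

/-- The differential. -/
noncomputable abbrev d (n : ℕ) : C' Y P n ⟶ C' Y P (n + 1) :=
  ((cechComplexFunctor Y).obj ((Over.forget U).op ⋙ P)).d n (n + 1)

/-- The indices of a tuple. -/
abbrev idx {Y : ι → Over U} {V : C} {g : V ⟶ U} {n : ℕ} (τ : Fin (n + 1) → T Y g) :
    Fin (n + 1) → ι :=
  fun k => (τ k).1.1

/-- The map to the fibre product given by a tuple. -/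
noncomputable def liftT {Y : ι → Over U} {V : C} {g : V ⟶ U} {n : ℕ} (τ : Fin (n + 1) → T Y g) :
    Over.mk g ⟶ ∏ᶜ (Y ∘ idx τ) :=
  Pi.lift fun k => Over.homMk (τ k).1.2 (τ k).2

theorem liftT_π {Y : ι → Over U} {V : C} {g : V ⟶ U} {n : ℕ} (τ : Fin (n + 1) → T Y g)
    (k : Fin (n + 1)) : liftT τ ≫ Pi.π (Y ∘ idx τ) k = Over.homMk (τ k).1.2 (τ k).2 :=
  Pi.lift_π _ _

/-- The value of a cochain at a tuple. -/
noncomputable def ev {n : ℕ} {V : C} {g : V ⟶ U} (τ : Fin (n + 1) → T Y g) :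
    C' Y P n →+ P.obj (op V) :=
  (Pi.π (val Y P n) (idx τ) ≫ P.map (liftT τ).left.op).hom

theorem ev_apply {n : ℕ} {V : C} {g : V ⟶ U} (τ : Fin (n + 1) → T Y g) (x : C' Y P n) :
    ev Y P τ x = (P.map (liftT τ).left.op).hom ((Pi.π (val Y P n) (idx τ)).hom x) := rfl

/-- The tautological tuple on a fibre product. -/
noncomputable def taut {n : ℕ} (a : Fin (n + 1) → ι) :
    Fin (n + 1) → T Y (∏ᶜ (Y ∘ a)).hom :=
  fun k => ⟨⟨a k, (Pi.π (Y ∘ a) k).left⟩, Over.w _⟩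

theorem liftT_taut {n : ℕ} (a : Fin (n + 1) → ι) : (liftT (taut Y a)).left = 𝟙 _ := by
  have h : liftT (taut Y a) = (Over.homMk (𝟙 _) (Category.id_comp _) :
      Over.mk (∏ᶜ (Y ∘ a)).hom ⟶ ∏ᶜ (Y ∘ a)) :=
    Pi.hom_ext _ _ fun k => (Pi.lift_π _ k).trans
      (Over.OverMorphism.ext (Category.id_comp (Pi.π (Y ∘ a) k).left).symm)
  exact congrArg (fun m : Over.mk (∏ᶜ (Y ∘ a)).hom ⟶ ∏ᶜ (Y ∘ a) => m.left) h

theorem ev_taut {n : ℕ} (a : Fin (n + 1) → ι) (x : C' Y P n) :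
    ev Y P (taut Y a) x = (Pi.π (val Y P n) a).hom x := by
  rw [ev_apply]
  refine (congrArg (fun m : (∏ᶜ (Y ∘ a)).left ⟶ (∏ᶜ (Y ∘ a)).left =>
    (P.map m.op).hom ((Pi.π (val Y P n) a).hom x)) (liftT_taut Y a)).trans ?_
  exact ConcreteCategory.congr_hom (P.map_id _) _

theorem hom_ext {n : ℕ} {x y : C' Y P n}
    (h : ∀ (V : C) (g : V ⟶ U) (τ : Fin (n + 1) → T Y g), ev Y P τ x = ev Y P τ y) : x = y := by
  apply (Concrete.productEquiv (val Y P n)).injective
  funext a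
  rw [Concrete.productEquiv_apply_apply, Concrete.productEquiv_apply_apply]
  exact ((ev_taut Y P a x).symm.trans (h _ _ _)).trans (ev_taut Y P a y)

/-- Pull back a tuple. -/
def pullT {Y : ι → Over U} {V W : C} {g : V ⟶ U} (b : W ⟶ V) {g' : W ⟶ U} (hg : b ≫ g = g')
    {n : ℕ} (τ : Fin (n + 1) → T Y g) : Fin (n + 1) → T Y g' :=
  fun k => ⟨⟨(τ k).1.1, b ≫ (τ k).1.2⟩, by rw [Category.assoc, (τ k).2, hg]⟩

theorem ev_natural {n : ℕ} {V W : C} {g : V ⟶ U} (b : W ⟶ V) {g' : W ⟶ U} (hg : b ≫ g = g')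
    (τ : Fin (n + 1) → T Y g) (x : C' Y P n) :
    ev Y P (pullT b hg τ) x = (P.map b.op).hom (ev Y P τ x) := by
  have h : liftT (pullT b hg τ) = (Over.homMk b hg : Over.mk g' ⟶ Over.mk g) ≫ liftT τ := by
    refine Pi.hom_ext _ _ fun k => (liftT_π _ k).trans ?_
    refine Eq.trans ?_ (Category.assoc _ _ _).symm
    refine Eq.trans ?_ (congrArg (fun m => (Over.homMk b hg : Over.mk g' ⟶ Over.mk g) ≫ m)
      (liftT_π τ k)).symm
    exact Over.OverMorphism.ext rfl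
  have h' : (liftT (pullT b hg τ)).left = b ≫ (liftT τ).left :=
    congrArg (fun m : Over.mk g' ⟶ ∏ᶜ (Y ∘ idx τ) => m.left) h
  rw [ev_apply, ev_apply]
  refine (congrArg (fun m : W ⟶ (∏ᶜ (Y ∘ idx τ)).left =>
    (P.map m.op).hom ((Pi.π (val Y P n) (idx τ)).hom x)) h').trans ?_
  exact ConcreteCategory.congr_hom (P.map_comp (liftT τ).left.op b.op) _

theorem ev_congr {n : ℕ} {V : C} {g g' : V ⟶ U} {τ : Fin (n + 1) → T Y g}
    {τ' : Fin (n + 1) → T Y g'} (h : ∀ k, (τ k).1 = (τ' k).1) (x : C' Y P n) :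
    ev Y P τ x = ev Y P τ' x := by
  obtain rfl : g = g' := by
    have h' := (τ' 0).2
    rw [← h 0, (τ 0).2] at h'
    exact h'
  obtain rfl : τ = τ' := funext fun k => Subtype.ext (h k)
  rfl

/-- Cochains are the natural families of values on tuples. -/
theorem exists_ev_eq {n : ℕ} (f : ∀ (V : C) (g : V ⟶ U), (Fin (n + 1) → T Y g) → P.obj (op V))
    (hf : ∀ (V W : C) (g : V ⟶ U) (b : W ⟶ V) (τ : Fin (n + 1) → T Y g),
      f W (b ≫ g) (pullT b rfl τ) = (P.map b.op).hom (f V g τ)) :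
    ∃ x : C' Y P n, ∀ (V : C) (g : V ⟶ U) (τ : Fin (n + 1) → T Y g), ev Y P τ x = f V g τ := by
  refine ⟨(Concrete.productEquiv (val Y P n)).symm (fun a => f _ _ (taut Y a)), fun V g τ => ?_⟩
  have h : (Pi.π (val Y P n) (idx τ)).hom ((Concrete.productEquiv (val Y P n)).symm
      (fun a => f _ _ (taut Y a))) = f _ _ (taut Y (idx τ)) :=
    Concrete.productEquiv_symm_apply_π (val Y P n) _ (idx τ)
  rw [ev_apply, h, ← hf _ V _ (liftT τ).left (taut Y (idx τ))]
  have e : ∀ (g₁ : V ⟶ U) (σ : Fin (n + 1) → T Y g₁),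
      (∀ k, (σ k).1 = (τ k).1) → f V g₁ σ = f V g τ := by
    intro g₁ σ hσ
    obtain rfl : g₁ = g := by
      have h' := (τ 0).2
      rw [← hσ 0, (σ 0).2] at h'
      exact h'
    obtain rfl : σ = τ := funext fun k => Subtype.ext (hσ k)
    rfl
  refine e _ _ fun k => ?_
  exact Sigma.ext rfl (heq_of_eq
    (congrArg (fun m : Over.mk g ⟶ (Y ∘ idx τ) k => m.left) (liftT_π τ k)))

/-- The face map of fibre products. -/
noncomputable def faceOver {n : ℕ} (j : Fin (n + 2)) (a : Fin (n + 2) → ι) :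
    ∏ᶜ (Y ∘ a) ⟶ ∏ᶜ (Y ∘ (a ∘ j.succAbove)) :=
  Pi.lift fun k => Pi.π (Y ∘ a) (j.succAbove k)

/-- The face maps of cochains. -/
noncomputable def face (n : ℕ) (j : Fin (n + 2)) : C' Y P n ⟶ C' Y P (n + 1) :=
  Pi.lift fun a : Fin (n + 2) → ι =>
    Pi.π (val Y P n) (a ∘ j.succAbove) ≫ P.map (faceOver Y j a).left.op

theorem d_eq (n : ℕ) :
    d Y P n = ∑ j : Fin (n + 2), ((-1 : ℤ) ^ (j : ℕ)) • face Y P n j := by
  let E := (FormalCoproduct.cosimplicialObjectFunctor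
    (A := AddCommGrpCat.{u}) (FormalCoproduct.mk _ Y).cech).obj ((Over.forget U).op ⋙ P)
  have h : d Y P n = AlgebraicTopology.AlternatingCofaceMapComplex.objD E n :=
    CochainComplex.of_d (fun n => E.obj (SimplexCategory.mk n))
      (AlgebraicTopology.AlternatingCofaceMapComplex.objD E) n
  rw [h]
  rfl

theorem ev_face {n : ℕ} (j : Fin (n + 2)) (x : C' Y P n) {V : C} {g : V ⟶ U}
    (τ : Fin (n + 2) → T Y g) :
    ev Y P τ ((face Y P n j).hom x) = ev Y P (τ ∘ j.succAbove) x := by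
  have h : face Y P n j ≫ Pi.π (val Y P (n + 1)) (idx τ) = _ := Pi.lift_π _ _
  rw [ev_apply, ev_apply]
  refine (congrArg (P.map (liftT τ).left.op).hom (ConcreteCategory.congr_hom h x)).trans ?_
  have e : liftT τ ≫ faceOver Y j (idx τ) = liftT (τ ∘ j.succAbove) := by
    refine Pi.hom_ext _ _ fun k => (Category.assoc _ _ _).trans ?_
    refine (congrArg (fun m => liftT τ ≫ m)
      (Pi.lift_π (fun k => Pi.π (Y ∘ idx τ) (j.succAbove k)) k)).trans ?_
    exact (liftT_π τ (j.succAbove k)).trans (liftT_π (τ ∘ j.succAbove) k).symm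
  refine Eq.trans ?_ (congrArg (fun m : Over.mk g ⟶ ∏ᶜ (Y ∘ (idx τ ∘ j.succAbove)) =>
    (P.map m.left.op).hom ((Pi.π (val Y P n) (idx τ ∘ j.succAbove)).hom x)) e)
  exact (ConcreteCategory.congr_hom
    (P.map_comp (faceOver Y j (idx τ)).left.op (liftT τ).left.op) _).symm

theorem sum_zsmul_apply {A B : AddCommGrpCat.{u}} {κ : Type*} (s : Finset κ) (c : κ → ℤ)
    (f : κ → (A ⟶ B)) (x : A) :
    (∑ k ∈ s, c k • f k).hom x = ∑ k ∈ s, c k • (f k).hom x := by
  let e : (A ⟶ B) →+ B := AddMonoidHom.mk' (fun f => f.hom x) (fun f g => rfl)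
  exact (map_sum e _ _).trans (Finset.sum_congr rfl fun k _ => map_zsmul e _ _)

theorem ev_d {n : ℕ} (x : C' Y P n) {V : C} {g : V ⟶ U} (τ : Fin (n + 2) → T Y g) :
    ev Y P τ ((d Y P n).hom x) =
      ∑ j : Fin (n + 2), ((-1 : ℤ) ^ (j : ℕ)) • ev Y P (τ ∘ j.succAbove) x := by
  rw [d_eq, sum_zsmul_apply, map_sum]
  refine Finset.sum_congr rfl fun j _ => ?_
  rw [map_zsmul, ev_face]

/-- Functoriality. -/
noncomputable abbrev mapC {P' : Cᵒᵖ ⥤ AddCommGrpCat.{u}} (α : P ⟶ P') (n : ℕ) :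
    C' Y P n ⟶ C' Y P' n :=
  ((cechComplexFunctor Y).map (Functor.whiskerLeft (Over.forget U).op α)).f n

theorem ev_mapC {P' : Cᵒᵖ ⥤ AddCommGrpCat.{u}} (α : P ⟶ P') {n : ℕ} (x : C' Y P n) {V : C}
    {g : V ⟶ U} (τ : Fin (n + 1) → T Y g) :
    ev Y P' τ ((mapC Y P α n).hom x) = (α.app (op V)).hom (ev Y P τ x) := by
  have h : Limits.Pi.map (f := val Y P n) (g := val Y P' n) (fun i => α.app _) ≫
      Pi.π (val Y P' n) (idx τ) = Pi.π (val Y P n) (idx τ) ≫ α.app _ := Pi.map_π _ _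
  rw [ev_apply, ev_apply]
  refine (congrArg (P'.map (liftT τ).left.op).hom (ConcreteCategory.congr_hom h x)).trans ?_
  exact (ConcreteCategory.congr_hom (α.naturality (liftT τ).left.op) _).symm

theorem d_mapC {P' : Cᵒᵖ ⥤ AddCommGrpCat.{u}} (α : P ⟶ P') {n : ℕ} (x : C' Y P n) :
    (d Y P' n).hom ((mapC Y P α n).hom x) = (mapC Y P α (n + 1)).hom ((d Y P n).hom x) :=
  ConcreteCategory.congr_hom
    (((cechComplexFunctor Y).map (Functor.whiskerLeft (Over.forget U).op α)).comm n (n + 1)) x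

theorem d_d {n : ℕ} (x : C' Y P n) : (d Y P (n + 1)).hom ((d Y P n).hom x) = 0 :=
  ConcreteCategory.congr_hom
    (((cechComplexFunctor Y).obj ((Over.forget U).op ⋙ P)).d_comp_d n (n + 1) (n + 2)) x

theorem isZero_cechH_succ {n : ℕ}
    (h : ∀ x : C' Y P (n + 1), (d Y P (n + 1)).hom x = 0 → ∃ y, (d Y P n).hom y = x) :
    IsZero (CohCx.cechH P Y (n + 1)) := by
  refine (HomologicalComplex.exactAt_iff_isZero_homology _ _).1 ?_
  rw [HomologicalComplex.exactAt_iff' _ n (n + 1) (n + 2) (by simp) (by simp),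
    ShortComplex.ab_exact_iff]
  exact h

theorem exists_of_isZero_cechH_succ {n : ℕ} (h : IsZero (CohCx.cechH P Y (n + 1)))
    (x : C' Y P (n + 1)) (hx : (d Y P (n + 1)).hom x = 0) : ∃ y, (d Y P n).hom y = x := by
  have h' := (HomologicalComplex.exactAt_iff_isZero_homology _ _).2 h
  rw [HomologicalComplex.exactAt_iff' _ n (n + 1) (n + 2) (by simp) (by simp),
    ShortComplex.ab_exact_iff] at h'
  exact h' x hx

end Groth.Agent.H15Site.CechSite
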