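import Groth.Agent.H15Site.EdgeMaps
import Mathlib.Algebra.Homology.DerivedCategory.Ext.EnoughInjectives
import Mathlib.CategoryTheory.Sites.LocallyBijective
import Mathlib.Algebra.Homology.HomologicalComplex

/-!
# The comparison maps are bijective for acyclic coverings and injective in degree one
-/

universe u

open CategoryTheory CategoryTheory.Limits Opposite CategoryTheory.Abelian

namespace Groth.Agent.H15Site.Edge

attribute [local instance 10000] SiteInst.hasSheafifySite SiteInst.hasWeakSheafifySite
  SiteInst.hasExtSite SiteInst.enoughInjSite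

variable {C : Type u} [SmallCategory C] {J : GrothendieckTopology C}

theorem subsingleton_HU_of_injective (I : Sheaf J AddCommGrpCat.{u}) [Injective I] (n : ℕ) (U : C) :
    Subsingleton (CohSite.HU I (n + 1) U) :=
  ⟨fun a b => (Ext.eq_zero_of_injective (show Ext (CohCx.freeSheaf J U) I (n + 1) from a)).trans
    (Ext.eq_zero_of_injective (show Ext (CohCx.freeSheaf J U) I (n + 1) from b)).symm⟩

theorem injective_shf (I : Sheaf J AddCommGrpCat.{u}) [Injective I] :
    Injective (CechEdge.shf J I.obj) :=
  Injective.of_iso (asIso ((sheafificationAdjunction J AddCommGrpCat.{u}).counit.app I)).symm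
    (‹Injective I› : Injective ((𝟭 (Sheaf J AddCommGrpCat.{u})).obj I))

theorem exists_HUmap_g {S : ShortComplex (Sheaf J AddCommGrpCat.{u})} (hS : S.ShortExact) (U : C)
    (p : ℕ) (z : CohSite.HU S.X₃ p U) (hz : CechEdge.extδ hS U p z = 0) :
    ∃ w, CechEdge.HUmap S.g p U w = z :=
  Ext.covariant_sequence_exact₃ (CohCx.freeSheaf J U) hS
    (show Ext (CohCx.freeSheaf J U) S.X₃ p from z) rfl hz

theorem exists_extδ_eq {S : ShortComplex (Sheaf J AddCommGrpCat.{u})} (hS : S.ShortExact) (U : C)
    (p : ℕ) (z : CohSite.HU S.X₁ (p + 1) U) (hz : CechEdge.HUmap S.f (p + 1) U z = 0) :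
    ∃ v, CechEdge.extδ hS U p v = z :=
  Ext.covariant_sequence_exact₁ (CohCx.freeSheaf J U) hS
    (show Ext (CohCx.freeSheaf J U) S.X₁ (p + 1) from z) hz rfl

variable (F : Sheaf J AddCommGrpCat.{u})

/-- An injective hull sequence in sheaves. -/
noncomputable abbrev injSeq : ShortComplex (Sheaf J AddCommGrpCat.{u}) :=
  ShortComplex.mk (Injective.ι F) (cokernel.π (Injective.ι F)) (cokernel.condition _)

theorem injSeq_shortExact : (injSeq F).ShortExact :=
  { exact := ShortComplex.exact_cokernel _
    mono_f := inferInstance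
    epi_g := inferInstance }

/-- The same sequence with the cokernel taken in presheaves. -/
noncomputable abbrev preSeq : ShortComplex (Cᵒᵖ ⥤ AddCommGrpCat.{u}) :=
  ShortComplex.mk (Injective.ι F).hom (cokernel.π (Injective.ι F).hom) (cokernel.condition _)

instance mono_injective_ι_hom : Mono (Injective.ι F).hom :=
  inferInstanceAs (Mono ((sheafToPresheaf J AddCommGrpCat.{u}).map (Injective.ι F)))

theorem preSeq_shortExact : (preSeq F).ShortExact :=
  { exact := ShortComplex.exact_cokernel _
    mono_f := mono_injective_ι_hom F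
    epi_g := inferInstance }

/-- The map from the presheaf cokernel to the sheaf cokernel. -/
noncomputable def cQ : (preSeq F).X₃ ⟶ (injSeq F).X₃.obj :=
  cokernel.desc _ (injSeq F).g.hom
    (congrArg (fun m : F ⟶ (injSeq F).X₃ => m.hom) (injSeq F).zero)

theorem π_cQ : (preSeq F).g ≫ cQ F = (injSeq F).g.hom := cokernel.π_desc _ _ _

instance mono_cQ : Mono (cQ F) :=
  haveI : Mono (injSeq F).f := inferInstanceAs (Mono (Injective.ι F))
  ((injSeq_shortExact F).exact.map_of_mono_of_preservesKernel
    (sheafToPresheaf J AddCommGrpCat.{u}) inferInstance inferInstance).mono_cokernelDesc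

instance isIso_shfMap_cQ : IsIso (CechEdge.shfMap J (cQ F)) := by
  haveI : Mono (CechEdge.shfMap J (cQ F)) :=
    inferInstanceAs (Mono ((presheafToSheaf J AddCommGrpCat.{u}).map (cQ F)))
  haveI : Epi (CechEdge.shfMap J (cQ F)) := by
    have h : (presheafToSheaf J AddCommGrpCat.{u}).map (preSeq F).g ≫ CechEdge.shfMap J (cQ F) =
        (sheafificationAdjunction J AddCommGrpCat.{u}).counit.app (injSeq F).X₂ ≫ (injSeq F).g ≫
          inv ((sheafificationAdjunction J AddCommGrpCat.{u}).counit.app (injSeq F).X₃) := by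
      rw [← Functor.map_comp, π_cQ, ← Category.assoc, IsIso.eq_comp_inv]
      exact (sheafificationAdjunction J AddCommGrpCat.{u}).counit.naturality (injSeq F).g
    haveI : Epi (injSeq F).g := (injSeq_shortExact F).epi_g
    exact epi_of_epi_fac h
  exact isIso_of_mono_of_epi _

variable [HasPullbacks C] {U : C} {ι : Type u} {Y : ι → Over U}
  {e : ∀ (P : Cᵒᵖ ⥤ AddCommGrpCat.{u}) (p : ℕ),
    CohCx.cechH P Y p →+ CohSite.HU (CechEdge.shf J P) p U}

theorem bijective_zero (he : CechEdge.IsEdge J Y e) (F : Sheaf J AddCommGrpCat.{u}) :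
    Function.Bijective (e F.obj 0) := by
  have ht := (sheafEquiv Y he.cover F).bijective
  haveI := CategoryTheory.isIso_toSheafify J F.property
  have h2 : Function.Bijective fun s =>
      CechEdge.sectH0 J U (CechEdge.shf J F.obj) (((toSheafify J F.obj).app (op U)).hom s) :=
    (CechEdge.sectH0 J U _).bijective.comp (ConcreteCategory.bijective_of_isIso _)
  exact (Function.Bijective.of_comp_iff _ ht).1
    ((funext fun s => he.zero F.obj s : e F.obj 0 ∘ sheafEquiv Y he.cover F = _) ▸ h2)

theorem injective_zero_preSeq (he : CechEdge.IsEdge J Y e) (F : Sheaf J AddCommGrpCat.{u}) :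
    Function.Injective (e (preSeq F).X₃ 0) := by
  intro x y hxy
  have h : CechEdge.cechHMap Y (cQ F) 0 x = CechEdge.cechHMap Y (cQ F) 0 y :=
    (bijective_zero he (injSeq F).X₃).1 (by rw [he.natural, he.natural, hxy])
  refine CechSite.rep_injective Y _ (CechSite.hom_ext Y _ fun V g τ => ?_)
  have h' := congrArg (fun z => CechSite.ev Y _ τ (CechSite.rep Y _ z)) h
  simp only [CechSite.rep_cechHMap, CechSite.ev_mapC] at h'
  exact (AddCommGrpCat.mono_iff_injective _).1 inferInstance h'

theorem injective_one (he : CechEdge.IsEdge J Y e) (F : Sheaf J AddCommGrpCat.{u}) :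
    Function.Injective (e F.obj 1) := by
  rw [injective_iff_map_eq_zero]
  intro x hx
  have hC := CechSite.shortExact_map_cxFunctor_of_shortExact Y (preSeq_shortExact F)
  obtain ⟨y, rfl⟩ := δC_surjective Y hC 0
    (CechSite.isZero_cechH_of_injective_sheaf Y (Injective.under F) 0) x
  obtain ⟨w, hw⟩ := exists_HUmap_g (sheafify_shortExact (preSeq_shortExact F)) U 0 _
    ((he.delta (preSeq F) (preSeq_shortExact F) hC 0 y).symm.trans hx)
  obtain ⟨z, rfl⟩ := (bijective_zero he (Injective.under F)).2 w
  have hy : CechEdge.cechHMap Y (preSeq F).g 0 z = y :=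
    injective_zero_preSeq he F ((he.natural _ _ (preSeq F).g 0 z).trans hw)
  rw [← hy]
  exact δC_g Y hC 0 z

variable (Y) in
/-- No higher cohomology on the fibre products of the family. -/
def Acyclic (F : Sheaf J AddCommGrpCat.{u}) : Prop :=
  ∀ (p : ℕ) (a : Fin (p + 1) → ι) (q : ℕ),
    Subsingleton (CohSite.HU F (q + 1) (∏ᶜ (Y ∘ a)).left)

theorem acyclic_injective (I : Sheaf J AddCommGrpCat.{u}) [Injective I] : Acyclic Y I :=
  fun _ _ q => subsingleton_HU_of_injective I q _

theorem Acyclic.quotient {F : Sheaf J AddCommGrpCat.{u}} (h : Acyclic Y F) :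
    Acyclic Y (injSeq F).X₃ := by
  intro p a q
  refine subsingleton_of_forall_eq 0 fun z => ?_
  haveI := h p a (q + 1)
  obtain ⟨w, rfl⟩ := exists_HUmap_g (injSeq_shortExact F) _ (q + 1) z (Subsingleton.elim _ _)
  haveI := subsingleton_HU_of_injective (Injective.under F) q (∏ᶜ (Y ∘ a)).left
  rw [Subsingleton.elim w 0, map_zero]

omit [HasPullbacks C] in
theorem surjective_app_of_subsingleton {S : ShortComplex (Sheaf J AddCommGrpCat.{u})}
    (hS : S.ShortExact) (V : C) [Subsingleton (CohSite.HU S.X₁ 1 V)] :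
    Function.Surjective (S.g.hom.app (op V)).hom := by
  intro s
  obtain ⟨w, hw⟩ := exists_HUmap_g hS V 0 (CechEdge.sectH0 J V S.X₃ s) (Subsingleton.elim _ _)
  obtain ⟨t, rfl⟩ := (CechEdge.sectH0 J V S.X₂).surjective w
  exact ⟨t, (CechEdge.sectH0 J V S.X₃).injective ((sectH0_natural S.g V t).symm.trans hw)⟩

theorem isIso_map_cQ {F : Sheaf J AddCommGrpCat.{u}} (h : Acyclic Y F) :
    IsIso ((CechEdge.cxFunctor Y).map (cQ F)) := by
  haveI : ∀ n, IsIso (((CechEdge.cxFunctor Y).map (cQ F)).f n) := fun n => by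
    have hb : ∀ a : Fin (n + 1) → ι,
        Function.Bijective ((cQ F).app (op (∏ᶜ (Y ∘ a)).left)).hom := fun a => by
      refine ⟨(AddCommGrpCat.mono_iff_injective _).1 inferInstance, fun s => ?_⟩
      haveI : Subsingleton (CohSite.HU (injSeq F).X₁ 1 (∏ᶜ (Y ∘ a)).left) := h n a 0
      obtain ⟨t, ht⟩ := surjective_app_of_subsingleton (injSeq_shortExact F) _ s
      refine ⟨((preSeq F).g.app _).hom t, ?_⟩
      exact (ConcreteCategory.congr_hom (congrArg (fun m => NatTrans.app m
        (op (∏ᶜ (Y ∘ a)).left)) (π_cQ F)) t).trans ht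
    have hπ : ∀ (x : CechSite.C' Y (preSeq F).X₃ n) (a : Fin (n + 1) → ι),
        (Pi.π (CechSite.val Y (injSeq F).X₃.obj n) a).hom
            ((CechSite.mapC Y (preSeq F).X₃ (cQ F) n).hom x) =
          ((cQ F).app _).hom ((Pi.π (CechSite.val Y (preSeq F).X₃ n) a).hom x) := fun x a =>
      ConcreteCategory.congr_hom (Pi.map_π (f := CechSite.val Y (preSeq F).X₃ n)
        (g := CechSite.val Y (injSeq F).X₃.obj n) (fun i => (cQ F).app _) a) x
    rw [ConcreteCategory.isIso_iff_bijective]
    refine ⟨fun (x : CechSite.C' Y (preSeq F).X₃ n) (y : CechSite.C' Y (preSeq F).X₃ n) hxy => ?_,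
      fun (s : CechSite.C' Y (injSeq F).X₃.obj n) => ?_⟩
    · apply (Concrete.productEquiv (CechSite.val Y (preSeq F).X₃ n)).injective
      funext a
      rw [Concrete.productEquiv_apply_apply, Concrete.productEquiv_apply_apply]
      exact (hb a).1 ((hπ x a).symm.trans ((congrArg _ hxy).trans (hπ y a)))
    · choose t ht using fun a =>
        (hb a).2 ((Pi.π (CechSite.val Y (injSeq F).X₃.obj n) a).hom s)
      refine ⟨(Concrete.productEquiv (CechSite.val Y (preSeq F).X₃ n)).symm t, ?_⟩
      change (CechSite.mapC Y (preSeq F).X₃ (cQ F) n).hom _ = s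
      apply (Concrete.productEquiv (CechSite.val Y (injSeq F).X₃.obj n)).injective
      funext a
      rw [Concrete.productEquiv_apply_apply, Concrete.productEquiv_apply_apply]
      refine (hπ _ a).trans (Eq.trans ?_ (ht a))
      exact congrArg _ (Concrete.productEquiv_symm_apply_π (CechSite.val Y (preSeq F).X₃ n) t a)
  exact HomologicalComplex.Hom.isIso_of_components _

theorem bijective_preSeq (he : CechEdge.IsEdge J Y e) {F : Sheaf J AddCommGrpCat.{u}}
    (h : Acyclic Y F) (p : ℕ) (hp : Function.Bijective (e (injSeq F).X₃.obj p)) :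
    Function.Bijective (e (preSeq F).X₃ p) := by
  haveI := isIso_map_cQ h
  have h1 : Function.Bijective (CechEdge.cechHMap Y (cQ F) p) :=
    ConcreteCategory.bijective_of_isIso
      (HomologicalComplex.homologyMap ((CechEdge.cxFunctor Y).map (cQ F)) p)
  have h2 := HUmap_bijective (CechEdge.shfMap J (cQ F)) p U
  refine (Function.Bijective.of_comp_iff' h2 _).1 ?_
  exact (funext fun x => he.natural _ _ (cQ F) p x : _ = CechEdge.HUmap (CechEdge.shfMap J (cQ F)) p U ∘
    e (preSeq F).X₃ p) ▸ hp.comp h1

theorem bijective_of_acyclic (he : CechEdge.IsEdge J Y e) (p : ℕ) :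
    ∀ {F : Sheaf J AddCommGrpCat.{u}}, Acyclic Y F → Function.Bijective (e F.obj p) := by
  induction p with
  | zero => exact fun _ => bijective_zero he _
  | succ p ih =>
    intro F h
    have hC := CechSite.shortExact_map_cxFunctor_of_shortExact Y (preSeq_shortExact F)
    have hQ := bijective_preSeq he h p (ih h.quotient)
    have hI := ih (acyclic_injective (Y := Y) (Injective.under F))
    have hS := sheafify_shortExact (J := J) (preSeq_shortExact F)
    refine ⟨?_, fun w => ?_⟩
    · rw [injective_iff_map_eq_zero]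
      intro x hx
      obtain ⟨y, rfl⟩ := δC_surjective Y hC p
        (CechSite.isZero_cechH_of_injective_sheaf Y (Injective.under F) p) x
      obtain ⟨w, hw⟩ := exists_HUmap_g hS U p _
        ((he.delta (preSeq F) (preSeq_shortExact F) hC p y).symm.trans hx)
      obtain ⟨z, rfl⟩ := hI.2 w
      rw [← hQ.1 ((he.natural _ _ (preSeq F).g p z).trans hw)]
      exact δC_g Y hC p z
    · haveI : Injective ((preSeq F).map (presheafToSheaf J AddCommGrpCat.{u})).X₂ :=
        injective_shf (Injective.under F)
      haveI := subsingleton_HU_of_injective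
        ((preSeq F).map (presheafToSheaf J AddCommGrpCat.{u})).X₂ p U
      obtain ⟨v, hv⟩ := exists_extδ_eq hS U p w (Subsingleton.elim _ _)
      obtain ⟨y, rfl⟩ := hQ.2 v
      exact ⟨δC Y hC p y, (he.delta (preSeq F) (preSeq_shortExact F) hC p y).trans hv⟩

theorem edgeSh_bijective_iff (F : Sheaf J AddCommGrpCat.{u}) (p : ℕ) :
    Function.Bijective (CechEdge.edgeSh e F p) ↔ Function.Bijective (e F.obj p) :=
  Function.Bijective.of_comp_iff'
    (HUmap_bijective ((sheafificationAdjunction J AddCommGrpCat.{u}).counit.app F) p U) _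

theorem edgeSh_injective (F : Sheaf J AddCommGrpCat.{u}) (p : ℕ)
    (h : Function.Injective (e F.obj p)) : Function.Injective (CechEdge.edgeSh e F p) :=
  (HUmap_bijective ((sheafificationAdjunction J AddCommGrpCat.{u}).counit.app F) p U).1.comp h

end Groth.Agent.H15Site.Edge
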