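import Groth.Agent.H15Site.EdgeAcyclic
import Mathlib.CategoryTheory.Sites.Adjunction
import Mathlib.Algebra.Category.Grp.Adjunctions
import Mathlib.Algebra.Homology.ShortComplex.ExactFunctor
import Mathlib.CategoryTheory.Sites.EpiMono

/-!
# Basic properties of cohomology over an object of a site
-/

universe u

open CategoryTheory CategoryTheory.Limits Opposite CategoryTheory.Abelian

namespace Groth.Agent.H15Site.HUBasic

attribute [local instance 10000] SiteInst.hasSheafifySite SiteInst.hasWeakSheafifySite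
  SiteInst.hasExtSite SiteInst.enoughInjSite

variable {C : Type u} [SmallCategory C] {J : GrothendieckTopology C}

theorem res_apply (F : Sheaf J AddCommGrpCat.{u}) (n : ℕ) {U V : C} (f : V ⟶ U)
    (z : CohSite.HU F n U) :
    CohSite.res F n f z = (Ext.mk₀ (CohCx.freeSheafMap J f)).comp
      (show Ext (CohCx.freeSheaf J U) F n from z) (zero_add n) := rfl

theorem res_HUmap {F G : Sheaf J AddCommGrpCat.{u}} (ψ : F ⟶ G) (n : ℕ) {U V : C} (f : V ⟶ U)
    (z : CohSite.HU F n U) :
    CohSite.res G n f (CechEdge.HUmap ψ n U z) = CechEdge.HUmap ψ n V (CohSite.res F n f z) := by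
  rw [res_apply, Edge.HUmap_apply, Edge.HUmap_apply, res_apply]
  exact (Ext.comp_assoc_of_third_deg_zero _ _ _ _).symm

theorem res_extδ {S : ShortComplex (Sheaf J AddCommGrpCat.{u})} (hS : S.ShortExact) (n : ℕ)
    {U V : C} (f : V ⟶ U) (z : CohSite.HU S.X₃ n U) :
    CohSite.res S.X₁ (n + 1) f (CechEdge.extδ hS U n z) =
      CechEdge.extδ hS V n (CohSite.res S.X₃ n f z) := by
  rw [res_apply, Edge.extδ_apply, Edge.extδ_apply, res_apply]
  exact (Ext.comp_assoc (Ext.mk₀ (CohCx.freeSheafMap J f))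
    (show Ext (CohCx.freeSheaf J U) S.X₃ n from z) hS.extClass (zero_add n) rfl (by omega)).symm

theorem res_sectH0 (F : Sheaf J AddCommGrpCat.{u}) {U V : C} (f : V ⟶ U) (s : F.obj.obj (op U)) :
    CohSite.res F 0 f (CechEdge.sectH0 J U F s) =
      CechEdge.sectH0 J V F ((F.obj.map f.op).hom s) := by
  have h : CohCx.freeSheafMap J f ≫ CohFree.ofSect J U F s =
      CohFree.ofSect J V F ((F.obj.map f.op).hom s) := by
    refine (CohFree.homEquivSect J V F).injective ?_
    refine Eq.trans ?_ (CohFree.evalGen_ofSect J V F _).symm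
    exact (CohFree.evalGen_freeSheafMap_comp J f F _).trans
      (congrArg (F.obj.map f.op).hom (CohFree.evalGen_ofSect J U F s))
  rw [res_apply]
  exact (Ext.mk₀_comp_mk₀ (CohCx.freeSheafMap J f) (CohFree.ofSect J U F s)).trans
    (congrArg Ext.mk₀ h)

theorem imageSieve_mem {F G : Sheaf J AddCommGrpCat.{u}} (g : F ⟶ G) [Epi g] {U : C}
    (s : G.obj.obj (op U)) : Presheaf.imageSieve g.hom s ∈ J U := by
  have : Sheaf.IsLocallySurjective g := (Sheaf.isLocallySurjective_iff_epi' _ g).2 inferInstance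
  exact Presheaf.imageSieve_mem J g.hom s

/-- Classes of positive degree are locally zero. -/
theorem exists_cover_res_eq_zero (F : Sheaf J AddCommGrpCat.{u}) (U : C) (n : ℕ)
    (ξ : CohSite.HU F (n + 1) U) :
    ∃ S : J.Cover U, ∀ a : S.Arrow, CohSite.res F (n + 1) a.f ξ = 0 := by
  induction n generalizing F U with
  | zero =>
    have := Edge.subsingleton_HU_of_injective (Injective.under F) 0 U
    obtain ⟨v, rfl⟩ := Edge.exists_extδ_eq (Edge.injSeq_shortExact F) U 0 ξ (Subsingleton.elim _ _)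
    obtain ⟨s, rfl⟩ := (CechEdge.sectH0 J U (Edge.injSeq F).X₃).surjective v
    refine ⟨⟨_, imageSieve_mem (Edge.injSeq F).g s⟩, fun a => ?_⟩
    obtain ⟨t, ht⟩ := a.hf
    refine (res_extδ (Edge.injSeq_shortExact F) 0 a.f _).trans ?_
    refine (congrArg (CechEdge.extδ (Edge.injSeq_shortExact F) a.Y 0)
      (((res_sectH0 (Edge.injSeq F).X₃ a.f s).trans
        (congrArg (CechEdge.sectH0 J a.Y (Edge.injSeq F).X₃) ht.symm)).trans
        (Edge.sectH0_natural (Edge.injSeq F).g a.Y t).symm)).trans ?_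
    exact Edge.extδ_HUmap_g _ a.Y 0 _
  | succ n ih =>
    have := Edge.subsingleton_HU_of_injective (Injective.under F) (n + 1) U
    obtain ⟨v, rfl⟩ :=
      Edge.exists_extδ_eq (Edge.injSeq_shortExact F) U (n + 1) ξ (Subsingleton.elim _ _)
    obtain ⟨S, hS⟩ := ih (Edge.injSeq F).X₃ U v
    exact ⟨S, fun a => (res_extδ (Edge.injSeq_shortExact F) (n + 1) a.f v).trans
      ((congrArg (CechEdge.extδ (Edge.injSeq_shortExact F) a.Y (n + 1)) (hS a)).trans (map_zero _))⟩

/-- A left exact additive functor preserving epimorphisms is exact. -/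
theorem preservesFiniteColimits_of_epi {A B : Type*} [Category A] [Category B] [Abelian A]
    [Abelian B] (G : A ⥤ B) [G.Additive] [PreservesFiniteLimits G]
    (h : ∀ (X Y : A) (f : X ⟶ Y), Epi f → Epi (G.map f)) : PreservesFiniteColimits G :=
  (Functor.preservesFiniteColimits_iff_forall_exact_map_and_epi G).2 fun S hS =>
    ⟨hS.exact.map_of_mono_of_preservesKernel G hS.mono_f inferInstance, h _ _ _ hS.epi_g⟩

/-- The sheafified free group on the sheafified representable is the free sheaf. -/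
theorem isIso_free_toSheafify (P : Cᵒᵖ ⥤ Type u) :
    IsIso ((presheafToSheaf J AddCommGrpCat.{u}).map
      (Functor.whiskerRight (toSheafify J P) AddCommGrpCat.free.{u})) := by
  have : J.PreservesSheafification AddCommGrpCat.free.{u} :=
    CategoryTheory.Sheaf.preservesSheafification_of_adjunction J AddCommGrpCat.adj
  exact (J.W_iff _).1 (J.W_of_preservesSheafification _ _ (J.W_toSheafify P))

theorem subsingleton_HU_of_totallyAcyclic (F : Sheaf J AddCommGrpCat.{u})
    (hF : CohCx.IsTotallyAcyclic F) (U : C) (p : ℕ) : Subsingleton (CohSite.HU F (p + 1) U) := by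
  let P : Cᵒᵖ ⥤ Type u := yoneda.obj U
  have := isIso_free_toSheafify (J := J) P
  let φ := (presheafToSheaf J AddCommGrpCat.{u}).map
    (Functor.whiskerRight (toSheafify J P) AddCommGrpCat.free.{u})
  have h := hF ((presheafToSheaf J (Type u)).obj P) p
  refine subsingleton_of_forall_eq 0 fun z => ?_
  have e : (show Ext ((presheafToSheaf J AddCommGrpCat.{u}).obj (P ⋙ AddCommGrpCat.free.{u})) F (p + 1)
      from z) = (Ext.mk₀ φ).comp ((Ext.mk₀ (inv φ)).comp
        (show Ext ((presheafToSheaf J AddCommGrpCat.{u}).obj (P ⋙ AddCommGrpCat.free.{u})) F (p + 1)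
          from z) (zero_add _)) (zero_add _) := by
    rw [← Ext.comp_assoc (a₁₂ := 0) (a₂₃ := p + 1) _ _ _ (zero_add 0) (zero_add _) (by omega),
      Ext.mk₀_comp_mk₀, IsIso.hom_inv_id, Ext.mk₀_id_comp]
  refine e.trans ?_
  rw [h.elim ((Ext.mk₀ (inv φ)).comp
        (show Ext ((presheafToSheaf J AddCommGrpCat.{u}).obj (P ⋙ AddCommGrpCat.free.{u})) F (p + 1)
          from z) (zero_add _)) 0, Ext.comp_zero]
  rfl

/-- Epimorphisms of abelian sheaves are epimorphisms of the underlying sheaves of sets. -/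
theorem epi_sheafCompose_forget {F G : Sheaf J AddCommGrpCat.{u}} (g : F ⟶ G) [Epi g] :
    Epi ((sheafCompose J (CategoryTheory.forget AddCommGrpCat.{u})).map g) := by
  refine (Sheaf.isLocallySurjective_iff_epi _).1 ⟨fun {U} s => ?_⟩
  refine J.superset_covering ?_ (imageSieve_mem g s)
  rintro V a ⟨t, ht⟩
  exact ⟨t, ht⟩

theorem surjective_app_of_weaklyContractible {F G : Sheaf J AddCommGrpCat.{u}} (g : F ⟶ G) [Epi g]
    {U : C} (hU : CohSite.IsWeaklyContractible J U) :
    Function.Surjective (g.hom.app (op U)).hom :=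
  hU _ _ _ (epi_sheafCompose_forget g)

theorem subsingleton_HU_of_weaklyContractible {U : C} (hU : CohSite.IsWeaklyContractible J U)
    (p : ℕ) : ∀ F : Sheaf J AddCommGrpCat.{u}, Subsingleton (CohSite.HU F (p + 1) U) := by
  induction p with
  | zero =>
    intro F
    refine subsingleton_of_forall_eq 0 fun z => ?_
    have := Edge.subsingleton_HU_of_injective (Injective.under F) 0 U
    obtain ⟨v, rfl⟩ := Edge.exists_extδ_eq (Edge.injSeq_shortExact F) U 0 z (Subsingleton.elim _ _)
    obtain ⟨s, rfl⟩ := (CechEdge.sectH0 J U (Edge.injSeq F).X₃).surjective v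
    obtain ⟨t, rfl⟩ := surjective_app_of_weaklyContractible (Edge.injSeq F).g hU s
    rw [← Edge.sectH0_natural]
    exact Edge.extδ_HUmap_g _ U 0 _
  | succ p ih =>
    intro F
    refine subsingleton_of_forall_eq 0 fun z => ?_
    have := Edge.subsingleton_HU_of_injective (Injective.under F) (p + 1) U
    obtain ⟨v, rfl⟩ :=
      Edge.exists_extδ_eq (Edge.injSeq_shortExact F) U (p + 1) z (Subsingleton.elim _ _)
    rw [(ih (Edge.injSeq F).X₃).elim v 0, map_zero]

theorem preservesFiniteColimits_sections_of_weaklyContractible {U : C}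
    (hU : CohSite.IsWeaklyContractible J U) :
    PreservesFiniteColimits (sheafToPresheaf J AddCommGrpCat.{u} ⋙
      (evaluation Cᵒᵖ AddCommGrpCat.{u}).obj (op U)) := by
  let G := sheafToPresheaf J AddCommGrpCat.{u} ⋙ (evaluation Cᵒᵖ AddCommGrpCat.{u}).obj (op U)
  refine preservesFiniteColimits_of_epi G fun X Y f hf => ?_
  exact (AddCommGrpCat.epi_iff_surjective _).2 (surjective_app_of_weaklyContractible f hU)

/-- The short exact sequence obtained from a product of short exact sequences, product on the middle. -/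
theorem injective_H1_prod {I : Type u} (F : I → Sheaf J AddCommGrpCat.{u}) (U : C) :
    Function.Injective (fun (x : CohSite.HU (∏ᶜ F) 1 U) (i : I) =>
      (((Sheaf.cohomologyPresheafFunctor J 1).map (Pi.π F i)).app (op U)).hom x) := by
  let G : I → Sheaf J AddCommGrpCat.{u} := fun i => Injective.under (F i)
  let Q : I → Sheaf J AddCommGrpCat.{u} := fun i => (Edge.injSeq (F i)).X₃
  let ι' : ∏ᶜ F ⟶ ∏ᶜ G := Limits.Pi.map fun i => Injective.ι (F i)
  let S : ShortComplex (Sheaf J AddCommGrpCat.{u}) :=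
    ShortComplex.mk ι' (cokernel.π ι') (cokernel.condition ι')
  have : Mono ι' := inferInstanceAs (Mono (Limits.Pi.map _))
  have hS : S.ShortExact :=
    { exact := ShortComplex.exact_cokernel _
      mono_f := this
      epi_g := inferInstanceAs (Epi (cokernel.π ι')) }
  let g' : ∏ᶜ G ⟶ ∏ᶜ Q := Limits.Pi.map fun i => (Edge.injSeq (F i)).g
  have hw : ι' ≫ g' = 0 := Pi.hom_ext _ _ fun i => by
    simp only [ι', g', Category.assoc, Limits.Pi.map_π, Limits.Pi.map_π_assoc, zero_comp]
    exact ((congrArg (Pi.π F i ≫ ·) (Edge.injSeq (F i)).zero)).trans comp_zero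
  have hker : IsLimit (KernelFork.ofι ι' hw) := KernelFork.IsLimit.ofι' _ _ fun {A} k hk => by
    have hki : ∀ i, (k ≫ Pi.π G i) ≫ (Edge.injSeq (F i)).g = 0 := fun i => by
      have h := congrArg (· ≫ Pi.π Q i) hk
      simp only [g', Category.assoc, Limits.Pi.map_π, zero_comp] at h
      rw [Category.assoc, h]
    have hl := fun i => (Edge.injSeq_shortExact (F i)).fIsKernel
    refine ⟨Pi.lift fun i => (KernelFork.IsLimit.lift' (hl i) (k ≫ Pi.π G i) (hki i)).1, ?_⟩
    refine Pi.hom_ext _ _ fun i => ?_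
    simp only [ι', Category.assoc, Limits.Pi.map_π, Pi.lift_π_assoc]
    exact (KernelFork.IsLimit.lift' (hl i) (k ≫ Pi.π G i) (hki i)).2
  have hex : (ShortComplex.mk ι' g' hw).Exact := ShortComplex.exact_of_f_is_kernel _ hker
  have hmono : Mono (cokernel.desc ι' g' hw) := hex.mono_cokernelDesc
  intro x y hxy
  rw [← sub_eq_zero]
  have hx : ∀ i, CechEdge.HUmap (Pi.π F i) 1 U (x - y) = 0 := fun i => by
    rw [map_sub]
    exact sub_eq_zero.2 (congrFun hxy i)
  generalize x - y = z at hx ⊢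
  obtain ⟨v, rfl⟩ := Edge.exists_extδ_eq hS U 0 z (by
    have : Subsingleton (CohSite.HU (∏ᶜ G) 1 U) := Edge.subsingleton_HU_of_injective _ 0 U
    exact Subsingleton.elim _ _)
  obtain ⟨s, rfl⟩ := (CechEdge.sectH0 J U S.X₃).surjective v
  let φ : ∀ i, S ⟶ Edge.injSeq (F i) := fun i =>
    { τ₁ := Pi.π F i
      τ₂ := Pi.π G i
      τ₃ := cokernel.desc ι' g' hw ≫ Pi.π Q i
      comm₁₂ := (Limits.Pi.map_π (fun i => Injective.ι (F i)) i).symm
      comm₂₃ := by
        refine Eq.trans ?_ (Category.assoc _ _ _)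
        rw [cokernel.π_desc]
        exact (Limits.Pi.map_π (fun i => (Edge.injSeq (F i)).g) i).symm }
  have ht : ∀ i, ∃ t : (G i).obj.obj (op U),
      ((Edge.injSeq (F i)).g.hom.app (op U)).hom t = ((φ i).τ₃.hom.app (op U)).hom s := fun i => by
    have h := (Edge.extδ_natural hS (Edge.injSeq_shortExact (F i)) (φ i) U 0 _).symm.trans (hx i)
    obtain ⟨w, hw⟩ := Edge.exists_HUmap_g (Edge.injSeq_shortExact (F i)) U 0 _ h
    obtain ⟨t, rfl⟩ := (CechEdge.sectH0 J U (G i)).surjective w
    refine ⟨t, (CechEdge.sectH0 J U _).injective ?_⟩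
    exact ((Edge.sectH0_natural _ U t).symm.trans hw).trans (Edge.sectH0_natural _ U s)
  choose t ht using ht
  let u : CohCx.freeSheaf J U ⟶ ∏ᶜ G := Pi.lift fun i => CohFree.ofSect J U (G i) (t i)
  have hu : u ≫ S.g = CohFree.ofSect J U S.X₃ s := by
    refine (cancel_mono (cokernel.desc ι' g' hw)).1 (Pi.hom_ext _ _ fun i => ?_)
    refine (CohFree.homEquivSect J U (Q i)).injective ?_
    have e1 : ((u ≫ S.g) ≫ cokernel.desc ι' g' hw) ≫ Pi.π Q i =
        CohFree.ofSect J U (G i) (t i) ≫ (Edge.injSeq (F i)).g := by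
      simp only [Category.assoc]
      rw [show S.g ≫ cokernel.desc ι' g' hw ≫ Pi.π Q i = g' ≫ Pi.π Q i from
        (Category.assoc _ _ _).symm.trans (congrArg (· ≫ Pi.π Q i) (cokernel.π_desc _ _ _))]
      simp only [g', Limits.Pi.map_π, u, Pi.lift_π_assoc]
    rw [e1, Category.assoc]
    exact ((congrArg ((Edge.injSeq (F i)).g.hom.app (op U)).hom (CohFree.evalGen_ofSect J U (G i) (t i))).trans
      (ht i)).trans (congrArg ((φ i).τ₃.hom.app (op U)).hom (CohFree.evalGen_ofSect J U S.X₃ s)).symm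
  have hs : CechEdge.sectH0 J U S.X₃ s = CechEdge.HUmap S.g 0 U (Ext.mk₀ u) := by
    rw [Edge.HUmap_apply]
    exact ((Ext.mk₀_comp_mk₀ u S.g).trans (congrArg Ext.mk₀ hu)).symm
  rw [hs]
  exact Edge.extδ_HUmap_g hS U 0 _

end Groth.Agent.H15Site.HUBasic
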