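import Groth.Agent.H15Site.ExactResolution
import Groth.Agent.H15Site.CechFree
import Groth.Agent.H15Site.HUBasic
import Groth.Prelude.Def_CohCx

/-!
# Čech complexes of epimorphisms and total acyclicity
-/

set_option autoImplicit false
set_option linter.style.haveILetI false
set_option linter.unusedSectionVars false
set_option backward.isDefEq.respectTransparency false

universe u

open CategoryTheory CategoryTheory.Limits Opposite CategoryTheory.Abelian AlgebraicTopology
open scoped Simplicial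

namespace Groth.Agent.H15Site.CechTot

attribute [local instance 10000] SiteInst.hasSheafifySite SiteInst.hasWeakSheafifySite
  SiteInst.hasExtSite SiteInst.enoughInjSite

variable {C : Type u} [SmallCategory C] {J : GrothendieckTopology C}
  {K' K : Sheaf J (Type u)} (f : K' ⟶ K) (F : Sheaf J AddCommGrpCat.{u})

/-- Free abelian sheaf on a sheaf of sets. -/
noncomputable abbrev frS (L : Sheaf J (Type u)) : Sheaf J AddCommGrpCat.{u} :=
  (Sheaf.composeAndSheafify J AddCommGrpCat.free.{u}).obj L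

/-- The free augmented nerve. -/
noncomputable abbrev aug : SimplicialObject.Augmented (Sheaf J AddCommGrpCat.{u}) :=
  ((SimplicialObject.Augmented.whiskering _ _).obj
    (Sheaf.composeAndSheafify J AddCommGrpCat.free.{u})).obj (Arrow.mk f).augmentedCechNerve

/-- The free chain complex. -/
noncomputable abbrev cplx : ChainComplex (Sheaf J AddCommGrpCat.{u}) ℕ :=
  AlternatingFaceMapComplex.obj (SimplicialObject.Augmented.drop.obj (aug f))

/-- A cochain as a map out of the free complex. -/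
noncomputable abbrev toHom {n : ℕ} (x : (CohCx.cechNerveCx F f).X n) : (cplx f).X n ⟶ F := x

theorem altCoface_d (X : CosimplicialObject AddCommGrpCat.{u}) (n : ℕ) :
    ((alternatingCofaceMapComplex AddCommGrpCat.{u}).obj X).d n (n + 1) =
      AlternatingCofaceMapComplex.objD X n := by
  exact CochainComplex.of_d (V := AddCommGrpCat.{u}) (fun n => X.obj (SimplexCategory.mk n))
    (AlternatingCofaceMapComplex.objD X) n

theorem d_eq (n : ℕ) (x : (CohCx.cechNerveCx F f).X n) :
    toHom f F ((CohCx.cechNerveCx F f).d n (n + 1) x) = (cplx f).d (n + 1) n ≫ toHom f F x := by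
  have hd : (CohCx.cechNerveCx F f).d n (n + 1) =
      AlternatingCofaceMapComplex.objD ((Arrow.mk f).cechNerve.rightOp ⋙ CohCx.HK0Functor J F) n :=
    altCoface_d _ n
  let E : ((CohCx.cechNerveCx F f).X n ⟶ (CohCx.cechNerveCx F f).X (n + 1)) →+
      (CohCx.cechNerveCx F f).X (n + 1) :=
    { toFun := fun g => g x
      map_zero' := rfl
      map_add' := fun _ _ => rfl }
  show toHom f F (E _) = _
  rw [hd, AlternatingFaceMapComplex.obj_d_eq, Preadditive.sum_comp]
  refine (map_sum E _ _).trans ?_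
  refine Finset.sum_congr rfl fun i _ => ?_
  refine (map_zsmul E _ _).trans ?_
  rw [Preadditive.zsmul_comp]
  rfl

theorem isZero_homology_iff (p : ℕ) :
    IsZero ((CohCx.cechNerveCx F f).homology (p + 1)) ↔
      ∀ x : (cplx f).X (p + 1) ⟶ F, (cplx f).d (p + 1 + 1) (p + 1) ≫ x = 0 →
        ∃ y, (cplx f).d (p + 1) p ≫ y = x := by
  rw [← HomologicalComplex.exactAt_iff_isZero_homology,
    HomologicalComplex.exactAt_iff' _ p (p + 1) (p + 1 + 1) (by simp) (by simp),
    ShortComplex.ab_exact_iff]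
  constructor
  · intro h x hx
    obtain ⟨y, hy⟩ := h x ((d_eq f F (p + 1) x).trans hx)
    exact ⟨toHom f F y, (d_eq f F p y).symm.trans hy⟩
  · intro h x hx
    obtain ⟨y, hy⟩ := h x ((d_eq f F (p + 1) x).symm.trans hx)
    exact ⟨y, (d_eq f F p y).trans hy⟩

theorem isZero_cech_of_totallyAcyclic [Epi f] (hF : CohCx.IsTotallyAcyclic F) (p : ℕ) :
    IsZero ((CohCx.cechNerveCx F f).homology (p + 1)) := by
  haveI := CechFree.quasiIso_sheaf f
  rw [isZero_homology_iff]
  exact ExactResolution.exists_factor (AlternatingFaceMapComplex.ε.app (aug f))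
    (fun q => hF K q) (fun n q => hF _ q) p

theorem totallyAcyclic_of_injective (I : Sheaf J AddCommGrpCat.{u}) [Injective I] :
    CohCx.IsTotallyAcyclic I :=
  fun _ _ => subsingleton_of_forall_eq 0 fun x => Ext.eq_zero_of_injective x

theorem epi_pullback_snd {G I L : Sheaf J (Type u)} (g : I ⟶ G) [Epi g] (t : L ⟶ G) :
    Epi (pullback.snd g t) := by
  haveI : Sheaf.IsLocallySurjective g := (Sheaf.isLocallySurjective_iff_epi g).2 inferInstance
  refine (Sheaf.isLocallySurjective_iff_epi _).1 ⟨fun {U} s => ?_⟩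
  refine J.superset_covering ?_ (Presheaf.imageSieve_mem J g.hom (t.hom.app (op U) s))
  rintro V a ⟨i, hi⟩
  let G' : Sheaf J (Type u) ⥤ Type u :=
    sheafToPresheaf J (Type u) ⋙ (evaluation Cᵒᵖ (Type u)).obj (op V)
  have h : g.hom.app (op V) i = t.hom.app (op V) (L.obj.map a.op s) :=
    hi.trans (ConcreteCategory.congr_hom (t.hom.naturality a.op) s).symm
  let w : PullbackCone (G'.map g) (G'.map t) :=
    PullbackCone.mk (W := PUnit.{u + 1}) (↾fun _ => i) (↾fun _ => L.obj.map a.op s) (by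
      ext
      exact h)
  refine ⟨(isLimitPullbackConeMapOfIsLimit G' pullback.condition
    (pullbackIsPullback g t)).lift w PUnit.unit, ?_⟩
  exact ConcreteCategory.congr_hom ((isLimitPullbackConeMapOfIsLimit G' pullback.condition
    (pullbackIsPullback g t)).fac w WalkingCospan.right) PUnit.unit

theorem exists_epi_lift {I G : Sheaf J AddCommGrpCat.{u}} (g : I ⟶ G) [Epi g]
    (L : Sheaf J (Type u)) (t : frS L ⟶ G) :
    ∃ (L' : Sheaf J (Type u)) (h : L' ⟶ L) (s : frS L' ⟶ I), Epi h ∧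
      s ≫ g = (Sheaf.composeAndSheafify J AddCommGrpCat.free.{u}).map h ≫ t := by
  haveI := HUBasic.epi_sheafCompose_forget g
  let adj := Sheaf.adjunction J AddCommGrpCat.adj.{u}
  let g' := (sheafCompose J (CategoryTheory.forget AddCommGrpCat.{u})).map g
  refine ⟨pullback g' (adj.homEquiv _ _ t), pullback.snd _ _,
    (adj.homEquiv _ _).symm (pullback.fst _ _), epi_pullback_snd _ _, ?_⟩
  apply (adj.homEquiv _ _).injective
  rw [Adjunction.homEquiv_naturality_right, Equiv.apply_symm_apply,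
    Adjunction.homEquiv_naturality_left]
  exact pullback.condition

/-- All positive Čech groups of all epimorphisms vanish. -/
def CechAcyclic : Prop :=
  ∀ (K' K : Sheaf J (Type u)) (f : K' ⟶ K), Epi f →
    ∀ q : ℕ, IsZero ((CohCx.cechNerveCx F f).homology (q + 1))

variable {F}

theorem exists_lift (h : CechAcyclic F) (L : Sheaf J (Type u))
    (t : frS L ⟶ (Edge.injSeq F).X₃) : ∃ y : frS L ⟶ (Edge.injSeq F).X₂, y ≫ (Edge.injSeq F).g = t := by
  have hS := Edge.injSeq_shortExact F
  haveI := hS.mono_f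
  haveI := hS.epi_g
  obtain ⟨L', π, s, hπ, hs⟩ := exists_epi_lift (Edge.injSeq F).g L t
  haveI := CechFree.quasiIso_sheaf π
  let φ : cplx π ⟶ (ChainComplex.single₀ _).obj (frS L) := AlternatingFaceMapComplex.ε.app (aug π)
  let G := Sheaf.composeAndSheafify J AddCommGrpCat.free.{u}
  let s₀ : (cplx π).X 0 ⟶ (Edge.injSeq F).X₂ := G.map (CechFree.pr π (op ⦋0⦌) 0) ≫ s
  have hs₀ : s₀ ≫ (Edge.injSeq F).g = φ.f 0 ≫ t := by
    refine (Category.assoc _ _ _).trans ?_
    refine (congrArg (G.map (CechFree.pr π (op ⦋0⦌) 0) ≫ ·) hs).trans ?_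
    refine (Category.assoc _ _ _).symm.trans (congrArg (fun e => e ≫ t) ?_)
    exact ((G.map_comp _ _).symm.trans (congrArg G.map (WidePullback.π_arrow _ 0))).trans
      ((AlternatingFaceMapComplex.ε_app_f_zero (aug π)).trans (Category.comp_id _)).symm
  have hdφ : (cplx π).d 1 0 ≫ φ.f 0 = 0 :=
    (φ.comm 1 0).symm.trans (by simp)
  obtain ⟨a, ha⟩ : ∃ a : (cplx π).X 1 ⟶ F, a ≫ (Edge.injSeq F).f = (cplx π).d 1 0 ≫ s₀ :=
    ⟨hS.fIsKernel.lift (KernelFork.ofι ((cplx π).d 1 0 ≫ s₀)
      (by rw [Category.assoc, hs₀, reassoc_of% hdφ, zero_comp])), Fork.IsLimit.lift_ι hS.fIsKernel⟩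
  obtain ⟨b, hb⟩ := (isZero_homology_iff π F 0).1 (h L' L π hπ 0) a (by
    rw [← cancel_mono (Edge.injSeq F).f, Category.assoc, ha, ← Category.assoc,
      HomologicalComplex.d_comp_d, zero_comp, zero_comp])
  obtain ⟨y, hy⟩ := ExactResolution.exists_factor_zero φ
    (s₀ - (b : (cplx π).X 0 ⟶ F) ≫ (Edge.injSeq F).f) (by
      refine (Preadditive.comp_sub _ _ _).trans (sub_eq_zero.2 ?_)
      exact ha.symm.trans ((congrArg (fun e => e ≫ (Edge.injSeq F).f) hb.symm).trans
        (Category.assoc _ _ _)))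
  haveI := (ExactResolution.exact_zero φ).2
  refine ⟨y, ?_⟩
  rw [← cancel_epi (φ.f 0), ← Category.assoc, hy]
  refine (Preadditive.sub_comp _ _ _).trans ?_
  refine Eq.trans ?_ hs₀
  refine sub_eq_self.2 ?_
  exact (Category.assoc _ _ _).trans ((congrArg _ (Edge.injSeq F).zero).trans comp_zero)

theorem cechAcyclic_X₃ (h : CechAcyclic F) : CechAcyclic (Edge.injSeq F).X₃ := by
  intro K' K f hf q
  have hS := Edge.injSeq_shortExact F
  haveI := hS.mono_f
  rw [isZero_homology_iff]
  intro x hx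
  obtain ⟨x', hx'⟩ : ∃ x' : (cplx f).X (q + 1) ⟶ (Edge.injSeq F).X₂,
      x' ≫ (Edge.injSeq F).g = x := exists_lift h _ x
  obtain ⟨a, ha⟩ : ∃ a : (cplx f).X (q + 1 + 1) ⟶ F,
      a ≫ (Edge.injSeq F).f = (cplx f).d (q + 1 + 1) (q + 1) ≫ x' :=
    ⟨hS.fIsKernel.lift (KernelFork.ofι ((cplx f).d (q + 1 + 1) (q + 1) ≫ x')
      (by rw [Category.assoc, hx', hx])), Fork.IsLimit.lift_ι hS.fIsKernel⟩
  obtain ⟨b, hb⟩ := (isZero_homology_iff f F (q + 1)).1 (h K' K f hf (q + 1)) a (by
    rw [← cancel_mono (Edge.injSeq F).f, Category.assoc, ha, ← Category.assoc,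
      HomologicalComplex.d_comp_d, zero_comp, zero_comp])
  obtain ⟨y, hy⟩ := (isZero_homology_iff f (Edge.injSeq F).X₂ q).1
    (isZero_cech_of_totallyAcyclic f _ (totallyAcyclic_of_injective _) q)
    ((x' : (cplx f).X (q + 1) ⟶ (Edge.injSeq F).X₂) - (b : (cplx f).X (q + 1) ⟶ F) ≫ (Edge.injSeq F).f) (by
      rw [Preadditive.comp_sub, ← Category.assoc, hb, ha, sub_self])
  refine ⟨y ≫ (Edge.injSeq F).g, ?_⟩
  rw [← Category.assoc, hy, Preadditive.sub_comp, Category.assoc, hx',
    (Edge.injSeq F).zero, comp_zero, sub_zero]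

theorem totallyAcyclic_of_cechAcyclic (h : CechAcyclic F) : CohCx.IsTotallyAcyclic F := by
  intro L p
  induction p generalizing F with
  | zero =>
    refine subsingleton_of_forall_eq 0 fun x => ?_
    obtain ⟨x₃, rfl⟩ := Ext.covariant_sequence_exact₁ (frS L) (Edge.injSeq_shortExact F) x
      (Ext.eq_zero_of_injective _) rfl
    obtain ⟨t, rfl⟩ := (Ext.mk₀_bijective _ _).2 x₃
    obtain ⟨y, rfl⟩ := exists_lift h L t
    rw [← Ext.mk₀_comp_mk₀, Ext.comp_assoc _ _ _ (zero_add 0) (zero_add 1) rfl]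
    exact (congrArg (fun e => (Ext.mk₀ y).comp e (zero_add 1))
      (Edge.injSeq_shortExact F).comp_extClass).trans ((Ext.mk₀ y).comp_zero F 1 1 (zero_add 1))
  | succ p ih =>
    refine subsingleton_of_forall_eq 0 fun x => ?_
    obtain ⟨x₃, rfl⟩ := Ext.covariant_sequence_exact₁ (frS L) (Edge.injSeq_shortExact F) x
      (Ext.eq_zero_of_injective _) rfl
    rw [(ih (cechAcyclic_X₃ h)).elim x₃ 0, Ext.zero_comp]

end Groth.Agent.H15Site.CechTot
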