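import Groth.Agent.H15Site.LocGen
import Mathlib.Algebra.Category.ModuleCat.Descent
import Mathlib.Algebra.Category.ModuleCat.Sheaf.Quasicoherent
import Mathlib.Algebra.Homology.ShortComplex.ExactFunctor

/-!
# Quasi-coherent modules for the chaotic topology

`bc F g`: the base-change map of sections; `isQuasicoherent_iff`, `qc_kernel`, `qc_cokernel`,
`qc_extension`.
-/

set_option autoImplicit false
set_option linter.style.haveILetI false
set_option linter.unusedSectionVars false
set_option backward.isDefEq.respectTransparency false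
set_option backward.isDefEq.respectTransparency.types false

universe u v w

open CategoryTheory CategoryTheory.Limits Opposite

namespace Groth.Agent.H15Site.ChaoticQC

open ModTensor LocGen
open scoped ChangeOfRings

attribute [local instance 10000] SiteInst.hasSheafifySite SiteInst.hasWeakSheafifySite

section General

variable {A : Type w} [Category.{v} A] {B : Type*} [Category.{v} B] {G H : A ⥤ B} (τ : G ⟶ H)
  {K : Type u} [Category.{u} K]

/-- A natural transformation which is invertible on a diagram is invertible on a preserved colimit. -/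
theorem isIso_app_of_isColimit {D : K ⥤ A} {c : Cocone D} (hc : IsColimit c) [PreservesColimit D G]
    [PreservesColimit D H] (h : ∀ k, IsIso (τ.app (D.obj k))) : IsIso (τ.app c.pt) := by
  haveI : ∀ k, IsIso ((Functor.whiskerLeft D τ).app k) := h
  haveI : IsIso (Functor.whiskerLeft D τ) := NatIso.isIso_of_isIso_app _
  let e := IsColimit.coconePointsIsoOfNatIso (isColimitOfPreserves G hc) (isColimitOfPreserves H hc)
    (asIso (Functor.whiskerLeft D τ))
  have : τ.app c.pt = e.hom := by
    refine (isColimitOfPreserves G hc).hom_ext fun k => ?_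
    refine Eq.trans ?_ (IsColimit.comp_coconePointsIsoOfNatIso_hom (isColimitOfPreserves G hc)
      (isColimitOfPreserves H hc) (asIso (Functor.whiskerLeft D τ)) k).symm
    exact τ.naturality (c.ι.app k)
  rw [this]
  infer_instance

end General

section General₀

variable {A : Type w} [Category.{v} A] {B : Type*} [Category.{v} B] {G H : A ⥤ B} (τ : G ⟶ H)
  {K : Type} [Category K]

theorem isIso_app_of_isColimit₀ {D : K ⥤ A} {c : Cocone D} (hc : IsColimit c) [PreservesColimit D G]
    [PreservesColimit D H] (h : ∀ k, IsIso (τ.app (D.obj k))) : IsIso (τ.app c.pt) := by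
  haveI : ∀ k, IsIso ((Functor.whiskerLeft D τ).app k) := h
  haveI : IsIso (Functor.whiskerLeft D τ) := NatIso.isIso_of_isIso_app _
  let e := IsColimit.coconePointsIsoOfNatIso (isColimitOfPreserves G hc) (isColimitOfPreserves H hc)
    (asIso (Functor.whiskerLeft D τ))
  have : τ.app c.pt = e.hom := by
    refine (isColimitOfPreserves G hc).hom_ext fun k => ?_
    refine Eq.trans ?_ (IsColimit.comp_coconePointsIsoOfNatIso_hom (isColimitOfPreserves G hc)
      (isColimitOfPreserves H hc) (asIso (Functor.whiskerLeft D τ)) k).symm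
    exact τ.naturality (c.ι.app k)
  rw [this]
  infer_instance

theorem isIso_app_of_isLimit₀ {D : K ⥤ A} {c : Cone D} (hc : IsLimit c) [PreservesLimit D G]
    [PreservesLimit D H] (h : ∀ k, IsIso (τ.app (D.obj k))) : IsIso (τ.app c.pt) := by
  haveI : ∀ k, IsIso ((Functor.whiskerLeft D τ).app k) := h
  haveI : IsIso (Functor.whiskerLeft D τ) := NatIso.isIso_of_isIso_app _
  let e := IsLimit.conePointsIsoOfNatIso (isLimitOfPreserves G hc) (isLimitOfPreserves H hc)
    (asIso (Functor.whiskerLeft D τ))
  have : τ.app c.pt = e.hom := by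
    refine (isLimitOfPreserves H hc).hom_ext fun k => ?_
    refine Eq.trans ?_ (IsLimit.conePointsIsoOfNatIso_hom_comp (isLimitOfPreserves G hc)
      (isLimitOfPreserves H hc) (asIso (Functor.whiskerLeft D τ)) k).symm
    exact (τ.naturality (c.π.app k)).symm
  rw [this]
  infer_instance

end General₀

variable {C : Type u} [SmallCategory C] {J : GrothendieckTopology C} (O : Sheaf J CommRingCat.{u})

/-- Sections over an object. -/
noncomputable abbrev ev (V : C) : ModSite.Mod O ⥤ ModuleCat.{u} (O.obj.obj (op V)) :=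
  SheafOfModules.forget (ModSite.ringSh O) ⋙ PresheafOfModules.evaluation _ (op V)

variable {O}

/-- The base-change map. -/
noncomputable abbrev bc (F : ModSite.Mod O) {U V : C} (g : U ⟶ V) :
    (ModuleCat.extendScalars.{u, u, u} (O.obj.map g.op).hom).obj ((ev O V).obj F) ⟶ (ev O U).obj F :=
  ((ModuleCat.extendRestrictScalarsAdj (O.obj.map g.op).hom).homEquiv
    (F.val.obj (op V) : ModuleCat.{u} (O.obj.obj (op V)))
    (F.val.obj (op U) : ModuleCat.{u} (O.obj.obj (op U)))).symm (F.val.map g.op)

variable (O) in
/-- The base-change maps, natural in the module. -/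
noncomputable def bcNat {U V : C} (g : U ⟶ V) :
    ev O V ⋙ ModuleCat.extendScalars.{u, u, u} (O.obj.map g.op).hom ⟶ ev O U where
  app F := bc F g
  naturality F G φ := by
    show (ModuleCat.extendScalars _).map ((ev O V).map φ) ≫ bc G g = bc F g ≫ (ev O U).map φ
    refine ((ModuleCat.extendRestrictScalarsAdj (O.obj.map g.op).hom).homEquiv_naturality_left_symm _ _).symm.trans ?_
    refine Eq.trans (congrArg _ ?_)
      ((ModuleCat.extendRestrictScalarsAdj (O.obj.map g.op).hom).homEquiv_naturality_right_symm _ _)
    exact (φ.val.naturality g.op).symm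

theorem bc_tmul (F : ModSite.Mod O) {U V : C} (g : U ⟶ V) (s : O.obj.obj (op U))
    (m : (ev O V).obj F) :
    (bc F g).hom (s ⊗ₜ[O.obj.obj (op V),(O.obj.map g.op).hom] m) =
      (s • rs ((forg O).obj F) g.op m : ((forg O).obj F).obj (op U)) := rfl

theorem tmul_one {R S : Type u} [CommRing R] [CommRing S] (f : R →+* S) (s : S) (r : R) :
    (s ⊗ₜ[R,f] r : (ModuleCat.extendScalars f).obj (ModuleCat.of R R)) = (s * f r) ⊗ₜ[R,f] (1 : R) := by
  letI := f.toAlgebra
  show TensorProduct.tmul R s r = TensorProduct.tmul R (s * f r) (1 : R)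
  rw [show s * f r = r • s from (mul_comm _ _).trans (Algebra.smul_def r s).symm,
    TensorProduct.smul_tmul, smul_eq_mul, mul_one]

theorem isIso_bc_unit {U V : C} (g : U ⟶ V) : IsIso (bc (ModSite.unit O) g) := by
  rw [ConcreteCategory.isIso_iff_bijective]
  let one : (ev O V).obj (ModSite.unit O) := (1 : O.obj.obj (op V))
  have h1 : ∀ s : O.obj.obj (op U),
      (bc (ModSite.unit O) g).hom (s ⊗ₜ[O.obj.obj (op V),(O.obj.map g.op).hom] one) = s := fun s => by
    rw [bc_tmul]
    show s * O.obj.map g.op (1 : O.obj.obj (op V)) = s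
    rw [map_one, mul_one]
  refine ⟨?_, fun s => ⟨_, h1 s⟩⟩
  have h2 : ∀ x : (ModuleCat.extendScalars.{u, u, u} (O.obj.map g.op).hom).obj ((ev O V).obj (ModSite.unit O)),
      ∃ s : O.obj.obj (op U), x = s ⊗ₜ[O.obj.obj (op V),(O.obj.map g.op).hom] one := by
    intro x
    letI := (O.obj.map g.op).hom.toAlgebra
    induction x using TensorProduct.induction_on with
    | zero => exact ⟨0, (TensorProduct.zero_tmul _ _).symm⟩
    | tmul s m => exact ⟨_, tmul_one (O.obj.map g.op).hom s m⟩
    | add a b ha hb =>
      obtain ⟨s, rfl⟩ := ha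
      obtain ⟨t, rfl⟩ := hb
      exact ⟨s + t, (TensorProduct.add_tmul _ _ _).symm⟩
  intro x y h
  obtain ⟨s, rfl⟩ := h2 x
  obtain ⟨t, rfl⟩ := h2 y
  rw [(h1 s).symm.trans (h.trans (h1 t))]

section Chaotic

theorem isEquivalence_forget (hJ : J = ⊥) : (SheafOfModules.forget.{u} (ModSite.ringSh O)).IsEquivalence := by
  haveI : (SheafOfModules.forget.{u} (ModSite.ringSh O)).EssSurj :=
    ⟨fun P => ⟨⟨P, by subst hJ; exact Presheaf.isSheaf_bot _⟩, ⟨Iso.refl _⟩⟩⟩
  exact { }

instance ev_additive (V : C) : (ev O V).Additive := ⟨fun {_ _ _ _} => rfl⟩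

theorem preservesColimit_ev (hJ : J = ⊥) (V : C) : PreservesColimitsOfSize.{u, u} (ev O V) := by
  haveI := isEquivalence_forget (O := O) hJ
  haveI : PreservesColimitsOfSize.{u, u} (SheafOfModules.forget.{u} (ModSite.ringSh O)) := inferInstance
  haveI : PreservesColimitsOfSize.{u, u} (PresheafOfModules.evaluation.{u} (ModSite.ringSh O).obj (op V)) :=
    inferInstance
  exact comp_preservesColimits (SheafOfModules.forget.{u} (ModSite.ringSh O))
    (PresheafOfModules.evaluation.{u} (ModSite.ringSh O).obj (op V))

theorem preservesFiniteColimits_ev (hJ : J = ⊥) (V : C) : PreservesFiniteColimits (ev O V) := by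
  haveI := preservesColimit_ev (O := O) hJ V
  exact PreservesColimitsOfSize.preservesFiniteColimits _

theorem preservesFiniteLimits_ev (hJ : J = ⊥) (V : C) : PreservesFiniteLimits (ev O V) := by
  haveI := isEquivalence_forget (O := O) hJ
  haveI : PreservesFiniteLimits (SheafOfModules.forget.{u} (ModSite.ringSh O)) := inferInstance
  haveI : PreservesFiniteLimits (PresheafOfModules.evaluation.{u} (ModSite.ringSh O).obj (op V)) := inferInstance
  exact comp_preservesFiniteLimits (SheafOfModules.forget.{u} (ModSite.ringSh O))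
    (PresheafOfModules.evaluation.{u} (ModSite.ringSh O).obj (op V))

theorem isIso_bc_free (hJ : J = ⊥) {U V : C} (g : U ⟶ V) (I : Type u) :
    IsIso (bc (SheafOfModules.free (R := ModSite.ringSh O) I) g) := by
  haveI := preservesColimit_ev (O := O) hJ U
  haveI := preservesColimit_ev (O := O) hJ V
  haveI : (ModuleCat.extendScalars.{u, u, u} (O.obj.map g.op).hom).IsLeftAdjoint :=
    (ModuleCat.extendRestrictScalarsAdj (O.obj.map g.op).hom).isLeftAdjoint
  exact isIso_app_of_isColimit (bcNat O g) (SheafOfModules.isColimitFreeCofan (R := ModSite.ringSh O) I)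
    fun _ => isIso_bc_unit g

theorem isIso_bc_of_cokernel (hJ : J = ⊥) {U V : C} (g : U ⟶ V) {X Y : ModSite.Mod O} (f : X ⟶ Y)
    (hX : IsIso (bc X g)) (hY : IsIso (bc Y g)) (c : CokernelCofork f) (hc : IsColimit c) :
    IsIso (bc c.pt g) := by
  haveI := preservesFiniteColimits_ev (O := O) hJ U
  haveI := preservesFiniteColimits_ev (O := O) hJ V
  haveI : (ModuleCat.extendScalars.{u, u, u} (O.obj.map g.op).hom).IsLeftAdjoint :=
    (ModuleCat.extendRestrictScalarsAdj (O.obj.map g.op).hom).isLeftAdjoint
  refine isIso_app_of_isColimit₀ (bcNat O g) hc ?_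
  rintro (_ | _)
  · exact hX
  · exact hY

theorem isIso_bc_of_presentation (hJ : J = ⊥) {M : ModSite.Mod O}
    (P : SheafOfModules.Presentation (R := ModSite.ringSh O) M) {U V : C} (g : U ⟶ V) : IsIso (bc M g) :=
  isIso_bc_of_cokernel hJ g (X := SheafOfModules.free (R := ModSite.ringSh O) P.relations.I)
    (Y := SheafOfModules.free (R := ModSite.ringSh O) P.generators.I)
    (P.relations.π ≫ kernel.ι P.generators.π) (isIso_bc_free hJ g P.relations.I) (isIso_bc_free hJ g P.generators.I)
    (CokernelCofork.ofπ P.generators.π (by rw [Category.assoc, kernel.condition, comp_zero])) P.isColimit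

theorem isIso_bc_of_iso {M N : ModSite.Mod O} (e : M ⟶ N) [IsIso e] {U V : C} (g : U ⟶ V) (h : IsIso (bc M g)) :
    IsIso (bc N g) := by
  haveI : IsIso ((bcNat O g).app M) := h
  exact (NatTrans.isIso_app_iff_of_iso (bcNat O g) (asIso e)).1 h

section Terminal

variable {T : C} (hT : IsTerminal T)

/-- The global section attached to a section over the terminal object. -/
noncomputable def sec {M : ModSite.Mod O} (x : ((forg O).obj M).obj (op T)) : M.sections :=
  PresheafOfModules.sectionsMk (fun X => rs ((forg O).obj M) (hT.from X.unop).op x) fun X Y f => by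
    show rs ((forg O).obj M) f (rs ((forg O).obj M) (hT.from X.unop).op x) = _
    rw [rs_rs]
    exact congrArg (fun k => rs ((forg O).obj M) k x) (congrArg Quiver.Hom.op (hT.hom_ext (f.unop ≫ hT.from X.unop) _))

theorem sec_app {M : ModSite.Mod O} (x : ((forg O).obj M).obj (op T)) :
    (sec hT x).1 (op T) = x := by
  show rs ((forg O).obj M) (hT.from T).op x = x
  rw [hT.hom_ext (hT.from T) (𝟙 T), op_id, rs_id]

/-- All sections over the terminal object, as a map from a free module. -/
noncomputable def allSec (M : ModSite.Mod O) :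
    SheafOfModules.free (R := ModSite.ringSh O) (((forg O).obj M).obj (op T)) ⟶ M :=
  M.freeHomEquiv.symm fun x => sec hT x

theorem allSec_surjective (M : ModSite.Mod O) :
    Function.Surjective ((ev O T).map (allSec hT M)).hom := fun x => by
  refine ⟨(SheafOfModules.freeSection (R := ModSite.ringSh O) x).1 (op T), ?_⟩
  have h := congrFun (M.freeHomEquiv.apply_symm_apply fun y => sec hT y) x
  rw [SheafOfModules.freeHomEquiv_apply] at h
  refine Eq.trans ?_ (sec_app hT x)
  exact congrArg (fun s : M.sections => s.1 (op T)) h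

theorem epi_of_surjective {M N : ModSite.Mod O} (φ : M ⟶ N)
    (h : ∀ V, Function.Surjective ((ev O V).map φ).hom) : Epi φ :=
  (epi_iff_locSurj φ).2 fun V _ => ⟨⊤, J.top_mem V, fun W _ _ => h W _⟩

theorem surjective_of_bc (hJ : J = ⊥) {M N : ModSite.Mod O} (φ : M ⟶ N)
    (hs : Function.Surjective ((ev O T).map φ).hom) (V : C) (hN : IsIso (bc N (hT.from V))) :
    Function.Surjective ((ev O V).map φ).hom := fun y => by
  haveI : IsIso ((bcNat O (hT.from V)).app N) := hN
  haveI : Epi ((ev O T).map φ) := (ModuleCat.epi_iff_surjective _).2 hs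
  haveI : (ModuleCat.extendScalars.{u, u, u} (O.obj.map (hT.from V).op).hom).IsLeftAdjoint :=
    (ModuleCat.extendRestrictScalarsAdj (O.obj.map (hT.from V).op).hom).isLeftAdjoint
  haveI : (ModuleCat.extendScalars.{u, u, u} (O.obj.map (hT.from V).op).hom).PreservesEpimorphisms :=
    Functor.preservesEpimorphisms_of_adjunction (ModuleCat.extendRestrictScalarsAdj.{u, u, u} (O.obj.map (hT.from V).op).hom)
  haveI : Epi ((ev O T ⋙ ModuleCat.extendScalars.{u, u, u} (O.obj.map (hT.from V).op).hom).map φ) :=
    (ModuleCat.extendScalars.{u, u, u} (O.obj.map (hT.from V).op).hom).map_epi ((ev O T).map φ)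
  haveI : Epi ((bcNat O (hT.from V)).app M ≫ (ev O V).map φ) := by
    rw [← (bcNat O (hT.from V)).naturality φ]
    haveI : Epi ((bcNat O (hT.from V)).app N) := @IsIso.epi_of_iso _ _ _ _ _ hN
    exact epi_comp ((ev O T ⋙ ModuleCat.extendScalars.{u, u, u} (O.obj.map (hT.from V).op).hom).map φ)
      ((bcNat O (hT.from V)).app N)
  haveI : Epi ((ev O V).map φ) := epi_of_epi ((bcNat O (hT.from V)).app M) _
  exact (ModuleCat.epi_iff_surjective _).1 inferInstance y

theorem nonempty_presentation (hJ : J = ⊥) (M : ModSite.Mod O)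
    (hM : ∀ V : C, IsIso (bc M (hT.from V))) :
    Nonempty (SheafOfModules.Presentation (R := ModSite.ringSh O) M) := by
  let π := allSec hT M
  haveI hπ : Epi π := epi_of_surjective π fun V => surjective_of_bc hT hJ π (allSec_surjective hT M) V (hM V)
  let G : M.GeneratingSections := { I := _, s := fun x => sec hT x, epi := hπ }
  let d := allSec hT (kernel G.π) ≫ kernel.ι G.π
  haveI hρ : Epi (allSec hT (kernel G.π)) := by
    refine epi_of_surjective _ fun V z => ?_
    let g := hT.from V
    haveI := preservesFiniteLimits_ev (O := O) hJ T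
    haveI := preservesFiniteLimits_ev (O := O) hJ V
    haveI : (ModuleCat.extendScalars.{u, u, u} (O.obj.map g.op).hom).IsLeftAdjoint :=
      (ModuleCat.extendRestrictScalarsAdj (O.obj.map g.op).hom).isLeftAdjoint
    haveI : PreservesFiniteColimits (ModuleCat.extendScalars.{u, u, u} (O.obj.map g.op).hom) :=
      PreservesColimitsOfSize.preservesFiniteColimits.{u, u} _
    haveI : (ModuleCat.extendScalars.{u, u, u} (O.obj.map g.op).hom).Additive :=
      (ModuleCat.extendRestrictScalarsAdj (O.obj.map g.op).hom).left_adjoint_additive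
    haveI := preservesFiniteColimits_ev (O := O) hJ T
    let S : ShortComplex (ModuleCat.{u} (O.obj.obj (op T))) :=
      ShortComplex.mk ((ev O T).map d) ((ev O T).map G.π)
        (by rw [← Functor.map_comp, Category.assoc, kernel.condition, comp_zero, Functor.map_zero])
    have hSe : S.Exact := by
      rw [ShortComplex.moduleCat_exact_iff]
      intro y hy
      obtain ⟨w, hw⟩ := ((ShortComplex.moduleCat_exact_iff _).1
        ((ShortComplex.exact_of_f_is_kernel _ (kernelIsKernel G.π) :
          (ShortComplex.mk (kernel.ι G.π) G.π (kernel.condition _)).Exact).map (ev O T))) y hy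
      obtain ⟨v, rfl⟩ := allSec_surjective hT (kernel G.π) w
      exact ⟨v, hw⟩
    haveI : Epi S.g := (ModuleCat.epi_iff_surjective _).2 (allSec_surjective hT M)
    have hE : (S.map (ModuleCat.extendScalars.{u, u, u} (O.obj.map g.op).hom)).Exact ∧
        Epi ((ModuleCat.extendScalars.{u, u, u} (O.obj.map g.op).hom).map S.g) := by
      have h := ((Functor.preservesFiniteColimits_tfae
        (ModuleCat.extendScalars.{u, u, u} (O.obj.map g.op).hom)).out 3 1
          (a := PreservesFiniteColimits (ModuleCat.extendScalars.{u, u, u} (O.obj.map g.op).hom))).mp inferInstance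
      exact h S ⟨hSe, inferInstance⟩
    haveI : IsIso ((bcNat O g).app (SheafOfModules.free (R := ModSite.ringSh O) (((forg O).obj M).obj (op T)))) :=
      isIso_bc_free hJ g _
    let y : (ev O V).obj (SheafOfModules.free (R := ModSite.ringSh O) (((forg O).obj M).obj (op T))) :=
      ((ev O V).map (kernel.ι G.π)).hom z
    obtain ⟨y', hy'⟩ := ((ConcreteCategory.isIso_iff_bijective
      ((bcNat O g).app (SheafOfModules.free (R := ModSite.ringSh O) (((forg O).obj M).obj (op T))))).1 inferInstance).2 y
    have h0 : ((ev O V).map G.π).hom y = 0 := by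
      refine (ConcreteCategory.congr_hom ((ev O V).map_comp (kernel.ι G.π) G.π).symm z).trans ?_
      rw [kernel.condition, Functor.map_zero]
      rfl
    have h1 : (S.map (ModuleCat.extendScalars.{u, u, u} (O.obj.map g.op).hom)).g.hom y' = 0 := by
      apply ((ConcreteCategory.isIso_iff_bijective _).1 (hM V)).1
      refine (ConcreteCategory.congr_hom ((bcNat O g).naturality G.π) y').trans ?_
      refine (congrArg ((ev O V).map G.π).hom hy').trans (h0.trans (map_zero _).symm)
    obtain ⟨w, hw⟩ := (ShortComplex.moduleCat_exact_iff _).1 hE.1 y' h1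
    refine ⟨((bcNat O g).app _).hom w, ?_⟩
    apply (ModuleCat.mono_iff_injective ((ev O V).map (kernel.ι G.π))).1 inferInstance
    refine (ConcreteCategory.congr_hom ((ev O V).map_comp (allSec hT (kernel G.π)) (kernel.ι G.π)).symm _).trans ?_
    refine (ConcreteCategory.congr_hom ((bcNat O g).naturality d) w).symm.trans ?_
    exact (congrArg ((bcNat O g).app _).hom hw).trans hy'
  exact ⟨{ generators := G, relations := { I := _, s := fun x => sec hT x, epi := hρ } }⟩

end Terminal

end Chaotic

section Main

variable {C : Type u} [SmallCategory C] {O : Sheaf (⊥ : GrothendieckTopology C) CommRingCat.{u}}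

theorem over_bot (W : C) : (⊥ : GrothendieckTopology C).over W = ⊥ := by
  ext Y S
  rw [GrothendieckTopology.mem_over_iff, GrothendieckTopology.bot_covering, GrothendieckTopology.bot_covering]
  exact map_eq_top_iff (Sieve.overEquiv Y)

theorem isQuasicoherent_iff (F : ModSite.Mod O) :
    SheafOfModules.IsQuasicoherent (R := ModSite.ringSh O) F ↔ ∀ (U V : C) (g : U ⟶ V), IsIso (bc F g) := by
  constructor
  · intro h U V g
    obtain ⟨q⟩ := h.nonempty_quasicoherentData
    have hS := GrothendieckTopology.bot_covering.1 (q.coversTop V)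
    obtain ⟨i, ⟨a⟩⟩ := (Sieve.mem_ofObjects_iff ..).1 (show Sieve.ofObjects q.X V (𝟙 V) by rw [hS]; trivial)
    exact isIso_bc_of_presentation (O := O.over (q.X i)) (over_bot _) (q.presentation i)
      (Over.homMk g : Over.mk (g ≫ a) ⟶ Over.mk a)
  · intro h
    refine SheafOfModules.QuasicoherentData.isQuasicoherent (R := ModSite.ringSh O)
      { I := C
        X := id
        coversTop := fun Y => ?_
        presentation := fun W => Classical.choice
          (nonempty_presentation (O := O.over W) (Over.mkIdTerminal) (over_bot W) _ fun V => h _ _ _) }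
    rw [GrothendieckTopology.bot_covering]
    exact Sieve.id_mem_iff_eq_top.1 ((Sieve.mem_ofObjects_iff ..).2 ⟨Y, ⟨𝟙 Y⟩⟩)

theorem qc_cokernel {F G : ModSite.Mod O} (α : F ⟶ G)
    (hF : SheafOfModules.IsQuasicoherent (R := ModSite.ringSh O) F)
    (hG : SheafOfModules.IsQuasicoherent (R := ModSite.ringSh O) G) :
    SheafOfModules.IsQuasicoherent (R := ModSite.ringSh O) (cokernel α) :=
  (isQuasicoherent_iff _).2 fun U V g => isIso_bc_of_cokernel rfl g α ((isQuasicoherent_iff F).1 hF U V g)
    ((isQuasicoherent_iff G).1 hG U V g) (CokernelCofork.ofπ (cokernel.π α) (cokernel.condition α))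
    (cokernelIsCokernel α)

theorem qc_kernel (hO : ∀ (U V : C) (g : U ⟶ V), (O.obj.map g.op).hom.Flat) {F G : ModSite.Mod O} (α : F ⟶ G)
    (hF : SheafOfModules.IsQuasicoherent (R := ModSite.ringSh O) F)
    (hG : SheafOfModules.IsQuasicoherent (R := ModSite.ringSh O) G) :
    SheafOfModules.IsQuasicoherent (R := ModSite.ringSh O) (kernel α) := by
  refine (isQuasicoherent_iff _).2 fun U V g => ?_
  haveI := preservesFiniteLimits_ev (O := O) rfl U
  haveI := preservesFiniteLimits_ev (O := O) rfl V
  haveI := ModuleCat.preservesFiniteLimits_extendScalars_of_flat (hO U V g)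
  refine isIso_app_of_isLimit₀ (c := KernelFork.ofι (kernel.ι α) (kernel.condition α)) (bcNat O g) (kernelIsKernel α) ?_
  rintro (_ | _)
  · exact (isQuasicoherent_iff F).1 hF U V g
  · exact (isQuasicoherent_iff G).1 hG U V g

theorem qc_extension (hO : ∀ (U V : C) (g : U ⟶ V), (O.obj.map g.op).hom.Flat)
    {S : ShortComplex (ModSite.Mod O)} (hS : S.ShortExact)
    (h₁ : SheafOfModules.IsQuasicoherent (R := ModSite.ringSh O) S.X₁)
    (h₃ : SheafOfModules.IsQuasicoherent (R := ModSite.ringSh O) S.X₃) :
    SheafOfModules.IsQuasicoherent (R := ModSite.ringSh O) S.X₂ := by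
  refine (isQuasicoherent_iff _).2 fun U V g => ?_
  haveI := preservesFiniteLimits_ev (O := O) rfl U
  haveI := preservesFiniteLimits_ev (O := O) rfl V
  haveI := preservesFiniteColimits_ev (O := O) rfl U
  haveI := preservesFiniteColimits_ev (O := O) rfl V
  haveI := ModuleCat.preservesFiniteLimits_extendScalars_of_flat (hO U V g)
  haveI : (ModuleCat.extendScalars.{u, u, u} (O.obj.map g.op).hom).IsLeftAdjoint :=
    (ModuleCat.extendRestrictScalarsAdj (O.obj.map g.op).hom).isLeftAdjoint
  haveI : PreservesFiniteColimits (ModuleCat.extendScalars.{u, u, u} (O.obj.map g.op).hom) :=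
    PreservesColimitsOfSize.preservesFiniteColimits.{u, u} _
  haveI : (ModuleCat.extendScalars.{u, u, u} (O.obj.map g.op).hom).Additive :=
    (ModuleCat.extendRestrictScalarsAdj (O.obj.map g.op).hom).left_adjoint_additive
  let φ := S.mapNatTrans (bcNat O g)
  haveI : IsIso φ.τ₁ := (isQuasicoherent_iff S.X₁).1 h₁ U V g
  haveI : IsIso φ.τ₃ := (isQuasicoherent_iff S.X₃).1 h₃ U V g
  exact ShortComplex.isIso₂_of_shortExact_of_isIso₁₃ φ
    (hS.map_of_exact (ev O V ⋙ ModuleCat.extendScalars.{u, u, u} (O.obj.map g.op).hom)) (hS.map_of_exact (ev O U))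

end Main

end Groth.Agent.H15Site.ChaoticQC
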