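import Groth.Agent.H15Site.PointGerm
import Groth.Agent.H10Coh.ToSheaf
import Mathlib.Algebra.Category.ModuleCat.Sheaf.Generators
import Mathlib.CategoryTheory.Sites.LocallySurjective
import Mathlib

/-!
# Local generators of sheaves of modules on a site, through sections

`Gen s`: the finite family `s` of sections over `U` locally generates; `epi_genMor_iff`,
`epi_restr_map_iff`, `isFiniteType_iff`.
-/

universe u

open CategoryTheory CategoryTheory.Limits Opposite

set_option linter.style.haveILetI false
set_option backward.isDefEq.respectTransparency false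

namespace Groth.Agent.H15Site.LocGen

open ModTensor ModRel

attribute [local instance 10000] SiteInst.hasSheafifySite SiteInst.hasWeakSheafifySite

variable {C : Type u} [SmallCategory C] {J : GrothendieckTopology C} {O : Sheaf J CommRingCat.{u}}

/-- An epimorphism of modules is the same as a locally surjective one. -/
theorem epi_iff_locSurj {M N : ModSite.Mod O} (φ : M ⟶ N) :
    Epi φ ↔ ∀ (V : C) (t : ((forg O).obj N).obj (op V)), ∃ S ∈ J V, ∀ ⦃W : C⦄ (h : W ⟶ V), S h →
      ∃ z : ((forg O).obj M).obj (op W), (φ.val.app (op W)).hom z = rs ((forg O).obj N) h.op t := by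
  haveI : PreservesFiniteColimits (SheafOfModules.toSheaf.{u} (ModSite.ringSh O)) :=
    Groth.Agent.H10Coh.preservesFiniteColimits_toSheaf _
  haveI : (SheafOfModules.toSheaf.{u} (ModSite.ringSh O)).PreservesEpimorphisms :=
    preservesEpimorphisms_of_preservesColimitsOfShape _
  rw [← Functor.epi_map_iff_epi (SheafOfModules.toSheaf.{u} (ModSite.ringSh O)),
    ← Sheaf.isLocallySurjective_iff_epi' (A := AddCommGrpCat.{u})]
  constructor
  · intro h V t
    haveI := h
    exact ⟨Presheaf.imageSieve ((SheafOfModules.toSheaf.{u} (ModSite.ringSh O)).map φ).hom (U := V) t,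
      Presheaf.imageSieve_mem J _ _, fun W g hg => hg⟩
  · intro h
    refine ⟨fun {V} t => ?_⟩
    obtain ⟨S, hS, hS'⟩ := h V t
    exact J.superset_covering (fun W g hg => hS' g hg) hS

variable {U : C} {F G : ModSite.Mod O}

/-- A section over `U`, as a global section of the restriction to `C/U`. -/
noncomputable def restrSection (s : ((forg O).obj F).obj (op U)) :
    ((ModSite.restr O U).obj F).sections :=
  PresheafOfModules.sectionsMk (fun W => rs ((forg O).obj F) W.unop.hom.op s) fun W W' a => by
    show rs ((forg O).obj F) a.unop.left.op (rs ((forg O).obj F) W.unop.hom.op s) = _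
    rw [rs_rs, ← op_comp, Over.w]

/-- The map `O_U^I ⟶ F|_U` given by sections over `U`. -/
noncomputable def genMor {I : Type u} (s : I → ((forg O).obj F).obj (op U)) :
    SheafOfModules.free (R := ModSite.ringSh (O.over U)) I ⟶ (ModSite.restr O U).obj F :=
  ((ModSite.restr O U).obj F).freeHomEquiv.symm fun i => restrSection (s i)

/-- Every map from a free module is given by sections. -/
theorem exists_eq_genMor {I : Type u}
    (ψ : SheafOfModules.free (R := ModSite.ringSh (O.over U)) I ⟶ (ModSite.restr O U).obj F) :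
    ∃ s : I → ((forg O).obj F).obj (op U), genMor s = ψ := by
  let t : I → ((ModSite.restr O U).obj F).sections := ((ModSite.restr O U).obj F).freeHomEquiv ψ
  refine ⟨fun i => (t i).val (op (Over.mk (𝟙 U))), ?_⟩
  refine ((ModSite.restr O U).obj F).freeHomEquiv.injective ?_
  rw [genMor, Equiv.apply_symm_apply]
  funext i
  refine Subtype.ext (funext fun W => ?_)
  have h := (t i).property
    (Over.homMk (U := W.unop) (V := Over.mk (𝟙 U)) W.unop.hom (Category.comp_id _)).op
  exact h

lemma ιFree_genMor_app {I : Type u} (s : I → ((forg O).obj F).obj (op U)) (i : I) {W : Over U}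
    (r : O.obj.obj (op W.left)) :
    ((SheafOfModules.ιFree i ≫ genMor s).val.app (op W)).hom r =
      r • rs ((forg O).obj F) W.hom.op (s i) := by
  have h : SheafOfModules.ιFree i ≫ genMor s =
      ((ModSite.restr O U).obj F).unitHomEquiv.symm (restrSection (s i)) := by
    rw [← SheafOfModules.unitHomEquiv_symm_freeHomEquiv_apply, genMor, Equiv.apply_symm_apply]
  rw [h]
  rfl

/-- Sections of a free module on a finite set are combinations of the basis. -/
theorem exists_coeff {I : Type u} [Fintype I] {W : (Over U)ᵒᵖ}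
    (z : ((SheafOfModules.free (R := ModSite.ringSh (O.over U)) I).val.obj W : Type u)) :
    ∃ c : I → O.obj.obj (op W.unop.left),
      z = ∑ i, ((SheafOfModules.ιFree (R := ModSite.ringSh (O.over U)) i).val.app W).hom (c i) := by
  classical
  let R := ModSite.ringSh (O.over U)
  let p : I → (SheafOfModules.free (R := R) I ⟶ SheafOfModules.unit R) := fun i =>
    Sigma.desc fun j => if j = i then 𝟙 _ else 0
  have hι : ∀ i j, SheafOfModules.ιFree (R := R) j ≫ p i = if j = i then 𝟙 _ else 0 :=
    fun i j => Sigma.ι_desc (f := fun _ : I => SheafOfModules.unit R) _ j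
  have hid : ∑ i, p i ≫ SheafOfModules.ιFree i = 𝟙 (SheafOfModules.free (R := R) I) := by
    refine Sigma.hom_ext _ _ fun j => ?_
    change SheafOfModules.ιFree (R := R) j ≫ _ = SheafOfModules.ιFree (R := R) j ≫ _
    rw [Preadditive.comp_sum, Category.comp_id, Finset.sum_eq_single j]
    · rw [← Category.assoc, hι, if_pos rfl, Category.id_comp]
    · intro b _ hb
      rw [← Category.assoc, hι, if_neg (Ne.symm hb), zero_comp]
    · simp
  refine ⟨fun i => ((p i).val.app W).hom z, ?_⟩
  let ev : (SheafOfModules.free (R := R) I ⟶ SheafOfModules.free (R := R) I) →+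
      ((SheafOfModules.free (R := R) I).val.obj W : Type u) :=
    AddMonoidHom.mk' (fun f => (f.val.app W).hom z) fun _ _ => rfl
  have := congrArg ev hid
  rw [map_sum] at this
  exact this.symm

lemma genMor_app_sum {I : Type u} [Fintype I] (s : I → ((forg O).obj F).obj (op U)) {W : Over U}
    (c : I → O.obj.obj (op W.left)) :
    ((genMor s).val.app (op W)).hom
        (∑ i, ((SheafOfModules.ιFree (R := ModSite.ringSh (O.over U)) i).val.app (op W)).hom (c i)) =
      ∑ i, c i • rs ((forg O).obj F) W.hom.op (s i) :=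
  (map_sum _ _ _).trans (Finset.sum_congr rfl fun i _ => ιFree_genMor_app s i (c i))

/-- The family `s` of sections over `U` generates locally. -/
def Gen {I : Type*} [Fintype I] (s : I → ((forg O).obj F).obj (op U)) : Prop :=
  ∀ ⦃V : C⦄ (g : V ⟶ U) (t : ((forg O).obj F).obj (op V)), ∃ S ∈ J V, ∀ ⦃W : C⦄ (h : W ⟶ V), S h →
    ∃ r : I → O.obj.obj (op W),
      rs ((forg O).obj F) h.op t = ∑ i, r i • rs ((forg O).obj F) (h ≫ g).op (s i)

theorem epi_genMor_iff {I : Type u} [Fintype I] (s : I → ((forg O).obj F).obj (op U)) :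
    Epi (genMor s) ↔ Gen s := by
  rw [epi_iff_locSurj]
  constructor
  · intro h V g t
    obtain ⟨S, hS, hS'⟩ := h (Over.mk g) t
    refine ⟨Sieve.overEquiv _ S, hS, fun W a ha => ?_⟩
    obtain ⟨z, hz⟩ := hS' (Over.homMk (U := Over.mk (a ≫ g)) a : Over.mk (a ≫ g) ⟶ Over.mk g)
      ((Sieve.overEquiv_iff S a).1 ha)
    obtain ⟨c, rfl⟩ := exists_coeff (W := op (Over.mk (a ≫ g))) z
    exact ⟨c, (hz.symm.trans (genMor_app_sum s c) :)⟩
  · intro h V t
    obtain ⟨S, hS, hS'⟩ := h V.hom t
    refine ⟨(Sieve.overEquiv _).symm S, (J.mem_over_iff _).2 (by simpa using hS), fun W a ha => ?_⟩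
    obtain ⟨r, hr⟩ := hS' a.left ((Sieve.overEquiv_symm_iff S a).1 ha)
    refine ⟨∑ i, ((SheafOfModules.ιFree (R := ModSite.ringSh (O.over U)) i).val.app (op W)).hom (r i),
      (genMor_app_sum s r).trans (Eq.trans ?_ hr.symm)⟩
    simp only [Over.w]

theorem epi_restr_map_iff (φ : G ⟶ F) :
    Epi ((ModSite.restr O U).map φ) ↔
      ∀ ⦃V : C⦄ (_ : V ⟶ U) (t : ((forg O).obj F).obj (op V)), ∃ S ∈ J V, ∀ ⦃W : C⦄ (h : W ⟶ V),
        S h → ∃ z : ((forg O).obj G).obj (op W),
          (φ.val.app (op W)).hom z = rs ((forg O).obj F) h.op t := by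
  rw [epi_iff_locSurj]
  constructor
  · intro h V g t
    obtain ⟨S, hS, hS'⟩ := h (Over.mk g) t
    refine ⟨Sieve.overEquiv _ S, hS, fun W a ha => ?_⟩
    exact hS' (Over.homMk (U := Over.mk (a ≫ g)) a : Over.mk (a ≫ g) ⟶ Over.mk g)
      ((Sieve.overEquiv_iff S a).1 ha)
  · intro h V t
    obtain ⟨S, hS, hS'⟩ := h V.hom t
    exact ⟨(Sieve.overEquiv _).symm S, (J.mem_over_iff _).2 (by simpa using hS),
      fun W a ha => hS' a.left ((Sieve.overEquiv_symm_iff S a).1 ha)⟩

/-- Restriction of local generators. -/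
theorem Gen.restrict {I : Type*} [Fintype I] {s : I → ((forg O).obj F).obj (op U)} (hs : Gen s)
    {U' : C} (k : U' ⟶ U) : Gen fun i => rs ((forg O).obj F) k.op (s i) := fun V g t => by
  obtain ⟨S, hS, hS'⟩ := hs (g ≫ k) t
  refine ⟨S, hS, fun W h hh => ?_⟩
  obtain ⟨r, hr⟩ := hS' h hh
  refine ⟨r, hr.trans (Finset.sum_congr rfl fun i _ => ?_)⟩
  rw [rs_rs, ← op_comp, Category.assoc]

variable (F) in
/-- A module is of finite type iff it is locally generated by finitely many sections. -/
theorem isFiniteType_iff :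
    SheafOfModules.IsFiniteType (R := ModSite.ringSh O) F ↔
      ∃ (ι : Type u) (X : ι → C), J.CoversTop X ∧
        ∀ i, ∃ (n : ℕ) (s : Fin n → ((forg O).obj F).obj (op (X i))), Gen s := by
  constructor
  · intro h
    obtain ⟨D, hD⟩ := h.exists_localGeneratorsData
    refine ⟨D.I, D.X, D.coversTop, fun i => ?_⟩
    haveI : Finite (D.generators i).I := (hD.isFiniteType i).finite
    haveI := Fintype.ofFinite (D.generators i).I
    obtain ⟨s, hs⟩ := exists_eq_genMor (F := F) (U := D.X i) (D.generators i).π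
    have hG : Gen s := (epi_genMor_iff s).1 (hs ▸ (D.generators i).epi)
    let e := (Fintype.equivFin (D.generators i).I).symm
    refine ⟨_, s ∘ e, fun V g t => ?_⟩
    obtain ⟨S, hS, hS'⟩ := hG g t
    refine ⟨S, hS, fun W h hh => ?_⟩
    obtain ⟨r, hr⟩ := hS' h hh
    exact ⟨r ∘ e, hr.trans
      (e.sum_comp fun j => r j • rs ((forg O).obj F) (h ≫ g).op (s j)).symm⟩
  · rintro ⟨ι, X, hX, h⟩
    choose n s hs using h
    let D : SheafOfModules.LocalGeneratorsData.{u} (R := ModSite.ringSh O) F :=
      { I := ι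
        X := X
        coversTop := hX
        generators := fun i =>
          { I := ULift.{u} (Fin (n i))
            s := fun j => restrSection (s i j.down)
            epi := by
              refine (epi_genMor_iff (fun j : ULift.{u} (Fin (n i)) => s i j.down)).2 fun V g t => ?_
              obtain ⟨S, hS, hS'⟩ := hs i g t
              refine ⟨S, hS, fun W h hh => ?_⟩
              obtain ⟨r, hr⟩ := hS' h hh
              exact ⟨fun j => r j.down, hr.trans (Equiv.ulift.sum_comp
                (fun j => r j • rs ((forg O).obj F) (h ≫ g).op (s i j))).symm⟩ } }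
    have hD : D.IsFiniteType :=
      { isFiniteType := fun i => { finite := (inferInstance : Finite (ULift.{u} (Fin (n i)))) } }
    exact { exists_localGeneratorsData := ⟨D, hD⟩ }

lemma stalkMap_germ (p : GrothendieckTopology.Point.{u} J) (φ : G ⟶ F) {X : C} (x : p.fiber.obj X)
    (m : ((forg O).obj G).obj (op X)) :
    (ModSite.stalkMap p φ).hom (ModSite.germ p G X x m) =
      ModSite.germ p F X x ((φ.val.app (op X)).hom m) :=
  p.toPresheafFiber_naturality_apply ((SheafOfModules.toSheaf (ModSite.ringSh O)).map φ).hom X x m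

end Groth.Agent.H15Site.LocGen

namespace Groth.Agent.H15Site.LocGen

open ModTensor ModRel TopologicalSpace

variable {X : TopCat.{u}} {O : TopCat.Sheaf CommRingCat.{u} X}

/-- On a space: a module of finite type has finitely many generators near each point. -/
theorem exists_gen_nhd (F : ModSite.Mod O) [h : SheafOfModules.IsFiniteType (R := ModSite.ringSh O) F]
    (x : X) : ∃ U : Opens X, x ∈ U ∧ ∃ (n : ℕ) (s : Fin n → ((forg O).obj F).obj (op U)), Gen s := by
  obtain ⟨ι, U, hU, hs⟩ := (isFiniteType_iff F).1 h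
  obtain ⟨i, hxi⟩ := Opens.mem_iSup.1
    (((Opens.coversTop_iff _ _).1 hU).symm ▸ Opens.mem_top x : x ∈ ⨆ i, U i)
  exact ⟨U i, hxi, hs i⟩

/-- On a space: generators near each point give finite type. -/
theorem isFiniteType_of_gen_nhd {F : ModSite.Mod O}
    (h : ∀ x : X, ∃ U : Opens X, x ∈ U ∧ ∃ (n : ℕ) (s : Fin n → ((forg O).obj F).obj (op U)), Gen s) :
    SheafOfModules.IsFiniteType (R := ModSite.ringSh O) F := by
  choose U hxU hs using h
  exact (isFiniteType_iff F).2 ⟨X, U, (Opens.coversTop_iff _ _).2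
    (eq_top_iff.2 fun x _ => Opens.mem_iSup.2 ⟨x, hxU x⟩), hs⟩

/-- A map to a finite type module which is surjective on the stalk at `x` is epi near `x`. -/
theorem exists_epi_restr_nhd {G F : ModSite.Mod O} (φ : G ⟶ F)
    [SheafOfModules.IsFiniteType (R := ModSite.ringSh O) F] (x : X)
    (hx : Function.Surjective (ModSite.stalkMap (Opens.pointGrothendieckTopology x) φ).hom) :
    ∃ U : Opens X, x ∈ U ∧ Epi ((ModSite.restr O U).map φ) := by
  let p := Opens.pointGrothendieckTopology x
  obtain ⟨U, hxU, n, s, hs⟩ := exists_gen_nhd F x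
  choose a ha using fun j => hx (ModSite.germ p F U ⟨⟨hxU⟩⟩ (s j))
  obtain ⟨V, g, xV, hxV, -, z, -, hz⟩ := PointGerm.exists_rep p G (U := U) ⟨⟨hxU⟩⟩
    (fun e : Fin 0 => e.elim0) a
  obtain ⟨W, k, xW, hxW, hW⟩ := PointGerm.exists_refine' p (ModSite.toAb F).obj xV (ι := Fin n)
    (fun j => (φ.val.app (op V)).hom (z j)) (fun j => rs ((forg O).obj F) g.op (s j)) (fun j => by
      show ModSite.germ p F V xV _ = ModSite.germ p F V xV _
      rw [PointGerm.germ_rs, hxV, ← stalkMap_germ, hz, ha])
  refine ⟨W, xW.down.down, (epi_restr_map_iff φ).2 fun V' g' t => ?_⟩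
  obtain ⟨S, hS, hS'⟩ := hs (g' ≫ k ≫ g) t
  refine ⟨S, hS, fun W' h hh => ?_⟩
  obtain ⟨r, hr⟩ := hS' h hh
  refine ⟨∑ j, r j • rs ((forg O).obj G) (h ≫ g' ≫ k).op (z j), ?_⟩
  rw [hr, map_sum]
  refine Finset.sum_congr rfl fun j _ => ?_
  refine ((φ.val.app (op W')).hom.map_smul _ _).trans (congrArg (r j • ·) ?_)
  have e := congrArg (rs ((forg O).obj F) (h ≫ g').op)
    (show rs ((forg O).obj F) k.op ((φ.val.app (op V)).hom (z j)) =
      rs ((forg O).obj F) k.op (rs ((forg O).obj F) g.op (s j)) from hW j)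
  rw [rs_rs, rs_rs, rs_rs] at e
  refine (rs_app ((forg O).map φ) _ _).trans ?_
  simp only [op_comp, Category.assoc] at e ⊢
  exact e

end Groth.Agent.H15Site.LocGen
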