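import Groth.Agent.H15Site.EdgeAcyclic
import Groth.Agent.H15Site.HUBasic
import Mathlib.CategoryTheory.Sites.IsSheafFor
import Mathlib.CategoryTheory.Adjunction.Whiskering

/-!
# Acyclicity on objects and cohomology of covering sieves in presheaves
-/

set_option autoImplicit false
set_option linter.style.haveILetI false
set_option linter.unusedSectionVars false
set_option backward.isDefEq.respectTransparency false

universe u

open CategoryTheory CategoryTheory.Limits Opposite CategoryTheory.Abelian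

namespace Groth.Agent.H15Site.SieveAcyclic

attribute [local instance 10000] SiteInst.hasSheafifySite SiteInst.hasWeakSheafifySite
  SiteInst.hasExtSite SiteInst.enoughInjSite

variable {C : Type u} [SmallCategory C] {J : GrothendieckTopology C}

/-- Sheaves for the trivial topology. -/
abbrev PB (C : Type u) [SmallCategory C] : Type (u + 1) :=
  Sheaf (⊥ : GrothendieckTopology C) AddCommGrpCat.{u}

/-- A presheaf as a sheaf for the trivial topology. -/
abbrev ofP (M : Cᵒᵖ ⥤ AddCommGrpCat.{u}) : PB C := ⟨M, Presheaf.isSheaf_bot _⟩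

/-- A morphism of presheaves as a morphism of sheaves for the trivial topology. -/
abbrev ofPHom {M N : Cᵒᵖ ⥤ AddCommGrpCat.{u}} (f : M ⟶ N) : ofP M ⟶ ofP N := ⟨f⟩

theorem isEquivalence_bot :
    (sheafToPresheaf (⊥ : GrothendieckTopology C) AddCommGrpCat.{u}).IsEquivalence :=
  haveI : (sheafToPresheaf (⊥ : GrothendieckTopology C) AddCommGrpCat.{u}).EssSurj :=
    ⟨fun M => ⟨ofP M, ⟨Iso.refl _⟩⟩⟩
  haveI : (sheafToPresheaf (⊥ : GrothendieckTopology C) AddCommGrpCat.{u}).Faithful := inferInstance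
  haveI : (sheafToPresheaf (⊥ : GrothendieckTopology C) AddCommGrpCat.{u}).Full := inferInstance
  { }

theorem injective_ofP (I : Sheaf J AddCommGrpCat.{u}) [Injective I] : Injective (ofP I.obj) := by
  haveI : Injective I.obj :=
    Injective.injective_of_adjoint (sheafificationAdjunction J AddCommGrpCat.{u}) I
  haveI := isEquivalence_bot (C := C)
  refine ⟨fun {A B} g f _ => ?_⟩
  haveI : Mono f.hom := inferInstanceAs (Mono ((sheafToPresheaf _ _).map f))
  obtain ⟨h, hh⟩ := Injective.factors g.hom f.hom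
  exact ⟨⟨h⟩, Sheaf.hom_ext hh⟩

theorem shortExact_ofP {S : ShortComplex (Cᵒᵖ ⥤ AddCommGrpCat.{u})} (hS : S.ShortExact) :
    (ShortComplex.mk (ofPHom S.f) (ofPHom S.g) (Sheaf.hom_ext S.zero)).ShortExact := by
  haveI := isEquivalence_bot (C := C)
  haveI := hS.mono_f
  haveI := hS.epi_g
  refine { exact := ?_, mono_f := ?_, epi_g := ?_ }
  · refine (ShortComplex.exact_map_iff_of_faithful _
      (sheafToPresheaf (⊥ : GrothendieckTopology C) AddCommGrpCat.{u})).1 ?_
    exact hS.exact
  · exact (sheafToPresheaf _ _).mono_of_mono_map (inferInstanceAs (Mono S.f))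
  · exact (sheafToPresheaf _ _).epi_of_epi_map (inferInstanceAs (Epi S.g))

variable {X : C}

/-- The free abelian presheaf on a sieve. -/
noncomputable abbrev fS (R : Sieve X) : PB C :=
  (presheafToSheaf (⊥ : GrothendieckTopology C) AddCommGrpCat.{u}).obj
    (R.functor ⋙ AddCommGrpCat.free.{u})

/-- Maps out of it. -/
noncomputable def homFS (R : Sieve X) (M : PB C) :
    (fS R ⟶ M) ≃ (R.functor ⟶ M.obj ⋙ CategoryTheory.forget AddCommGrpCat.{u}) :=
  ((sheafificationAdjunction (⊥ : GrothendieckTopology C) AddCommGrpCat.{u}).homEquiv _ _).trans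
    ((AddCommGrpCat.adj.{u}.whiskerRight Cᵒᵖ).homEquiv _ _)

lemma homFS_comp (R : Sieve X) {M N : PB C} (φ : fS R ⟶ M) (g : M ⟶ N) :
    homFS R N (φ ≫ g) =
      homFS R M φ ≫ Functor.whiskerRight g.hom (CategoryTheory.forget AddCommGrpCat.{u}) := by
  rw [homFS, homFS, Equiv.trans_apply, Equiv.trans_apply, Adjunction.homEquiv_naturality_right]
  exact (AddCommGrpCat.adj.{u}.whiskerRight Cᵒᵖ).homEquiv_naturality_right _ _

/-- The acyclicity of a sheaf with respect to covering sieves. -/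
def SAcyc (J : GrothendieckTopology C) (M : Cᵒᵖ ⥤ AddCommGrpCat.{u}) : Prop :=
  ∀ (X : C) (R : Sieve X), R ∈ J X → ∀ q : ℕ, Subsingleton (Ext (fS R) (ofP M) (q + 1))

theorem forget_isSheafFor (F : Sheaf J AddCommGrpCat.{u}) (R : Sieve X) (hR : R ∈ J X) :
    Presieve.YonedaSheafCondition (F.obj ⋙ CategoryTheory.forget AddCommGrpCat.{u}) R :=
  Presieve.isSheafFor_iff_yonedaSheafCondition.1
    ((isSheaf_iff_isSheaf_of_type _ _).1
      ((sheafCompose J (CategoryTheory.forget AddCommGrpCat.{u})).obj F).property R hR)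

theorem exists_amalgamate (F : Sheaf J AddCommGrpCat.{u}) (R : Sieve X) (hR : R ∈ J X)
    (f : R.functor ⟶ F.obj ⋙ CategoryTheory.forget AddCommGrpCat.{u}) :
    ∃ s : F.obj.obj (op X), ∀ {Y : C} (a : Y ⟶ X) (ha : R a),
      F.obj.map a.op s = f.app (op Y) ⟨a, ha⟩ := by
  obtain ⟨g, hg, -⟩ := forget_isSheafFor F R hR f
  refine ⟨yonedaEquiv g, fun {Y} a ha => ?_⟩
  subst hg
  exact (ConcreteCategory.congr_hom (g.naturality a.op) (𝟙 X)).symm.trans
    (congrArg (fun t => g.app (op Y) t) (Category.comp_id a))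

theorem eq_of_sieve (F : Sheaf J AddCommGrpCat.{u}) (R : Sieve X) (hR : R ∈ J X)
    (s t : F.obj.obj (op X))
    (h : ∀ {Y : C} (a : Y ⟶ X), R a → F.obj.map a.op s = F.obj.map a.op t) : s = t := by
  have hs := ((isSheaf_iff_isSheaf_of_type _ _).1
    ((sheafCompose J (CategoryTheory.forget AddCommGrpCat.{u})).obj F).property R hR).isSeparatedFor
  exact hs.ext fun Y a ha => h a ha

variable (F : Sheaf J AddCommGrpCat.{u})

theorem shortExact_of_surjective :
    (∀ U, Function.Surjective ((Edge.injSeq F).g.hom.app U)) →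
      (ShortComplex.mk (Edge.injSeq F).f.hom (Edge.injSeq F).g.hom
        (congrArg (fun m : F ⟶ (Edge.injSeq F).X₃ => m.hom) (Edge.injSeq F).zero)).ShortExact := by
  intro hs
  haveI : ∀ U, Epi ((Edge.injSeq F).g.hom.app U) := fun U =>
    (AddCommGrpCat.epi_iff_surjective _).2 (hs U)
  haveI : Epi (Edge.injSeq F).g.hom := NatTrans.epi_of_epi_app _
  refine { exact := ?_, mono_f := Edge.mono_injective_ι_hom F, epi_g := this }
  haveI := (sheafificationAdjunction J AddCommGrpCat.{u}).rightAdjoint_preservesLimits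
  exact (Edge.injSeq_shortExact F).exact.map_of_mono_of_preservesKernel
    (sheafToPresheaf J AddCommGrpCat.{u}) (Edge.injSeq_shortExact F).mono_f inferInstance

theorem surjective_of_HU_one (h : ∀ U : C, Subsingleton (CohSite.HU F 1 U)) (U : Cᵒᵖ) :
    Function.Surjective ((Edge.injSeq F).g.hom.app U) := by
  intro t
  have hS := Edge.injSeq_shortExact F
  obtain ⟨w, hw⟩ := Edge.exists_HUmap_g hS U.unop 0 (CechEdge.sectH0 J U.unop _ t)
    ((h U.unop).elim _ _)
  refine ⟨(CechEdge.sectH0 J U.unop _).symm w, (CechEdge.sectH0 J U.unop _).injective ?_⟩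
  rw [← Edge.sectH0_natural, AddEquiv.apply_symm_apply]
  exact hw

theorem HU_X₃ (h : ∀ (U : C) (q : ℕ), Subsingleton (CohSite.HU F (q + 1) U)) (U : C) (q : ℕ) :
    Subsingleton (CohSite.HU (Edge.injSeq F).X₃ (q + 1) U) :=
  subsingleton_of_forall_eq 0 fun y => by
    obtain ⟨w, rfl⟩ :=
      Edge.exists_HUmap_g (Edge.injSeq_shortExact F) U (q + 1) y ((h U (q + 1)).elim _ _)
    rw [(Edge.subsingleton_HU_of_injective (Edge.injSeq F).X₂ q U).elim w 0, map_zero]

theorem sAcyc_of_HU (h : ∀ (U : C) (q : ℕ), Subsingleton (CohSite.HU F (q + 1) U)) :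
    SAcyc J F.obj := by
  intro X R hR q
  induction q generalizing F with
  | zero =>
    have hsurj := surjective_of_HU_one F fun U => h U 0
    have hS := shortExact_ofP (shortExact_of_surjective F hsurj)
    haveI := injective_ofP (Edge.injSeq F).X₂
    refine subsingleton_of_forall_eq 0 fun x => ?_
    obtain ⟨x₃, rfl⟩ := Ext.covariant_sequence_exact₁ (fS R) hS x (Ext.eq_zero_of_injective _) rfl
    obtain ⟨φ, rfl⟩ := Ext.addEquiv₀.symm.surjective x₃
    obtain ⟨t, ht⟩ := exists_amalgamate (Edge.injSeq F).X₃ R hR (homFS R _ φ)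
    obtain ⟨s, rfl⟩ := hsurj (op X) t
    let ψ : fS R ⟶ ofP (Edge.injSeq F).X₂.obj := (homFS R _).symm
      (R.functorInclusion ≫ yonedaEquiv.symm
        (show ((Edge.injSeq F).X₂.obj ⋙ CategoryTheory.forget AddCommGrpCat.{u}).obj (op X) from s))
    have hψ : ψ ≫ ofPHom (Edge.injSeq F).g.hom = φ := by
      apply (homFS R _).injective
      rw [homFS_comp, Equiv.apply_symm_apply]
      ext Y a
      exact (ConcreteCategory.congr_hom ((Edge.injSeq F).g.hom.naturality a.1.op) s).trans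
        (ht a.1 a.2)
    rw [← hψ]
    show (Ext.mk₀ (ψ ≫ ofPHom (Edge.injSeq F).g.hom)).comp hS.extClass rfl = 0
    rw [← Ext.mk₀_comp_mk₀, Ext.comp_assoc _ _ _ (zero_add 0) (zero_add 1) rfl]
    exact (congrArg (fun e => (Ext.mk₀ ψ).comp e (zero_add 1)) hS.comp_extClass).trans
      ((Ext.mk₀ ψ).comp_zero (ofP F.obj) 1 1 (zero_add 1))
  | succ q ih =>
    have hS := shortExact_ofP (shortExact_of_surjective F
      (surjective_of_HU_one F fun U => h U 0))
    haveI := injective_ofP (Edge.injSeq F).X₂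
    refine subsingleton_of_forall_eq 0 fun x => ?_
    obtain ⟨x₃, rfl⟩ := Ext.covariant_sequence_exact₁ (fS R) hS x (Ext.eq_zero_of_injective _) rfl
    rw [(ih (Edge.injSeq F).X₃ (HU_X₃ F h)).elim x₃ 0, Ext.zero_comp]

theorem surjective_of_sAcyc (h : SAcyc J F.obj) (U : Cᵒᵖ) :
    Function.Surjective ((Edge.injSeq F).g.hom.app U) := by
  intro t
  have hR := HUBasic.imageSieve_mem (Edge.injSeq F).g (U := U.unop) t
  set R := Presheaf.imageSieve (Edge.injSeq F).g.hom (U := U.unop) t with hRdef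
  have hS := shortExact_ofP (Edge.preSeq_shortExact F)
  have hcQ : ∀ Y, Function.Injective ((Edge.cQ F).app Y) := fun Y =>
    (AddCommGrpCat.mono_iff_injective _).1 inferInstance
  have hex : ∀ {Y : C} (a : Y ⟶ U.unop), R a → ∃ p : (Edge.preSeq F).X₃.obj (op Y),
      (Edge.cQ F).app (op Y) p = (Edge.injSeq F).X₃.obj.map a.op t := by
    rintro Y a ⟨s, hs⟩
    exact ⟨(Edge.preSeq F).g.app (op Y) s,
      (ConcreteCategory.congr_hom (congr_app (Edge.π_cQ F) (op Y)) s).trans hs⟩
  choose p hp using @hex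
  let η : R.functor ⟶ (ofP (Edge.preSeq F).X₃).obj ⋙ CategoryTheory.forget AddCommGrpCat.{u} :=
    { app := fun Y => ↾fun a => p a.1 a.2
      naturality := fun Y Z g => by
        ext a
        refine hcQ Z ?_
        refine Eq.trans (hp _ _) ?_
        refine Eq.trans ?_ (ConcreteCategory.congr_hom ((Edge.cQ F).naturality g) _).symm
        refine Eq.trans ?_ (congrArg ((Edge.injSeq F).X₃.obj.map g) (hp a.1 a.2)).symm
        exact (ConcreteCategory.congr_hom (congrArg (Edge.injSeq F).X₃.obj.map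
          (show (g.unop ≫ a.1).op = a.1.op ≫ g from rfl)) t).trans
          (ConcreteCategory.congr_hom ((Edge.injSeq F).X₃.obj.map_comp a.1.op g) t) }
  obtain ⟨w, hw⟩ := Ext.covariant_sequence_exact₃ (fS R) hS (Ext.mk₀ ((homFS R _).symm η)) rfl
    ((h U.unop R hR 0).elim _ _)
  obtain ⟨ψ, rfl⟩ := Ext.addEquiv₀.symm.surjective w
  have hψ : ψ ≫ ofPHom (Edge.preSeq F).g = (homFS R _).symm η :=
    (Ext.mk₀_bijective _ _).1 ((Ext.mk₀_comp_mk₀ _ _).symm.trans hw)
  obtain ⟨s, hs⟩ := exists_amalgamate (Edge.injSeq F).X₂ R hR (homFS R _ ψ)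
  refine ⟨s, eq_of_sieve (Edge.injSeq F).X₃ R hR _ _ fun {Y} a ha => ?_⟩
  have h1 := congrArg (homFS R _) hψ
  rw [homFS_comp, Equiv.apply_symm_apply] at h1
  have h2 := ConcreteCategory.congr_hom (congr_app h1 (op Y)) ⟨a, ha⟩
  refine Eq.trans ?_ (hp a ha)
  refine Eq.trans ?_ (congrArg ((Edge.cQ F).app (op Y)) h2)
  refine (ConcreteCategory.congr_hom ((Edge.injSeq F).g.hom.naturality a.op) s).symm.trans ?_
  refine (congrArg ((Edge.injSeq F).g.hom.app (op Y)) (hs a ha)).trans ?_
  exact (ConcreteCategory.congr_hom (congr_app (Edge.π_cQ F) (op Y)) _).symm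

theorem sAcyc_X₃ (h : SAcyc J F.obj) : SAcyc J (Edge.injSeq F).X₃.obj := by
  intro X R hR q
  have hS := shortExact_ofP (shortExact_of_surjective F (surjective_of_sAcyc F h))
  haveI := injective_ofP (Edge.injSeq F).X₂
  refine subsingleton_of_forall_eq 0 fun x => ?_
  obtain ⟨w, rfl⟩ := Ext.covariant_sequence_exact₃ (fS R) hS x rfl ((h X R hR (q + 1)).elim _ _)
  rw [Ext.eq_zero_of_injective (I := ofP (Edge.injSeq F).X₂.obj) w, Ext.zero_comp]

theorem HU_of_sAcyc (h : SAcyc J F.obj) (U : C) (q : ℕ) :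
    Subsingleton (CohSite.HU F (q + 1) U) := by
  induction q generalizing F with
  | zero =>
    refine subsingleton_of_forall_eq 0 fun x => ?_
    obtain ⟨w, rfl⟩ := Edge.exists_extδ_eq (Edge.injSeq_shortExact F) U 0 x
      ((Edge.subsingleton_HU_of_injective (Edge.injSeq F).X₂ 0 U).elim _ _)
    obtain ⟨t, rfl⟩ := (CechEdge.sectH0 J U _).surjective w
    obtain ⟨s, rfl⟩ := surjective_of_sAcyc F h (op U) t
    rw [← Edge.sectH0_natural]
    exact Edge.extδ_HUmap_g _ U 0 _
  | succ q ih =>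
    refine subsingleton_of_forall_eq 0 fun x => ?_
    obtain ⟨w, rfl⟩ := Edge.exists_extδ_eq (Edge.injSeq_shortExact F) U (q + 1) x
      ((Edge.subsingleton_HU_of_injective (Edge.injSeq F).X₂ (q + 1) U).elim _ _)
    rw [(ih (Edge.injSeq F).X₃ (sAcyc_X₃ F h)).elim w 0, map_zero]

end Groth.Agent.H15Site.SieveAcyclic
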