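import Groth.Agent.H15Site.CmpDimShift
import Groth.Prelude.Def_WeakSerre
import Mathlib.CategoryTheory.Adjunction.FullyFaithful

/-!
# The inductive step of the comparison of two topologies, abstract form
-/

set_option autoImplicit false
set_option linter.unusedSectionVars false
set_option linter.style.haveILetI false
set_option backward.isDefEq.respectTransparency false

universe v v' u u'

open CategoryTheory CategoryTheory.Limits

namespace Groth.Agent.H15Site.CmpAbstract

open CmpDimShift Groth.Agent.H16Derived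

section LES

variable {A : Type u} [Category.{v} A] [Abelian A] [EnoughInjectives A]
  {B : Type u'} [Category.{v'} B] [Abelian B]
  (G : A ⥤ B) [G.Additive]

/-- `RʲG M = 0` for `1 ≤ j ≤ m`. -/
def Van (m : ℕ) (M : A) : Prop := ∀ j, 1 ≤ j → j ≤ m → IsZero ((G.rightDerived j).obj M)

theorem Van.mono {m m' : ℕ} {M : A} (h : Van G m M) (hm : m' ≤ m) : Van G m' M :=
  fun j h1 h2 => h j h1 (h2.trans hm)

theorem Van.of_iso {m : ℕ} {M N : A} (h : Van G m M) (e : M ≅ N) : Van G m N :=
  fun j h1 h2 => (h j h1 h2).of_iso ((G.rightDerived j).mapIso e.symm)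

theorem van_injective (m : ℕ) (M : A) [Injective M] : Van G m M := fun j h1 _ => by
  obtain ⟨k, rfl⟩ := Nat.exists_eq_add_of_le' h1
  exact G.isZero_rightDerived_obj_injective_succ k M

variable [PreservesFiniteLimits G] {S : ShortComplex A} (hS : S.ShortExact)

include hS in
theorem van_mid {m : ℕ} (h₁ : Van G m S.X₁) (h₃ : Van G m S.X₃) : Van G m S.X₂ := by
  obtain ⟨T, hT, e₁, e₂, e₃, -⟩ := AcyclicLES.exists_les G S hS
  intro j h1 h2
  refine IsZero.of_iso ?_ (e₂ j).some
  exact (hT.homology_exact₂ (j : ℤ)).isZero_of_both_zeros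
    (((h₁ j h1 h2).of_iso (e₁ j).some.symm).eq_of_src _ _)
    (((h₃ j h1 h2).of_iso (e₃ j).some.symm).eq_of_tgt _ _)

include hS in
theorem van_right {m : ℕ} (h₂ : Van G m S.X₂) (h₁ : Van G (m + 1) S.X₁) : Van G m S.X₃ := by
  obtain ⟨T, hT, e₁, e₂, e₃, -⟩ := AcyclicLES.exists_les G S hS
  intro j h1 h2
  refine IsZero.of_iso ?_ (e₃ j).some
  exact (hT.homology_exact₃ (j : ℤ) ((j + 1 : ℕ) : ℤ) (by simp)).isZero_of_both_zeros
    (((h₂ j h1 h2).of_iso (e₂ j).some.symm).eq_of_src _ _)
    (((h₁ (j + 1) (by omega) (by omega)).of_iso (e₁ (j + 1)).some.symm).eq_of_tgt _ _)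

include hS in
theorem epi_map_g (h₁ : Van G 1 S.X₁) : Epi (G.map S.g) := by
  obtain ⟨T, hT, e₁, e₂, e₃, a₂, a₃, ha₂, ha₃, hc⟩ := AcyclicLES.exists_les G S hS
  haveI : Epi (HomologicalComplex.homologyMap T.g (0 : ℤ)) :=
    (hT.homology_exact₃ (0 : ℤ) ((1 : ℕ) : ℤ) (by simp)).epi_f
      (((h₁ 1 le_rfl le_rfl).of_iso (e₁ 1).some.symm).eq_of_tgt _ _)
  haveI : Epi (G.map S.g ≫ a₃) := by rw [← hc]; infer_instance
  have : G.map S.g = (G.map S.g ≫ a₃) ≫ inv a₃ := by simp
  rw [this]
  infer_instance

/-- Homology in positive degrees through `sc'`. -/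
noncomputable def scIso (K : CochainComplex A ℕ) (k : ℕ) : K.homology (k + 1) ≅ (sc K k).homology :=
  K.homologyIsoSc' k (k + 1) (k + 1 + 1) (by simp) (by simp)

/-- Homology of the image in positive degrees. -/
noncomputable def scMapIso (K : CochainComplex A ℕ) (k : ℕ) :
    ((G.mapHomologicalComplex (ComplexShape.up ℕ)).obj K).homology (k + 1) ≅ ((sc K k).map G).homology :=
  ((G.mapHomologicalComplex (ComplexShape.up ℕ)).obj K).homologyIsoSc' k (k + 1) (k + 1 + 1)
    (by simp) (by simp)

/-- Homology of the image in degree zero. -/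
noncomputable def zeroIso (K : CochainComplex A ℕ) :
    ((G.mapHomologicalComplex (ComplexShape.up ℕ)).obj K).homology 0 ≅ G.obj (Z K 0) :=
  (CochainComplex.isoHomologyπ₀ ((G.mapHomologicalComplex (ComplexShape.up ℕ)).obj K)).symm ≪≫
    (((G.mapHomologicalComplex (ComplexShape.up ℕ)).obj K).cyclesIsKernel 0 (0 + 1)
      (by simp)).conePointUniqueUpToIso
      (KernelFork.mapIsLimit _ (kernelIsKernel (K.d 0 (0 + 1))) G)

theorem van_cycles (n : ℕ) (Q : CochainComplex A ℕ) [∀ k, Injective (Q.X k)] (h0 : Van G n (Z Q 0))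
    (k : ℕ) (h : ∀ i, i < k → Van G n (sc Q i).homology) : Van G (n - k) (Z Q k) := by
  induction k with
  | zero => exact h0
  | succ k ih =>
    have hB : Van G (n - (k + 1)) (Abelian.image (sc Q k).toCycles) := by
      rcases Nat.lt_or_ge k n with hk | hk
      · exact van_right G (shortExact_imageSeq Q k) (van_injective G _ (Q.X k))
          ((ih (fun i hi => h i (by omega))).mono G (by omega))
      · intro j h1 h2
        omega
    have hS : (ShortComplex.mk (Abelian.image.ι (sc Q k).toCycles) (sc Q k).homologyπ (by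
        rw [← cancel_epi (Abelian.factorThruImage (sc Q k).toCycles), ← Category.assoc,
          Abelian.image.fac, (sc Q k).toCycles_comp_homologyπ, comp_zero])).ShortExact := by
      refine { exact := ?_
               mono_f := inferInstanceAs (Mono (Abelian.image.ι _))
               epi_g := inferInstanceAs (Epi (sc Q k).homologyπ) }
      refine ShortComplex.exact_of_g_is_cokernel _ ?_
      exact CokernelCofork.IsColimit.ofπ _ _
        (fun g hg => (sc Q k).descHomology g (by
          rw [← Abelian.image.fac (sc Q k).toCycles, Category.assoc, hg, comp_zero]))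
        (fun g hg => (sc Q k).π_descHomology g _)
        (fun g hg g' hg' => by
          rw [← cancel_epi (sc Q k).homologyπ, (sc Q k).π_descHomology, hg'])
    refine (van_mid G hS hB ((h k (by omega)).mono G (by omega))).of_iso G ?_
    exact (sc Q k).cyclesIsKernel.conePointUniqueUpToIso
      (limit.isLimit (parallelPair (Q.d (k + 1) (k + 1 + 1)) 0))

end LES

section Adj

variable {A : Type u} [Category.{v} A] [Abelian A] {A' : Type u'} [Category.{v'} A'] [Abelian A']
  {a : A' ⥤ A} {ε : A ⥤ A'} [a.Additive] [ε.Additive] [PreservesFiniteLimits a]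
  [PreservesFiniteColimits a] (adj : a ⊣ ε) [IsIso adj.counit]

theorem mono_unit_of_mono {M : A'} {Y : A} (m : M ⟶ ε.obj Y) [Mono m] : Mono (adj.unit.app M) := by
  have h : adj.unit.app M ≫ ε.map ((adj.homEquiv M Y).symm m) = m :=
    (adj.homEquiv_unit M Y _).symm.trans ((adj.homEquiv M Y).apply_symm_apply m)
  haveI : Mono (adj.unit.app M ≫ ε.map ((adj.homEquiv M Y).symm m)) := by rw [h]; infer_instance
  exact mono_of_mono (adj.unit.app M) (ε.map ((adj.homEquiv M Y).symm m))

/-- The counit on short complexes. -/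
noncomputable def counitSC (S : ShortComplex A) : (S.map ε).map a ≅ S :=
  ShortComplex.isoMk (asIso (adj.counit.app S.X₁)) (asIso (adj.counit.app S.X₂))
    (asIso (adj.counit.app S.X₃)) (adj.counit.naturality S.f).symm (adj.counit.naturality S.g).symm

/-- `a H(ε S) ≅ H(S)`. -/
noncomputable def pullHomologyIso (S : ShortComplex A) : a.obj (S.map ε).homology ≅ S.homology :=
  ((S.map ε).mapHomologyIso a).symm ≪≫ ShortComplex.homologyMapIso (counitSC adj S)

variable (P' : ObjectProperty A') [WSerre.IsWeakSerre P']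
  (hsep : ∀ M, P' M → IsIso (adj.unit.app M))

include hsep in
theorem prop_homology (S : ShortComplex A) (h : P' (S.map ε).homology) : P' (ε.obj S.homology) :=
  haveI := hsep _ h
  P'.prop_of_iso (asIso (adj.unit.app _) ≪≫ ε.mapIso (pullHomologyIso adj S)) h

variable [EnoughInjectives A] [PreservesFiniteLimits ε] (n : ℕ)
  (hV : ∀ M : A, P' (ε.obj M) → Van ε n M)

include hsep hV in
theorem mono_unit_homology (Q : CochainComplex A ℕ) [∀ k, Injective (Q.X k)] (i : ℕ) (hi : i ≤ n)
    (h : ∀ j, j < i → P' (((ε.mapHomologicalComplex (ComplexShape.up ℕ)).obj Q).homology j)) :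
    Mono (adj.unit.app (((ε.mapHomologicalComplex (ComplexShape.up ℕ)).obj Q).homology i)) := by
  rcases i with - | k
  · exact mono_unit_of_mono adj (zeroIso ε Q).hom
  · have h0 : Van ε n (Z Q 0) := hV _ (P'.prop_of_iso (zeroIso ε Q) (h 0 (by omega)))
    have hZ := van_cycles ε n Q h0 k fun j hj => hV _ (prop_homology adj P' hsep _
      (P'.prop_of_iso (scMapIso ε Q j) (h (j + 1) (by omega))))
    haveI : Epi (ε.map (Abelian.factorThruImage (sc Q k).toCycles)) :=
      epi_map_g ε (shortExact_imageSeq Q k) (hZ.mono ε (by omega))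
    haveI := CmpKer.mono_cmp ε (sc Q k) _ _ (Abelian.image.fac (sc Q k).toCycles)
    exact mono_unit_of_mono adj ((scMapIso ε Q k).hom ≫ CmpKer.cmp ε (sc Q k))

include hsep hV in
/-- The inductive step. -/
theorem mono_homologyMap (T : ShortComplex (CochainComplex A ℕ))
    (hT : (T.map (ε.mapHomologicalComplex (ComplexShape.up ℕ))).ShortExact)
    [∀ k, Injective (T.X₃.X k)] (hex : ∀ k, (sc T.X₁ k).Exact)
    (hI : ∀ i, i ≤ n → P' (((ε.mapHomologicalComplex (ComplexShape.up ℕ)).obj T.X₁).homology i))
    (hJ : ∀ i, i ≤ n → P' (((ε.mapHomologicalComplex (ComplexShape.up ℕ)).obj T.X₂).homology i)) :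
    Mono (HomologicalComplex.homologyMap
      ((ε.mapHomologicalComplex (ComplexShape.up ℕ)).map T.f) (n + 1)) := by
  let E := T.map (ε.mapHomologicalComplex (ComplexShape.up ℕ))
  have key : ∀ i, i ≤ n → Epi (HomologicalComplex.homologyMap E.g i) ∧ P' (E.X₃.homology i) := by
    intro i
    induction i using Nat.strong_induction_on with
    | _ i ih =>
      intro hi
      haveI hm : Mono (adj.unit.app (E.X₃.homology i)) :=
        mono_unit_homology adj P' hsep n hV T.X₃ i hi fun j hj => (ih j hj (by omega)).2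
      let φ := HomologicalComplex.homologyMap E.f i
      have hw : φ ≫ HomologicalComplex.homologyMap E.g i = 0 := by
        rw [← HomologicalComplex.homologyMap_comp, E.zero, HomologicalComplex.homologyMap_zero]
      let κ : cokernel φ ⟶ E.X₃.homology i := cokernel.desc φ _ hw
      haveI : Mono κ := (hT.homology_exact₂ i).mono_cokernelDesc
      have hC : P' (cokernel φ) :=
        P'.prop_of_isColimit_cokernelCofork (colimit.isColimit (parallelPair φ 0)) (hI i hi) (hJ i hi)
      haveI := hsep _ hC
      haveI : a.PreservesMonomorphisms := preservesMonomorphisms_of_preservesLimitsOfShape a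
      haveI : Epi (a.map (HomologicalComplex.homologyMap E.g i)) := by
        have hz : IsZero (a.obj (E.X₁.homology (i + 1))) :=
          (((sc T.X₁ i).exact_iff_isZero_homology).1 (hex i)).of_iso
            (a.mapIso (scMapIso ε T.X₁ i) ≪≫ pullHomologyIso adj (sc T.X₁ i))
        exact (((hT.homology_exact₃ i (i + 1) rfl)).map a).epi_f (hz.eq_of_tgt _ _)
      haveI : Epi (a.map κ) := by
        haveI : Epi (a.map (cokernel.π φ) ≫ a.map κ) := by
          rw [← a.map_comp, cokernel.π_desc]; infer_instance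
        exact epi_of_epi (a.map (cokernel.π φ)) _
      haveI : IsIso (a.map κ) := isIso_of_mono_of_epi _
      haveI : IsIso (κ ≫ adj.unit.app (E.X₃.homology i)) := by
        rw [show κ ≫ adj.unit.app (E.X₃.homology i) = adj.unit.app (cokernel φ) ≫ ε.map (a.map κ)
          from adj.unit.naturality κ]
        infer_instance
      haveI : Epi (adj.unit.app (E.X₃.homology i)) := epi_of_epi κ _
      haveI : IsIso (adj.unit.app (E.X₃.homology i)) := isIso_of_mono_of_epi _
      haveI : IsIso κ := IsIso.of_isIso_comp_right κ (adj.unit.app (E.X₃.homology i))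
      refine ⟨?_, P'.prop_of_iso (asIso κ) hC⟩
      rw [show HomologicalComplex.homologyMap E.g i = cokernel.π φ ≫ κ from (cokernel.π_desc _ _ _).symm]
      infer_instance
  haveI := (key n le_rfl).1
  have hδ : hT.δ n (n + 1) rfl = 0 := by
    rw [← cancel_epi (HomologicalComplex.homologyMap E.g n), comp_zero]
    exact hT.comp_δ n (n + 1) rfl
  exact (hT.homology_exact₁ n (n + 1) rfl).mono_g hδ

end Adj

end Groth.Agent.H15Site.CmpAbstract
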