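import Groth.Agent.H15Site.CmpThms
import Mathlib.CategoryTheory.Adjunction.Whiskering
import Mathlib.CategoryTheory.Comma.Over.Pullback

/-!
# Classes agreeing on `X ×_Y X` die locally on `Y`
-/

set_option autoImplicit false
set_option linter.unusedSectionVars false
set_option linter.unusedVariables false
set_option linter.style.haveILetI false
set_option backward.isDefEq.respectTransparency false

universe u

open CategoryTheory CategoryTheory.Limits Opposite

namespace Groth.Agent.H15Site.CmpSite

open CmpDimShift CmpAbstract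

attribute [local instance 10000] SiteInst.hasSheafifySite SiteInst.hasWeakSheafifySite
  SiteInst.enoughInjSite SiteInst.hasExtSite

variable {C : Type u} [SmallCategory C] {J J' : GrothendieckTopology C}

section Pb

variable (J) {X Y : C} (f : X ⟶ Y) [HasPullbacksAlong f]

instance isContinuous_pullback : (Over.pullback f).IsContinuous (J.over Y) (J.over X) :=
  (Over.mapPullbackAdj f).isContinuous_of_isCocontinuous (J.over X) (J.over Y)

/-- Precomposition with the base change functor. -/
noncomputable abbrev pushPb : Sh J X ⥤ Sh J Y :=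
  CohSite.push (J.over X) (J.over Y) (Over.pullback f)

/-- Restriction is left adjoint to precomposition with base change. -/
noncomputable def restPbAdj : rest J f ⊣ pushPb J f :=
  (Adjunction.whiskerLeft AddCommGrpCat.{u} (Over.mapPullbackAdj f).op).restrictFullyFaithful
    (fullyFaithfulSheafToPresheaf _ _) (fullyFaithfulSheafToPresheaf _ _) (Iso.refl _) (Iso.refl _)

/-- The base change followed by forgetting. -/
noncomputable abbrev bc : Over Y ⥤ Over Y := Over.pullback f ⋙ Over.map f

instance isContinuous_bc : (bc f).IsContinuous (J.over Y) (J.over Y) :=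
  Functor.isContinuous_comp (Over.pullback f) (Over.map f) (J.over Y) (J.over X) (J.over Y)

/-- Higher direct images through the base change functor. -/
theorem nonempty_rightDerived_dir_iso_bc (F : Sh J Y) (p : ℕ) :
    Nonempty (((dir J f).rightDerived (p + 1)).obj ((rest J f).obj F) ≅
      (CohSite.Rpush (J.over Y) (J.over Y) (bc f) (p + 1)).obj F) := by
  haveI : PreservesFiniteLimits (CohSite.push (J.over Y) (J.over Y) (bc f)) :=
    HigherDirectSite.push_preservesFiniteLimits (bc f)
  let R := injectiveResolution F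
  let I := R.cocomplex
  haveI : ∀ k, Injective (I.X k) := R.injective
  have hI : ∀ k, (sc I k).Exact := fun k =>
    (I.exactAt_iff' k (k + 1) (k + 1 + 1) (by simp) (by simp)).1 (R.cocomplex_exactAt_succ k)
  let eZ : F ≅ Z I 0 :=
    R.isLimitKernelFork.conePointUniqueUpToIso (limit.isLimit (parallelPair (I.d 0 (0 + 1)) 0))
  let K := ((rest J f).mapHomologicalComplex (ComplexShape.up ℕ)).obj I
  haveI : ∀ k, Injective (K.X k) := fun k => injective_restrict_sheaf f (I.X k)
  have hK : ∀ k, (sc K k).Exact := fun k => (hI k).map (rest J f)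
  let ρ : dir J f ≅ pushPb J f := (restAdj J f).rightAdjointUniq (restPbAdj J f)
  obtain ⟨e₁⟩ := nonempty_homology_iso (dir J f) K p fun j _ => hK j
  obtain ⟨e₂⟩ := nonempty_homology_iso (CohSite.push (J.over Y) (J.over Y) (bc f)) I p fun j _ => hI j
  exact ⟨((dir J f).rightDerived (p + 1)).mapIso ((rest J f).mapIso eZ ≪≫
      PreservesKernel.iso (rest J f) (I.d 0 (0 + 1))) ≪≫ e₁ ≪≫
    ShortComplex.homologyMapIso ((sc K p).mapNatIso ρ) ≪≫
    e₂.symm ≪≫ ((CohSite.push (J.over Y) (J.over Y) (bc f)).rightDerived (p + 1)).mapIso eZ.symm⟩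

end Pb

variable (D : Data J J') {A B : C} (f : A ⟶ B) [HasPullbacksAlong f]

set_option maxHeartbeats 1000000 in
/-- The descent statement. -/
theorem exists_cover_res_eq_zero (hf : D.P f)
    (hcov : Sieve.ofArrows (fun _ : PUnit.{u + 1} => A) (fun _ => f) ∈ J B)
    (F' : Sh J' B) (hF' : D.A' B F') (n : ℕ) (θ : CohSite.HU F' (n + 1) (Over.mk f))
    (hθ : ∀ (W : C) (p q : W ⟶ A) (hW : IsPullback p q f f),
      CohSite.res F' (n + 1) (Over.homMk p rfl : Over.mk (p ≫ f) ⟶ Over.mk f) θ =
        CohSite.res F' (n + 1) (Over.homMk q hW.w.symm : Over.mk (p ≫ f) ⟶ Over.mk f) θ) :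
    ∃ (ι : Type u) (Z : ι → C) (g : ∀ i, Z i ⟶ B), Sieve.ofArrows Z g ∈ J' B ∧
      ∀ (i : ι) (W : C) (p : W ⟶ Z i) (q : W ⟶ A), IsPullback p q (g i) f →
        CohSite.res F' (n + 1) (Over.homMk q rfl : Over.mk (q ≫ f) ⟶ Over.mk f) θ = 0 := by
  haveI := D.ws B
  let H := F'.cohomologyPresheaf (n + 1)
  let P := (bc f).op ⋙ H
  -- the sheafification of `P` is a `τ`-sheaf
  obtain ⟨e₁⟩ := nonempty_rightDerived_dir_iso_bc J' f F' n
  obtain ⟨e₂⟩ := HigherDirectSite.nonempty_Rpush_iso_sheafify (J := J'.over B) (K := J'.over B)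
    (bc f) (n + 1) F'
  have hR : Presheaf.IsSheaf (J.over B)
      ((presheafToSheaf (J'.over B) AddCommGrpCat.{u}).obj P).obj :=
    D.h3 B _ ((D.A' B).prop_of_iso (e₁ ≪≫ e₂) (D.h4 f hf _ (D.h2 f F' hF') (n + 1)))
  -- projection
  let π : ∀ U : Over B, (bc f).obj U ⟶ Over.mk f := fun U =>
    Over.homMk (pullback.snd U.hom f) rfl
  let θ₀ : P.obj (op (Over.mk (𝟙 B))) := H.map (π (Over.mk (𝟙 B))).op θ
  have hnat : ∀ {U V : Over B} (a : V ⟶ U), P.map a.op (H.map (π U).op θ) = H.map (π V).op θ := by
    intro U V a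
    have hc : (bc f).map a ≫ π U = π V := by
      ext
      simp [π]
    change H.map ((bc f).map a).op (H.map (π U).op θ) = H.map (π V).op θ
    rw [← ConcreteCategory.comp_apply, ← H.map_comp, ← op_comp, hc]
  have h0 : (toSheafify (J'.over B) P).app _ θ₀ = 0 := by
    refine eq_zero_of_cover hR (imgSieve f) (mem_imgSieve f hcov) _ fun U a ha => ?_
    obtain ⟨T, b, c, ⟨⟩, hbc⟩ :=
      (ha : (Sieve.ofArrows (fun _ : PUnit.{u + 1} => A) (fun _ => f)).arrows a.left)
    have hb : b ≫ f = U.hom := by
      have := Over.w a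
      dsimp at this
      rw [Category.comp_id] at this
      exact hbc.trans this
    refine ((ConcreteCategory.congr_hom ((toSheafify (J'.over B) P).naturality a.op) θ₀).symm.trans ?_)
    rw [ConcreteCategory.comp_apply, hnat a]
    -- the class on `U`
    obtain ⟨S, hS⟩ := HUBasic.exists_cover_res_eq_zero (J := J'.over B) F' U n
      (H.map (Over.homMk b hb : U ⟶ Over.mk f).op θ)
    refine eq_zero_of_cover (J := J'.over B)
      ((presheafToSheaf (J'.over B) AddCommGrpCat.{u}).obj P).property S.1 S.2 _ ?_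
    intro V v hv
    refine ((ConcreteCategory.congr_hom ((toSheafify (J'.over B) P).naturality v.op) _).symm.trans ?_)
    rw [ConcreteCategory.comp_apply, hnat v]
    suffices hV : H.map (π V).op θ = 0 by rw [hV, map_zero]
    -- both projections to `A ×_Y A`
    let p : pullback V.hom f ⟶ A := pullback.fst V.hom f ≫ v.left ≫ b
    have hp : p ≫ f = pullback.fst V.hom f ≫ V.hom := by
      simp only [p, Category.assoc]
      rw [hb, Over.w v]
    let l : pullback V.hom f ⟶ pullback f f :=
      pullback.lift p (pullback.snd V.hom f) (hp.trans pullback.condition)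
    have h := hθ (pullback f f) (pullback.fst f f) (pullback.snd f f) (IsPullback.of_hasPullback f f)
    let lO : (bc f).obj V ⟶ Over.mk (pullback.fst f f ≫ f) := Over.homMk l (by
      dsimp [l]
      rw [pullback.lift_fst_assoc]
      exact hp.trans pullback.condition)
    let r : (bc f).obj V ⟶ V := Over.homMk (pullback.fst V.hom f) pullback.condition
    have h1 : π V = lO ≫ (Over.homMk (pullback.snd f f) (IsPullback.of_hasPullback f f).w.symm :
        Over.mk (pullback.fst f f ≫ f) ⟶ Over.mk f) := by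
      ext
      exact (pullback.lift_snd _ _ _).symm
    have h2 : lO ≫ (Over.homMk (pullback.fst f f) rfl :
        Over.mk (pullback.fst f f ≫ f) ⟶ Over.mk f) = r ≫ v ≫ (Over.homMk b hb : U ⟶ Over.mk f) := by
      ext
      exact pullback.lift_fst _ _ _
    have h' := congrArg (H.map lO.op) h
    rw [h1, op_comp, H.map_comp, ConcreteCategory.comp_apply]
    refine h'.symm.trans ?_
    change H.map lO.op (H.map (Over.homMk (pullback.fst f f) rfl :
        Over.mk (pullback.fst f f ≫ f) ⟶ Over.mk f).op θ) = 0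
    rw [← ConcreteCategory.comp_apply, ← H.map_comp, ← op_comp, h2, op_comp, op_comp, H.map_comp,
      H.map_comp, ConcreteCategory.comp_apply, ConcreteCategory.comp_apply]
    exact (congrArg (H.map r.op) (hS ⟨V, v, hv⟩)).trans (map_zero _)
  -- locally zero
  have hT : Presheaf.equalizerSieve (F := P) θ₀ 0 ∈ (J'.over B) (Over.mk (𝟙 B)) :=
    Presheaf.equalizerSieve_mem (J'.over B) (toSheafify (J'.over B) P) θ₀ 0
      (h0.trans (map_zero _).symm)
  let T := Presheaf.equalizerSieve (F := P) θ₀ 0
  refine ⟨Σ U : Over B, PLift (∃ a : U ⟶ Over.mk (𝟙 B), T.arrows a), fun i => i.1.left,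
    fun i => i.1.hom, ?_, ?_⟩
  · refine J'.superset_covering ?_ ((GrothendieckTopology.mem_over_iff J' _).1 hT)
    intro Z g hg
    have hg' := (Sieve.overEquiv_iff _ _).1 hg
    refine ⟨Z, 𝟙 _, g, ?_, Category.id_comp _⟩
    exact Presieve.ofArrows.mk' (⟨Over.mk (g ≫ 𝟙 B), ⟨⟨_, hg'⟩⟩⟩ :
      Σ U : Over B, PLift (∃ a : U ⟶ Over.mk (𝟙 B), T.arrows a)) rfl (by simp)
  · rintro ⟨U, ⟨a, ha⟩⟩ W p q hW
    have hU : H.map (π U).op θ = 0 :=
      (hnat a).symm.trans ((show P.map a.op θ₀ = P.map a.op 0 from ha).trans (map_zero _))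
    let l : W ⟶ pullback U.hom f := pullback.lift p q hW.w
    have hl : (Over.homMk q rfl : Over.mk (q ≫ f) ⟶ Over.mk f) =
        (Over.homMk l (by
          dsimp [l]
          rw [pullback.lift_snd_assoc]) : Over.mk (q ≫ f) ⟶ (bc f).obj U) ≫ π U := by
      ext
      exact (pullback.lift_snd _ _ _).symm
    change H.map _ θ = 0
    rw [hl, op_comp, H.map_comp, ConcreteCategory.comp_apply, hU, map_zero]

end Groth.Agent.H15Site.CmpSite
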