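import Groth.Agent.H15Site.CmpKer
import Groth.Agent.H15Site.HigherDirect
import Mathlib.Algebra.Homology.HomologicalComplexAbelian

/-!
# Derived functors from a partial injective resolution
-/

set_option autoImplicit false
set_option linter.unusedSectionVars false
set_option linter.style.haveILetI false
set_option backward.isDefEq.respectTransparency false

universe v v' u u'

open CategoryTheory CategoryTheory.Limits

namespace Groth.Agent.H15Site.CmpDimShift

variable {A : Type u} [Category.{v} A] [Abelian A] [EnoughInjectives A]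
  {B : Type u'} [Category.{v'} B] [Abelian B]
  (G : A ⥤ B) [G.Additive] [PreservesFiniteLimits G]
  (K : CochainComplex A ℕ) [∀ k, Injective (K.X k)]

/-- The cycles, as kernels. -/
noncomputable abbrev Z (k : ℕ) : A := kernel (K.d k (k + 1))

/-- The short complex around degree `k + 1`. -/
noncomputable abbrev sc (k : ℕ) : ShortComplex A := K.sc' k (k + 1) (k + 1 + 1)

/-- The differential into the cycles. -/
noncomputable abbrev q (k : ℕ) : K.X k ⟶ Z K (k + 1) :=
  kernel.lift _ (K.d k (k + 1)) (K.d_comp_d _ _ _)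

theorem epi_q {k : ℕ} (h : (sc K k).Exact) : Epi (q K k) := by
  rw [epi_iff_surjective_up_to_refinements]
  intro T z
  obtain ⟨T', π, hπ, x, hx⟩ := h.exact_up_to_refinements (z ≫ kernel.ι _)
    (by change (z ≫ kernel.ι _) ≫ K.d (k + 1) (k + 1 + 1) = 0; simp)
  refine ⟨T', π, hπ, x, ?_⟩
  rw [← cancel_mono (kernel.ι _), Category.assoc, Category.assoc, kernel.lift_ι]
  exact hx

/-- `0 ⟶ Zᵏ ⟶ Kᵏ ⟶ Zᵏ⁺¹ ⟶ 0`. -/
noncomputable abbrev seq (k : ℕ) : ShortComplex A :=
  ShortComplex.mk (kernel.ι (K.d k (k + 1))) (q K k)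
    (by rw [← cancel_mono (kernel.ι _), Category.assoc, kernel.lift_ι, kernel.condition, zero_comp])

theorem shortExact_seq {k : ℕ} (h : (sc K k).Exact) : (seq K k).ShortExact := by
  haveI := epi_q K h
  refine { exact := ?_, mono_f := inferInstanceAs (Mono (kernel.ι _)), epi_g := this }
  refine ShortComplex.exact_of_f_is_kernel _ ?_
  exact KernelFork.IsLimit.ofι _ _
    (fun {W} g hg => kernel.lift _ g (by
      rw [← kernel.lift_ι (K.d (k + 1) (k + 1 + 1)) (K.d k (k + 1)) (K.d_comp_d _ _ _),
        ← Category.assoc]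
      change (g ≫ q K k) ≫ _ = 0
      rw [hg, zero_comp]))
    (fun g hg => kernel.lift_ι _ _ _)
    (fun g hg m hm => by
      apply Fork.IsLimit.hom_ext (kernelIsKernel (K.d k (k + 1)))
      simpa using hm)

theorem imageSeq_zero (n : ℕ) :
    kernel.ι (K.d n (n + 1)) ≫ Abelian.factorThruImage (sc K n).toCycles = 0 := by
  rw [← cancel_mono (Abelian.image.ι (sc K n).toCycles), ← cancel_mono (sc K n).iCycles]
  simp only [Category.assoc, zero_comp]
  rw [← Category.assoc (Abelian.factorThruImage _) (Abelian.image.ι _), Abelian.image.fac,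
    ShortComplex.toCycles_i]
  exact kernel.condition _

/-- `0 ⟶ Zⁿ ⟶ Kⁿ ⟶ Bⁿ⁺¹ ⟶ 0`. -/
noncomputable abbrev imageSeq (n : ℕ) : ShortComplex A := ShortComplex.mk _ _ (imageSeq_zero K n)

theorem shortExact_imageSeq (n : ℕ) : (imageSeq K n).ShortExact := by
  refine { exact := ?_
           mono_f := inferInstanceAs (Mono (kernel.ι _))
           epi_g := inferInstanceAs (Epi (Abelian.factorThruImage (sc K n).toCycles)) }
  refine ShortComplex.exact_of_f_is_kernel _ ?_
  exact KernelFork.IsLimit.ofι _ _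
    (fun {W} g hg => kernel.lift _ g (by
      change g ≫ (sc K n).f = 0
      rw [← (sc K n).toCycles_i, ← Abelian.image.fac (sc K n).toCycles, Category.assoc,
        ← Category.assoc, hg, zero_comp]))
    (fun g hg => kernel.lift_ι _ _ _)
    (fun g hg m hm => by
      apply Fork.IsLimit.hom_ext (kernelIsKernel (K.d n (n + 1)))
      simpa using hm)

theorem nonempty_shift (n k : ℕ) (hk : k ≤ n) (hex : ∀ j, j < k → (sc K j).Exact) :
    Nonempty ((G.rightDerived (n + 1)).obj (Z K 0) ≅ (G.rightDerived (n - k + 1)).obj (Z K k)) := by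
  induction k with
  | zero => exact ⟨Iso.refl _⟩
  | succ k ih =>
    obtain ⟨e⟩ := ih (by omega) (fun j hj => hex j (by omega))
    obtain ⟨e'⟩ := HigherDirect.nonempty_rightDerived_succ_iso G
      (shortExact_seq K (hex k (by omega))) (n - (k + 1))
      (G.isZero_rightDerived_obj_injective_succ (n - (k + 1)) (K.X k))
      (G.isZero_rightDerived_obj_injective_succ (n - (k + 1) + 1) (K.X k))
    exact ⟨e ≪≫ eqToIso (by rw [show n - k + 1 = n - (k + 1) + 1 + 1 by omega]) ≪≫ e'.symm⟩

/-- `Rⁿ⁺¹G` of the zeroth cycles is the kernel part of `Hⁿ⁺¹(G K)`. -/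
theorem nonempty_coker_iso (n : ℕ) (hex : ∀ j, j < n → (sc K j).Exact) :
    Nonempty ((G.rightDerived (n + 1)).obj (Z K 0) ≅
      cokernel (G.map (Abelian.factorThruImage (sc K n).toCycles))) := by
  obtain ⟨e⟩ := nonempty_shift G K n n le_rfl hex
  have hS := shortExact_imageSeq K n
  obtain ⟨e'⟩ := HigherDirect.nonempty_rightDerived_one_iso G hS
    (G.isZero_rightDerived_obj_injective_succ 0 (K.X n))
  exact ⟨e ≪≫ eqToIso (by rw [show n - n + 1 = 1 by omega]) ≪≫ e'⟩

/-- In the range of exactness the derived functor is the cohomology of `G K`. -/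
theorem nonempty_homology_iso (n : ℕ) (hex : ∀ j, j ≤ n → (sc K j).Exact) :
    Nonempty ((G.rightDerived (n + 1)).obj (Z K 0) ≅ ((sc K n).map G).homology) := by
  obtain ⟨e⟩ := nonempty_coker_iso G K n (fun j hj => hex j hj.le)
  have hfac := Abelian.image.fac (sc K n).toCycles
  haveI := CmpKer.mono_inKer G (sc K n) _ _ hfac
  haveI : Epi (CmpKer.inKer G (sc K n) _ _ hfac) :=
    (CmpKer.exact_inKer G (sc K n) _ _ hfac).epi_f
      ((G.map_isZero ((sc K n).exact_iff_isZero_homology.1 (hex n le_rfl))).eq_of_tgt _ _)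
  haveI := isIso_of_mono_of_epi (CmpKer.inKer G (sc K n) _ _ hfac)
  exact ⟨e ≪≫ asIso (CmpKer.inKer G (sc K n) _ _ hfac)⟩

end Groth.Agent.H15Site.CmpDimShift
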