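import Mathlib.Algebra.Homology.ShortComplex.ExactFunctor
import Mathlib.CategoryTheory.Abelian.Refinements
import Mathlib.CategoryTheory.Adjunction.Limits

/-!
# The kernel of `H(G S) ⟶ G H(S)` for a left exact `G`
-/

set_option autoImplicit false
set_option linter.unusedSectionVars false
set_option linter.style.haveILetI false
set_option backward.isDefEq.respectTransparency false

universe v v' u u'

open CategoryTheory CategoryTheory.Limits

namespace Groth.Agent.H15Site.CmpKer

variable {A : Type u} [Category.{v} A] [Abelian A] {B : Type u'} [Category.{v'} B] [Abelian B]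
  (G : A ⥤ B) [G.Additive] [PreservesFiniteLimits G] (S : ShortComplex A)

/-- Cycles of the image. -/
noncomputable def cyclesIso : (S.map G).cycles ≅ G.obj S.cycles :=
  (S.map G).cyclesIsKernel.conePointUniqueUpToIso (KernelFork.mapIsLimit _ S.cyclesIsKernel G)

@[reassoc]
theorem cyclesIso_hom_i : (cyclesIso G S).hom ≫ G.map S.iCycles = (S.map G).iCycles :=
  IsLimit.conePointUniqueUpToIso_hom_comp (S.map G).cyclesIsKernel
    (KernelFork.mapIsLimit _ S.cyclesIsKernel G) WalkingParallelPair.zero

instance mono_map_iCycles : Mono (G.map S.iCycles) := by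
  haveI : G.PreservesMonomorphisms := preservesMonomorphisms_of_preservesLimitsOfShape G
  exact G.map_mono _

@[reassoc]
theorem toCycles_cyclesIso : (S.map G).toCycles ≫ (cyclesIso G S).hom = G.map S.toCycles := by
  rw [← cancel_mono (G.map S.iCycles), Category.assoc, cyclesIso_hom_i, ShortComplex.toCycles_i,
    ← G.map_comp, ShortComplex.toCycles_i]
  rfl

/-- `H(G S) ⟶ G H(S)`. -/
noncomputable def cmp : (S.map G).homology ⟶ G.obj S.homology :=
  (S.map G).descHomology ((cyclesIso G S).hom ≫ G.map S.homologyπ) (by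
    rw [toCycles_cyclesIso_assoc, ← G.map_comp, S.toCycles_comp_homologyπ, G.map_zero])

@[reassoc]
theorem π_cmp : (S.map G).homologyπ ≫ cmp G S = (cyclesIso G S).hom ≫ G.map S.homologyπ :=
  ShortComplex.π_descHomology _ _ _

variable {Bo : A} (p : S.X₁ ⟶ Bo) (m : Bo ⟶ S.cycles) (hpm : p ≫ m = S.toCycles)

/-- `coker(G p) ⟶ H(G S)`. -/
noncomputable def inKer : cokernel (G.map p) ⟶ (S.map G).homology :=
  cokernel.desc _ (G.map m ≫ (cyclesIso G S).inv ≫ (S.map G).homologyπ) (by
    have h : G.map p ≫ G.map m = (S.map G).toCycles ≫ (cyclesIso G S).hom :=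
      ((G.map_comp p m).symm.trans (congrArg G.map hpm)).trans (toCycles_cyclesIso G S).symm
    rw [← Category.assoc, h, Category.assoc, Iso.hom_inv_id_assoc]
    exact (S.map G).toCycles_comp_homologyπ)

variable [Epi p] [Mono m]

theorem mono_inKer : Mono (inKer G S p m hpm) := by
  haveI : G.PreservesMonomorphisms := preservesMonomorphisms_of_preservesLimitsOfShape G
  refine Preadditive.mono_of_cancel_zero _ fun {T} x hx => ?_
  obtain ⟨T₁, q, _, y, hy⟩ := surjective_up_to_refinements_of_epi (cokernel.π (G.map p)) x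
  have h0 : (y ≫ G.map m ≫ (cyclesIso G S).inv) ≫ (S.map G).homologyπ = 0 := by
    have : (q ≫ x) ≫ inKer G S p m hpm = 0 := by rw [Category.assoc, hx, comp_zero]
    rw [hy, Category.assoc, inKer, cokernel.π_desc] at this
    simpa using this
  obtain ⟨T₂, q', _, z, hz⟩ := (ShortComplex.exact_of_g_is_cokernel
    (ShortComplex.mk (S.map G).toCycles (S.map G).homologyπ (S.map G).toCycles_comp_homologyπ)
    (S.map G).homologyIsCokernel).exact_up_to_refinements _ h0
  have h1 : q' ≫ y = z ≫ G.map p := by
    rw [← cancel_mono (G.map m), ← cancel_mono (cyclesIso G S).inv]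
    simp only [Category.assoc]
    rw [hz]
    congr 1
    rw [← Category.assoc, ← G.map_comp, hpm, ← toCycles_cyclesIso, Category.assoc, Iso.hom_inv_id,
      Category.comp_id]
  rw [← cancel_epi (q' ≫ q), comp_zero, Category.assoc, hy, ← Category.assoc, h1, Category.assoc,
    cokernel.condition, comp_zero]

theorem inKer_cmp : inKer G S p m hpm ≫ cmp G S = 0 := by
  rw [← cancel_epi (cokernel.π (G.map p)), inKer, cokernel.π_desc_assoc]
  simp only [Category.assoc]
  rw [π_cmp, Iso.inv_hom_id_assoc, ← G.map_comp, comp_zero]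
  have : m ≫ S.homologyπ = 0 := by
    rw [← cancel_epi p, reassoc_of% hpm, S.toCycles_comp_homologyπ, comp_zero]
  rw [this, G.map_zero]

theorem exact_inKer : (ShortComplex.mk _ _ (inKer_cmp G S p m hpm)).Exact := by
  rw [ShortComplex.exact_iff_exact_up_to_refinements]
  intro T x hx
  dsimp at hx
  obtain ⟨T₁, q, hq, y, hy⟩ := surjective_up_to_refinements_of_epi (S.map G).homologyπ x
  have hex : (ShortComplex.mk m S.homologyπ (by
      rw [← cancel_epi p, reassoc_of% hpm, S.toCycles_comp_homologyπ, comp_zero])).Exact := by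
    refine ShortComplex.exact_of_g_is_cokernel _ ?_
    refine CokernelCofork.IsColimit.ofπ _ _
      (fun g hg => S.descHomology g (by rw [← hpm, Category.assoc, hg, comp_zero]))
      (fun g hg => S.π_descHomology g _)
      (fun g hg g' hg' => by rw [← cancel_epi S.homologyπ, S.π_descHomology, hg'])
  have h0 : (y ≫ (cyclesIso G S).hom) ≫ G.map S.homologyπ = 0 := by
    rw [Category.assoc, ← π_cmp, ← Category.assoc, ← hy, Category.assoc, hx, comp_zero]
  obtain ⟨b, hb⟩ := KernelFork.IsLimit.lift' (KernelFork.mapIsLimit _ hex.fIsKernel G) _ h0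
  refine ⟨T₁, q, hq, b ≫ cokernel.π (G.map p), ?_⟩
  change q ≫ x = _
  simp only [inKer, Category.assoc, cokernel.π_desc, hy]
  have hb' : b ≫ G.map m = y ≫ (cyclesIso G S).hom := hb
  rw [← Category.assoc b, hb', Category.assoc, Iso.hom_inv_id_assoc]

include hpm in
/-- When `G p` is epi the comparison is mono. -/
theorem mono_cmp [Epi (G.map p)] : Mono (cmp G S) :=
  (exact_inKer G S p m hpm).mono_g ((isZero_cokernel_of_epi (G.map p)).eq_of_src _ _)

section Adj

variable {r : B ⥤ A} [r.Additive] [PreservesFiniteColimits r] (adj : r ⊣ G) (L : ShortComplex B)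

/-- `L ⟶ G r L`. -/
noncomputable def unitSC : L ⟶ (L.map r).map G where
  τ₁ := adj.unit.app L.X₁
  τ₂ := adj.unit.app L.X₂
  τ₃ := adj.unit.app L.X₃
  comm₁₂ := (adj.unit.naturality L.f).symm
  comm₂₃ := (adj.unit.naturality L.g).symm

/-- `r Z(L) ⟶ Z(r L)`. -/
noncomputable def rCycles : r.obj L.cycles ⟶ (L.map r).cycles :=
  (L.map r).liftCycles (r.map L.iCycles) (by
    change r.map L.iCycles ≫ r.map L.g = 0
    rw [← r.map_comp, L.iCycles_g, r.map_zero])

/-- `r H(L) ⟶ H(r L)`. -/
theorem exists_rHomology : ∃ ψ : r.obj L.homology ⟶ (L.map r).homology,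
    r.map L.homologyπ ≫ ψ = rCycles L ≫ (L.map r).homologyπ := by
  have h : r.map L.toCycles ≫ rCycles L ≫ (L.map r).homologyπ = 0 := by
    have : r.map L.toCycles ≫ rCycles (r := r) L = (L.map r).toCycles := by
      rw [← cancel_mono (L.map r).iCycles, Category.assoc, rCycles, ShortComplex.liftCycles_i,
        ShortComplex.toCycles_i, ← r.map_comp, L.toCycles_i]
      rfl
    rw [reassoc_of% this, (L.map r).toCycles_comp_homologyπ]
  obtain ⟨ψ, hψ⟩ := CokernelCofork.IsColimit.desc'
    (CokernelCofork.mapIsColimit _ L.homologyIsCokernel r) _ h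
  exact ⟨ψ, hψ⟩

/-- The key identity: restriction then comparison is the unit. -/
theorem exists_unit_cmp : ∃ ψ : r.obj L.homology ⟶ (L.map r).homology,
    ShortComplex.homologyMap (unitSC G adj L) ≫ cmp G (L.map r) =
      adj.unit.app L.homology ≫ G.map ψ := by
  obtain ⟨ψ, hψ⟩ := exists_rHomology (r := r) L
  refine ⟨ψ, ?_⟩
  rw [← cancel_epi L.homologyπ, ShortComplex.homologyπ_naturality_assoc, π_cmp]
  have h1 : ShortComplex.cyclesMap (unitSC G adj L) ≫ (cyclesIso G (L.map r)).hom =
      adj.unit.app L.cycles ≫ G.map (rCycles L) := by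
    rw [← cancel_mono (G.map (L.map r).iCycles), Category.assoc, cyclesIso_hom_i,
      ShortComplex.cyclesMap_i, Category.assoc, ← G.map_comp, rCycles, ShortComplex.liftCycles_i]
    exact adj.unit.naturality L.iCycles
  rw [reassoc_of% h1, ← G.map_comp, ← hψ, G.map_comp]
  exact (adj.unit.naturality_assoc L.homologyπ (G.map ψ)).symm

end Adj

end Groth.Agent.H15Site.CmpKer
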