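import Groth.Agent.H15Site.CmpSitePre

/-!
# Two topologies on the slices of a category: the vanishing of `Rⁱε_*`
-/

set_option autoImplicit false
set_option linter.unusedSectionVars false
set_option linter.unusedVariables false
set_option linter.style.haveILetI false
set_option backward.isDefEq.respectTransparency false

universe u

open CategoryTheory CategoryTheory.Limits Opposite

namespace Groth.Agent.H15Site.CmpSite

open CmpDimShift CmpAbstract

attribute [local instance 10000] SiteInst.hasSheafifySite SiteInst.hasWeakSheafifySite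
  SiteInst.enoughInjSite

variable {C : Type u} [SmallCategory C]

/-- Abelian sheaves on a slice. -/
abbrev Sh (J : GrothendieckTopology C) (X : C) : Type (u + 1) := Sheaf (J.over X) AddCommGrpCat.{u}

variable {J J' : GrothendieckTopology C}

/-- `ε_{X,*}`. -/
noncomputable abbrev eps (h : J' ≤ J) (X : C) : Sh J X ⥤ Sh J' X :=
  SiteCmp.epsSh (SiteCmp.over_le h X) AddCommGrpCat.{u}

/-- Sheafification, as `ε_X⁻¹`. -/
noncomputable abbrev shf (J J' : GrothendieckTopology C) (X : C) : Sh J' X ⥤ Sh J X :=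
  sheafToPresheaf _ _ ⋙ presheafToSheaf (J.over X) AddCommGrpCat.{u}

/-- `shf ⊣ eps`. -/
noncomputable def adj (h : J' ≤ J) (X : C) : shf J J' X ⊣ eps h X :=
  haveI := SiteCmp.idContinuous (SiteCmp.over_le h X)
  (sheafificationAdjunction (J.over X) AddCommGrpCat.{u}).restrictFullyFaithful
    (fullyFaithfulSheafToPresheaf (J'.over X) AddCommGrpCat.{u}) (Functor.FullyFaithful.id _)
    (Iso.refl _) (Iso.refl _)

theorem eps_full (h : J' ≤ J) (X : C) : (eps h X).Full where
  map_surjective {M N} φ := ⟨⟨φ.hom⟩, rfl⟩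

theorem eps_faithful (h : J' ≤ J) (X : C) : (eps h X).Faithful where
  map_injective {M N φ ψ} e := Sheaf.hom_ext (congrArg (fun χ => χ.hom) e)

theorem isIso_counit (h : J' ≤ J) (X : C) : IsIso (adj h X).counit :=
  haveI := eps_full h X
  haveI := eps_faithful h X
  inferInstance

theorem isIso_unit_app (h : J' ≤ J) (X : C) (M : Sh J' X) (hM : Presheaf.IsSheaf (J.over X) M.obj) :
    IsIso ((adj h X).unit.app M) :=
  haveI := eps_full h X
  haveI := eps_faithful h X
  (adj h X).isIso_unit_app_of_iso (X := (⟨M.obj, hM⟩ : Sh J X)) (Iso.refl M)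

variable (J) in
/-- Restriction to a slice. -/
noncomputable abbrev rest {X V : C} (g : V ⟶ X) : Sh J X ⥤ Sh J V :=
  CohSite.push (J.over X) (J.over V) (Over.map g)

variable (J) in
/-- Push-forward from a slice. -/
noncomputable abbrev dir {X V : C} (g : V ⟶ X) : Sh J V ⥤ Sh J X :=
  (Over.map g).sheafPushforwardCocontinuous AddCommGrpCat.{u} (J.over V) (J.over X)

variable (J) in
/-- `rest ⊣ dir`. -/
noncomputable abbrev restAdj {X V : C} (g : V ⟶ X) : rest J g ⊣ dir J g :=
  (Over.map g).sheafAdjunctionCocontinuous AddCommGrpCat.{u} (J.over V) (J.over X)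

instance additive_dir {X V : C} (g : V ⟶ X) : (dir J g).Additive :=
  haveI := (restAdj J g).rightAdjoint_preservesLimits
  Functor.additive_of_preserves_binary_products _

instance preservesFiniteLimits_dir {X V : C} (g : V ⟶ X) : PreservesFiniteLimits (dir J g) :=
  haveI := (restAdj J g).rightAdjoint_preservesLimits
  inferInstance

instance preservesFiniteColimits_rest {X V : C} (g : V ⟶ X) : PreservesFiniteColimits (rest J g) :=
  haveI := (restAdj J g).leftAdjoint_preservesColimits
  inferInstance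

instance preservesFiniteLimits_rest {X V : C} (g : V ⟶ X) : PreservesFiniteLimits (rest J g) :=
  haveI := ((Over.map g).sheafAdjunctionContinuous AddCommGrpCat.{u} (J.over V)
    (J.over X)).rightAdjoint_preservesLimits
  inferInstance

instance additive_rest {X V : C} (g : V ⟶ X) : (rest J g).Additive :=
  Functor.additive_of_preserves_binary_products _

/-- The situation. -/
structure Data (J J' : GrothendieckTopology C) where
  le : J' ≤ J
  P : MorphismProperty C
  A' : ∀ X : C, ObjectProperty (Sh J' X)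
  ws : ∀ X : C, WSerre.IsWeakSerre (A' X)
  h2 : ∀ ⦃X Y : C⦄ (f : X ⟶ Y) (F' : Sh J' Y), A' Y F' → A' X ((rest J' f).obj F')
  h3 : ∀ (X : C) (F' : Sh J' X), A' X F' → Presheaf.IsSheaf (J.over X) F'.obj
  h4 : ∀ ⦃X Y : C⦄ (f : X ⟶ Y), P f → ∀ (F' : Sh J' X), A' X F' → ∀ i : ℕ,
    A' Y (((dir J' f).rightDerived i).obj F')
  h5 : ∀ (U : C) (S : Sieve U), S ∈ J U → ∃ (ι : Type u) (V : ι → C) (v : ∀ j, V j ⟶ U),
    Sieve.ofArrows V v ∈ J' U ∧ ∀ j, ∃ (W : C) (w : W ⟶ V j), P w ∧
      Sieve.ofArrows (fun _ : PUnit.{u + 1} => W) (fun _ => w) ∈ J (V j) ∧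
      ∃ (κ : Type u) (Wk : κ → C) (wk : ∀ k, Wk k ⟶ W), Sieve.ofArrows Wk wk ∈ J' W ∧
        ∀ k, S.arrows (wk k ≫ w ≫ v j)

variable (D : Data J J')

instance additive_eps (h : J' ≤ J) (X : C) : (eps h X).Additive :=
  haveI := (adj h X).rightAdjoint_preservesLimits
  Functor.additive_of_preserves_binary_products _

instance preservesFiniteLimits_eps (h : J' ≤ J) (X : C) : PreservesFiniteLimits (eps h X) :=
  haveI := (adj h X).rightAdjoint_preservesLimits
  inferInstance

theorem preservesFiniteColimits_shf (h : J' ≤ J) (X : C) : PreservesFiniteColimits (shf J J' X) :=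
  haveI := (adj h X).leftAdjoint_preservesColimits
  inferInstance

/-- `(Vₙ)`. -/
def Vn (n : ℕ) : Prop :=
  ∀ (X : C) (M : Sh J X), D.A' X ((eps D.le X).obj M) → Van (eps D.le X) n M

section Push

variable {D} {n : ℕ} (hV : Vn D n) {V W : C} (f : W ⟶ V) (hf : D.P f)
  (K : CochainComplex (Sh J W) ℕ) [∀ k, Injective (K.X k)] (hK : ∀ k, (sc K k).Exact)
  (h0 : D.A' W ((eps D.le W).obj (Z K 0)))

theorem injective_eps_obj {X : C} (I : Sh J X) [Injective I] : Injective ((eps D.le X).obj I) :=
  Injective.injective_of_adjoint (adj D.le X) I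

include hK hV h0 in
theorem exact_eps (j : ℕ) (hj : j < n) :
    (sc (((eps D.le W).mapHomologicalComplex (ComplexShape.up ℕ)).obj K) j).Exact := by
  obtain ⟨e⟩ := nonempty_homology_iso (eps D.le W) K j fun i _ => hK i
  exact (ShortComplex.exact_iff_isZero_homology _).2
    ((hV W _ h0 (j + 1) (by omega) (by omega)).of_iso e.symm)

variable (D) in
/-- The zeroth cycles after `ε`. -/
noncomputable def zIso :
    Z (((eps D.le W).mapHomologicalComplex (ComplexShape.up ℕ)).obj K) 0 ≅ (eps D.le W).obj (Z K 0) :=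
  (PreservesKernel.iso (eps D.le W) (K.d 0 (0 + 1))).symm

include h0 in
theorem prop_Z : D.A' W (Z (((eps D.le W).mapHomologicalComplex (ComplexShape.up ℕ)).obj K) 0) :=
  haveI := D.ws W
  (D.A' W).prop_of_iso (zIso D K).symm h0

include hK hV h0 hf in
/-- The cohomology of `ε f_*` in degrees `≤ n`. -/
theorem prop_homology_dir (i : ℕ) (hi : i ≤ n) :
    D.A' V ((((eps D.le W) ⋙ dir J' f).mapHomologicalComplex
      (ComplexShape.up ℕ)).obj K |>.homology i) := by
  haveI := D.ws V
  haveI := D.ws W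
  let K' := ((eps D.le W).mapHomologicalComplex (ComplexShape.up ℕ)).obj K
  haveI : ∀ k, Injective (K'.X k) := fun k => injective_eps_obj (D := D) (K.X k)
  have hR := D.h4 f hf _ (prop_Z K h0)
  rcases i with - | k
  · exact (D.A' V).prop_of_iso (((dir J' f).rightDerivedZeroIsoSelf.app _) ≪≫
      (zeroIso (dir J' f) K').symm) (hR 0)
  · obtain ⟨e⟩ := nonempty_homology_iso (dir J' f) K' k
      fun j hj => exact_eps hV K hK h0 j (by omega)
    exact (D.A' V).prop_of_iso (e ≪≫ (scMapIso (dir J' f) K' k).symm) (hR (k + 1))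

include hK hV h0 hf in
/-- The kernel of the comparison in degree `n + 1` is a `τ`-sheaf. -/
theorem eq_zero_of_cmp (t : Sieve (Over.mk (𝟙 V))) (ht : t ∈ (J.over V) (Over.mk (𝟙 V)))
    (y : ((sc (((eps D.le W).mapHomologicalComplex (ComplexShape.up ℕ)).obj K) n).map
      (dir J' f)).homology.obj.obj (op (Over.mk (𝟙 V))))
    (hy : (CmpKer.cmp (dir J' f) (sc (((eps D.le W).mapHomologicalComplex
      (ComplexShape.up ℕ)).obj K) n)).hom.app _ y = 0)
    (hyt : ∀ ⦃U : Over V⦄ (a : U ⟶ Over.mk (𝟙 V)), t.arrows a →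
      ((sc (((eps D.le W).mapHomologicalComplex (ComplexShape.up ℕ)).obj K) n).map
        (dir J' f)).homology.obj.map a.op y = 0) : y = 0 := by
  haveI := D.ws V
  haveI := D.ws W
  let K' := ((eps D.le W).mapHomologicalComplex (ComplexShape.up ℕ)).obj K
  haveI : ∀ k, Injective (K'.X k) := fun k => injective_eps_obj (D := D) (K.X k)
  obtain ⟨e⟩ := nonempty_coker_iso (dir J' f) K' n fun j hj => exact_eps hV K hK h0 j hj
  have hR := D.h3 V _ ((D.A' V).prop_of_iso e (D.h4 f hf _ (prop_Z K h0) (n + 1)))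
  have hfac := Abelian.image.fac (sc K' n).toCycles
  haveI hm := CmpKer.mono_inKer (dir J' f) (sc K' n) _ _ hfac
  haveI : Mono (ShortComplex.mk _ _ (CmpKer.inKer_cmp (dir J' f) (sc K' n) _ _ hfac)).f := hm
  obtain ⟨z, hz⟩ := exists_app_eq (CmpKer.exact_inKer (dir J' f) (sc K' n) _ _ hfac) _ y hy
  dsimp at hz
  rw [← hz]
  suffices hz0 : z = 0 by rw [hz0, map_zero]
  refine eq_zero_of_cover hR t ht z fun U a ha => ?_
  refine app_injective_of_mono (CmpKer.inKer (dir J' f) (sc K' n) _ _ hfac) (op U) ?_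
  rw [map_zero]
  refine Eq.trans ?_ (hyt a ha)
  rw [← hz]
  exact ConcreteCategory.congr_hom
    ((CmpKer.inKer (dir J' f) (sc K' n) _ _ hfac).hom.naturality a.op) z

end Push

/-- The sieve of the objects over `W`. -/
def imgSieve {V W : C} (f : W ⟶ V) : Sieve (Over.mk (𝟙 V)) :=
  (Sieve.overEquiv (Over.mk (𝟙 V))).symm (Sieve.ofArrows (fun _ : PUnit.{u + 1} => W) (fun _ => f))

theorem mem_imgSieve {V W : C} (f : W ⟶ V)
    (hc : Sieve.ofArrows (fun _ : PUnit.{u + 1} => W) (fun _ => f) ∈ J V) :
    imgSieve f ∈ (J.over V) (Over.mk (𝟙 V)) := by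
  rw [GrothendieckTopology.mem_over_iff, imgSieve, OrderIso.apply_symm_apply]
  exact hc

theorem imgSieve_factor {V W : C} (f : W ⟶ V) {U : Over V} (a : U ⟶ Over.mk (𝟙 V))
    (ha : (imgSieve f).arrows a) : ∃ Z : Over W, Nonempty (U ≅ (Over.map f).obj Z) := by
  have h : (Sieve.ofArrows (fun _ : PUnit.{u + 1} => W) (fun _ => f)).arrows a.left := ha
  obtain ⟨T, b, c, ⟨⟩, hbc⟩ := h
  refine ⟨Over.mk b, ⟨Over.isoMk (Iso.refl _) ?_⟩⟩
  dsimp
  have := Over.w a
  dsimp at this
  rw [Category.comp_id] at this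
  rw [Category.id_comp, hbc, this]


/-- The unit, before and after `ε`. -/
theorem unit_eps (h : J' ≤ J) {V W : C} (f : W ⟶ V) (M : Sh J V) :
    (eps h V).map ((restAdj J f).unit.app M) = (restAdj J' f).unit.app ((eps h V).obj M) := by
  apply Sheaf.hom_ext
  apply NatTrans.ext
  funext U
  change ((restAdj J f).unit.app M).hom.app U = ((restAdj J' f).unit.app ((eps h V).obj M)).hom.app U
  rw [(Over.map f).sheafAdjunctionCocontinuous_unit_app_hom AddCommGrpCat.{u} (J.over W) (J.over V) M,
    (Over.map f).sheafAdjunctionCocontinuous_unit_app_hom AddCommGrpCat.{u} (J'.over W) (J'.over V)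
      ((eps h V).obj M)]
  have e : ((eps h V).obj M).obj = M.obj := rfl
  exact eq_of_heq (congr_arg_heq
    (fun P : (Over V)ᵒᵖ ⥤ AddCommGrpCat.{u} =>
      (((Over.map f).op.ranAdjunction AddCommGrpCat.{u}).unit.app P).app U) e.symm)

set_option maxHeartbeats 800000 in
/-- `σ` is the map on homology of `ε η`. -/
theorem mono_sigma (h : J' ≤ J) {V W : C} (f : W ⟶ V) (I : CochainComplex (Sh J V) ℕ) (n : ℕ)
    (hm : Mono (HomologicalComplex.homologyMap (((eps h V).mapHomologicalComplex (ComplexShape.up ℕ)).map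
      ((NatTrans.mapHomologicalComplex (restAdj J f).unit (ComplexShape.up ℕ)).app I)) (n + 1))) :
    Mono (ShortComplex.homologyMap
      (CmpKer.unitSC (dir J' f) (restAdj J' f) ((sc I n).map (eps h V)))) := by
  let A := ((eps h V).mapHomologicalComplex (ComplexShape.up ℕ))
  let η := (NatTrans.mapHomologicalComplex (restAdj J f).unit (ComplexShape.up ℕ)).app I
  let N := HomologicalComplex.homologyFunctorIso' (Sh J' V) (ComplexShape.up ℕ) n (n + 1) (n + 1 + 1)
    (by simp) (by simp)
  have h1 : ShortComplex.homologyMap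
      ((HomologicalComplex.shortComplexFunctor' (Sh J' V) (ComplexShape.up ℕ) n (n + 1) (n + 1 + 1)).map
        (A.map η)) =
      ShortComplex.homologyMap (CmpKer.unitSC (dir J' f) (restAdj J' f) ((sc I n).map (eps h V))) :=
    congrArg (fun ψ : ((sc I n).map (eps h V) ⟶
        (((sc I n).map (eps h V)).map (rest J' f)).map (dir J' f)) => ShortComplex.homologyMap ψ)
      (ShortComplex.hom_ext _ _ (unit_eps h f (sc I n).X₁) (unit_eps h f (sc I n).X₂)
        (unit_eps h f (sc I n).X₃))
  rw [← h1]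
  haveI : Mono ((HomologicalComplex.homologyFunctor (Sh J' V) (ComplexShape.up ℕ) (n + 1)).map
    (A.map η)) := hm
  have h2 := N.hom.naturality (A.map η)
  rw [← IsIso.inv_comp_eq] at h2
  change Mono ((HomologicalComplex.shortComplexFunctor' (Sh J' V) (ComplexShape.up ℕ) n (n + 1)
    (n + 1 + 1) ⋙ ShortComplex.homologyFunctor (Sh J' V)).map (A.map η))
  rw [← h2]
  infer_instance

section Step

variable {D} {n : ℕ} (hV : Vn D n) {V W : C} (f : W ⟶ V) (hf : D.P f)
  (hc : Sieve.ofArrows (fun _ : PUnit.{u + 1} => W) (fun _ => f) ∈ J V)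
  (I : CochainComplex (Sh J V) ℕ) [∀ k, Injective (I.X k)] (hI : ∀ k, (sc I k).Exact)
  (h0 : D.A' V ((eps D.le V).obj (Z I 0)))

include hc in
theorem mono_unit (M : Sh J V) : Mono ((restAdj J f).unit.app M) := by
  haveI : Mono ((restAdj J f).unit.app M).hom := by
    haveI : ∀ U, Mono (((restAdj J f).unit.app M).hom.app U) := fun U => by
      rw [AddCommGrpCat.mono_iff_injective]
      rw [injective_iff_map_eq_zero]
      intro x hx
      refine eq_zero_of_cover (J := J.over V) M.property
        ((imgSieve f).pullback ((Over.homMk U.unop.hom (Category.comp_id _)) :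
          U.unop ⟶ Over.mk (𝟙 V))) ((J.over V).pullback_stable _ (mem_imgSieve f hc)) x ?_
      intro T a ha
      obtain ⟨Z, ⟨e⟩⟩ := imgSieve_factor f _ ha
      have h1 := congrArg (((dir J f).obj ((rest J f).obj M)).obj.map (e.inv ≫ a).op) hx
      rw [map_zero] at h1
      have h2 : ((restAdj J f).unit.app M).hom.app (op ((Over.map f).obj Z))
          (M.obj.map (e.inv ≫ a).op x) = 0 :=
        (ConcreteCategory.congr_hom (((restAdj J f).unit.app M).hom.naturality (e.inv ≫ a).op) x).trans h1
      have h3 := congr_app ((restAdj J f).left_triangle_components M |> congrArg (fun χ => χ.hom)) (op Z)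
      have h4 : M.obj.map (e.inv ≫ a).op x = 0 := by
        refine Eq.trans ?_ ((congrArg (((restAdj J f).counit.app ((rest J f).obj M)).hom.app (op Z)) h2).trans
          (map_zero _))
        exact (ConcreteCategory.congr_hom h3 _).symm
      have h5 := congrArg (M.obj.map e.hom.op) h4
      rw [map_zero, ← ConcreteCategory.comp_apply, ← M.obj.map_comp, ← op_comp,
        Iso.hom_inv_id_assoc] at h5
      exact h5
    exact NatTrans.mono_of_mono_app _
  exact (sheafToPresheaf _ _).mono_of_mono_map this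

include hI hV h0 hf hc in
/-- The key: a class of degree `n + 1` dying on `W` is zero. -/
theorem eq_zero_of_restrict
    (t : ((sc I n).map (eps D.le V)).homology.obj.obj (op (Over.mk (𝟙 V))))
    (ht : ∀ (Z : Over W) (a : (Over.map f).obj Z ⟶ Over.mk (𝟙 V)),
      ((sc I n).map (eps D.le V)).homology.obj.map a.op t = 0) : t = 0 := by
  haveI := D.ws V
  haveI := D.ws W
  haveI := isIso_counit D.le V
  haveI := preservesFiniteColimits_shf D.le V
  let K := ((rest J f).mapHomologicalComplex (ComplexShape.up ℕ)).obj I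
  haveI : ∀ k, Injective (K.X k) := fun k => injective_restrict_sheaf f (I.X k)
  have hK : ∀ k, (sc K k).Exact := fun k => (hI k).map (rest J f)
  have h0K : D.A' W ((eps D.le W).obj (Z K 0)) :=
    (D.A' W).prop_of_iso (show (rest J' f).obj ((eps D.le V).obj (Z I 0)) ≅ (eps D.le W).obj (Z K 0)
      from (eps D.le W).mapIso (PreservesKernel.iso (rest J f) (I.d 0 (0 + 1)))) (D.h2 f _ h0)
  let Jc := ((dir J f).mapHomologicalComplex (ComplexShape.up ℕ)).obj K
  let η : I ⟶ Jc := (NatTrans.mapHomologicalComplex (restAdj J f).unit (ComplexShape.up ℕ)).app I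
  haveI : ∀ k, Injective (Jc.X k) := fun k => Injective.injective_of_adjoint (restAdj J f) (K.X k)
  haveI : ∀ k, Mono (η.f k) := fun k => mono_unit f hc (I.X k)
  haveI : Mono η := HomologicalComplex.mono_of_mono_f η inferInstance
  let T := ShortComplex.mk η (cokernel.π η) (cokernel.condition η)
  have hT : T.ShortExact :=
    { exact := ShortComplex.exact_of_g_is_cokernel _ (cokernelIsCokernel η) }
  have hTk : ∀ k, (T.map (HomologicalComplex.eval (Sh J V) (ComplexShape.up ℕ) k)).ShortExact :=
    fun k => hT.map_of_exact (HomologicalComplex.eval (Sh J V) (ComplexShape.up ℕ) k)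
  haveI : ∀ k, Injective (T.X₃.X k) := fun k => by
    haveI : Injective (T.map (HomologicalComplex.eval (Sh J V) (ComplexShape.up ℕ) k)).X₁ :=
      inferInstanceAs (Injective (I.X k))
    let s := (hTk k).splittingOfInjective
    haveI : Injective (T.map (HomologicalComplex.eval (Sh J V) (ComplexShape.up ℕ) k)).X₂ :=
      inferInstanceAs (Injective (Jc.X k))
    exact Retract.injective ⟨s.s, (T.map (HomologicalComplex.eval _ (ComplexShape.up ℕ) k)).g, s.s_g⟩
  have hεT : (T.map ((eps D.le V).mapHomologicalComplex (ComplexShape.up ℕ))).ShortExact := by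
    refine HomologicalComplex.shortExact_of_degreewise_shortExact _ fun k => ?_
    haveI : Injective (T.map (HomologicalComplex.eval (Sh J V) (ComplexShape.up ℕ) k)).X₁ :=
      inferInstanceAs (Injective (I.X k))
    exact ((hTk k).splittingOfInjective.map (eps D.le V)).shortExact
  haveI := mono_homologyMap (adj D.le V) (D.A' V) (fun M hM => isIso_unit_app D.le V M (D.h3 V M hM))
    n (fun M hM => hV V M hM) T hεT hI
    (fun i hi => by
      rcases i with - | k
      · exact (D.A' V).prop_of_iso (zeroIso (eps D.le V) I).symm h0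
      · obtain ⟨e⟩ := nonempty_homology_iso (eps D.le V) I k fun i _ => hI i
        exact (D.A' V).prop_of_isZero ((hV V _ h0 (k + 1) (by omega) hi).of_iso
          ((scMapIso (eps D.le V) I k) ≪≫ e.symm)))
    (fun i hi => prop_homology_dir hV f hf K hK h0K i hi)
  let L := (sc I n).map (eps D.le V)
  let σ : L.homology ⟶ ((L.map (rest J' f)).map (dir J' f)).homology :=
    ShortComplex.homologyMap (CmpKer.unitSC (dir J' f) (restAdj J' f) L)
  haveI hσ : Mono σ := mono_sigma D.le f I n ‹Mono (HomologicalComplex.homologyMap _ _)›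
  refine app_injective_of_mono σ _ ?_
  rw [map_zero]
  refine eq_zero_of_cmp hV f hf K hK h0K (imgSieve f) (mem_imgSieve f hc) _ ?_ ?_
  · obtain ⟨ψ, hψ⟩ := CmpKer.exists_unit_cmp (dir J' f) (restAdj J' f) L
    refine (ConcreteCategory.congr_hom (congr_app (congrArg (fun χ => χ.hom) hψ) _) t).trans ?_
    change ((dir J' f).map ψ).hom.app _ (((restAdj J' f).unit.app L.homology).hom.app _ t) = 0
    rw [unit_apply_eq_zero (Over.map f) L.homology _ t fun Z a => ht Z a]
    exact map_zero _
  · intro U a ha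
    obtain ⟨Z, ⟨e⟩⟩ := imgSieve_factor f a ha
    refine (ConcreteCategory.congr_hom (σ.hom.naturality a.op) t).symm.trans ?_
    refine (congrArg (σ.hom.app (op U)) (?_ : L.homology.obj.map a.op t = 0)).trans (map_zero _)
    have h5 := congrArg (L.homology.obj.map e.hom.op) (ht Z (e.inv ≫ a))
    rw [map_zero, ← ConcreteCategory.comp_apply, ← L.homology.obj.map_comp, ← op_comp,
      Iso.hom_inv_id_assoc] at h5
    exact h5

end Step

theorem Vn_zero : Vn D 0 := fun _ _ _ j h1 h2 => by omega

/-- The inductive step. -/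
theorem Vn_succ {n : ℕ} (hV : Vn D n) : Vn D (n + 1) := by
  intro X M hM j hj1 hj2
  rcases Nat.lt_or_ge j (n + 1) with hj | hj
  · exact hV X M hM j hj1 (by omega)
  obtain rfl : j = n + 1 := by omega
  haveI := D.ws X
  haveI := isIso_counit D.le X
  haveI := preservesFiniteColimits_shf D.le X
  let R := injectiveResolution M
  let I := R.cocomplex
  haveI : ∀ k, Injective (I.X k) := R.injective
  have hI : ∀ k, (sc I k).Exact := fun k =>
    (I.exactAt_iff' k (k + 1) (k + 1 + 1) (by simp) (by simp)).1 (R.cocomplex_exactAt_succ k)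
  let eZ : M ≅ Z I 0 :=
    R.isLimitKernelFork.conePointUniqueUpToIso (limit.isLimit (parallelPair (I.d 0 (0 + 1)) 0))
  have h0 : D.A' X ((eps D.le X).obj (Z I 0)) :=
    (D.A' X).prop_of_iso ((eps D.le X).mapIso eZ) hM
  obtain ⟨e⟩ := nonempty_homology_iso (eps D.le X) I n fun k _ => hI k
  refine IsZero.of_iso ?_ (((eps D.le X).rightDerived (n + 1)).mapIso eZ ≪≫ e)
  let S := ((sc I n).map (eps D.le X)).homology
  have haS : IsZero ((shf J J' X).obj S) :=
    ((sc I n).exact_iff_isZero_homology.1 (hI n)).of_iso (pullHomologyIso (adj D.le X) (sc I n))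
  suffices h : ∀ (U : Over X) (s : S.obj.obj (op U)), s = 0 by
    haveI : ∀ U : (Over X)ᵒᵖ, Subsingleton (S.obj.obj U) :=
      fun U => ⟨fun a b => (h _ a).trans (h _ b).symm⟩
    rw [IsZero.iff_id_eq_zero]
    refine Sheaf.hom_ext ?_
    ext U s
    exact Subsingleton.elim _ _
  intro U s
  have hT := equalizer_mem (J := J.over X) S haS (op U) s
  obtain ⟨ι, Vj, v, hv, hrest⟩ := D.h5 U.left _
    ((GrothendieckTopology.mem_over_iff J _).1 hT)
  refine eq_zero_of_cover S.property
    ((Sieve.overEquiv U).symm (Sieve.ofArrows Vj v))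
    ((GrothendieckTopology.mem_over_iff J' _).2 (by rw [OrderIso.apply_symm_apply]; exact hv)) s ?_
  intro U' a ha
  obtain ⟨T, b, c, ⟨j⟩, hbc⟩ := (ha : (Sieve.ofArrows Vj v).arrows a.left)
  obtain ⟨W, w, hw, hwc, κ, Wk, wk, hwk, hS⟩ := hrest j
  let g : Vj j ⟶ X := v j ≫ U.hom
  suffices hj : S.obj.map (Over.homMk (v j) rfl : Over.mk g ⟶ U).op s = 0 by
    have ha' : a = (Over.homMk b (by
        change b ≫ v j ≫ U.hom = U'.hom
        rw [reassoc_of% hbc]; exact Over.w a) : U' ⟶ Over.mk g) ≫ Over.homMk (v j) rfl := by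
      ext; exact hbc.symm
    rw [ha', op_comp, S.obj.map_comp, ConcreteCategory.comp_apply, hj, map_zero]
  -- vanishing over `W`
  have hW : ∀ (Z : Over W) (a' : (Over.map (w ≫ g)).obj Z ⟶ U),
      a'.left = Z.hom ≫ w ≫ v j → S.obj.map a'.op s = 0 := by
    intro Z a' ha'
    refine eq_zero_of_cover S.property
      ((Sieve.overEquiv _).symm ((Sieve.ofArrows Wk wk).pullback Z.hom))
      ((GrothendieckTopology.mem_over_iff J' _).2
        (by rw [OrderIso.apply_symm_apply]; exact J'.pullback_stable Z.hom hwk)) _ ?_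
    intro Yq q hq
    obtain ⟨T', b', c', ⟨k⟩, hbc'⟩ :=
      (hq : (Sieve.ofArrows Wk wk).arrows (q.left ≫ Z.hom))
    rw [← ConcreteCategory.comp_apply, ← S.obj.map_comp, ← op_comp]
    have hq' : (Presheaf.equalizerSieve (F := S.obj) s 0).arrows (q ≫ a') := by
      have hfac : (Over.homMk b' (by
          have := Over.w (q ≫ a')
          dsimp at this ⊢
          rw [← this, ha']
          simp only [Category.assoc]
          rw [reassoc_of% hbc']
          rfl) : Yq ⟶ Over.mk ((wk k ≫ w ≫ v j) ≫ U.hom)) ≫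
          (Over.homMk (wk k ≫ w ≫ v j) rfl : Over.mk ((wk k ≫ w ≫ v j) ≫ U.hom) ⟶ U) = q ≫ a' := by
        ext
        exact ((reassoc_of% hbc') (w ≫ v j)).trans (congrArg (q.left ≫ ·) ha').symm
      rw [← hfac]
      exact Sieve.downward_closed _ ((Sieve.overEquiv_iff _ _).1 (hS k)) _
    exact (show S.obj.map (q ≫ a').op s = S.obj.map (q ≫ a').op 0 from hq').trans (map_zero _)
  -- transport to the slice over `Vⱼ`
  haveI := D.ws (Vj j)
  let I' := ((rest J g).mapHomologicalComplex (ComplexShape.up ℕ)).obj I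
  haveI : ∀ k, Injective (I'.X k) := fun k => injective_restrict_sheaf g (I.X k)
  have hI' : ∀ k, (sc I' k).Exact := fun k => (hI k).map (rest J g)
  have h0' : D.A' (Vj j) ((eps D.le (Vj j)).obj (Z I' 0)) :=
    (D.A' (Vj j)).prop_of_iso (show (rest J' g).obj ((eps D.le X).obj (Z I 0)) ≅
      (eps D.le (Vj j)).obj (Z I' 0)
      from (eps D.le (Vj j)).mapIso (PreservesKernel.iso (rest J g) (I.d 0 (0 + 1)))) (D.h2 g _ h0)
  let φ : (rest J' g).obj S ≅ ((sc I' n).map (eps D.le (Vj j))).homology :=
    (((sc I n).map (eps D.le X)).mapHomologyIso (rest J' g)).symm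
  let i₀ : (Over.map g).obj (Over.mk (𝟙 (Vj j))) ⟶ U :=
    Over.homMk (v j) (by exact (Category.id_comp g).symm)
  let t₀ := S.obj.map i₀.op s
  have ht : φ.hom.hom.app (op (Over.mk (𝟙 (Vj j)))) t₀ = 0 := by
    refine eq_zero_of_restrict hV w hw hwc I' hI' h0' _ fun Z a' => ?_
    refine (ConcreteCategory.congr_hom (φ.hom.hom.naturality a'.op) t₀).symm.trans ?_
    refine (congrArg (φ.hom.hom.app (op ((Over.map w).obj Z)))
      (?_ : ((rest J' g).obj S).obj.map a'.op t₀ = 0)).trans (map_zero _)
    change S.obj.map ((Over.map g).map a').op (S.obj.map i₀.op s) = 0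
    rw [← ConcreteCategory.comp_apply, ← S.obj.map_comp, ← op_comp]
    refine Eq.trans ?_ (congrArg (S.obj.map (Over.isoMk (Iso.refl _) (by simp) :
      (Over.map g).obj ((Over.map w).obj Z) ≅ (Over.map (w ≫ g)).obj Z).hom.op)
        (hW Z ((Over.isoMk (Iso.refl _) (by simp) : (Over.map (w ≫ g)).obj Z ≅
          (Over.map g).obj ((Over.map w).obj Z)).hom ≫ (Over.map g).map a' ≫ i₀) ?_) |>.trans (map_zero _))
    · rw [← ConcreteCategory.comp_apply, ← S.obj.map_comp, ← op_comp]
      refine congrArg (fun m => S.obj.map (Quiver.Hom.op m) s) ?_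
      ext
      simp
    · have := Over.w a'
      dsimp at this ⊢
      simp only [Category.comp_id] at this ⊢
      simp [this, i₀]
  have ht' : t₀ = 0 := by
    refine app_injective_of_mono φ.hom (op (Over.mk (𝟙 (Vj j)))) ?_
    exact ht.trans (map_zero _).symm
  have : (Over.homMk (v j) rfl : Over.mk g ⟶ U) =
      (Over.homMk (𝟙 _) (by simp) : Over.mk g ⟶ (Over.map g).obj (Over.mk (𝟙 (Vj j)))) ≫ i₀ := by
    ext; simp [i₀]
  rw [this, op_comp, S.obj.map_comp, ConcreteCategory.comp_apply]
  exact (congrArg _ ht').trans (map_zero _)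

theorem Vn_all (n : ℕ) : Vn D n := by
  induction n with
  | zero => exact Vn_zero D
  | succ n ih => exact Vn_succ D ih

end Groth.Agent.H15Site.CmpSite
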