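import Groth.Agent.H15Site.OverInj
import Groth.Agent.H15Site.CmpAbstract
import Groth.Prelude.Def_SiteCmp
import Mathlib.CategoryTheory.Sites.CoverLifting

/-!
# Two topologies on the slices of a category: preliminaries
-/

set_option autoImplicit false
set_option linter.unusedSectionVars false
set_option linter.style.haveILetI false
set_option backward.isDefEq.respectTransparency false

universe u

open CategoryTheory CategoryTheory.Limits Opposite

namespace Groth.Agent.H15Site.CmpSite

attribute [local instance 10000] SiteInst.hasSheafifySite SiteInst.hasWeakSheafifySite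
  SiteInst.enoughInjSite

section Element

variable {C : Type u} [SmallCategory C] {J : GrothendieckTopology C}

theorem app_injective_of_mono {A B : Sheaf J AddCommGrpCat.{u}} (φ : A ⟶ B) [Mono φ] (U : Cᵒᵖ) :
    Function.Injective (φ.hom.app U) := by
  haveI : Mono φ.hom := (sheafToPresheaf J AddCommGrpCat.{u}).map_mono φ
  exact (AddCommGrpCat.mono_iff_injective _).1 inferInstance

/-- Sections of an exact left part. -/
theorem exists_app_eq {S : ShortComplex (Sheaf J AddCommGrpCat.{u})} (hS : S.Exact) [Mono S.f]
    (U : Cᵒᵖ) (x : S.X₂.obj.obj U) (hx : S.g.hom.app U x = 0) : ∃ z, S.f.hom.app U z = x := by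
  let E := sheafToPresheaf J AddCommGrpCat.{u} ⋙ (evaluation Cᵒᵖ AddCommGrpCat.{u}).obj U
  haveI : E.Additive := { map_add := rfl }
  have h := ShortComplex.Exact.map_of_mono_of_preservesKernel hS E inferInstance inferInstance
  exact (ShortComplex.ab_exact_iff _).1 h x hx

/-- A section of a sheaf whose sheafification for a topology vanishes is locally zero. -/
theorem equalizer_mem {J' : GrothendieckTopology C} (S : Sheaf J' AddCommGrpCat.{u})
    (h : IsZero ((presheafToSheaf J AddCommGrpCat.{u}).obj S.obj)) (U : Cᵒᵖ) (s : S.obj.obj U) :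
    Presheaf.equalizerSieve (F := S.obj) s 0 ∈ J U.unop := by
  have hz : IsZero ((sheafToPresheaf J AddCommGrpCat.{u}).obj
      ((presheafToSheaf J AddCommGrpCat.{u}).obj S.obj)) := Functor.map_isZero _ h
  refine Presheaf.equalizerSieve_mem J (toSheafify J S.obj) s 0 ?_
  have : toSheafify J S.obj = 0 := hz.eq_of_tgt _ _
  rw [this]
  rfl

/-- A sheaf is separated. -/
theorem eq_zero_of_cover {P : Cᵒᵖ ⥤ AddCommGrpCat.{u}} (hP : Presheaf.IsSheaf J P) {U : C}
    (T : Sieve U) (hT : T ∈ J U) (x : P.obj (op U))
    (hx : ∀ ⦃V : C⦄ (a : V ⟶ U), T.arrows a → P.map a.op x = 0) : x = 0 := by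
  have h := (isSheaf_iff_isSheaf_of_type J (P ⋙ forget _)).1
    ((Presheaf.isSheaf_iff_isSheaf_comp J P (forget _)).1 hP)
  refine (h T hT).isSeparatedFor.ext fun V a ha => ?_
  exact (hx a ha).trans (map_zero (P.map a.op).hom).symm

end Element

section Unit

variable {C D : Type u} [SmallCategory C] [SmallCategory D] {J : GrothendieckTopology C}
  {K : GrothendieckTopology D} (G : C ⥤ D) [G.IsContinuous J K] [G.IsCocontinuous J K]

/-- The unit of a cocontinuous push-forward kills sections which vanish on the image. -/
theorem unit_apply_eq_zero (M : Sheaf K AddCommGrpCat.{u}) (U : Dᵒᵖ) (x : M.obj.obj U)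
    (hx : ∀ (Z : C) (a : G.obj Z ⟶ U.unop), M.obj.map a.op x = 0) :
    ((G.sheafAdjunctionCocontinuous AddCommGrpCat.{u} J K).unit.app M).hom.app U x = 0 := by
  rw [Functor.sheafAdjunctionCocontinuous_unit_app_hom]
  refine Concrete.isLimit_ext _ (G.op.isPointwiseRightKanExtensionRanCounit (G.op ⋙ M.obj) U) _ _
    fun a => ?_
  rw [map_zero]
  have h := congr_app ((G.op.ranAdjunction AddCommGrpCat.{u}).left_triangle_components M.obj) a.right
  rw [Functor.ranAdjunction_counit] at h
  have h' : (((G.op.ranAdjunction AddCommGrpCat.{u}).unit.app M.obj).app U) ≫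
      (G.op.ran.obj (G.op ⋙ M.obj)).map a.hom ≫
        (G.op.ranCounit.app (G.op ⋙ M.obj)).app a.right = M.obj.map a.hom := by
    rw [← Category.assoc]
    refine (congrArg (· ≫ _) (((G.op.ranAdjunction AddCommGrpCat.{u}).unit.app M.obj).naturality
      a.hom).symm).trans ((Category.assoc _ _ _).trans ?_)
    exact (congrArg (M.obj.map a.hom ≫ ·) h).trans (Category.comp_id _)
  exact (ConcreteCategory.congr_hom h' x).trans (hx a.right.unop a.hom.unop)

end Unit

section Over

variable {C : Type u} [SmallCategory C]

/-- Restriction along `Over.map` preserves injective presheaves. -/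
theorem injective_restrict_map {X V : C} (g : V ⟶ X) (P : (Over X)ᵒᵖ ⥤ AddCommGrpCat.{u})
    [Injective P] : Injective ((Over.map g).op ⋙ P) := by
  haveI := OverInj.injective_restrict (Over.mk g) P
  let E := ((Over.mk g).iteratedSliceEquiv).op.congrLeft (E := AddCommGrpCat.{u})
  exact Injective.injective_of_adjoint E.symm.toAdjunction
    ((Over.forget (Over.mk g)).op ⋙ P)

variable {J : GrothendieckTopology C}

/-- Restriction along `Over.map` preserves injective sheaves. -/
theorem injective_restrict_sheaf {X V : C} (g : V ⟶ X) (I : Sheaf (J.over X) AddCommGrpCat.{u})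
    [Injective I] : Injective ((CohSite.push (J.over X) (J.over V) (Over.map g)).obj I) := by
  haveI := OverInj.injective_obj I
  haveI : Injective ((CohSite.push (J.over X) (J.over V) (Over.map g)).obj I).obj :=
    injective_restrict_map g I.obj
  exact OverInj.injective_sheaf _

end Over

end Groth.Agent.H15Site.CmpSite
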