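import Groth.Agent.H15Site.HUBasic
import Groth.Agent.H15Site.HigherDirect
import Mathlib.CategoryTheory.Sites.Pullback

/-!
# Higher direct images along a continuous functor of sites are sheafified cohomology presheaves
-/

universe u

open CategoryTheory CategoryTheory.Limits Opposite CategoryTheory.Abelian

namespace Groth.Agent.H15Site.HigherDirectSite

attribute [local instance 10000] SiteInst.hasSheafifySite SiteInst.hasWeakSheafifySite
  SiteInst.hasExtSite SiteInst.enoughInjSite

variable {C D : Type u} [SmallCategory C] [SmallCategory D] {J : GrothendieckTopology C}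
  {K : GrothendieckTopology D}

/-- The cohomology presheaf. -/
noncomputable abbrev cohP (F : Sheaf J AddCommGrpCat.{u}) (p : ℕ) : Cᵒᵖ ⥤ AddCommGrpCat.{u} :=
  Sheaf.cohomologyPresheaf.{u} F p

/-- `H⁰` is sections. -/
noncomputable def cohPZero (F : Sheaf J AddCommGrpCat.{u}) : cohP F 0 ≅ F.obj :=
  NatIso.ofComponents (fun U => (CechEdge.sectH0 J U.unop F).symm.toAddCommGrpIso) fun {U V} k => by
    ext x
    obtain ⟨s, rfl⟩ := (CechEdge.sectH0 J U.unop F).surjective x
    exact ((congrArg (CechEdge.sectH0 J V.unop F).symm (HUBasic.res_sectH0 F k.unop s)).trans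
      (AddEquiv.symm_apply_apply _ _)).trans
        (congrArg (F.obj.map k).hom (AddEquiv.symm_apply_apply (CechEdge.sectH0 J U.unop F) s)).symm

theorem cohPZero_naturality {F G : Sheaf J AddCommGrpCat.{u}} (f : F ⟶ G) :
    (Sheaf.cohomologyPresheafFunctor.{u} J 0).map f ≫ (cohPZero G).hom =
      (cohPZero F).hom ≫ f.hom := by
  ext U x
  obtain ⟨s, rfl⟩ := (CechEdge.sectH0 J U.unop F).surjective x
  exact ((congrArg (CechEdge.sectH0 J U.unop G).symm (Edge.sectH0_natural f U.unop s)).trans
    (AddEquiv.symm_apply_apply _ _)).trans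
      (congrArg (f.hom.app U).hom (AddEquiv.symm_apply_apply (CechEdge.sectH0 J U.unop F) s)).symm

/-- The connecting map of cohomology presheaves. -/
noncomputable def δP {S : ShortComplex (Sheaf J AddCommGrpCat.{u})} (hS : S.ShortExact) (n : ℕ) :
    cohP S.X₃ n ⟶ cohP S.X₁ (n + 1) where
  app U := AddCommGrpCat.ofHom (CechEdge.extδ hS U.unop n)
  naturality U V k := by
    ext x
    exact (HUBasic.res_extδ hS n k.unop x).symm

theorem exact_of_evaluation (T : ShortComplex (Cᵒᵖ ⥤ AddCommGrpCat.{u}))
    (h : ∀ U, (T.map ((evaluation Cᵒᵖ AddCommGrpCat.{u}).obj U)).Exact) : T.Exact := by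
  rw [ShortComplex.exact_iff_isZero_homology]
  exact Functor.isZero _ fun U => IsZero.of_iso ((ShortComplex.exact_iff_isZero_homology _).1 (h U))
    (T.mapHomologyIso ((evaluation Cᵒᵖ AddCommGrpCat.{u}).obj U)).symm

theorem isIso_δP {S : ShortComplex (Sheaf J AddCommGrpCat.{u})} (hS : S.ShortExact) (n : ℕ)
    [Injective S.X₂] : IsIso (δP hS (n + 1)) := by
  have : ∀ U, IsIso ((δP hS (n + 1)).app U) := fun U => by
    rw [ConcreteCategory.isIso_iff_bijective]
    refine ⟨(injective_iff_map_eq_zero (CechEdge.extδ hS U.unop (n + 1))).2 fun q hq => ?_, fun x => ?_⟩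
    · obtain ⟨w, rfl⟩ := Edge.exists_HUmap_g hS U.unop (n + 1) q hq
      rw [(Edge.subsingleton_HU_of_injective S.X₂ n U.unop).elim w 0, map_zero]
    · exact Edge.exists_extδ_eq hS U.unop (n + 1) x
        ((Edge.subsingleton_HU_of_injective S.X₂ (n + 1) U.unop).elim _ _)
  exact NatIso.isIso_of_isIso_app _

theorem nonempty_cohP_one_iso {S : ShortComplex (Sheaf J AddCommGrpCat.{u})} (hS : S.ShortExact)
    [Injective S.X₂] : Nonempty (cohP S.X₁ 1 ≅ cokernel S.g.hom) := by
  have hw : (Sheaf.cohomologyPresheafFunctor.{u} J 0).map S.g ≫ δP hS 0 = 0 := by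
    ext U x
    exact Edge.extδ_HUmap_g hS U.unop 0 x
  let T : ShortComplex (Cᵒᵖ ⥤ AddCommGrpCat.{u}) := ShortComplex.mk _ _ hw
  have hepi : Epi T.g := by
    have : ∀ U, Epi ((δP hS 0).app U) := fun U => by
      rw [AddCommGrpCat.epi_iff_surjective]
      intro x
      exact Edge.exists_extδ_eq hS U.unop 0 x
        ((Edge.subsingleton_HU_of_injective S.X₂ 0 U.unop).elim _ _)
    exact NatTrans.epi_of_epi_app _
  have hex : T.Exact := by
    refine exact_of_evaluation T fun U => ?_
    rw [ShortComplex.ab_exact_iff]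
    intro x hx
    exact Edge.exists_HUmap_g hS U.unop 0 x hx
  let e : cokernel T.f ≅ cohP S.X₁ 1 := (cokernelIsCokernel _).coconePointUniqueUpToIso hex.gIsCokernel
  exact ⟨e.symm ≪≫ cokernel.mapIso T.f S.g.hom (cohPZero S.X₂) (cohPZero S.X₃)
    (cohPZero_naturality S.g)⟩

variable (u : D ⥤ C) [u.IsContinuous K J]

variable (J K) in
/-- Sheafify the pushed-forward presheaf. -/
noncomputable abbrev shPush : (Cᵒᵖ ⥤ AddCommGrpCat.{u}) ⥤ Sheaf K AddCommGrpCat.{u} :=
  (Functor.whiskeringLeft _ _ AddCommGrpCat.{u}).obj u.op ⋙ presheafToSheaf K AddCommGrpCat.{u}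

variable (J K) in
/-- On sheaves this is the direct image. -/
noncomputable def shPushIso :
    sheafToPresheaf J AddCommGrpCat.{u} ⋙ shPush K u ≅ CohSite.push J K u :=
  NatIso.ofComponents
    (fun F => (asIso (sheafificationAdjunction K AddCommGrpCat.{u}).counit).app
      ((CohSite.push J K u).obj F))
    fun {F G} φ => (sheafificationAdjunction K AddCommGrpCat.{u}).counit.naturality
      ((CohSite.push J K u).map φ)

omit [u.IsContinuous K J] in
instance : PreservesFiniteColimits (shPush K u (C := C)) := by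
  have : PreservesFiniteColimits (presheafToSheaf K AddCommGrpCat.{u}) :=
    have := (sheafificationAdjunction K AddCommGrpCat.{u}).leftAdjoint_preservesColimits
    PreservesColimitsOfSize.preservesFiniteColimits.{u, u} _
  exact comp_preservesFiniteColimits _ _

theorem push_preservesFiniteLimits : PreservesFiniteLimits (CohSite.push J K u) := by
  have := (u.sheafAdjunctionContinuous AddCommGrpCat.{u} K J).isRightAdjoint
  infer_instance

/-- `R^p u_* F` is the sheafification of `V ↦ H^p(u V, F)`. -/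
theorem nonempty_Rpush_iso_sheafify (p : ℕ) (F : Sheaf J AddCommGrpCat.{u}) :
    Nonempty ((CohSite.Rpush J K u p).obj F ≅
      (presheafToSheaf K AddCommGrpCat.{u}).obj (u.op ⋙ F.cohomologyPresheaf p)) := by
  have := push_preservesFiniteLimits (J := J) (K := K) u
  induction p generalizing F with
  | zero =>
    exact ⟨(CohSite.push J K u).rightDerivedZeroIsoSelf.app F ≪≫ ((shPushIso J K u).app F).symm ≪≫
      (shPush K u).mapIso (cohPZero F).symm⟩
  | succ p ih =>
    have hS := Edge.injSeq_shortExact F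
    have hI : ∀ m, IsZero ((CohSite.Rpush J K u (m + 1)).obj (Edge.injSeq F).X₂) := fun m =>
      (CohSite.push J K u).isZero_rightDerived_obj_injective_succ m _
    cases p with
    | zero =>
      obtain ⟨e⟩ := HigherDirect.nonempty_rightDerived_one_iso (CohSite.push J K u) hS (hI 0)
      obtain ⟨e'⟩ := nonempty_cohP_one_iso hS
      exact ⟨e ≪≫ cokernel.mapIso _ ((shPush K u).map (Edge.injSeq F).g.hom)
        ((shPushIso J K u).app _).symm ((shPushIso J K u).app _).symm
        ((shPushIso J K u).inv.naturality (Edge.injSeq F).g) ≪≫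
        (PreservesCokernel.iso (shPush K u) _).symm ≪≫ (shPush K u).mapIso e'.symm⟩
    | succ p =>
      obtain ⟨e⟩ := HigherDirect.nonempty_rightDerived_succ_iso (CohSite.push J K u) hS p (hI p)
        (hI (p + 1))
      obtain ⟨e'⟩ := ih (Edge.injSeq F).X₃
      have := isIso_δP hS p
      exact ⟨e.symm ≪≫ e' ≪≫ (shPush K u).mapIso (asIso (δP hS (p + 1)))⟩

theorem isZero_Rpush_of_totallyAcyclic (F : Sheaf J AddCommGrpCat.{u})
    (hF : CohCx.IsTotallyAcyclic F) (p : ℕ) : IsZero ((CohSite.Rpush J K u (p + 1)).obj F) := by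
  obtain ⟨e⟩ := nonempty_Rpush_iso_sheafify (K := K) u (p + 1) F
  refine IsZero.of_iso ?_ e
  refine Functor.map_isZero (presheafToSheaf K AddCommGrpCat.{u}) (Functor.isZero _ fun V => ?_)
  have : Subsingleton ((u.op ⋙ F.cohomologyPresheaf (p + 1)).obj V) :=
    HUBasic.subsingleton_HU_of_totallyAcyclic F hF (u.obj V.unop) p
  exact AddCommGrpCat.isZero_of_subsingleton _

end Groth.Agent.H15Site.HigherDirectSite
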