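import Groth.Agent.H15Site.CmpSite
import Groth.Agent.H15Site.HigherDirectSite

/-!
# Two topologies on the slices of a category: consequences of the vanishing
-/

set_option autoImplicit false
set_option linter.unusedSectionVars false
set_option linter.unusedVariables false
set_option linter.style.haveILetI false
set_option backward.isDefEq.respectTransparency false

universe u

open CategoryTheory CategoryTheory.Limits Opposite

namespace Groth.Agent.H15Site.CmpSite

open CmpDimShift CmpAbstract
open scoped ZeroObject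

attribute [local instance 10000] SiteInst.hasSheafifySite SiteInst.hasWeakSheafifySite
  SiteInst.enoughInjSite SiteInst.hasExtSite

variable {C : Type u} [SmallCategory C] {J J' : GrothendieckTopology C} (D : Data J J')

theorem van_eps (X : C) (M : Sh J X) (hM : D.A' X ((eps D.le X).obj M)) (m : ℕ) :
    Van (eps D.le X) m M := fun j h1 h2 => Vn_all D j X M hM j h1 le_rfl

/-- Sheafifying a cokernel in `A'`. -/
theorem map_cokernel_iso {X : C} {M N : Sh J X} (φ : M ⟶ N) (hM : D.A' X ((eps D.le X).obj M))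
    (hN : D.A' X ((eps D.le X).obj N)) : D.A' X ((eps D.le X).obj (cokernel φ)) := by
  haveI := D.ws X
  haveI := isIso_counit D.le X
  haveI := preservesFiniteColimits_shf D.le X
  have hC : D.A' X (cokernel ((eps D.le X).map φ)) :=
    (D.A' X).prop_of_isColimit_cokernelCofork (colimit.isColimit (parallelPair _ 0)) hM hN
  haveI := isIso_unit_app D.le X _ (D.h3 X _ hC)
  exact (D.A' X).prop_of_iso (asIso ((adj D.le X).unit.app _) ≪≫ (eps D.le X).mapIso
    (PreservesCokernel.iso (shf J J' X) ((eps D.le X).map φ) ≪≫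
      cokernel.mapIso _ φ (asIso ((adj D.le X).counit.app M)) (asIso ((adj D.le X).counit.app N))
        ((adj D.le X).counit.naturality φ))) hC

/-- `A_X` is weak Serre. -/
theorem isWeakSerre_inverseImage (X : C) :
    WSerre.IsWeakSerre ((D.A' X).inverseImage (eps D.le X)) := by
  haveI := D.ws X
  refine { exists_zero := ?_, kernels_le := ?_, cokernels_le := ?_, prop_X₂_of_shortExact := ?_ }
  · exact ⟨0, isZero_zero _, (D.A' X).prop_of_isZero ((eps D.le X).map_isZero (isZero_zero _))⟩
  · rintro _ ⟨φ, k, hk, hX, hY⟩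
    exact (D.A' X).prop_of_isLimit_kernelFork (KernelFork.mapIsLimit _ hk (eps D.le X)) hX hY
  · rintro _ ⟨φ, k, hk, hX, hY⟩
    exact (D.A' X).prop_of_iso ((eps D.le X).mapIso
      ((colimit.isColimit (parallelPair φ 0)).coconePointUniqueUpToIso hk))
      (map_cokernel_iso D φ hX hY)
  · intro S hS h₁ h₃
    haveI := epi_map_g (eps D.le X) hS (van_eps D X S.X₁ h₁ 1)
    haveI : (eps D.le X).PreservesMonomorphisms :=
      preservesMonomorphisms_of_preservesLimitsOfShape _
    haveI := hS.mono_f
    have hS' : (S.map (eps D.le X)).ShortExact :=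
      { exact := hS.exact.map_of_mono_of_preservesKernel (eps D.le X) inferInstance inferInstance
        mono_f := inferInstanceAs (Mono ((eps D.le X).map S.f))
        epi_g := inferInstanceAs (Epi ((eps D.le X).map S.g)) }
    exact (D.A' X).prop_X₂_of_shortExact hS' h₁ h₃

set_option maxHeartbeats 800000 in
/-- `Rⁱf_{τ',*} ε = ε Rⁱf_{τ,*}` on `A_X`. -/
theorem nonempty_rightDerived_dir_iso {V W : C} (f : W ⟶ V) (hf : D.P f) (F : Sh J W)
    (hF : D.A' W ((eps D.le W).obj F)) (i : ℕ) :
    Nonempty (((dir J' f).rightDerived i).obj ((eps D.le W).obj F) ≅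
      (eps D.le V).obj (((dir J f).rightDerived i).obj F)) := by
  haveI := D.ws V
  haveI := isIso_counit D.le V
  haveI := preservesFiniteColimits_shf D.le V
  rcases i with - | k
  · exact ⟨(dir J' f).rightDerivedZeroIsoSelf.app _ ≪≫
      Iso.refl _ ≪≫ (eps D.le V).mapIso ((dir J f).rightDerivedZeroIsoSelf.app F).symm⟩
  let R := injectiveResolution F
  let K := R.cocomplex
  haveI : ∀ k, Injective (K.X k) := R.injective
  have hK : ∀ k, (sc K k).Exact := fun k =>
    (K.exactAt_iff' k (k + 1) (k + 1 + 1) (by simp) (by simp)).1 (R.cocomplex_exactAt_succ k)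
  let eZ : F ≅ Z K 0 :=
    R.isLimitKernelFork.conePointUniqueUpToIso (limit.isLimit (parallelPair (K.d 0 (0 + 1)) 0))
  have h0 : D.A' W ((eps D.le W).obj (Z K 0)) := by
    haveI := D.ws W
    exact (D.A' W).prop_of_iso ((eps D.le W).mapIso eZ) hF
  let K' := ((eps D.le W).mapHomologicalComplex (ComplexShape.up ℕ)).obj K
  haveI : ∀ k, Injective (K'.X k) := fun k => injective_eps_obj (D := D) (K.X k)
  obtain ⟨e'⟩ := nonempty_homology_iso (dir J' f) K' k
    fun j _ => exact_eps (Vn_all D (j + 1)) K hK h0 j (Nat.lt_succ_self j)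
  obtain ⟨e⟩ := nonempty_homology_iso (dir J f) K k fun j _ => hK j
  have hP : D.A' V (((sc K k).map (dir J f)).map (eps D.le V)).homology :=
    (D.A' V).prop_of_iso e' (D.h4 f hf _ (prop_Z K h0) (k + 1))
  haveI := isIso_unit_app D.le V _ (D.h3 V _ hP)
  exact ⟨((dir J' f).rightDerived (k + 1)).mapIso ((eps D.le W).mapIso eZ ≪≫ (zIso D K).symm) ≪≫ e' ≪≫
    (asIso ((adj D.le V).unit.app (((sc K k).map (dir J f)).map (eps D.le V)).homology) :) ≪≫
    (eps D.le V).mapIso (pullHomologyIso (adj D.le V) ((sc K k).map (dir J f)) ≪≫ e.symm ≪≫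
      ((dir J f).rightDerived (k + 1)).mapIso eZ.symm)⟩

/-- The higher derived functors of sections are cohomology. -/
theorem nonempty_rightDerived_sections_iso {E : Type u} [SmallCategory E]
    {K : GrothendieckTopology E} (p : ℕ) (F : Sheaf K AddCommGrpCat.{u}) :
    Nonempty (((sheafToPresheaf K AddCommGrpCat.{u}).rightDerived p).obj F ≅
      HigherDirectSite.cohP F p) := by
  haveI := (sheafificationAdjunction K AddCommGrpCat.{u}).rightAdjoint_preservesLimits
  induction p generalizing F with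
  | zero =>
    exact ⟨(sheafToPresheaf K AddCommGrpCat.{u}).rightDerivedZeroIsoSelf.app F ≪≫
      (HigherDirectSite.cohPZero F).symm⟩
  | succ p ih =>
    have hS := Edge.injSeq_shortExact F
    have hI : ∀ m, IsZero (((sheafToPresheaf K AddCommGrpCat.{u}).rightDerived (m + 1)).obj
        (Edge.injSeq F).X₂) := fun m =>
      (sheafToPresheaf K AddCommGrpCat.{u}).isZero_rightDerived_obj_injective_succ m _
    cases p with
    | zero =>
      obtain ⟨e⟩ := HigherDirect.nonempty_rightDerived_one_iso (sheafToPresheaf K AddCommGrpCat.{u})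
        hS (hI 0)
      obtain ⟨e'⟩ := HigherDirectSite.nonempty_cohP_one_iso hS
      exact ⟨e ≪≫ e'.symm⟩
    | succ p =>
      obtain ⟨e⟩ := HigherDirect.nonempty_rightDerived_succ_iso (sheafToPresheaf K AddCommGrpCat.{u})
        hS p (hI p) (hI (p + 1))
      obtain ⟨e'⟩ := ih (Edge.injSeq F).X₃
      haveI := HigherDirectSite.isIso_δP hS p
      exact ⟨e.symm ≪≫ e' ≪≫ asIso (HigherDirectSite.δP hS (p + 1))⟩

set_option maxHeartbeats 800000 in
/-- `H^n_{τ'}(U, ε F) = H^n_τ(U, F)` on `A_X`. -/
theorem nonempty_cohP_eps_iso (X : C) (F : Sh J X) (hF : D.A' X ((eps D.le X).obj F)) (n : ℕ) :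
    Nonempty (HigherDirectSite.cohP ((eps D.le X).obj F) n ≅ HigherDirectSite.cohP F n) := by
  haveI := D.ws X
  haveI := (sheafificationAdjunction (J.over X) AddCommGrpCat.{u}).rightAdjoint_preservesLimits
  haveI := (sheafificationAdjunction (J'.over X) AddCommGrpCat.{u}).rightAdjoint_preservesLimits
  obtain ⟨c'⟩ := nonempty_rightDerived_sections_iso n ((eps D.le X).obj F)
  obtain ⟨c⟩ := nonempty_rightDerived_sections_iso n F
  rcases n with - | k
  · exact ⟨HigherDirectSite.cohPZero _ ≪≫ Iso.refl _ ≪≫ (HigherDirectSite.cohPZero F).symm⟩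
  let R := injectiveResolution F
  let K := R.cocomplex
  haveI : ∀ k, Injective (K.X k) := R.injective
  have hK : ∀ k, (sc K k).Exact := fun k =>
    (K.exactAt_iff' k (k + 1) (k + 1 + 1) (by simp) (by simp)).1 (R.cocomplex_exactAt_succ k)
  let eZ : F ≅ Z K 0 :=
    R.isLimitKernelFork.conePointUniqueUpToIso (limit.isLimit (parallelPair (K.d 0 (0 + 1)) 0))
  have h0 : D.A' X ((eps D.le X).obj (Z K 0)) :=
    (D.A' X).prop_of_iso ((eps D.le X).mapIso eZ) hF
  let K' := ((eps D.le X).mapHomologicalComplex (ComplexShape.up ℕ)).obj K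
  haveI : ∀ k, Injective (K'.X k) := fun k => injective_eps_obj (D := D) (K.X k)
  obtain ⟨e'⟩ := nonempty_homology_iso (sheafToPresheaf (J'.over X) AddCommGrpCat.{u}) K' k
    fun j _ => exact_eps (Vn_all D (j + 1)) K hK h0 j (Nat.lt_succ_self j)
  obtain ⟨e⟩ := nonempty_homology_iso (sheafToPresheaf (J.over X) AddCommGrpCat.{u}) K k
    fun j _ => hK j
  exact ⟨c'.symm ≪≫
    ((sheafToPresheaf (J'.over X) AddCommGrpCat.{u}).rightDerived (k + 1)).mapIso
      ((eps D.le X).mapIso eZ ≪≫ (zIso D K).symm) ≪≫ e' ≪≫ Iso.refl _ ≪≫ e.symm ≪≫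
    ((sheafToPresheaf (J.over X) AddCommGrpCat.{u}).rightDerived (k + 1)).mapIso eZ.symm ≪≫ c⟩

end Groth.Agent.H15Site.CmpSite
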