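import Mathlib.CategoryTheory.Adjunction.Triple
import Mathlib.CategoryTheory.Functor.KanExtension.Adjunction
import Mathlib.CategoryTheory.Sites.CoverLifting
import Mathlib.CategoryTheory.Sites.Pullback
import Mathlib.CategoryTheory.Adjunction.FullyFaithful
import Mathlib.CategoryTheory.NatIso

/-!
# Fully faithful continuous and cocontinuous functors: the left adjoint of pushforward is fully faithful
-/

set_option autoImplicit false

namespace Groth.Agent.H15Site

open CategoryTheory CategoryTheory.Limits

universe v u v' u' w t

variable {C : Type u} [Category.{v} C] {D : Type u'} [Category.{v'} D] (G : C ⥤ D)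
  (A : Type t) [Category.{w} A] (J : GrothendieckTopology C) (K : GrothendieckTopology D)
  [G.IsContinuous J K] [G.IsCocontinuous J K] [G.Full] [G.Faithful]
  [∀ (F : Cᵒᵖ ⥤ A), G.op.HasPointwiseRightKanExtension F]
  [(G.sheafPushforwardContinuous A J K).IsRightAdjoint]

theorem isIso_sheafAdjunctionCocontinuous_counit :
    IsIso (G.sheafAdjunctionCocontinuous A J K).counit := by
  haveI : ∀ F : Sheaf J A, IsIso ((G.sheafAdjunctionCocontinuous A J K).counit.app F) := by
    intro F
    haveI : IsIso ((sheafToPresheaf J A).map ((G.sheafAdjunctionCocontinuous A J K).counit.app F)) := by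
      show IsIso ((G.sheafAdjunctionCocontinuous A J K).counit.app F).hom
      rw [Functor.sheafAdjunctionCocontinuous_counit_app_hom]
      haveI : IsIso (G.op.ranAdjunction A).counit := Functor.reflective' G.op
      exact NatIso.isIso_app_of_isIso _ _
    exact isIso_of_reflects_iso _ (sheafToPresheaf J A)
  exact NatIso.isIso_of_isIso_app _

theorem isIso_sheafAdjunctionContinuous_unit :
    IsIso (G.sheafAdjunctionContinuous A J K).unit :=
  (Adjunction.Triple.isIso_unit_iff_isIso_counit
    (⟨G.sheafAdjunctionContinuous A J K, G.sheafAdjunctionCocontinuous A J K⟩ :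
      Adjunction.Triple _ _ _)).2 (isIso_sheafAdjunctionCocontinuous_counit G A J K)

theorem sheafPullback_full_faithful :
    (G.sheafPullback A J K).Full ∧ (G.sheafPullback A J K).Faithful := by
  haveI := isIso_sheafAdjunctionContinuous_unit G A J K
  exact ⟨((G.sheafAdjunctionContinuous A J K).fullyFaithfulLOfIsIsoUnit).full,
    ((G.sheafAdjunctionContinuous A J K).fullyFaithfulLOfIsIsoUnit).faithful⟩

end Groth.Agent.H15Site
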