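import Mathlib.CategoryTheory.Limits.VanKampen
import Mathlib.CategoryTheory.Limits.Shapes.DisjointCoproduct
import Mathlib.CategoryTheory.Limits.Types.Coproducts
import Mathlib.CategoryTheory.Limits.Types.Pullbacks
import Mathlib.CategoryTheory.Sites.LeftExact

/-!
# Coproducts in sheaves of sets are van Kampen
-/

set_option autoImplicit false
set_option linter.unusedSectionVars false
set_option linter.style.haveILetI false
set_option backward.isDefEq.respectTransparency false

universe u v

noncomputable section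

open CategoryTheory CategoryTheory.Limits

namespace Groth.Agent.H15Site.CoprodVK

variable {ι : Type u}

lemma types_cofan {f : ι → Type u} (c : Cofan f) (hc : IsColimit c) : IsVanKampenColimit c := by
  intro F' c' α g h _
  let f' : ι → Type u := F'.obj ∘ Discrete.mk
  have hF : F' = Discrete.functor f' :=
    Functor.hext (fun i ↦ rfl) (by rintro ⟨i⟩ ⟨j⟩ ⟨⟨rfl : i = j⟩⟩; simp [f'])
  clear_value f'
  subst hF
  let c'' : Cofan f' := c'
  have hw : ∀ i (x : f' i), g (c''.inj i x) = c.inj i (α.app ⟨i⟩ x) := fun i x =>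
    (ConcreteCategory.congr_hom (NatTrans.congr_app h ⟨i⟩) x).symm
  constructor
  · rintro ⟨hc'⟩ ⟨i⟩
    refine (Types.isPullback_iff _ _ _ _).2 ⟨?_, ?_, ?_⟩
    · ext x; exact hw i x
    · rintro x y ⟨h₁, -⟩
      exact Cofan.inj_injective_of_isColimit (c := c'') hc' i h₁
    · intro z x hzx
      obtain ⟨k, w, rfl⟩ := Cofan.inj_jointly_surjective_of_isColimit (c := c'') hc' z
      have hk : c.inj k (α.app ⟨k⟩ w) = c.inj i x := (hw k w).symm.trans hzx
      obtain rfl := Cofan.eq_of_inj_apply_eq_of_isColimit hc _ _ hk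
      exact ⟨w, rfl, Cofan.inj_injective_of_isColimit hc k hk⟩
  · intro hp
    refine (Cofan.nonempty_isColimit_iff_bijective_fromSigma c'').2 ⟨?_, fun z => ?_⟩
    · rintro ⟨i, x⟩ ⟨k, y⟩ e
      change c''.inj i x = c''.inj k y at e
      have he : c.inj i (α.app ⟨i⟩ x) = c.inj k (α.app ⟨k⟩ y) := by rw [← hw, ← hw, e]
      obtain rfl := Cofan.eq_of_inj_apply_eq_of_isColimit hc _ _ he
      rw [((Types.isPullback_iff _ _ _ _).1 (hp ⟨i⟩)).2.1 x y
        ⟨e, Cofan.inj_injective_of_isColimit hc i he⟩]
    · obtain ⟨i, x, hx⟩ := Cofan.inj_jointly_surjective_of_isColimit hc (g z)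
      obtain ⟨w, hw₁, -⟩ := ((Types.isPullback_iff _ _ _ _).1 (hp ⟨i⟩)).2.2 z x hx.symm
      exact ⟨⟨i, w⟩, hw₁⟩

lemma types {F : Discrete ι ⥤ Type u} (c : Cocone F) (hc : IsColimit c) : IsVanKampenColimit c := by
  let f : ι → Type u := F.obj ∘ Discrete.mk
  have hF : F = Discrete.functor f :=
    Functor.hext (fun i ↦ rfl) (by rintro ⟨i⟩ ⟨j⟩ ⟨⟨rfl : i = j⟩⟩; simp [f])
  clear_value f
  subst hF
  exact types_cofan c hc

lemma presheaf {D : Type u} [SmallCategory D] {F : Discrete ι ⥤ (D ⥤ Type u)} (c : Cocone F)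
    (hc : IsColimit c) : IsVanKampenColimit c :=
  isVanKampenColimit_of_evaluation F c fun x => types _ (isColimitOfPreserves _ hc)

/-- Small coproducts of sheaves of sets on a small site are van Kampen. -/
lemma sheaf {C : Type u} [SmallCategory C] {J : GrothendieckTopology C}
    {F : Discrete ι ⥤ Sheaf J (Type u)} (c : Cocone F) (hc : IsColimit c) :
    IsVanKampenColimit c := by
  let adj := sheafificationAdjunction J (Type u)
  let c₀ := colimit.cocone (F ⋙ sheafToPresheaf J (Type u))
  have h₁ : IsVanKampenColimit ((presheafToSheaf J (Type u)).mapCocone c₀) :=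
    (presheaf c₀ (colimit.isColimit _)).map_reflective adj
  let e : (F ⋙ sheafToPresheaf J (Type u)) ⋙ presheafToSheaf J (Type u) ≅ F :=
    Functor.associator _ _ _ ≪≫ Functor.isoWhiskerLeft F (asIso adj.counit) ≪≫ F.rightUnitor
  refine ((h₁.precompose_isIso e.inv)).of_iso (IsColimit.uniqueUpToIso ?_ hc)
  exact (IsColimit.precomposeHomEquiv e.symm _).symm
    (isColimitOfPreserves (presheafToSheaf J (Type u)) (colimit.isColimit _))

/-- Small coproducts of sheaves of sets on a small site are disjoint. -/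
lemma coproductDisjoint {C : Type u} [SmallCategory C] {J : GrothendieckTopology C}
    (X : ι → Sheaf J (Type u)) : CoproductDisjoint X where
  nonempty_isInitial_of_ne {c} hc i j hij s hs := by
    have h := isPullback_initial_to_of_cofan_isVanKampen (sheaf c hc) ⟨i⟩ ⟨j⟩
      (fun h => hij (congrArg Discrete.as h))
    exact ⟨initialIsInitial.ofIso (h.isoIsPullback _ _ (IsPullback.of_isLimit hs))⟩
  mono_inj {c} hc i := mono_of_cofan_isVanKampen (sheaf c hc) ⟨i⟩

end Groth.Agent.H15Site.CoprodVK
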