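import Groth.Prelude.Def_WeakSerre
import Groth.Agent.H15Site.FlatAdjD
import Mathlib.CategoryTheory.Abelian.Basic
import Mathlib.Algebra.Homology.ShortComplex.ExactFunctor

/-!
# Objects with cohomology in a weak Serre subcategory form a triangulated class
-/

set_option autoImplicit false
set_option linter.style.haveILetI false

open CategoryTheory CategoryTheory.Limits CategoryTheory.Pretriangulated DerivedCategory
open DerivedCategory.TStructure

namespace Groth.Agent.H15Site.CohInTri

open H16Derived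

universe w w' v v' u u'

variable {A : Type u} [Category.{v} A] [Abelian A]

/-- The five-term property of a weak Serre subcategory. -/
theorem prop_middle (P : ObjectProperty A) [WSerre.IsWeakSerre P] {X₁ X₂ X₃ X₄ X₅ : A}
    {a : X₁ ⟶ X₂} {b : X₂ ⟶ X₃} {c : X₃ ⟶ X₄} {d : X₄ ⟶ X₅}
    (hab : a ≫ b = 0) (hbc : b ≫ c = 0) (hcd : c ≫ d = 0)
    (e₂ : (ShortComplex.mk a b hab).Exact) (e₃ : (ShortComplex.mk b c hbc).Exact)
    (e₄ : (ShortComplex.mk c d hcd).Exact)
    (h₁ : P X₁) (h₂ : P X₂) (h₄ : P X₄) (h₅ : P X₅) : P X₃ := by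
  haveI : Mono (cokernel.desc a b hab) := e₂.mono_cokernelDesc
  haveI : Epi (kernel.lift d c hcd) := e₄.epi_kernelLift
  have w : cokernel.desc a b hab ≫ kernel.lift d c hcd = 0 := by
    rw [← cancel_epi (cokernel.π a), ← cancel_mono (kernel.ι d)]
    simp [hbc]
  have hS : (ShortComplex.mk _ _ w).ShortExact := by
    refine { exact := ?_, mono_f := inferInstance, epi_g := inferInstance }
    let φ : ShortComplex.mk b c hbc ⟶ ShortComplex.mk (cokernel.desc a b hab) c (by
        rw [← cancel_epi (cokernel.π a)]; simp [hbc]) :=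
      { τ₁ := cokernel.π a, τ₂ := 𝟙 _, τ₃ := 𝟙 _ }
    haveI : Epi φ.τ₁ := inferInstanceAs (Epi (cokernel.π a))
    haveI : IsIso φ.τ₂ := IsIso.id _
    haveI : Mono φ.τ₃ := (inferInstance : Mono (𝟙 _))
    let ψ : ShortComplex.mk _ _ w ⟶ ShortComplex.mk (cokernel.desc a b hab) c (by
        rw [← cancel_epi (cokernel.π a)]; simp [hbc]) :=
      { τ₁ := 𝟙 _, τ₂ := 𝟙 _, τ₃ := kernel.ι d }
    haveI : Epi ψ.τ₁ := (inferInstance : Epi (𝟙 _))
    haveI : IsIso ψ.τ₂ := IsIso.id _
    haveI : Mono ψ.τ₃ := inferInstanceAs (Mono (kernel.ι d))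
    exact (ShortComplex.exact_iff_of_epi_of_isIso_of_mono ψ).2
      ((ShortComplex.exact_iff_of_epi_of_isIso_of_mono φ).1 e₃)
  exact P.prop_X₂_of_shortExact hS
    (P.prop_of_isColimit_cokernelCofork (colimit.isColimit (parallelPair a 0)) h₁ h₂)
    (P.prop_of_isLimit_kernelFork (limit.isLimit (parallelPair d 0)) h₄ h₅)

variable [HasDerivedCategory.{w} A]

theorem cohIn_obj₂ (P : ObjectProperty A) [WSerre.IsWeakSerre P]
    (T : Triangle (DerivedCategory A)) (hT : T ∈ distTriang _)
    (h₁ : WSerre.cohIn P T.obj₁) (h₃ : WSerre.cohIn P T.obj₃) : WSerre.cohIn P T.obj₂ := fun i =>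
  prop_middle P _ _ _
    (HomologySequence.exact₁ T hT (i - 1) i) (HomologySequence.exact₂ T hT i)
    (HomologySequence.exact₃ T hT i (i + 1)) (h₃ (i - 1)) (h₁ i) (h₃ i) (h₁ (i + 1))

theorem cohIn_of_iso (P : ObjectProperty A) [P.IsClosedUnderIsomorphisms]
    {X Y : DerivedCategory A} (e : X ≅ Y) (h : WSerre.cohIn P X) : WSerre.cohIn P Y := fun i =>
  P.prop_of_iso ((homologyFunctor A i).mapIso e) (h i)

theorem cohIn_shift (P : ObjectProperty A) [P.IsClosedUnderIsomorphisms]
    (X : DerivedCategory A) (n : ℤ) (h : WSerre.cohIn P X) : WSerre.cohIn P (X⟦n⟧) := fun i =>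
  P.prop_of_iso (((homologyFunctor A 0).shiftIso n i (n + i) rfl).app X).symm (h (n + i))

theorem cohIn_of_isZero (P : ObjectProperty A) [WSerre.IsWeakSerre P]
    (X : DerivedCategory A) (h : IsZero X) : WSerre.cohIn P X := fun i =>
  P.prop_of_iso ((isZero_zero A).iso ((homologyFunctor A i).map_isZero h)) P.prop_zero

theorem cohIn_single (P : ObjectProperty A) [WSerre.IsWeakSerre P] (M : A) (hM : P M) (a : ℤ) :
    WSerre.cohIn P ((singleFunctor A a).obj M) := fun i => by
  by_cases h : i = a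
  · subst h
    exact P.prop_of_iso ((singleFunctorCompHomologyFunctorIso A i).app M).symm hM
  · rcases lt_or_gt_of_ne h with h | h
    · exact P.prop_of_iso ((isZero_zero A).iso
        (DerivedCategory.isZero_of_isGE ((singleFunctor A a).obj M) a i h)) P.prop_zero
    · exact P.prop_of_iso ((isZero_zero A).iso
        (DerivedCategory.isZero_of_isLE ((singleFunctor A a).obj M) a i h)) P.prop_zero

variable {B : Type u'} [Category.{v'} B] [Abelian B] [HasDerivedCategory.{w'} B]
  (R : DerivedCategory A ⥤ DerivedCategory B) [R.CommShift ℤ] [R.IsTriangulated]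
  (P : ObjectProperty A) [P.IsClosedUnderIsomorphisms] (P' : ObjectProperty B) [WSerre.IsWeakSerre P']

/-- Triangulated functors and cohomology in a weak Serre subcategory: bounded objects. -/
theorem cohIn_map_of_bounded (hP : ∀ Z : A, IsZero Z → P Z)
    (h : ∀ M : A, P M → WSerre.cohIn P' (R.obj ((singleFunctor A 0).obj M)))
    (X : DerivedCategory A) (a b : ℤ) [X.IsGE a] [X.IsLE b]
    (hX : WSerre.cohIn P X) : WSerre.cohIn P' (R.obj X) := by
  have hs : ∀ (M : A) (a : ℤ), P M → WSerre.cohIn P' (R.obj ((singleFunctor A a).obj M)) :=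
    fun M a hM => cohIn_of_iso P' ((R.commShiftIso (-a)).symm.app _ ≪≫
      R.mapIso (((singleFunctors A).shiftIso (-a) a 0 (by simp)).app M))
      (cohIn_shift P' _ (-a) (h M hM))
  rcases lt_or_ge b a with hab | hab
  · refine cohIn_of_isZero P' _ (R.map_isZero ?_)
    rw [IsZero.iff_id_eq_zero]
    exact t.zero_of_isLE_of_isGE _ b a hab inferInstance inferInstance
  obtain ⟨k, hk⟩ := Int.le.dest hab
  subst hk
  induction k generalizing X with
  | zero =>
    have : X.IsLE a := by simpa using ‹X.IsLE (a + ((0 : ℕ) : ℤ))›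
    obtain ⟨M, ⟨e⟩⟩ := X.exists_iso_singleFunctor_obj_of_isGE_of_isLE a
    refine cohIn_of_iso P' (R.mapIso e.symm) (hs M a ?_)
    exact P.prop_of_iso ((homologyFunctor A a).mapIso e ≪≫
      (singleFunctorCompHomologyFunctorIso A a).app M) (hX a)
  | succ k ih =>
    have h1 : DerivedCategory.IsGE ((t.truncLT (a + k + 1)).obj X) a :=
      DTrunc.isGE_truncLT X _ a
    have h2 : DerivedCategory.IsLE ((t.truncLT (a + k + 1)).obj X) (a + k) :=
      inferInstanceAs (t.IsLE ((t.truncLT (a + k + 1)).obj X) (a + k))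
    have h3 : DerivedCategory.IsGE ((t.truncGE (a + k + 1)).obj X) (a + k + 1) :=
      inferInstanceAs (t.IsGE _ (a + k + 1))
    have h4 : DerivedCategory.IsLE ((t.truncGE (a + k + 1)).obj X) (a + k + 1) := by
      have : X.IsLE (a + k + 1) := by
        simpa [add_assoc] using ‹X.IsLE (a + ((k + 1 : ℕ) : ℤ))›
      exact DTrunc.isLE_truncGE X _ _
    refine cohIn_obj₂ P' _ (R.map_distinguished _ (t.triangleLTGE_distinguished (a + k + 1) X))
      (@ih ((t.truncLT (a + k + 1)).obj X) h1 (WayOut.p_truncLT P hP hX _) h2 (by lia)) ?_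
    obtain ⟨M, ⟨e⟩⟩ :=
      DerivedCategory.exists_iso_singleFunctor_obj_of_isGE_of_isLE
        ((t.truncGE (a + k + 1)).obj X) (a + k + 1)
    refine cohIn_of_iso P' (R.mapIso e.symm) (hs M _ ?_)
    exact P.prop_of_iso ((homologyFunctor A _).mapIso e ≪≫
      (singleFunctorCompHomologyFunctorIso A _).app M) (WayOut.p_truncGE P hP hX _ _)

/-- Way-out version for bounded below objects. -/
theorem cohIn_map_of_isGE (hP : ∀ Z : A, IsZero Z → P Z)
    (h : ∀ M : A, P M → WSerre.cohIn P' (R.obj ((singleFunctor A 0).obj M)))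
    (hR : ∀ n₁ : ℤ, ∃ n₂ : ℤ, ∀ Y : DerivedCategory A, Y.IsGE n₂ → (R.obj Y).IsGE n₁)
    (X : DerivedCategory A) (a : ℤ) [X.IsGE a]
    (hX : WSerre.cohIn P X) : WSerre.cohIn P' (R.obj X) := fun i => by
  obtain ⟨n, hn⟩ := hR (i + 1)
  have : DerivedCategory.IsGE ((t.truncLT n).obj X) a := DTrunc.isGE_truncLT X _ a
  have : DerivedCategory.IsLE ((t.truncLT n).obj X) (n - 1) := inferInstanceAs (t.IsLE _ (n - 1))
  have h₁ := cohIn_map_of_bounded R P P' hP h _ a (n - 1) (WayOut.p_truncLT P hP hX n)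
  have hT := t.triangleLTGE_distinguished n X
  have := WayOut.isIso_homology_mor₁ _ (R.map_distinguished _ hT) i
    (hn ((t.truncGE n).obj X) (inferInstanceAs (t.IsGE _ n)))
  exact P'.prop_of_iso (@asIso _ _ _ _ _ this) (h₁ i)

end Groth.Agent.H15Site.CohInTri
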