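import Groth.Agent.H15Site.SiteInst
import Groth.Agent.H10Coh.ExtMap
import Groth.Prelude.Def_FreeSh
import Groth.Prelude.Def_CohSite
import Mathlib.CategoryTheory.Sites.CoverLifting

/-!
# Comparison of cohomology along the direct image of a continuous and cocontinuous functor
-/

set_option linter.style.haveILetI false

set_option linter.unusedSectionVars false

universe u

open CategoryTheory CategoryTheory.Limits Opposite CategoryTheory.Abelian

namespace Groth.Agent.H15Site.CohPush

attribute [local instance 10000] SiteInst.hasSheafifySite SiteInst.hasWeakSheafifySite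
  SiteInst.hasExtSite SiteInst.enoughInjSite

variable {C D : Type u} [SmallCategory C] [SmallCategory D]
  {J : GrothendieckTopology C} {K : GrothendieckTopology D} (F : C ⥤ D)
  [F.IsContinuous J K] [F.IsCocontinuous J K]

theorem preservesFiniteLimits_push : PreservesFiniteLimits (CohSite.push K J F) := by
  haveI : PreservesFiniteLimits (CohSite.push K J F ⋙ sheafToPresheaf J AddCommGrpCat.{u}) := by
    change PreservesFiniteLimits (sheafToPresheaf K AddCommGrpCat.{u} ⋙
      (Functor.whiskeringLeft Cᵒᵖ Dᵒᵖ AddCommGrpCat.{u}).obj F.op)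
    infer_instance
  exact preservesFiniteLimits_of_reflects_of_preserves _ (sheafToPresheaf J AddCommGrpCat.{u})

theorem preservesFiniteColimits_push : PreservesFiniteColimits (CohSite.push K J F) := by
  haveI : (CohSite.push K J F).IsLeftAdjoint :=
    (F.sheafAdjunctionCocontinuous AddCommGrpCat.{u} J K).isLeftAdjoint
  exact PreservesColimitsOfSize.preservesFiniteColimits.{u, u} (CohSite.push K J F)

/-- The canonical map from the free sheaf on `U`. -/
noncomputable def gen' (U : C) :
    CohCx.freeSheaf J U ⟶ (CohSite.push K J F).obj (CohCx.freeSheaf K (F.obj U)) :=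
  CohFree.ofSect J U _ (CohFree.gen K (F.obj U))

theorem bijective_gen' (U : C) (G : Sheaf K AddCommGrpCat.{u}) :
    Function.Bijective fun φ : CohCx.freeSheaf K (F.obj U) ⟶ G =>
      gen' F U ≫ (CohSite.push K J F).map φ := by
  have h : ∀ φ : CohCx.freeSheaf K (F.obj U) ⟶ G,
      CohFree.homEquivSect J U _ (gen' F U ≫ (CohSite.push K J F).map φ) =
        CohFree.homEquivSect K (F.obj U) G φ := by
    intro φ
    change (φ.hom.app (op (F.obj U))).hom ((CohFree.evalGen J U _ (gen' F U))) = _
    exact congrArg (φ.hom.app (op (F.obj U))).hom (CohFree.evalGen_ofSect J U _ _)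
  refine (Function.Bijective.of_comp_iff' (CohFree.homEquivSect J U _).bijective _).1 ?_
  rw [show ⇑(CohFree.homEquivSect J U _) ∘ (fun φ : CohCx.freeSheaf K (F.obj U) ⟶ G =>
      gen' F U ≫ (CohSite.push K J F).map φ) = ⇑(CohFree.homEquivSect K (F.obj U) G) from funext h]
  exact (CohFree.homEquivSect K (F.obj U) G).bijective

/-- `Hᵖ(U, F_* G) ≅ Hᵖ(F U, G)` as soon as direct images of injectives are acyclic over `U`. -/
theorem nonempty_HU_push_addEquiv (U : C)
    (hI : ∀ (I : Sheaf K AddCommGrpCat.{u}) [Injective I] (n : ℕ),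
      Subsingleton (CohSite.HU ((CohSite.push K J F).obj I) (n + 1) U))
    (G : Sheaf K AddCommGrpCat.{u}) (p : ℕ) :
    Nonempty (CohSite.HU ((CohSite.push K J F).obj G) p U ≃+ CohSite.HU G p (F.obj U)) := by
  haveI := preservesFiniteLimits_push (J := J) (K := K) F
  haveI := preservesFiniteColimits_push (J := J) (K := K) F
  exact ⟨(H10Coh.extMapEquiv (C := Sheaf K AddCommGrpCat.{u}) (CohSite.push K J F) (gen' F U)
    (bijective_gen' F U) (fun I _ n => hI I n) p G).symm⟩

end Groth.Agent.H15Site.CohPush
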