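import Groth.Agent.H15Site.SiteInst
import Groth.Prelude.Def_FreeSh
import Groth.Prelude.Def_CohSite

/-!
# Global cohomology is cohomology over a terminal object
-/

set_option linter.style.haveILetI false

universe u

open CategoryTheory CategoryTheory.Limits Opposite CategoryTheory.Abelian

namespace Groth.Agent.H15Site.CohTerminal

attribute [local instance 10000] SiteInst.hasSheafifySite SiteInst.hasWeakSheafifySite
  SiteInst.hasExtSite SiteInst.enoughInjSite

variable {C : Type u} [SmallCategory C] (J : GrothendieckTopology C) {T : C} (hT : IsTerminal T)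

/-- The constant sheaf `ℤ`. -/
noncomputable abbrev constZ : Sheaf J AddCommGrpCat.{u} :=
  (constantSheaf J AddCommGrpCat.{u}).obj (AddCommGrpCat.of (ULift ℤ))

/-- Maps out of the constant sheaf are sections over a terminal object. -/
noncomputable def constEquiv (F : Sheaf J AddCommGrpCat.{u}) : (constZ J ⟶ F) ≃+ F.obj.obj (op T) :=
  ((constantSheafAdj J AddCommGrpCat hT).homAddEquiv _ F).trans
    (AddCommGrpCat.uliftZMultiplesAddEquiv _)

theorem constEquiv_comp {F G : Sheaf J AddCommGrpCat.{u}} (φ : constZ J ⟶ F) (ψ : F ⟶ G) :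
    constEquiv J hT G (φ ≫ ψ) = (ψ.hom.app (op T)).hom (constEquiv J hT F φ) := by
  simp only [constEquiv, AddEquiv.trans_apply]
  rfl

/-- The free sheaf on a terminal object is the constant sheaf. -/
noncomputable def constIsoFree : constZ J ≅ CohCx.freeSheaf J T where
  hom := (constEquiv J hT _).symm (CohFree.gen J T)
  inv := CohFree.ofSect J T _ (constEquiv J hT _ (𝟙 (constZ J)))
  hom_inv_id := by
    apply (constEquiv J hT _).injective
    rw [constEquiv_comp, AddEquiv.apply_symm_apply]
    exact CohFree.evalGen_ofSect J T _ _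
  inv_hom_id := by
    apply (CohFree.homEquivSect J T _).injective
    change (((constEquiv J hT _).symm (CohFree.gen J T)).hom.app (op T)).hom
      (CohFree.evalGen J T _ (CohFree.ofSect J T _ (constEquiv J hT _ (𝟙 (constZ J))))) =
        CohFree.gen J T
    rw [CohFree.evalGen_ofSect, ← constEquiv_comp, Category.id_comp, AddEquiv.apply_symm_apply]

include hT in
/-- `Hⁿ(C, F) ≅ Hⁿ(T, F)`. -/
theorem nonempty_H_addEquiv (F : Sheaf J AddCommGrpCat.{u}) (n : ℕ) :
    Nonempty (Sheaf.H.{u} F n ≃+ CohSite.HU F n T) :=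
  ⟨{ toFun := fun x => (Ext.mk₀ (constIsoFree J hT).inv).comp x (zero_add n)
     invFun := fun x => (Ext.mk₀ (constIsoFree J hT).hom).comp x (zero_add n)
     left_inv := fun x => by
       simp only [Ext.mk₀_comp_mk₀_assoc, Iso.hom_inv_id, Ext.mk₀_id_comp]
     right_inv := fun x => by
       let y : Ext (CohCx.freeSheaf J T) F n := x
       change (Ext.mk₀ (constIsoFree J hT).inv).comp
         ((Ext.mk₀ (constIsoFree J hT).hom).comp y (zero_add n)) (zero_add n) = y
       rw [Ext.mk₀_comp_mk₀_assoc, Iso.inv_hom_id, Ext.mk₀_id_comp]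
     map_add' := fun x y => Ext.comp_add _ x y _ }⟩

end Groth.Agent.H15Site.CohTerminal
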