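import Groth.Agent.H15Site.LocPres
import Groth.Agent.H15Site.ModOver
import Mathlib.CategoryTheory.Limits.ConcreteCategory.Filtered

/-!
# Sections of filtered colimits of sheaves of modules

A section of the colimit comes locally from a stage; a section dying in the colimit dies locally at
a stage.
-/

universe u

open CategoryTheory CategoryTheory.Limits Opposite

set_option linter.style.haveILetI false
set_option backward.isDefEq.respectTransparency false
set_option linter.unusedSectionVars false

namespace Groth.Agent.H15Site.ColimSect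

open ModTensor ModRel LocGen LocPres

attribute [local instance 10000] SiteInst.hasSheafifySite SiteInst.hasWeakSheafifySite

variable {C : Type u} [SmallCategory C] {J : GrothendieckTopology C} {O : Sheaf J CommRingCat.{u}}
  {Λ : Type u} [SmallCategory Λ] {D : Λ ⥤ ModSite.Mod O} {c : Cocone D}

variable (c) in
/-- The comparison from the colimit of presheaves. -/
noncomputable def cmp : colimit (D ⋙ forg O) ⟶ (forg O).obj c.pt :=
  colimit.desc _ ((forg O).mapCocone c)

lemma ι_cmp_apply (i : Λ) {X : Cᵒᵖ} (s : ((forg O).obj (D.obj i)).obj X) :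
    ((cmp c).app X).hom (((colimit.ι (D ⋙ forg O) i).app X).hom s) =
      ((c.ι.app i).val.app X).hom s :=
  ConcreteCategory.congr_hom (congrArg (fun k => PresheafOfModules.Hom.app k X)
    (colimit.ι_desc ((forg O).mapCocone c) i)) s

theorem isIso_map_cmp (hc : IsColimit c) : IsIso ((aSh O).map (cmp c)) := by
  haveI := (SheafOfModules.fullyFaithfulForget (ModSite.ringSh O)).full
  haveI := (SheafOfModules.fullyFaithfulForget (ModSite.ringSh O)).faithful
  refine isIso_aSh_map_of_bijective _ fun F => ⟨fun a b h => ?_, fun b => ?_⟩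
  · obtain ⟨a, rfl⟩ := (forg O).map_surjective a
    obtain ⟨b, rfl⟩ := (forg O).map_surjective b
    refine congrArg (forg O).map (hc.hom_ext fun i => (forg O).map_injective ?_)
    have := congrArg (fun k => colimit.ι (D ⋙ forg O) i ≫ k) h
    simpa only [cmp, colimit.ι_desc_assoc, Functor.mapCocone_ι_app, ← Functor.map_comp] using this
  · let s : Cocone D :=
      { pt := F
        ι :=
          { app := fun i => (forg O).preimage (colimit.ι (D ⋙ forg O) i ≫ b)
            naturality := fun i j k => (forg O).map_injective (by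
              rw [Functor.map_comp, Functor.map_preimage]
              simp only [Functor.const_obj_obj, Functor.const_obj_map, Category.comp_id,
                Functor.map_preimage]
              exact ((Category.assoc _ _ _).symm.trans
                (congrArg (· ≫ b) (colimit.w (D ⋙ forg O) k)))) } }
    refine ⟨(forg O).map (hc.desc s), colimit.hom_ext fun i => ?_⟩
    rw [cmp, colimit.ι_desc_assoc, Functor.mapCocone_ι_app, ← Functor.map_comp, hc.fac,
      Functor.map_preimage]

variable [IsFiltered Λ]

theorem exists_local_rep (hc : IsColimit c) {V : C} (t : ((forg O).obj c.pt).obj (op V)) :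
    ∃ S ∈ J V, ∀ ⦃W : C⦄ (h : W ⟶ V), S h → ∃ (i : Λ) (s : ((forg O).obj (D.obj i)).obj (op W)),
      ((c.ι.app i).val.app (op W)).hom s = rs ((forg O).obj c.pt) h.op t := by
  obtain ⟨-, hs⟩ := (isIso_aSh_map_iff (cmp c)).1 (isIso_map_cmp hc)
  refine ⟨liftSieve (cmp c) (X := op V) t, liftSieve_mem (cmp c) t, fun W h hh => ?_⟩
  obtain ⟨x, hx⟩ := exists_lift (cmp c) (X := op V) hh
  obtain ⟨i, s, rfl⟩ := Concrete.isColimit_exists_rep _
    (isColimitOfPreserves (PresheafOfModules.evaluation
      (O.obj ⋙ forget₂ CommRingCat.{u} RingCat.{u}) (op W)) (colimit.isColimit (D ⋙ forg O))) x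
  exact ⟨i, s, (ι_cmp_apply i s).symm.trans hx⟩

theorem exists_local_zero (hc : IsColimit c) {i : Λ} {V : C}
    (s : ((forg O).obj (D.obj i)).obj (op V)) (hs : ((c.ι.app i).val.app (op V)).hom s = 0) :
    ∃ S ∈ J V, ∀ ⦃W : C⦄ (h : W ⟶ V), S h → ∃ (j : Λ) (k : i ⟶ j),
      ((D.map k).val.app (op W)).hom (rs ((forg O).obj (D.obj i)) h.op s) = 0 := by
  obtain ⟨hinj, -⟩ := (isIso_aSh_map_iff (cmp c)).1 (isIso_map_cmp hc)
  let x := ((colimit.ι (D ⋙ forg O) i).app (op V)).hom s
  refine ⟨Presheaf.equalizerSieve
      (F := (PresheafOfModules.toPresheaf _).obj (colimit (D ⋙ forg O))) (X := op V) x 0,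
    Presheaf.equalizerSieve_mem J ((PresheafOfModules.toPresheaf _).map (cmp c)) (X := op V) _ _
      (((ι_cmp_apply i s).trans hs).trans (map_zero _).symm), fun W h hh => ?_⟩
  have hh' : ((colimit.ι (D ⋙ forg O) i).app (op W)).hom
      (rs ((forg O).obj (D.obj i)) h.op s) =
        ((colimit.ι (D ⋙ forg O) i).app (op W)).hom 0 :=
    (rs_app (colimit.ι (D ⋙ forg O) i) h.op s).trans
      ((hh.trans (map_zero _)).trans (map_zero _).symm)
  obtain ⟨j, k, g, hkg⟩ := (Concrete.isColimit_rep_eq_iff_exists _
    (isColimitOfPreserves (PresheafOfModules.evaluation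
      (O.obj ⋙ forget₂ CommRingCat.{u} RingCat.{u}) (op W)) (colimit.isColimit (D ⋙ forg O)))
    (i := i) (j := i) (rs ((forg O).obj (D.obj i)) h.op s)
    (0 : ((forg O).obj (D.obj i)).obj (op W))).1 hh'
  exact ⟨j, k, hkg.trans (map_zero ((D.map g).val.app (op W)).hom)⟩

/-- Injective transition maps give injective maps into the colimit. -/
theorem mono_ι (hc : IsColimit c) (hD : ∀ {i j : Λ} (f : i ⟶ j), Mono (D.map f)) (i : Λ) :
    Mono (c.ι.app i) := by
  haveI := (SheafOfModules.fullyFaithfulForget (ModSite.ringSh O)).faithful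
  refine (forg O).mono_of_mono_map (f := c.ι.app i) ?_
  have hinj : ∀ X : Cᵒᵖ, Function.Injective ((c.ι.app i).val.app X).hom := fun X => by
    refine (injective_iff_map_eq_zero _).2 fun s hs => ?_
    obtain ⟨S, hS, hS'⟩ := exists_local_zero hc (V := X.unop) s hs
    refine separated_forg (D.obj i) (X := X) S hS _ _ fun W h hh => ?_
    obtain ⟨j, k, hk⟩ := hS' h hh
    haveI := hD k
    rw [rs_zero]
    exact injective_app (D.map k) (op W) (hk.trans (map_zero _).symm)
  exact ⟨fun {Z} a b h => PresheafOfModules.hom_ext fun X => ModuleCat.hom_ext (LinearMap.ext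
    fun z => hinj X (congrArg (fun k => (PresheafOfModules.Hom.app k X).hom z) h))⟩

end Groth.Agent.H15Site.ColimSect
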