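import Groth.Prelude.Def_SpSeq
import Mathlib

/-!
# Spectral sequences starting at page one with exact rows

Rows exact outside column `0` give a spectral sequence which is a single column from page two on.
-/

universe v u

open CategoryTheory CategoryTheory.Limits
open scoped ZeroObject

set_option linter.style.haveILetI false
set_option backward.isDefEq.respectTransparency false

namespace Groth.Agent.H15Site.ColumnSS

variable {C : Type u} [Category.{v} C] [Abelian C]

/-- The differentials made of rows. -/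
noncomputable def rowsD (K : ℤ → CochainComplex C ℤ) (i j : ℤ × ℤ) :
    (K i.2).X i.1 ⟶ (K j.2).X j.1 :=
  if h : i.2 = j.2 then (K i.2).d i.1 j.1 ≫ eqToHom (by rw [h]) else 0

lemma rowsD_row (K : ℤ → CochainComplex C ℤ) (p p' q : ℤ) :
    rowsD K (p, q) (p', q) = (K q).d p p' :=
  (dif_pos rfl).trans (Category.comp_id _)

/-- Page one, made of rows. -/
noncomputable def page₁ (K : ℤ → CochainComplex C ℤ) (r : ℤ) (hr : r = 1) :
    HomologicalComplex C (ComplexShape.up' (⟨r, 1 - r⟩ : ℤ × ℤ)) where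
  X i := (K i.2).X i.1
  d i j := rowsD K i j
  shape i j hij := by
    obtain ⟨a, b⟩ := i
    obtain ⟨c, e⟩ := j
    by_cases h : b = e
    · subst h
      rw [rowsD_row]
      refine (K b).shape a c fun hac => hij ?_
      show ((a, b) : ℤ × ℤ) + (r, 1 - r) = (c, b)
      simp only [ComplexShape.up_Rel] at hac
      simp only [Prod.mk_add_mk, Prod.mk.injEq]
      omega
    · exact dif_neg h
  d_comp_d' i j k hij hjk := by
    obtain ⟨a, b⟩ := i
    obtain ⟨c, e⟩ := j
    obtain ⟨g, l⟩ := k
    have h1 : ((a, b) : ℤ × ℤ) + (r, 1 - r) = (c, e) := hij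
    have h2 : ((c, e) : ℤ × ℤ) + (r, 1 - r) = (g, l) := hjk
    simp only [Prod.mk_add_mk, Prod.mk.injEq] at h1 h2
    obtain rfl : e = b := by omega
    obtain rfl : l = e := by omega
    rw [rowsD_row, rowsD_row, HomologicalComplex.d_comp_d]

/-- The homology of page one is the homology of the rows. -/
noncomputable def page₁HomologyIso (K : ℤ → CochainComplex C ℤ) (r : ℤ) (hr : r = 1) (p q : ℤ) :
    (page₁ K r hr).homology (p, q) ≅ (K q).homology p :=
  (page₁ K r hr).homologyIsoSc' (p - 1, q) (p, q) (p + 1, q)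
      ((ComplexShape.up' _).prev_eq' (by
        show ((p - 1, q) : ℤ × ℤ) + (r, 1 - r) = (p, q)
        simp only [Prod.mk_add_mk, Prod.mk.injEq]; omega))
      ((ComplexShape.up' _).next_eq' (by
        show ((p, q) : ℤ × ℤ) + (r, 1 - r) = (p + 1, q)
        simp only [Prod.mk_add_mk, Prod.mk.injEq]; omega)) ≪≫
    ShortComplex.homologyMapIso (show (page₁ K r hr).sc' (p - 1, q) (p, q) (p + 1, q) ≅
        (K q).sc' (p - 1) p (p + 1) from ShortComplex.isoMk (Iso.refl _) (Iso.refl _) (Iso.refl _)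
      (by
        show 𝟙 _ ≫ (K q).d (p - 1) p = rowsD K (p - 1, q) (p, q) ≫ 𝟙 _
        rw [rowsD_row, Category.id_comp, Category.comp_id])
      (by
        show 𝟙 _ ≫ (K q).d p (p + 1) = rowsD K (p, q) (p + 1, q) ≫ 𝟙 _
        rw [rowsD_row, Category.id_comp, Category.comp_id])) ≪≫
    ((K q).homologyIsoSc' (p - 1) p (p + 1) (by simp) (by simp)).symm

open Classical in
/-- One column. -/
noncomputable def col (H : ℤ → C) (i : ℤ × ℤ) : C :=
  if i.1 = 0 then H i.2 else 0

/-- Pages with one column. -/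
noncomputable def pageCol (H : ℤ → C) (r : ℤ) :
    HomologicalComplex C (ComplexShape.up' (⟨r, 1 - r⟩ : ℤ × ℤ)) where
  X := col H
  d _ _ := 0

/-- Homology of a complex with zero differentials. -/
noncomputable def pageColHomologyIso (H : ℤ → C) (r : ℤ) (i : ℤ × ℤ) :
    (pageCol H r).homology i ≅ col H i :=
  (ShortComplex.HomologyData.ofZeros ((pageCol H r).sc i) rfl rfl).left.homologyIso

open Classical in
/-- The pages. -/
noncomputable def pages (K : ℤ → CochainComplex C ℤ) (H : ℤ → C) (r : ℤ) :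
    HomologicalComplex C (ComplexShape.up' (⟨r, 1 - r⟩ : ℤ × ℤ)) :=
  if h : r = 1 then page₁ K r h else pageCol H r

/-- The spectral sequence. -/
noncomputable def ss (K : ℤ → CochainComplex C ℤ) (H : ℤ → C)
    (h₀ : ∀ q, (K q).homology 0 ≅ H q) (hz : ∀ q p, p ≠ 0 → IsZero ((K q).homology p)) :
    CohomologicalSpectralSequence C 1 where
  page r _ := pages K H r
  iso r r' pq hrr' hr := by
    by_cases h : r = 1
    · have e₁ : (pages K H r).homology pq ≅ (page₁ K r h).homology pq :=
        eqToIso (by rw [pages, dif_pos h])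
      have e₂ : (pageCol H r').X pq ≅ (pages K H r').X pq :=
        eqToIso (by rw [pages, dif_neg (by omega)])
      refine e₁ ≪≫ page₁HomologyIso K r h pq.1 pq.2 ≪≫ ?_ ≪≫ e₂
      show (K pq.2).homology pq.1 ≅ col H pq
      by_cases hp : pq.1 = 0
      · exact eqToIso (by rw [hp]) ≪≫ h₀ pq.2 ≪≫ eqToIso (by rw [col, if_pos hp])
      · exact (hz _ _ hp).iso (by rw [col, if_neg hp]; exact isZero_zero C)
    · have e₁ : (pages K H r).homology pq ≅ (pageCol H r).homology pq :=
        eqToIso (by rw [pages, dif_neg h])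
      have e₂ : (pageCol H r').X pq ≅ (pages K H r').X pq :=
        eqToIso (by rw [pages, dif_neg (by omega)])
      exact e₁ ≪≫ pageColHomologyIso H r pq ≪≫ e₂

lemma pages_of_ne (K : ℤ → CochainComplex C ℤ) (H : ℤ → C) {r : ℤ} (h : r ≠ 1) :
    pages K H r = pageCol H r := dif_neg h

open Classical in
/-- The filtration concentrated in degree `0`. -/
noncomputable def fil (H : ℤ → C) (n p : ℤ) : Subobject (H n) := if p ≤ 0 then ⊤ else ⊥

lemma fil_anti (H : ℤ → C) (n : ℤ) : Antitone (fil H n) := fun a b hab => by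
  by_cases hb : b ≤ 0
  · rw [fil, fil, if_pos hb, if_pos (hab.trans hb)]
  · rw [fil, if_neg hb]
    exact bot_le

theorem exists_spectralSequence (E₁ : ℤ → ℤ → C) (H : ℤ → C) (K : ℤ → CochainComplex C ℤ)
    (he : ∀ p q, Nonempty ((K q).X p ≅ E₁ p q))
    (hE : ∀ p q, ¬ (0 ≤ p ∧ 0 ≤ q) → IsZero (E₁ p q))
    (h₀ : ∀ q, Nonempty ((K q).homology 0 ≅ H q))
    (hz : ∀ q p, p ≠ 0 → IsZero ((K q).homology p)) :
    ∃ (E : CohomologicalSpectralSequence C 1) (a : SpSeq.Abutment E H),
      (∀ n, a.IsFinite n) ∧ SpSeq.IsBounded E ∧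
      ∀ p q : ℤ, Nonempty ((E.page 1 le_rfl).X (p, q) ≅ E₁ p q) := by
  let h₀' := fun q => Classical.choice (h₀ q)
  let E := ss K H h₀' hz
  have hd : ∀ (r : ℤ) (hr : 1 ≤ r) (_ : 2 ≤ r) (i j : ℤ × ℤ), (E.page r hr).d i j = 0 := by
    intro r hr hr2 i j
    show (pages K H r).d i j = 0
    rw [pages, dif_neg (show ¬ r = 1 by omega)] at *
    rfl
  have e1 : ∀ p q : ℤ, (E.page 1 le_rfl).X (p, q) = (K q).X p := by
    intro p q
    show (pages K H 1).X (p, q) = _
    rw [pages, dif_pos rfl]
    rfl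
  let a : SpSeq.Abutment E H :=
    { fil := fil H
      anti := fil_anti H
      rk := fun _ => 2
      stat := fun pq => ⟨by omega, fun r h₀ hr => ⟨hd r h₀ hr _ _, hd r h₀ hr _ _⟩⟩
      β := fun pq => by
        refine eqToIso (show (pages K H 2).X pq = col H pq by rw [pages_of_ne K H (by omega)]; rfl) ≪≫ ?_
        unfold SpSeq.grPiece SpSeq.subquot
        by_cases hp : pq.1 = 0
        · refine eqToIso (show col H pq = H (pq.1 + pq.2) by rw [col, if_pos hp, hp, zero_add]) ≪≫ ?_
          have h1 : fil H (pq.1 + pq.2) pq.1 = ⊤ := if_pos (le_of_eq hp)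
          have h2 : fil H (pq.1 + pq.2) (pq.1 + 1) = ⊥ := if_neg (by omega)
          exact (asIso (⊤ : Subobject (H (pq.1 + pq.2))).arrow).symm ≪≫
            eqToIso (by rw [h1]) ≪≫
            (cokernelIsoOfEq (show Subobject.ofLE _ _ _ = 0 from
              ((isZero_zero C).of_iso (Subobject.botCoeIsoZero.symm ≪≫ eqToIso (by rw [h2])).symm
                ).eq_of_src _ _) ≪≫ cokernelZeroIsoTarget).symm
        · refine IsZero.iso (by rw [col, if_neg hp]; exact isZero_zero C) ?_
          rcases lt_or_gt_of_ne hp with hlt | hgt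
          · have h1 : fil H (pq.1 + pq.2) pq.1 = ⊤ := if_pos (by omega)
            have h2 : fil H (pq.1 + pq.2) (pq.1 + 1) = ⊤ := if_pos (by omega)
            have : IsIso (Subobject.ofLE _ _ (fil_anti H (pq.1 + pq.2) (Int.le_add_one (le_refl pq.1)))) := by
              refine ⟨Subobject.ofLE _ _ (by rw [h1, h2]), ?_, ?_⟩ <;> simp
            exact isZero_cokernel_of_epi _
          · have h1 : fil H (pq.1 + pq.2) pq.1 = ⊥ := if_neg (by omega)
            have hz1 : IsZero ((fil H (pq.1 + pq.2) pq.1 : C)) := by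
              rw [h1]
              exact (isZero_zero C).of_iso Subobject.botCoeIsoZero
            exact IsZero.of_epi (cokernel.π _) hz1 }
  refine ⟨E, a, fun n => ?_, fun n => ?_, fun p q => ?_⟩
  · exact ⟨⟨0, show fil H n 0 = ⊤ from if_pos le_rfl⟩, ⟨1, show fil H n 1 = ⊥ from if_neg (by omega)⟩⟩
  · refine (Set.finite_Icc (0 : ℤ) n).subset fun p hp => ?_
    by_contra hc
    simp only [Set.mem_Icc, not_and_or, not_le] at hc
    refine hp ?_
    obtain ⟨e⟩ := he p (n - p)
    exact ((hE p (n - p) (by omega)).of_iso e).of_iso (eqToIso (e1 p (n - p)))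
  · obtain ⟨e⟩ := he p q
    exact ⟨eqToIso (e1 p q) ≪≫ e⟩

end Groth.Agent.H15Site.ColumnSS
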