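import Groth.Agent.H15Site.CechDegZero
import Groth.Agent.H15Site.CechGod
import Mathlib.Algebra.Homology.DerivedCategory.Ext.ExactSequences
import Mathlib.Algebra.Homology.HomologySequenceLemmas
import Mathlib.Algebra.Homology.ShortComplex.Abelian

/-!
# Naturality lemmas for the Čech and Ext connecting maps
-/

universe u

open CategoryTheory CategoryTheory.Limits Opposite CategoryTheory.Abelian

namespace Groth.Agent.H15Site.Edge

attribute [local instance 10000] SiteInst.hasSheafifySite SiteInst.hasWeakSheafifySite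
  SiteInst.hasExtSite SiteInst.enoughInjSite

variable {C : Type u} [SmallCategory C] {J : GrothendieckTopology C}

theorem HUmap_apply {F G : Sheaf J AddCommGrpCat.{u}} (ψ : F ⟶ G) (p : ℕ) (U : C)
    (z : CohSite.HU F p U) :
    CechEdge.HUmap ψ p U z =
      (show Ext (CohCx.freeSheaf J U) F p from z).comp (Ext.mk₀ ψ) (add_zero p) := rfl

theorem HUmap_comp {F G H : Sheaf J AddCommGrpCat.{u}} (ψ : F ⟶ G) (χ : G ⟶ H) (p : ℕ) (U : C)
    (z : CohSite.HU F p U) :
    CechEdge.HUmap χ p U (CechEdge.HUmap ψ p U z) = CechEdge.HUmap (ψ ≫ χ) p U z :=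
  ConcreteCategory.congr_hom
    (congrArg (fun m => NatTrans.app m (op U))
      ((Sheaf.cohomologyPresheafFunctor J p).map_comp ψ χ)) z |>.symm

theorem HUmap_id (F : Sheaf J AddCommGrpCat.{u}) (p : ℕ) (U : C) (z : CohSite.HU F p U) :
    CechEdge.HUmap (𝟙 F) p U z = z :=
  ConcreteCategory.congr_hom
    (congrArg (fun m => NatTrans.app m (op U)) ((Sheaf.cohomologyPresheafFunctor J p).map_id F)) z

theorem HUmap_bijective {F G : Sheaf J AddCommGrpCat.{u}} (ψ : F ⟶ G) [IsIso ψ] (p : ℕ) (U : C) :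
    Function.Bijective (CechEdge.HUmap ψ p U) :=
  Function.bijective_iff_has_inverse.2 ⟨CechEdge.HUmap (inv ψ) p U,
    fun z => by rw [HUmap_comp, IsIso.hom_inv_id, HUmap_id],
    fun z => by rw [HUmap_comp, IsIso.inv_hom_id, HUmap_id]⟩

theorem sectH0_natural {F G : Sheaf J AddCommGrpCat.{u}} (ψ : F ⟶ G) (U : C)
    (s : F.obj.obj (op U)) :
    CechEdge.HUmap ψ 0 U (CechEdge.sectH0 J U F s) =
      CechEdge.sectH0 J U G ((ψ.hom.app (op U)).hom s) := by
  have h : CohFree.ofSect J U F s ≫ ψ = CohFree.ofSect J U G ((ψ.hom.app (op U)).hom s) := by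
    refine (CohFree.homEquivSect J U G).injective ?_
    refine Eq.trans ?_ (CohFree.evalGen_ofSect J U G _).symm
    exact congrArg (ψ.hom.app (op U)).hom (CohFree.evalGen_ofSect J U F s)
  rw [HUmap_apply]
  exact (Ext.mk₀_comp_mk₀ (CohFree.ofSect J U F s) ψ).trans (congrArg Ext.mk₀ h)

theorem extδ_apply {S : ShortComplex (Sheaf J AddCommGrpCat.{u})} (hS : S.ShortExact) (U : C)
    (p : ℕ) (z : CohSite.HU S.X₃ p U) :
    CechEdge.extδ hS U p z =
      (show Ext (CohCx.freeSheaf J U) S.X₃ p from z).comp hS.extClass rfl := rfl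

theorem extδ_natural {S T : ShortComplex (Sheaf J AddCommGrpCat.{u})} (hS : S.ShortExact)
    (hT : T.ShortExact) (φ : S ⟶ T) (U : C) (p : ℕ) (z : CohSite.HU S.X₃ p U) :
    CechEdge.HUmap φ.τ₁ (p + 1) U (CechEdge.extδ hS U p z) =
      CechEdge.extδ hT U p (CechEdge.HUmap φ.τ₃ p U z) := by
  rw [HUmap_apply, extδ_apply, extδ_apply, HUmap_apply]
  rw [Ext.comp_assoc (a₁₂ := p + 1) (a₂₃ := 1) _ hS.extClass (Ext.mk₀ φ.τ₁) rfl (add_zero 1)
    (by omega), ShortComplex.ShortExact.extClass_naturality hS hT φ,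
    ← Ext.comp_assoc (a₁₂ := p) (a₂₃ := 1) _ (Ext.mk₀ φ.τ₃) hT.extClass (add_zero p) (zero_add 1)
      (by omega)]

theorem extδ_HUmap_g {S : ShortComplex (Sheaf J AddCommGrpCat.{u})} (hS : S.ShortExact) (U : C)
    (p : ℕ) (z : CohSite.HU S.X₂ p U) :
    CechEdge.extδ hS U p (CechEdge.HUmap S.g p U z) = 0 := by
  rw [extδ_apply, HUmap_apply,
    Ext.comp_assoc (a₁₂ := p) (a₂₃ := 1) _ _ hS.extClass (add_zero p) (zero_add 1) (by omega),
    hS.comp_extClass, Ext.comp_zero]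
  rfl

section cech

variable [HasPullbacks C] {U : C} {ι : Type u} (Y : ι → Over U)

theorem cechHMap_comp {P Q R : Cᵒᵖ ⥤ AddCommGrpCat.{u}} (α : P ⟶ Q) (β : Q ⟶ R) (p : ℕ)
    (z : CohCx.cechH P Y p) :
    CechEdge.cechHMap Y β p (CechEdge.cechHMap Y α p z) = CechEdge.cechHMap Y (α ≫ β) p z := by
  refine (ConcreteCategory.congr_hom (HomologicalComplex.homologyMap_comp
    ((CechEdge.cxFunctor Y).map α) ((CechEdge.cxFunctor Y).map β) p) z).symm.trans ?_
  exact congrArg (fun m : CechEdge.cx P Y ⟶ CechEdge.cx R Y => (HomologicalComplex.homologyMap m p).hom z)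
    ((CechEdge.cxFunctor Y).map_comp α β).symm

theorem cechHMap_id (P : Cᵒᵖ ⥤ AddCommGrpCat.{u}) (p : ℕ) (z : CohCx.cechH P Y p) :
    CechEdge.cechHMap Y (𝟙 P) p z = z :=
  (congrArg (fun m : CechEdge.cx P Y ⟶ CechEdge.cx P Y => (HomologicalComplex.homologyMap m p).hom z)
    ((CechEdge.cxFunctor Y).map_id P)).trans
    (ConcreteCategory.congr_hom (HomologicalComplex.homologyMap_id _ p) z)

theorem cechHMap_toCech {P Q : Cᵒᵖ ⥤ AddCommGrpCat.{u}} (α : P ⟶ Q) (s : P.obj (op U)) :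
    CechEdge.cechHMap Y α 0 (CechEdge.toCech Y P s) =
      CechEdge.toCech Y Q ((α.app (op U)).hom s) := by
  refine CechSite.rep_injective Y Q (CechSite.hom_ext Y Q fun V g τ => ?_)
  rw [CechSite.rep_cechHMap, CechSite.ev_mapC, CechSite.ev_rep_toCech, CechSite.ev_rep_toCech]
  exact ConcreteCategory.congr_hom (α.naturality g.op) s

variable {S T : ShortComplex (Cᵒᵖ ⥤ AddCommGrpCat.{u})}

/-- The Čech connecting map. -/
noncomputable abbrev δC (hC : (S.map (CechEdge.cxFunctor Y)).ShortExact) (p : ℕ) :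
    CohCx.cechH S.X₃ Y p →+ CohCx.cechH S.X₁ Y (p + 1) :=
  (hC.δ p (p + 1) rfl).hom

theorem δC_natural (hS : (S.map (CechEdge.cxFunctor Y)).ShortExact)
    (hT : (T.map (CechEdge.cxFunctor Y)).ShortExact) (φ : S ⟶ T) (p : ℕ)
    (x : CohCx.cechH S.X₃ Y p) :
    CechEdge.cechHMap Y φ.τ₁ (p + 1) (δC Y hS p x) = δC Y hT p (CechEdge.cechHMap Y φ.τ₃ p x) :=
  ConcreteCategory.congr_hom (HomologicalComplex.HomologySequence.δ_naturality
    ((CechEdge.cxFunctor Y).mapShortComplex.map φ) hS hT p (p + 1) rfl) x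

theorem δC_g (hS : (S.map (CechEdge.cxFunctor Y)).ShortExact) (p : ℕ)
    (z : CohCx.cechH S.X₂ Y p) : δC Y hS p (CechEdge.cechHMap Y S.g p z) = 0 :=
  ConcreteCategory.congr_hom (hS.comp_δ p (p + 1) rfl) z

theorem exists_of_δC_eq_zero (hS : (S.map (CechEdge.cxFunctor Y)).ShortExact) (p : ℕ)
    (x : CohCx.cechH S.X₃ Y p) (hx : δC Y hS p x = 0) :
    ∃ z, CechEdge.cechHMap Y S.g p z = x :=
  (ShortComplex.ab_exact_iff _).1 (hS.homology_exact₃ p (p + 1) rfl) x hx

theorem exists_δC_eq (hS : (S.map (CechEdge.cxFunctor Y)).ShortExact) (p : ℕ)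
    (z : CohCx.cechH S.X₁ Y (p + 1)) (hz : CechEdge.cechHMap Y S.f (p + 1) z = 0) :
    ∃ x, δC Y hS p x = z :=
  (ShortComplex.ab_exact_iff _).1 (hS.homology_exact₁ p (p + 1) rfl) z hz

theorem δC_surjective (hS : (S.map (CechEdge.cxFunctor Y)).ShortExact) (p : ℕ)
    (h : IsZero (CohCx.cechH S.X₂ Y (p + 1))) : Function.Surjective (δC Y hS p) := fun z =>
  exists_δC_eq Y hS p z <|
    haveI := AddCommGrpCat.subsingleton_of_isZero h
    Subsingleton.elim _ _

end cech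

end Groth.Agent.H15Site.Edge
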