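import Groth.Agent.H15Site.ModExtH
import Groth.Agent.H15Site.TorsionFree
import Mathlib.Algebra.Category.ModuleCat.Presheaf.Free
import Mathlib.Algebra.Category.Grp.Adjunctions

/-!
# `Ext` out of free modules is cohomology of the underlying abelian sheaf
-/

set_option linter.style.haveILetI false
set_option backward.isDefEq.respectTransparency false
set_option backward.isDefEq.respectTransparency.types false

universe u

open CategoryTheory CategoryTheory.Limits Opposite CategoryTheory.Abelian

namespace Groth.Agent.H15Site.ModExtFree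

attribute [local instance 10000] SiteInst.hasSheafifySite SiteInst.hasWeakSheafifySite
  SiteInst.hasExtSite SiteInst.enoughInjSite

variable {C : Type u} [SmallCategory C] {J : GrothendieckTopology C} (R : Sheaf J RingCat.{u})
  (P : Cᵒᵖ ⥤ Type u)

/-- The free sheaf of modules on a presheaf of sets. -/
noncomputable abbrev freeMod : SheafOfModules.{u} R :=
  (PresheafOfModules.sheafification.{u} (𝟙 R.obj)).obj ((PresheafOfModules.free R.obj).obj P)

/-- The free abelian sheaf on a presheaf of sets. -/
noncomputable abbrev freeAbSh : Sheaf J AddCommGrpCat.{u} :=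
  (presheafToSheaf J AddCommGrpCat.{u}).obj (P ⋙ AddCommGrpCat.free.{u})

/-- Maps out of the free module are maps of presheaves of sets. -/
noncomputable def modEquiv (F : SheafOfModules.{u} R) :
    (freeMod R P ⟶ F) ≃ (P ⟶ F.val.presheaf ⋙ CategoryTheory.forget AddCommGrpCat.{u}) :=
  ((PresheafOfModules.sheafificationAdjunction (𝟙 R.obj)).homEquiv _ F).trans
    PresheafOfModules.freeHomEquiv

/-- Maps out of the free abelian sheaf are maps of presheaves of sets. -/
noncomputable def abEquiv (G : Sheaf J AddCommGrpCat.{u}) :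
    (freeAbSh (J := J) P ⟶ G) ≃ (P ⟶ G.obj ⋙ CategoryTheory.forget AddCommGrpCat.{u}) :=
  ((sheafificationAdjunction J AddCommGrpCat.{u}).homEquiv _ G).trans
    ((AddCommGrpCat.adj.{u}.whiskerRight Cᵒᵖ).homEquiv P G.obj)

/-- The comparison. -/
noncomputable def cmp : freeAbSh (J := J) P ⟶ (SheafOfModules.toSheaf R).obj (freeMod R P) :=
  (abEquiv P _).symm (modEquiv R P _ (𝟙 _))

theorem modEquiv_naturality {F G : SheafOfModules.{u} R} (φ : freeMod R P ⟶ F) (g : F ⟶ G) :
    modEquiv R P G (φ ≫ g) = modEquiv R P F φ ≫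
      Functor.whiskerRight ((SheafOfModules.toSheaf R).map g).hom
        (CategoryTheory.forget AddCommGrpCat.{u}) := by
  dsimp only [modEquiv, Equiv.trans_apply]
  rw [Adjunction.homEquiv_naturality_right]
  rfl

theorem abEquiv_naturality {F G : Sheaf J AddCommGrpCat.{u}} (φ : freeAbSh (J := J) P ⟶ F) (g : F ⟶ G) :
    abEquiv P G (φ ≫ g) = abEquiv P F φ ≫
      Functor.whiskerRight g.hom (CategoryTheory.forget AddCommGrpCat.{u}) := by
  dsimp only [abEquiv, Equiv.trans_apply]
  rw [Adjunction.homEquiv_naturality_right]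
  exact (AddCommGrpCat.adj.{u}.whiskerRight Cᵒᵖ).homEquiv_naturality_right
    ((sheafificationAdjunction J AddCommGrpCat.{u}).homEquiv _ F φ) g.hom

theorem bijective_cmp (F : SheafOfModules.{u} R) :
    Function.Bijective fun φ : freeMod R P ⟶ F => cmp R P ≫ (SheafOfModules.toSheaf R).map φ := by
  have h : (fun φ : freeMod R P ⟶ F => cmp R P ≫ (SheafOfModules.toSheaf R).map φ) =
      (abEquiv P _).symm ∘ modEquiv R P F := funext fun φ => by
    apply (abEquiv P _).injective
    rw [abEquiv_naturality, Function.comp_apply, Equiv.apply_symm_apply, cmp, Equiv.apply_symm_apply]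
    conv_rhs => rw [← Category.id_comp φ, modEquiv_naturality]
  rw [h]
  exact (abEquiv P _).symm.bijective.comp (modEquiv R P F).bijective

/-- `Extⁿ` out of a free module is `Extⁿ` out of the free abelian sheaf. -/
noncomputable def extEquiv [HasExt.{u} (SheafOfModules.{u} R)]
    [EnoughInjectives (SheafOfModules.{u} R)] (M : SheafOfModules.{u} R) (n : ℕ) :
    Ext.{u} (freeMod R P) M n ≃+ Ext.{u} (freeAbSh (J := J) P) ((SheafOfModules.toSheaf R).obj M) n :=
  haveI := H10Coh.preservesFiniteColimits_toSheaf R
  H10Coh.extMapEquiv (SheafOfModules.toSheaf R) (cmp R P) (bijective_cmp R P)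
    (fun I _ m => ModInjAcyclic.subsingleton_ext R I m _ (TorsionFree.tf_sheafify_free P)) n M

end Groth.Agent.H15Site.ModExtFree
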