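import Groth.Agent.H15Site.EdgeAcyclic
import Mathlib.CategoryTheory.Sites.ConstantSheaf
import Mathlib.CategoryTheory.Sites.LocallyBijective
import Mathlib.Algebra.Category.Grp.AB

/-!
# Constant sheaves of abelian groups: sections of an exact sequence
-/

universe u

open CategoryTheory CategoryTheory.Limits Opposite CategoryTheory.Abelian

namespace Groth.Agent.H15Site.ConstSplit

attribute [local instance 10000] SiteInst.hasSheafifySite SiteInst.hasWeakSheafifySite
  SiteInst.hasExtSite SiteInst.enoughInjSite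

variable {C : Type u} [SmallCategory C] (J : GrothendieckTopology C)

instance : PreservesFiniteLimits (constantSheaf J AddCommGrpCat.{u}) := by
  unfold constantSheaf
  infer_instance

instance : PreservesFiniteColimits (constantSheaf J AddCommGrpCat.{u}) := by
  unfold constantSheaf
  infer_instance

/-- The unit of sheafification of a presheaf of groups, as a map of presheaves of sets. -/
noncomputable abbrev ηSet (P : Cᵒᵖ ⥤ AddCommGrpCat.{u}) :
    P ⋙ CategoryTheory.forget AddCommGrpCat.{u} ⟶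
      sheafify J P ⋙ CategoryTheory.forget AddCommGrpCat.{u} :=
  Functor.whiskerRight (toSheafify J P) (CategoryTheory.forget AddCommGrpCat.{u})

theorem W_ηSet (P : Cᵒᵖ ⥤ AddCommGrpCat.{u}) : J.W (ηSet J P) := by
  have h := (GrothendieckTopology.W_iff_isLocallyBijective (A := AddCommGrpCat.{u}) J _).1
    (J.W_toSheafify P)
  refine (GrothendieckTopology.W_iff_isLocallyBijective J _).2
    ⟨⟨fun {X} x y e => ?_⟩, ⟨fun {U} s => ?_⟩⟩
  · have := h.1
    exact Presheaf.equalizerSieve_mem J (toSheafify J P) x y e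
  · have := h.2
    exact Presheaf.imageSieve_mem J (toSheafify J P) s

/-- A surjection of groups induces split surjections of constant sheaves of sets. -/
theorem exists_section {B B' : AddCommGrpCat.{u}} (g : B ⟶ B')
    (hg : Function.Surjective g.hom) :
    ∃ h : ((constantSheaf J AddCommGrpCat.{u}).obj B').obj ⋙ CategoryTheory.forget AddCommGrpCat.{u} ⟶
        ((constantSheaf J AddCommGrpCat.{u}).obj B).obj ⋙ CategoryTheory.forget AddCommGrpCat.{u},
      h ≫ Functor.whiskerRight ((constantSheaf J AddCommGrpCat.{u}).map g).hom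
        (CategoryTheory.forget AddCommGrpCat.{u}) = 𝟙 _ := by
  let P : Cᵒᵖ ⥤ AddCommGrpCat.{u} := (Functor.const Cᵒᵖ).obj B
  let P' : Cᵒᵖ ⥤ AddCommGrpCat.{u} := (Functor.const Cᵒᵖ).obj B'
  let σ : P' ⋙ CategoryTheory.forget AddCommGrpCat.{u} ⟶ P ⋙ CategoryTheory.forget AddCommGrpCat.{u} :=
    { app := fun _ => ↾fun b => (hg b).choose
      naturality := fun _ _ _ => rfl }
  have hsB := (isSheaf_iff_isSheaf_of_type _ _).2
    ((isSheaf_iff_isSheaf_of_type _ _).1 ((Presheaf.isSheaf_iff_isSheaf_forget J (sheafify J P)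
      (CategoryTheory.forget AddCommGrpCat.{u})).1 ((presheafToSheaf J AddCommGrpCat.{u}).obj P).property))
  have hsB' := (isSheaf_iff_isSheaf_of_type _ _).2
    ((isSheaf_iff_isSheaf_of_type _ _).1 ((Presheaf.isSheaf_iff_isSheaf_forget J (sheafify J P')
      (CategoryTheory.forget AddCommGrpCat.{u})).1 ((presheafToSheaf J AddCommGrpCat.{u}).obj P').property))
  obtain ⟨h, hh⟩ := (W_ηSet J P' _ hsB).2 (σ ≫ ηSet J P)
  refine ⟨h, (W_ηSet J P' _ hsB').1 ?_⟩
  change ηSet J P' ≫ h ≫ _ = ηSet J P' ≫ 𝟙 _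
  rw [← Category.assoc, show ηSet J P' ≫ h = σ ≫ ηSet J P from hh, Category.comp_id, Category.assoc]
  refine NatTrans.ext (funext fun U => ?_)
  ext b
  refine (ConcreteCategory.congr_hom (congrArg (fun m => NatTrans.app m U)
    (toSheafify_naturality J ((Functor.const Cᵒᵖ).map g))) ((hg b).choose)).symm.trans ?_
  exact congrArg ((toSheafify J P').app U).hom (hg b).choose_spec

theorem surjective_sections {B B' : AddCommGrpCat.{u}} (g : B ⟶ B')
    (hg : Function.Surjective g.hom) (U : Cᵒᵖ) :
    Function.Surjective (((constantSheaf J AddCommGrpCat.{u}).map g).hom.app U).hom := by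
  obtain ⟨h, hh⟩ := exists_section J g hg
  exact fun x => ⟨h.app U x,
    ConcreteCategory.congr_hom (congrArg (fun m => NatTrans.app m U) hh) x⟩

theorem exists_lift {B B' : AddCommGrpCat.{u}} (g : B ⟶ B') (hg : Function.Surjective g.hom)
    (c : (constantSheaf J AddCommGrpCat.{u}).obj (AddCommGrpCat.of (ULift.{u} ℤ)) ⟶
      (constantSheaf J AddCommGrpCat.{u}).obj B') :
    ∃ b, b ≫ (constantSheaf J AddCommGrpCat.{u}).map g = c := by
  obtain ⟨h, hh⟩ := exists_section J g hg
  let Z : Cᵒᵖ ⥤ AddCommGrpCat.{u} := (Functor.const Cᵒᵖ).obj (AddCommGrpCat.of (ULift.{u} ℤ))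
  let cU : ∀ U, ((constantSheaf J AddCommGrpCat.{u}).obj B').obj.obj U :=
    fun U => (c.hom.app U).hom (((toSheafify J Z).app U).hom ⟨1⟩)
  have hcU : ∀ {U V : Cᵒᵖ} (k : U ⟶ V),
      (((constantSheaf J AddCommGrpCat.{u}).obj B').obj.map k).hom (cU U) = cU V := fun {U V} k => by
    refine (ConcreteCategory.congr_hom (c.hom.naturality k) _).symm.trans ?_
    exact congrArg (c.hom.app V).hom
      (ConcreteCategory.congr_hom ((toSheafify J Z).naturality k) (⟨1⟩ : ULift.{u} ℤ)).symm
  let bU : ∀ U, ((constantSheaf J AddCommGrpCat.{u}).obj B).obj.obj U := fun U => h.app U (cU U)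
  have hbU : ∀ {U V : Cᵒᵖ} (k : U ⟶ V),
      (((constantSheaf J AddCommGrpCat.{u}).obj B).obj.map k).hom (bU U) = bU V := fun {U V} k =>
    (ConcreteCategory.congr_hom (h.naturality k) (cU U)).symm.trans (congrArg (fun z : ((constantSheaf J AddCommGrpCat.{u}).obj B').obj.obj V => h.app V z) (hcU k))
  let b₀ : Z ⟶ ((constantSheaf J AddCommGrpCat.{u}).obj B).obj :=
    { app := fun U => AddCommGrpCat.ofHom ((zmultiplesHom _ (bU U)).comp AddEquiv.ulift.toAddMonoidHom)
      naturality := fun U V k => by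
        ext n
        change n.down • bU V = (((constantSheaf J AddCommGrpCat.{u}).obj B).obj.map k).hom (n.down • bU U)
        rw [map_zsmul, hbU] }
  refine ⟨⟨sheafifyLift J b₀ ((constantSheaf J AddCommGrpCat.{u}).obj B).property⟩, ?_⟩
  refine Sheaf.hom_ext (sheafify_hom_ext J _ _
    ((constantSheaf J AddCommGrpCat.{u}).obj B').property ?_)
  change toSheafify J Z ≫ sheafifyLift J b₀ _ ≫ _ = toSheafify J Z ≫ c.hom
  rw [toSheafify_sheafifyLift_assoc]
  ext U n
  change (((constantSheaf J AddCommGrpCat.{u}).map g).hom.app U).hom (n.down • bU U) =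
    (c.hom.app U).hom (((toSheafify J Z).app U).hom n)
  have e : n = n.down • (⟨1⟩ : ULift.{u} ℤ) := ULift.ext _ _ (by simp)
  rw [map_zsmul]
  conv_rhs => rw [e]
  rw [map_zsmul]
  refine (congrArg (n.down • ·) ?_).trans (map_zsmul _ _ _).symm
  exact ConcreteCategory.congr_hom (congrArg (fun m => NatTrans.app m U) hh) (cU U)

theorem injective_H1_map {A B : AddCommGrpCat.{u}} (f : A ⟶ B) [Mono f] :
    Function.Injective (Sheaf.H.map ((constantSheaf J AddCommGrpCat.{u}).map f) 1) := by
  let S : ShortComplex AddCommGrpCat.{u} := ShortComplex.mk f (cokernel.π f) (cokernel.condition f)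
  have hS : S.ShortExact :=
    { exact := ShortComplex.exact_cokernel _
      mono_f := inferInstanceAs (Mono f)
      epi_g := inferInstanceAs (Epi (cokernel.π f)) }
  have hT := hS.map_of_exact (constantSheaf J AddCommGrpCat.{u})
  rw [injective_iff_map_eq_zero]
  intro x hx
  obtain ⟨y, rfl⟩ := Ext.covariant_sequence_exact₁ _ hT x hx (zero_add 1)
  obtain ⟨c, rfl⟩ := (Ext.mk₀_bijective _ _).2 y
  obtain ⟨b, rfl⟩ := exists_lift J S.g ((AddCommGrpCat.epi_iff_surjective _).1 hS.epi_g) c
  refine (congrArg (fun e : Ext _ _ 0 => e.comp hT.extClass (zero_add 1))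
    (Ext.mk₀_comp_mk₀ b (S.map (constantSheaf J AddCommGrpCat.{u})).g).symm).trans ?_
  refine (Ext.comp_assoc (a₁₂ := 0) (a₂₃ := 1) _ _ hT.extClass (zero_add 0)
    (zero_add 1) (by omega)).trans ?_
  exact (congrArg (fun e => (Ext.mk₀ b).comp e (zero_add 1)) hT.comp_extClass).trans (Ext.comp_zero _ _ _ _ _)

end Groth.Agent.H15Site.ConstSplit
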