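import Groth.Agent.H15Site.CoprodSect
import Mathlib.Algebra.Category.Grp.Colimits
import Mathlib.Algebra.Category.Grp.Abelian
import Mathlib.CategoryTheory.Limits.Preserves.Shapes.Products

/-!
# Sections over quasi-compact objects commute with coproducts of modules
-/

universe u

open CategoryTheory CategoryTheory.Limits Opposite

set_option linter.style.haveILetI false
set_option backward.isDefEq.respectTransparency false
set_option linter.unusedSectionVars false

namespace Groth.Agent.H15Site.CoprodSect

open ModTensor ModRel LocGen LocPres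

attribute [local instance 10000] SiteInst.hasSheafifySite SiteInst.hasWeakSheafifySite

variable {C : Type u} [SmallCategory C] {J : GrothendieckTopology C} (O : Sheaf J CommRingCat.{u})

/-- Every element of a coproduct of abelian groups is a finite sum. -/
theorem exists_sum_addCommGrp {I : Type u} (Z : I → AddCommGrpCat.{u}) (x : (∐ Z : AddCommGrpCat.{u})) :
    ∃ (A : Finset I) (y : ∀ i, Z i), x = ∑ i ∈ A, (Sigma.ι Z i).hom (y i) := by
  classical
  let N := ⨆ i, (Sigma.ι Z i).hom.range
  have h : AddCommGrpCat.ofHom (QuotientAddGroup.mk' N) = 0 := Sigma.hom_ext _ _ fun i => by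
    ext y
    exact (QuotientAddGroup.eq_zero_iff _).2 (AddSubgroup.mem_iSup_of_mem i ⟨y, rfl⟩)
  have hx : x ∈ N := (QuotientAddGroup.eq_zero_iff x).1 (congrArg (fun k => k.hom x) h)
  induction hx using AddSubgroup.iSup_induction' with
  | hp i z hz =>
    obtain ⟨y, rfl⟩ := hz
    exact ⟨{i}, Pi.single i y, by simp⟩
  | h1 => exact ⟨∅, fun _ => 0, Finset.sum_empty.symm⟩
  | hadd a b _ _ ha hb =>
    obtain ⟨A, y, rfl⟩ := ha
    obtain ⟨B, z, rfl⟩ := hb
    refine ⟨A ∪ B, fun i => (if i ∈ A then y i else 0) + (if i ∈ B then z i else 0), ?_⟩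
    simp only [map_add]
    rw [Finset.sum_add_distrib]
    congr 1
    · rw [← Finset.sum_subset Finset.subset_union_left fun i _ hi => by rw [if_neg hi, map_zero]]
      exact Finset.sum_congr rfl fun i hi => by rw [if_pos hi]
    · rw [← Finset.sum_subset Finset.subset_union_right fun i _ hi => by rw [if_neg hi, map_zero]]
      exact Finset.sum_congr rfl fun i hi => by rw [if_pos hi]

/-- Sections over `W`, as abelian groups. -/
noncomputable abbrev sectAb (W : C) : ModSite.Mod O ⥤ AddCommGrpCat.{u} :=
  SheafOfModules.toSheaf (ModSite.ringSh O) ⋙ (sheafSections J AddCommGrpCat.{u}).obj (op W)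

/-- Sections over a quasi-compact object commute with coproducts. -/
theorem preservesColimitsOfShape_sectAb {W : C} (hW : QcObj J W) (ι : Type u) :
    PreservesColimitsOfShape (Discrete ι) (sectAb O W) := by
  suffices h : ∀ M : ι → ModSite.Mod O, PreservesColimit (Discrete.functor M) (sectAb O W) by
    exact ⟨fun {K} => haveI := h (K.obj ∘ Discrete.mk)
      preservesColimit_of_iso_diagram (sectAb O W) Discrete.natIsoFunctor.symm⟩
  intro M
  let G := sectAb O W
  let cp := sigmaComparison G M
  have hι : ∀ i (y : G.obj (M i)), cp.hom ((Sigma.ι (fun i => G.obj (M i)) i).hom y) =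
      (G.map (Sigma.ι M i)).hom y := fun i y =>
    ConcreteCategory.congr_hom (ι_comp_sigmaComparison G M i) y
  have hinj : Function.Injective cp.hom := by
    refine (injective_iff_map_eq_zero cp.hom).2 fun x hx => ?_
    obtain ⟨A, y, rfl⟩ := exists_sum_addCommGrp (fun i => G.obj (M i)) x
    simp only [map_sum, hι] at hx
    refine Finset.sum_eq_zero fun i hi => ?_
    rw [show y i = 0 from eq_zero_of_sum_eq_zero M A y hx i hi, map_zero]
  have hsurj : Function.Surjective cp.hom := fun t => by
    obtain ⟨A, y, rfl⟩ := exists_combination M hW t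
    refine ⟨∑ i ∈ A, (Sigma.ι (fun i => G.obj (M i)) i).hom (y i), ?_⟩
    simp only [map_sum, hι]
    rfl
  haveI : IsIso cp := (ConcreteCategory.isIso_iff_bijective cp).2 ⟨hinj, hsurj⟩
  exact PreservesCoproduct.of_iso_comparison G M

/-- Maps out of `j_{W!} O_W` commute with coproducts. -/
theorem preservesColimitsOfShape_freeOn {W : C} (hW : QcObj J W) (ι : Type u) :
    PreservesColimitsOfShape (Discrete ι)
      (preadditiveCoyoneda.obj (op (ModSite.freeOn O W))) := by
  haveI := preservesColimitsOfShape_sectAb O hW ι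
  exact preservesColimitsOfShape_of_natIso
    (F := sectAb O W)
    ((NatIso.ofComponents (fun F => (FreeOn.homEquiv O W F).toAddCommGrpIso)
      (fun {F G} g => by
        ext t
        exact FreeOn.homEquiv_comp O W g t) :
      preadditiveCoyoneda.obj (op (ModSite.freeOn O W)) ≅ sectAb O W).symm)

/-- A compact open is quasi-compact. -/
theorem qcObj_opens {X : TopCat.{u}} {U : TopologicalSpace.Opens X} (hU : IsCompact (U : Set X)) :
    QcObj (Opens.grothendieckTopology X) U := by
  intro S hS
  choose V f hf hx using fun x : {x : X // x ∈ U} => hS x.1 x.2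
  obtain ⟨t, ht⟩ := hU.elim_finite_subcover (fun x => (V x : Set X)) (fun x => (V x).2)
    fun x hx' => Set.mem_iUnion.2 ⟨⟨x, hx'⟩, hx ⟨x, hx'⟩⟩
  refine ⟨t, inferInstance, fun k => V k.1, fun k => f k.1, fun k => hf k.1, fun x hx' => ?_⟩
  obtain ⟨k, hk, hxk⟩ := Set.mem_iUnion₂.1 (ht hx')
  exact ⟨V k, f k, Sieve.ofArrows_mk (fun k : t => V k.1) (fun k => f k.1) ⟨k, hk⟩, hxk⟩

end Groth.Agent.H15Site.CoprodSect
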