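import Mathlib
set_option linter.style.haveILetI false

open CategoryTheory CategoryTheory.Limits Opposite Simplicial

universe v u

namespace Groth.Agent.H15Site

open SimplexCategory

instance finite_truncated (n : ℕ) : Finite (SimplexCategory.Truncated n) :=
  Finite.of_injective (fun Δ ↦ (⟨Δ.1.len, Nat.lt_succ_of_le Δ.2⟩ : Fin (n + 1))) fun a b h ↦ by
    obtain ⟨a, ha⟩ := a
    obtain ⟨b, hb⟩ := b
    simp only [Fin.mk.injEq] at h
    obtain rfl : a = b := SimplexCategory.ext h
    rfl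

instance finite_truncated_hom {n : ℕ} (a b : SimplexCategory.Truncated n) : Finite (a ⟶ b) :=
  Finite.of_injective (fun f ↦ f.hom) fun _ _ h ↦ ObjectProperty.hom_ext _ h

/-- A small category with finitely many objects and morphisms is a `FinCategory`. -/
noncomputable abbrev finCategoryOfFinite (J : Type) [SmallCategory J] [Finite J]
    [∀ a b : J, Finite (a ⟶ b)] : FinCategory J where
  fintypeObj := Fintype.ofFinite J
  fintypeHom a b := Fintype.ofFinite (a ⟶ b)

variable {A B : Type} [SmallCategory A] [SmallCategory B] [Finite A] [∀ a b : A, Finite (a ⟶ b)]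
  [∀ a b : B, Finite (a ⟶ b)]

instance finite_structuredArrow (F : A ⥤ B) (d : B) : Finite (StructuredArrow d F) :=
  Finite.of_surjective (fun p : Σ a, d ⟶ F.obj a ↦ StructuredArrow.mk p.2)
    fun j ↦ ⟨⟨j.right, j.hom⟩, (StructuredArrow.eq_mk j).symm⟩

instance finite_structuredArrow_hom (F : A ⥤ B) (d : B) (i j : StructuredArrow d F) :
    Finite (i ⟶ j) :=
  Finite.of_injective (fun f ↦ f.right) fun _ _ h ↦ StructuredArrow.ext _ _ h

instance finite_costructuredArrow (F : A ⥤ B) (d : B) : Finite (CostructuredArrow F d) :=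
  Finite.of_surjective (fun p : Σ a, F.obj a ⟶ d ↦ CostructuredArrow.mk p.2)
    fun j ↦ ⟨⟨j.left, j.hom⟩, (CostructuredArrow.eq_mk j).symm⟩

instance finite_costructuredArrow_hom (F : A ⥤ B) (d : B) (i j : CostructuredArrow F d) :
    Finite (i ⟶ j) :=
  Finite.of_injective (fun f ↦ f.left) fun _ _ h ↦ CostructuredArrow.hom_ext _ _ h

instance finite_op {D : Type} [Finite D] : Finite Dᵒᵖ :=
  Finite.of_injective Opposite.unop Opposite.unop_injective

instance finite_op_hom {D : Type} [SmallCategory D] [∀ a b : D, Finite (a ⟶ b)] (a b : Dᵒᵖ) :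
    Finite (a ⟶ b) :=
  Finite.of_injective (fun f ↦ f.unop) fun _ _ h ↦ Quiver.Hom.unop_inj h

variable {C : Type u} [Category.{v} C]

lemma hasPointwiseRightKanExtension_inclusion [HasFiniteLimits C] (n : ℕ)
    (U : (SimplexCategory.Truncated n)ᵒᵖ ⥤ C) :
    (SimplexCategory.Truncated.inclusion n).op.HasPointwiseRightKanExtension U := fun Δ ↦ by
  letI := finCategoryOfFinite (StructuredArrow Δ (SimplexCategory.Truncated.inclusion n).op)
  have : HasLimitsOfShape (StructuredArrow Δ (SimplexCategory.Truncated.inclusion n).op) C :=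
    HasFiniteLimits.out _
  exact inferInstanceAs (HasLimit _)

lemma hasPointwiseLeftKanExtension_inclusion [HasFiniteColimits C] (n : ℕ)
    (U : (SimplexCategory.Truncated n)ᵒᵖ ⥤ C) :
    (SimplexCategory.Truncated.inclusion n).op.HasPointwiseLeftKanExtension U := fun Δ ↦ by
  letI := finCategoryOfFinite (CostructuredArrow (SimplexCategory.Truncated.inclusion n).op Δ)
  have : HasColimitsOfShape (CostructuredArrow (SimplexCategory.Truncated.inclusion n).op Δ) C :=
    HasFiniteColimits.out _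
  exact inferInstanceAs (HasColimit _)

open SimplicialObject in
/-- With finite limits, the canonical cones of a coskeletal object are limit cones. -/
noncomputable def isPointwiseOfIsCoskeletal [HasFiniteLimits C] (X : SimplicialObject C) (n : ℕ)
    [X.IsCoskeletal n] : (Truncated.rightExtensionInclusion X n).IsPointwiseRightKanExtension :=
  haveI := hasPointwiseRightKanExtension_inclusion n
    ((SimplexCategory.Truncated.inclusion n).op ⋙ X)
  Functor.isPointwiseRightKanExtensionOfIsRightKanExtension X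
    (𝟙 ((SimplexCategory.Truncated.inclusion n).op ⋙ X))

open SimplicialObject in
lemma isCoskeletal_of_isPointwise (X : SimplicialObject C) (n : ℕ)
    (h : (Truncated.rightExtensionInclusion X n).IsPointwiseRightKanExtension) :
    X.IsCoskeletal n :=
  ⟨h.isRightKanExtension⟩

/-- A morphism of `SimplexCategory` as a structured arrow of the truncated inclusion. -/
abbrev arrowMk {n i : ℕ} {Δ : SimplexCategory} (f : ⦋i⦌ ⟶ Δ) (hi : i ≤ n) :
    StructuredArrow (op Δ) (SimplexCategory.Truncated.inclusion n).op :=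
  StructuredArrow.mk (Y := op (⟨⦋i⦌, hi⟩ : SimplexCategory.Truncated n)) f.op

lemma exists_eq_arrowMk {n : ℕ} {Δ : SimplexCategory}
    (j : StructuredArrow (op Δ) (SimplexCategory.Truncated.inclusion n).op) :
    ∃ (i : ℕ) (hi : i ≤ n) (f : ⦋i⦌ ⟶ Δ), j = arrowMk f hi := by
  obtain ⟨⟨⟨a, ha⟩⟩, ⟨f⟩, rfl⟩ := j.mk_surjective
  induction a using SimplexCategory.rec with | _ i
  exact ⟨i, ha, f, rfl⟩

/-- The morphism of structured arrows given by precomposition. -/
abbrev arrowHom {n i i' : ℕ} {Δ : SimplexCategory} {f : ⦋i⦌ ⟶ Δ} {hi : i ≤ n}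
    {f' : ⦋i'⦌ ⟶ Δ} {hi' : i' ≤ n} (g : ⦋i'⦌ ⟶ ⦋i⦌) (w : g ≫ f = f') :
    arrowMk f hi ⟶ arrowMk f' hi' :=
  StructuredArrow.homMk (SimplexCategory.Truncated.Hom.tr g hi' hi).op
    (Quiver.Hom.unop_inj w)

lemma cone_w {n i i' : ℕ} {Δ : SimplexCategory} {F : (SimplexCategory.Truncated n)ᵒᵖ ⥤ C}
    (s : Cone (StructuredArrow.proj (op Δ) (SimplexCategory.Truncated.inclusion n).op ⋙ F))
    (f : ⦋i⦌ ⟶ Δ) (hi : i ≤ n) (g : ⦋i'⦌ ⟶ ⦋i⦌) (hi' : i' ≤ n) :
    s.π.app (arrowMk (g ≫ f) hi') =
      s.π.app (arrowMk f hi) ≫ F.map (SimplexCategory.Truncated.Hom.tr g hi' hi).op :=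
  (s.w (arrowHom (hi := hi) (hi' := hi') g rfl)).symm

instance isConnected_structuredArrow_inclusion (n : ℕ) [NeZero n] (Δ : SimplexCategoryᵒᵖ) :
    IsConnected (StructuredArrow Δ (SimplexCategory.Truncated.inclusion n).op) := by
  obtain ⟨Δ⟩ := Δ
  induction Δ using SimplexCategory.rec with | _ m
  have : Nonempty (StructuredArrow (op ⦋m⦌) (SimplexCategory.Truncated.inclusion n).op) :=
    ⟨arrowMk (SimplexCategory.const ⦋0⦌ ⦋m⦌ 0) (Nat.zero_le n)⟩
  have h1 : 1 ≤ n := NeZero.one_le
  let v (i : Fin (m + 1)) : StructuredArrow (op ⦋m⦌) (SimplexCategory.Truncated.inclusion n).op :=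
    arrowMk (SimplexCategory.const ⦋0⦌ ⦋m⦌ i) (Nat.zero_le n)
  have hv : ∀ j, ∃ i, Zigzag j (v i) := by
    intro j
    obtain ⟨a, ha, f, rfl⟩ := exists_eq_arrowMk j
    refine ⟨f.toOrderHom 0, Relation.ReflTransGen.single (Or.inl ⟨arrowHom
      (SimplexCategory.const ⦋0⦌ ⦋a⦌ 0) ?_⟩)⟩
    ext x
    rfl
  have hs : ∀ i : Fin m, Zigzag (v i.succ) (v i.castSucc) := by
    intro i
    have e : arrowMk (SimplexCategory.mkOfSucc i) h1 ⟶ v i.castSucc :=
      arrowHom (SimplexCategory.const ⦋0⦌ ⦋1⦌ 0) (by ext x; fin_cases x; rfl)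
    have e' : arrowMk (SimplexCategory.mkOfSucc i) h1 ⟶ v i.succ :=
      arrowHom (SimplexCategory.const ⦋0⦌ ⦋1⦌ 1) (by ext x; fin_cases x; rfl)
    exact (Zigzag.of_inv e').trans (Zigzag.of_hom e)
  have h0 : ∀ i, Zigzag (v i) (v 0) := by
    intro i
    induction i using Fin.induction with
    | zero => exact Relation.ReflTransGen.refl
    | succ i ih => exact (hs i).trans ih
  refine zigzag_isConnected fun j j' ↦ ?_
  obtain ⟨i, hi⟩ := hv j
  obtain ⟨i', hi'⟩ := hv j'
  exact (hi.trans (h0 i)).trans ((h0 i').symm.trans hi'.symm)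

end Groth.Agent.H15Site
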