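import Mathlib
import Groth.Agent.H15Site.CoskLib
set_option linter.style.haveILetI false

open CategoryTheory CategoryTheory.Limits Opposite Simplicial

universe v u

namespace Groth.Agent.H15Site

lemma val_succAbove {n : ℕ} (p : Fin (n + 1)) (k : Fin n) :
    (p.succAbove k).val = if k.val < p.val then k.val else k.val + 1 := by
  rcases lt_or_ge k.castSucc p with h | h
  · rw [Fin.succAbove_of_castSucc_lt _ _ h, if_pos (show k.val < p.val from h)]
    rfl
  · have h' : ¬ k.val < p.val := fun hh => absurd h (not_le.2 hh)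
    rw [Fin.succAbove_of_le_castSucc _ _ h, if_neg h']
    simp

lemma val_predAbove {n : ℕ} (p : Fin n) (k : Fin (n + 1)) :
    (p.predAbove k).val = if p.val < k.val then k.val - 1 else k.val := by
  rcases lt_or_ge p.castSucc k with h | h
  · rw [Fin.predAbove_of_castSucc_lt _ _ h, if_pos (show p.val < k.val from h)]
    simp
  · have h' : ¬ p.val < k.val := fun hh => absurd h (not_le.2 hh)
    rw [Fin.predAbove_of_le_castSucc _ _ h, if_neg h']
    simp

variable {E : Type u} [Category.{v} E] [HasFiniteLimits E]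

/-- Maps into an `n`-coskeletal object are determined in degrees `≤ n`. -/
lemma coskeletal_hom_ext {W V : SimplicialObject E} {n : ℕ} [V.IsCoskeletal n] (a b : W ⟶ V)
    (h : ∀ i, i ≤ n → a.app (op ⦋i⦌) = b.app (op ⦋i⦌)) : a = b := by
  apply V.hom_ext_of_isRightKanExtension (𝟙 ((SimplexCategory.Truncated.inclusion n).op ⋙ V))
  ext ⟨⟨Δ, hΔ⟩⟩
  induction Δ using SimplexCategory.rec with | _ i
  simpa using h i hΔ

namespace CoskHomotopy

variable {U V : SimplicialObject E} (F G : U ⟶ V) (n : ℕ)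

/-- `G` on the constant simplex `1`, `F` elsewhere. -/
noncomputable def φ {i : ℕ} (s : ⦋i⦌ ⟶ ⦋1⦌) : U _⦋i⦌ ⟶ V _⦋i⦌ :=
  if s = SimplexCategory.const ⦋i⦌ ⦋1⦌ 1 then G.app (op ⦋i⦌) else F.app (op ⦋i⦌)

variable {F G n} (hFG : ∀ p, p < n → F.app (op ⦋p⦌) = G.app (op ⦋p⦌))

include hFG in
lemma φ_naturality {i i' : ℕ} (hi : i ≤ n) (hi' : i' ≤ n) (g : ⦋i'⦌ ⟶ ⦋i⦌) (s : ⦋i⦌ ⟶ ⦋1⦌) :
    U.map g.op ≫ φ F G (g ≫ s) = φ F G s ≫ V.map g.op := by
  by_cases hs : s = SimplexCategory.const ⦋i⦌ ⦋1⦌ 1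
  · have hgs : g ≫ s = SimplexCategory.const ⦋i'⦌ ⦋1⦌ 1 := by rw [hs]; ext; rfl
    rw [φ, φ, if_pos hs, if_pos hgs, G.naturality]
  rw [φ, φ, if_neg hs, ← F.naturality]
  by_cases hgs : g ≫ s = SimplexCategory.const ⦋i'⦌ ⦋1⦌ 1
  · rw [if_pos hgs]
    obtain ⟨j, e, m, he, hm, hfac⟩ : ∃ (j : ℕ) (e : ⦋i'⦌ ⟶ ⦋j⦌) (m : ⦋j⦌ ⟶ ⦋i⦌),
        Epi e ∧ Mono m ∧ e ≫ m = g :=
      ⟨(image g).len, factorThruImage g, image.ι g, inferInstance, inferInstance, image.fac g⟩
    by_cases hj : j < n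
    · rw [← hfac, op_comp, Functor.map_comp, Category.assoc, Category.assoc, G.naturality,
        F.naturality, hFG j hj]
    · have h1 : j ≤ i := SimplexCategory.len_le_of_mono m
      have h2 : j ≤ i' := SimplexCategory.len_le_of_epi e
      obtain rfl : i = j := by omega
      obtain rfl : i' = i := by omega
      have hg : g = 𝟙 _ := by
        rw [← hfac, SimplexCategory.eq_id_of_mono m, SimplexCategory.eq_id_of_epi e,
          Category.comp_id]
      rw [hg, Category.id_comp] at hgs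
      exact absurd hgs hs
  · rw [if_neg hgs]

include hFG in
lemma exists_H [V.IsCoskeletal n] :
    ∃ H : ∀ (m : ℕ), (⦋m⦌ ⟶ ⦋1⦌) → (U _⦋m⦌ ⟶ V _⦋m⦌),
      (∀ (m m' : ℕ) (g : ⦋m'⦌ ⟶ ⦋m⦌) (t : ⦋m⦌ ⟶ ⦋1⦌),
        U.map g.op ≫ H m' (g ≫ t) = H m t ≫ V.map g.op) ∧
      (∀ m, H m (SimplexCategory.const ⦋m⦌ ⦋1⦌ 0) = F.app (op ⦋m⦌)) ∧
      (∀ m, H m (SimplexCategory.const ⦋m⦌ ⦋1⦌ 1) = G.app (op ⦋m⦌)) := by
  have hP := fun m => isPointwiseOfIsCoskeletal V n (op ⦋m⦌)
  -- compatible family indexed by truncated simplices over `⦋m⦌`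
  have hlift : ∀ (m : ℕ) (t : ⦋m⦌ ⟶ ⦋1⦌), ∃ h : U _⦋m⦌ ⟶ V _⦋m⦌,
      ∀ (i : ℕ) (_ : i ≤ n) (f : ⦋i⦌ ⟶ ⦋m⦌), h ≫ V.map f.op = U.map f.op ≫ φ F G (f ≫ t) := by
    intro m t
    let c : Cone (StructuredArrow.proj (op ⦋m⦌) (SimplexCategory.Truncated.inclusion n).op ⋙
        (SimplexCategory.Truncated.inclusion n).op ⋙ V) :=
      { pt := U _⦋m⦌
        π :=
          { app := fun j => U.map (show ⦋j.right.unop.1.len⦌ ⟶ ⦋m⦌ from j.hom.unop).op ≫
              φ F G ((show ⦋j.right.unop.1.len⦌ ⟶ ⦋m⦌ from j.hom.unop) ≫ t)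
            naturality := fun j j' ψ => by
              obtain ⟨i, hi, f, rfl⟩ := exists_eq_arrowMk j
              obtain ⟨i', hi', f', rfl⟩ := exists_eq_arrowMk j'
              let g : ⦋i'⦌ ⟶ ⦋i⦌ := ψ.right.unop.hom
              have hg : g ≫ f = f' := congrArg (fun q => q.unop) (StructuredArrow.w ψ)
              refine (Category.id_comp _).trans ?_
              change U.map f'.op ≫ φ F G (f' ≫ t) = (U.map f.op ≫ φ F G (f ≫ t)) ≫ V.map g.op
              rw [Category.assoc, ← φ_naturality hFG hi hi' g (f ≫ t), ← hg, op_comp,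
                Functor.map_comp, Category.assoc, Category.assoc] } }
    refine ⟨(hP m).lift c, fun i hi f => ?_⟩
    have h1 := (hP m).fac c (arrowMk f hi)
    exact (congrArg ((hP m).lift c ≫ ·) (Category.comp_id _)).symm.trans h1
  choose H hH using hlift
  have hext : ∀ (m : ℕ) {W : E} (a b : W ⟶ V _⦋m⦌),
      (∀ (i : ℕ) (_ : i ≤ n) (f : ⦋i⦌ ⟶ ⦋m⦌), a ≫ V.map f.op = b ≫ V.map f.op) → a = b := by
    intro m W a b h
    refine (hP m).hom_ext fun j => ?_
    obtain ⟨i, hi, f, rfl⟩ := exists_eq_arrowMk j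
    exact (congrArg (a ≫ ·) (Category.comp_id _)).trans
      ((h i hi f).trans (congrArg (b ≫ ·) (Category.comp_id _)).symm)
  refine ⟨H, fun m m' g t => hext m' _ _ fun i hi f => ?_,
    fun m => hext m _ _ fun i hi f => ?_, fun m => hext m _ _ fun i hi f => ?_⟩
  · rw [Category.assoc, hH m' (g ≫ t) i hi f, Category.assoc, ← Functor.map_comp, ← op_comp,
      hH m t i hi (f ≫ g), ← Category.assoc, ← Functor.map_comp, ← op_comp, Category.assoc]
  · have h0 : f ≫ SimplexCategory.const ⦋m⦌ ⦋1⦌ 0 = SimplexCategory.const ⦋i⦌ ⦋1⦌ 0 := by ext; rfl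
    have h01 : SimplexCategory.const ⦋i⦌ ⦋1⦌ 0 ≠ SimplexCategory.const ⦋i⦌ ⦋1⦌ 1 := fun h =>
      absurd (congrArg (fun q => q.toOrderHom 0) h) (by simp)
    rw [hH m _ i hi f, h0, φ, if_neg h01, F.naturality]
  · have h1 : f ≫ SimplexCategory.const ⦋m⦌ ⦋1⦌ 1 = SimplexCategory.const ⦋i⦌ ⦋1⦌ 1 := by ext; rfl
    rw [hH m _ i hi f, h1, φ, if_pos rfl, G.naturality]

/-- The `1`-simplices used in the combinatorial homotopy. -/
def T {m : ℕ} (i : Fin (m + 1)) : ⦋m + 1⦌ ⟶ ⦋1⦌ :=
  SimplexCategory.Hom.mk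
    ⟨fun j => if j ≤ i.castSucc then 0 else 1, fun a b hab => by
      dsimp only
      by_cases hb : b ≤ i.castSucc
      · rw [if_pos (hab.trans hb), if_pos hb]
      · rw [if_neg hb]
        exact Fin.le_last _⟩

lemma T_apply {m : ℕ} (i : Fin (m + 1)) (j : Fin (m + 2)) :
    (T i).toOrderHom j = if j ≤ i.castSucc then 0 else 1 := rfl

lemma δ_apply {m : ℕ} (i : Fin (m + 2)) (k : Fin (m + 1)) :
    (SimplexCategory.δ i).toOrderHom k = i.succAbove k := rfl

lemma σ_apply {m : ℕ} (i : Fin (m + 1)) (k : Fin (m + 2)) :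
    (SimplexCategory.σ i).toOrderHom k = i.predAbove k := rfl

include hFG in
lemma nonempty_homotopy [V.IsCoskeletal n] :
    Nonempty (SimplicialObject.Homotopy F G) := by
  obtain ⟨H, hnat, h0, h1⟩ := exists_H hFG
  let h : ∀ {m : ℕ} (i : Fin (m + 1)), U _⦋m⦌ ⟶ V _⦋m + 1⦌ := fun {m} i =>
    U.σ i ≫ H (m + 1) (T i)
  have key : ∀ {m m' : ℕ} (g : ⦋m'⦌ ⟶ ⦋m + 1⦌) (i : Fin (m + 1)),
      h i ≫ V.map g.op = U.map (g ≫ SimplexCategory.σ i).op ≫ H m' (g ≫ T i) := by
    intro m m' g i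
    simp only [h, Category.assoc, ← hnat, SimplicialObject.σ, op_comp, Functor.map_comp]
  have key' : ∀ {m m' : ℕ} (g : ⦋m⦌ ⟶ ⦋m'⦌) (i : Fin (m + 1)),
      U.map g.op ≫ h i = U.map (SimplexCategory.σ i ≫ g).op ≫ H (m + 1) (T i) := by
    intro m m' g i
    simp only [h, SimplicialObject.σ, op_comp, Functor.map_comp, Category.assoc]
  refine ⟨⟨fun {m} i => h i, ?_, ?_, ?_, ?_, ?_, ?_, ?_⟩⟩
  · intro m
    rw [SimplicialObject.δ, key, ← Fin.castSucc_zero, SimplexCategory.δ_comp_σ_self]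
    simp only [op_id, CategoryTheory.Functor.map_id, Category.id_comp]
    rw [← h1]
    congr 1
  · intro m
    rw [SimplicialObject.δ, key, ← Fin.succ_last, SimplexCategory.δ_comp_σ_succ]
    simp only [op_id, CategoryTheory.Functor.map_id, Category.id_comp]
    rw [← h0]
    congr 1
    ext j : 3
    simp only [SimplexCategory.comp_toOrderHom, OrderHom.comp_coe, Function.comp_apply, T_apply, δ_apply]
    exact if_pos (by simp [Fin.succAbove_last, Fin.le_last, Fin.succ_last])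
  · intro m i j hij
    rw [SimplicialObject.δ, SimplicialObject.δ, key, key', SimplexCategory.δ_comp_σ_of_le hij]
    congr 2
    ext k : 3
    simp only [SimplexCategory.comp_toOrderHom, OrderHom.comp_coe, Function.comp_apply, T_apply,
      δ_apply, σ_apply]
    exact if_congr (by
      change _ ≤ _ ↔ _ ≤ _
      simp only [Fin.le_def, Fin.lt_def, val_succAbove, val_predAbove, Fin.val_castSucc,
        Fin.val_succ] at *
      split_ifs <;> omega) rfl rfl
  · intro m j
    rw [SimplicialObject.δ, key, key, SimplexCategory.δ_comp_σ_self' (by rfl),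
      SimplexCategory.δ_comp_σ_succ' (by rfl)]
    congr 2
    ext k : 3
    simp only [SimplexCategory.comp_toOrderHom, OrderHom.comp_coe, Function.comp_apply, T_apply,
      δ_apply, σ_apply]
    exact if_congr (by
      change _ ≤ _ ↔ _ ≤ _
      simp only [Fin.le_def, Fin.lt_def, val_succAbove, val_predAbove, Fin.val_castSucc,
        Fin.val_succ] at *
      split_ifs <;> omega) rfl rfl
  · intro m i j hij
    rw [SimplicialObject.δ, SimplicialObject.δ, key, key', SimplexCategory.δ_comp_σ_of_gt hij]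
    congr 2
    ext k : 3
    simp only [SimplexCategory.comp_toOrderHom, OrderHom.comp_coe, Function.comp_apply, T_apply,
      δ_apply, σ_apply]
    exact if_congr (by
      change _ ≤ _ ↔ _ ≤ _
      simp only [Fin.le_def, Fin.lt_def, val_succAbove, val_predAbove, Fin.val_castSucc,
        Fin.val_succ] at *
      split_ifs <;> omega) rfl rfl
  · intro m i j hij
    rw [SimplicialObject.σ, SimplicialObject.σ, key, key', SimplexCategory.σ_comp_σ hij]
    congr 2
    ext k : 3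
    simp only [SimplexCategory.comp_toOrderHom, OrderHom.comp_coe, Function.comp_apply, T_apply,
      δ_apply, σ_apply]
    exact if_congr (by
      change _ ≤ _ ↔ _ ≤ _
      simp only [Fin.le_def, Fin.lt_def, val_succAbove, val_predAbove, Fin.val_castSucc,
        Fin.val_succ] at *
      split_ifs <;> omega) rfl rfl
  · intro m i j hij
    rw [SimplicialObject.σ, SimplicialObject.σ, key, key', ← SimplexCategory.σ_comp_σ hij]
    congr 2
    ext k : 3
    simp only [SimplexCategory.comp_toOrderHom, OrderHom.comp_coe, Function.comp_apply, T_apply,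
      δ_apply, σ_apply]
    exact if_congr (by
      change _ ≤ _ ↔ _ ≤ _
      simp only [Fin.le_def, Fin.lt_def, val_succAbove, val_predAbove, Fin.val_castSucc,
        Fin.val_succ] at *
      split_ifs <;> omega) rfl rfl

end CoskHomotopy

end Groth.Agent.H15Site
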