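import Groth.Agent.H15Site.PullSets
import Mathlib.CategoryTheory.Sites.Closed
import Mathlib.CategoryTheory.Sites.LocallyBijective
import Mathlib.CategoryTheory.Comma.StructuredArrow.Basic

/-!
A continuous functor with exact inverse image of sheaves of sets is locally flat: finite diagrams
in `c/fn` locally admit cones, and covering sieves are locally lifted.
-/

universe u

open CategoryTheory CategoryTheory.Limits Opposite

namespace Groth.Agent.H15Site.PullSets

variable {C D : Type u} [SmallCategory C] [SmallCategory D] {J : GrothendieckTopology C}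
  {K : GrothendieckTopology D} {fn : D ⥤ C}

/-- The sieve of arrows on which a section comes from `τ`. -/
def imgSieve {P : Dᵒᵖ ⥤ Type u} {Q : Cᵒᵖ ⥤ Type u} (τ : P ⟶ fn.op ⋙ Q) {c : C}
    (q : Q.obj (op c)) : Sieve c where
  arrows W g := ∃ (d : D) (b : W ⟶ fn.obj d) (p : P.obj (op d)),
    Q.map g.op q = Q.map b.op (τ.app (op d) p)
  downward_closed := by
    rintro W W' g ⟨d, b, p, h⟩ h'
    refine ⟨d, h' ≫ b, p, ?_⟩
    simp only [op_comp, Functor.map_comp, ConcreteCategory.comp_apply, h]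

lemma pullback_imgSieve {P : Dᵒᵖ ⥤ Type u} {Q : Cᵒᵖ ⥤ Type u} (τ : P ⟶ fn.op ⋙ Q) {c c' : C}
    (q : Q.obj (op c)) (g : c' ⟶ c) :
    (imgSieve τ q).pullback g = imgSieve τ (Q.map g.op q) := by
  ext W h
  show (∃ _ _ _, Q.map (h ≫ g).op q = _) ↔ _
  simp only [op_comp, Functor.map_comp, ConcreteCategory.comp_apply]
  rfl

/-- Every section of the target of a universal map locally comes from the source. -/
theorem Univ.locally_image {P : Dᵒᵖ ⥤ Type u} {Q : Cᵒᵖ ⥤ Type u} {τ : P ⟶ fn.op ⋙ Q}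
    (hτ : Univ J fn τ) {c : C} (q : Q.obj (op c)) : imgSieve τ q ∈ J c := by
  let Ω : Sheaf J (Type u) :=
    ⟨(Functor.closedSieves J).toFunctor,
      (isSheaf_iff_isSheaf_of_type _ _).2 (classifier_isSheaf J)⟩
  let χ₁ : Q ⟶ Ω.obj :=
    { app := fun X => ↾fun q' => ⟨J.close (imgSieve τ (c := X.unop) q'), J.close_isClosed _⟩
      naturality := fun X Y g => by
        ext q'
        refine Subtype.ext ?_
        show J.close (imgSieve τ (Q.map g q')) =
          (J.close (imgSieve τ (c := X.unop) q')).pullback g.unop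
        rw [← J.pullback_close, pullback_imgSieve]
        rfl }
  let χ₂ : Q ⟶ Ω.obj :=
    { app := fun X => ↾fun _ => ⟨(⊤ : Sieve X.unop), fun _ _ _ => trivial⟩
      naturality := fun X Y g => by
        ext q'
        exact Subtype.ext (Sieve.pullback_top (f := g.unop)).symm }
  have h : χ₁ = χ₂ := by
    apply (hτ Ω).1
    ext X p
    refine Subtype.ext ?_
    show J.close (imgSieve τ (τ.app X p)) = ⊤
    rw [J.close_eq_top_iff_mem]
    refine J.superset_covering (fun W g _ => ?_) (J.top_mem _)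
    exact ⟨X.unop, g, p, rfl⟩
  have h2 := congrArg Subtype.val (ConcreteCategory.congr_hom (congr_app h (op c)) q)
  exact (J.close_eq_top_iff_mem _).1 h2

/-- Subpresheaf of sections of `yd` equalised by two arrows. -/
def eqP {d d' : D} (g g' : d ⟶ d') : Dᵒᵖ ⥤ Type u where
  obj X := { a : X.unop ⟶ d // a ≫ g = a ≫ g' }
  map h := ↾fun a => ⟨h.unop ≫ a.1, by rw [Category.assoc, a.2, Category.assoc]⟩
  map_id X := by
    ext a
    simp
  map_comp h k := by
    ext a
    simp

/-- Same, in `C`. -/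
def eqQ {d d' : C} (g g' : d ⟶ d') : Cᵒᵖ ⥤ Type u where
  obj X := { a : X.unop ⟶ d // a ≫ g = a ≫ g' }
  map h := ↾fun a => ⟨h.unop ≫ a.1, by rw [Category.assoc, a.2, Category.assoc]⟩
  map_id X := by
    ext a
    simp
  map_comp h k := by
    ext a
    simp

/-- The fork exhibiting `eqQ` as an equalizer. -/
def eqFork {d d' : C} (g g' : d ⟶ d') : Fork (yoneda.map g) (yoneda.map g') :=
  Fork.ofι (P := eqQ g g')
    { app := fun X => ↾fun a => a.1
      naturality := fun X Y h => rfl }
    (by ext X a; exact a.2)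

/-- It is an equalizer. -/
def eqForkIsLimit {d d' : C} (g g' : d ⟶ d') : IsLimit (eqFork g g') :=
  Fork.IsLimit.mk _
    (fun s =>
      { app := fun X => ↾fun x => ⟨s.ι.app X x,
          ConcreteCategory.congr_hom (congr_app s.condition X) x⟩
        naturality := fun X Y h => by
          ext x
          refine Subtype.ext ?_
          exact NatTrans.naturality_apply s.ι h x })
    (fun s => rfl)
    (fun s m hm => by
      ext X x
      refine Subtype.ext ?_
      exact ConcreteCategory.congr_hom (congr_app hm X) x)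

/-- The comparison. -/
def eqMap (fn : D ⥤ C) {d d' : D} (g g' : d ⟶ d') :
    eqQ g g' ⟶ fn.op ⋙ eqQ (fn.map g) (fn.map g') where
  app X := ↾fun a => ⟨fn.map a.1, by rw [← Functor.map_comp, a.2, Functor.map_comp]⟩
  naturality X Y h := by
    ext a
    exact Subtype.ext (fn.map_comp _ _)

lemma yMap_app (d : D) {X : Dᵒᵖ} (a : X.unop ⟶ d) :
    (yMap fn d).app X a = fn.map a := by
  simp [yMap, yonedaEquiv]

variable [fn.IsContinuous K J]

theorem univ_eqMap [PreservesFiniteLimits (fn.sheafPullback (Type u) K J)] {d d' : D}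
    (g g' : d ⟶ d') : Univ J fn (eqMap fn g g') := by
  rw [univ_iff_isIso (K := K)]
  have h₁ := (univ_iff_isIso (K := K) (J := J) _).1 (univ_yMap (J := J) fn d)
  have h₂ := (univ_iff_isIso (K := K) (J := J) _).1 (univ_yMap (J := J) fn d')
  set F := presheafToSheaf K (Type u) ⋙ fn.sheafPullback (Type u) K J
  set G := presheafToSheaf J (Type u)
  have sq : ∀ {k : d ⟶ d'}, F.map (yoneda.map k) ≫ θ (K := K) (J := J) (yMap fn d') =
      θ (yMap fn d) ≫ G.map (yoneda.map (fn.map k)) := fun {k} =>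
    (θ_naturality _ _ _ _ (by
      ext X a
      refine ((congrArg (fun t => t ≫ fn.map k) (yMap_app d a)).trans ?_ :)
      exact ((fn.map_comp _ _).symm.trans (yMap_app d' (a ≫ k)).symm :))).symm
  let φ : parallelPair (F.map (yoneda.map g)) (F.map (yoneda.map g')) ≅
      parallelPair (G.map (yoneda.map (fn.map g))) (G.map (yoneda.map (fn.map g'))) :=
    parallelPair.ext (@asIso _ _ _ _ _ h₁) (@asIso _ _ _ _ _ h₂) sq sq
  let hF := isLimitForkMapOfIsLimit F _ (eqForkIsLimit g g')
  let hG := isLimitForkMapOfIsLimit G _ (eqForkIsLimit (fn.map g) (fn.map g'))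
  have heq : θ (K := K) (J := J) (eqMap fn g g') =
      (IsLimit.conePointsIsoOfNatIso hF hG φ).hom := by
    refine Fork.IsLimit.hom_ext hG ?_
    refine Eq.trans ?_ (IsLimit.conePointsIsoOfNatIso_hom_comp hF hG φ WalkingParallelPair.zero).symm
    exact θ_naturality _ (yMap fn d) (eqFork g g').ι (eqFork (fn.map g) (fn.map g')).ι (by
      ext X a
      show fn.map a.1 = (yMap fn d).app X a.1
      exact (yMap_app d a.1).symm)
  rw [heq]
  infer_instance

theorem univ_restrict {P : Dᵒᵖ ⥤ Type u} {d : D} (k : P ⟶ yoneda.obj d)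
    [IsIso ((presheafToSheaf K (Type u)).map k)] : Univ J fn (k ≫ yMap fn d) := by
  rw [univ_iff_isIso (K := K)]
  have h₁ := (univ_iff_isIso (K := K) (J := J) _).1 (univ_yMap (J := J) fn d)
  have e := θ_naturality (K := K) (J := J) (k ≫ yMap fn d) (yMap fn d) k (𝟙 _) (by
    rw [Functor.whiskerLeft_id']
    exact Category.comp_id _)
  rw [CategoryTheory.Functor.map_id, Category.comp_id] at e
  rw [e]
  infer_instance

section LocFlat

variable (fn)

/-- Two objects of `c/fn` locally have a common refinement. -/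
theorem locally_pair [PreservesFiniteLimits (fn.sheafPullback (Type u) K J)] {c : C}
    (X Y : StructuredArrow c fn) :
    ∃ S ∈ J c, ∀ ⦃c' : C⦄ (v : c' ⟶ c), S v →
      ∃ (e : D) (b : c' ⟶ fn.obj e) (p : e ⟶ X.right) (q : e ⟶ Y.right),
        b ≫ fn.map p = v ≫ X.hom ∧ b ≫ fn.map q = v ≫ Y.hom := by
  refine ⟨_, (Univ.prod (K := K) (univ_yMap fn X.right) (univ_yMap fn Y.right)).locally_image
    (c := c) (show (FunctorToTypes.prod (yoneda.obj (fn.obj X.right))
      (yoneda.obj (fn.obj Y.right))).obj (op c) from (X.hom, Y.hom)), fun c' v hv => ?_⟩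
  obtain ⟨e, b, ⟨p, q⟩, h⟩ := hv
  refine ⟨e, b, p, q, ?_, ?_⟩
  · have := congrArg Prod.fst h
    exact ((congrArg (fun t => b ≫ t) (yMap_app X.right p)).symm.trans this.symm)
  · have := congrArg Prod.snd h
    exact ((congrArg (fun t => b ≫ t) (yMap_app Y.right q)).symm.trans this.symm)

/-- Two parallel arrows of `c/fn` are locally equalised. -/
theorem locally_eq [PreservesFiniteLimits (fn.sheafPullback (Type u) K J)] {c : C} {d d' : D}
    (b : c ⟶ fn.obj d) (g g' : d ⟶ d') (h : b ≫ fn.map g = b ≫ fn.map g') :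
    ∃ S ∈ J c, ∀ ⦃c' : C⦄ (v : c' ⟶ c), S v →
      ∃ (e : D) (b' : c' ⟶ fn.obj e) (p : e ⟶ d),
        b' ≫ fn.map p = v ≫ b ∧ p ≫ g = p ≫ g' := by
  refine ⟨_, (univ_eqMap (K := K) (J := J) g g').locally_image (c := c)
    (show (eqQ (fn.map g) (fn.map g')).obj (op c) from ⟨b, h⟩), fun c' v hv => ?_⟩
  obtain ⟨e, b', ⟨p, hp⟩, heq⟩ := hv
  exact ⟨e, b', p, (congrArg Subtype.val heq).symm, hp⟩

/-- Covering sieves lift locally. -/
theorem locally_lift {c : C} {d : D} (b : c ⟶ fn.obj d) (S : Sieve d) (hS : S ∈ K d) :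
    ∃ T ∈ J c, ∀ ⦃c' : C⦄ (v : c' ⟶ c), T v →
      ∃ (e : D) (g : e ⟶ d) (b' : c' ⟶ fn.obj e), S g ∧ b' ≫ fn.map g = v ≫ b := by
  have : IsIso ((presheafToSheaf K (Type u)).map S.functorInclusion) := by
    rw [← GrothendieckTopology.W_iff (J := K) (A := Type u)]
    rw [GrothendieckTopology.W_iff_isLocallyBijective]
    refine ⟨Presheaf.isLocallyInjective_of_injective K S.functorInclusion ?_, ⟨fun {U} s => ?_⟩⟩
    · intro X a a' h
      exact Subtype.ext h
    · refine K.superset_covering (fun W v hv => ?_) (K.pullback_stable s hS)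
      exact ⟨⟨v ≫ s, hv⟩, rfl⟩
  refine ⟨_, (univ_restrict (K := K) (J := J) (fn := fn) S.functorInclusion).locally_image (c := c)
    (show (yoneda.obj (fn.obj d)).obj (op c) from b), fun c' v hv => ?_⟩
  obtain ⟨e, b', ⟨g, hg⟩, heq⟩ := hv
  refine ⟨e, g, b', hg, ?_⟩
  exact ((congrArg (fun t => b' ≫ t) (yMap_app d g)).symm.trans heq.symm)

/-- An arrow of `c/fn`. -/
abbrev Arr (fn : D ⥤ C) (c : C) : Type u :=
  Σ X : StructuredArrow c fn, Σ Y : StructuredArrow c fn, (X ⟶ Y)

/-- A cone over the finite set `S` of objects of `c/fn`, pulled back along `v : c' ⟶ c`,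
compatible with the arrows in `T`. -/
structure DCone {c c' : C} (v : c' ⟶ c) (S : Finset (StructuredArrow c fn))
    (T : Finset (Arr fn c)) where
  /-- apex -/
  e : D
  /-- structure arrow -/
  b : c' ⟶ fn.obj e
  /-- legs -/
  h : ∀ X, X ∈ S → (e ⟶ X.right)
  w : ∀ X hX, b ≫ fn.map (h X hX) = v ≫ X.hom
  compat : ∀ a ∈ T, ∀ (h₁ : a.1 ∈ S) (h₂ : a.2.1 ∈ S), h a.1 h₁ ≫ a.2.2.right = h a.2.1 h₂

variable [PreservesFiniteLimits (fn.sheafPullback (Type u) K J)]

include K in
theorem locally_cone_objects {c : C} (S : Finset (StructuredArrow c fn)) (hS : S.Nonempty) :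
    ∃ U ∈ J c, ∀ ⦃c' : C⦄ (v : c' ⟶ c), U v → Nonempty (DCone fn v S ∅) := by
  classical
  induction hS using Finset.Nonempty.cons_induction with
  | singleton X =>
    refine ⟨⊤, J.top_mem c, fun c' v _ => ⟨⟨X.right, v ≫ X.hom,
      fun Y hY => eqToHom (by rw [Finset.mem_singleton.1 hY]), fun Y hY => ?_,
      fun a ha => absurd ha (Finset.notMem_empty _)⟩⟩⟩
    obtain rfl := Finset.mem_singleton.1 hY
    simp
  | cons X S hXS hS ih =>
    obtain ⟨U, hU, hU'⟩ := ih
    have key : ∀ ⦃c' : C⦄ (v : c' ⟶ c), U v → ∃ W ∈ J c', ∀ ⦃c'' : C⦄ (u : c'' ⟶ c'), W u →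
        Nonempty (DCone fn (u ≫ v) (Finset.cons X S hXS) ∅) := by
      intro c' v hv
      obtain ⟨κ⟩ := hU' v hv
      obtain ⟨W, hW, hW'⟩ := locally_pair (K := K) (J := J) fn (StructuredArrow.mk κ.b)
        (StructuredArrow.mk (v ≫ X.hom))
      refine ⟨W, hW, fun c'' u hu => ?_⟩
      obtain ⟨e, b, p, q, hp, hq⟩ := hW' u hu
      simp only [StructuredArrow.mk_hom_eq_self] at hp hq
      refine ⟨⟨e, b, fun Y hY => if hY' : Y = X then q ≫ eqToHom (by rw [hY']; rfl)
        else p ≫ κ.h Y ((Finset.mem_cons.1 hY).resolve_left hY'), fun Y hY => ?_,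
        fun a ha => absurd ha (Finset.notMem_empty _)⟩⟩
      split_ifs with hY'
      · subst hY'
        simp only [eqToHom_refl, Category.comp_id]
        exact hq.trans (Category.assoc _ _ _).symm
      · rw [Functor.map_comp, ← Category.assoc]
        exact ((congrArg (fun t => t ≫ fn.map (κ.h Y _)) hp).trans (Category.assoc _ _ _)).trans
          ((congrArg (fun t => u ≫ t) (κ.w Y _)).trans (Category.assoc _ _ _).symm)
    choose W hW hW' using key
    refine ⟨Sieve.bind U.arrows W, J.bind_covering hU hW, fun c'' w hw => ?_⟩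
    obtain ⟨c', u, v, hv, hu, rfl⟩ := hw
    exact hW' v hv u hu

include K in
/-- Finite diagrams in `c/fn` locally have cones. -/
theorem locally_cone {c : C} (S : Finset (StructuredArrow c fn)) (hS : S.Nonempty)
    (T : Finset (Arr fn c)) :
    ∃ U ∈ J c, ∀ ⦃c' : C⦄ (v : c' ⟶ c), U v → Nonempty (DCone fn v S T) := by
  classical
  induction T using Finset.induction_on with
  | empty => exact locally_cone_objects (K := K) fn S hS
  | insert a T haT ih =>
    obtain ⟨U, hU, hU'⟩ := ih
    have key : ∀ ⦃c' : C⦄ (v : c' ⟶ c), U v → ∃ W ∈ J c', ∀ ⦃c'' : C⦄ (u : c'' ⟶ c'), W u →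
        Nonempty (DCone fn (u ≫ v) S (insert a T)) := by
      intro c' v hv
      obtain ⟨κ⟩ := hU' v hv
      by_cases hmem : a.1 ∈ S ∧ a.2.1 ∈ S
      · obtain ⟨W, hW, hW'⟩ := locally_eq (K := K) (J := J) fn κ.b
          (κ.h a.1 hmem.1 ≫ a.2.2.right) (κ.h a.2.1 hmem.2) (by
            rw [Functor.map_comp, reassoc_of% κ.w a.1 hmem.1, StructuredArrow.w a.2.2,
              κ.w a.2.1 hmem.2])
        refine ⟨W, hW, fun c'' u hu => ?_⟩
        obtain ⟨e, b, p, hp, hpe⟩ := hW' u hu
        refine ⟨⟨e, b, fun Y hY => p ≫ κ.h Y hY, fun Y hY => ?_, fun a' ha' h₁ h₂ => ?_⟩⟩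
        · rw [Functor.map_comp, reassoc_of% hp, κ.w Y hY, Category.assoc]
        · rcases Finset.mem_insert.1 ha' with rfl | ha''
          · rw [Category.assoc]
            exact hpe
          · rw [Category.assoc, κ.compat a' ha'' h₁ h₂]
      · refine ⟨⊤, J.top_mem _, fun c'' u _ => ⟨⟨κ.e, u ≫ κ.b, κ.h, fun Y hY => ?_,
          fun a' ha' h₁ h₂ => ?_⟩⟩⟩
        · rw [Category.assoc, κ.w Y hY, Category.assoc]
        · rcases Finset.mem_insert.1 ha' with rfl | ha''
          · exact absurd ⟨h₁, h₂⟩ hmem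
          · exact κ.compat a' ha'' h₁ h₂
    choose W hW hW' using key
    refine ⟨Sieve.bind U.arrows W, J.bind_covering hU hW, fun c'' w hw => ?_⟩
    obtain ⟨c', u, v, hv, hu, rfl⟩ := hw
    exact hW' v hv u hu

end LocFlat

end Groth.Agent.H15Site.PullSets
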