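import Mathlib.CategoryTheory.Sites.Point.OfIsCofiltered
import Mathlib.CategoryTheory.Sites.Point.Conservative
import Mathlib.CategoryTheory.Functor.OfSequence
import Mathlib.CategoryTheory.Limits.Shapes.WidePullbacks
import Mathlib.CategoryTheory.Limits.Shapes.FiniteLimits
import Mathlib.CategoryTheory.Limits.Types.Filtered
import Mathlib.CategoryTheory.Limits.FunctorCategory.Basic
import Mathlib.CategoryTheory.Sites.Types
import Mathlib.CategoryTheory.Sites.LeftExact
import Mathlib.Topology.Compactness.Compact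
import Mathlib.Topology.Constructions
import Mathlib.Topology.Order

/-!
# Deligne's theorem: a finitary site with finite limits has enough points
-/

set_option autoImplicit false

universe u

open CategoryTheory CategoryTheory.Limits Opposite
open CategoryTheory.GrothendieckTopology.Point

namespace Groth.Agent.H15Site.Deligne

variable {C : Type u} [SmallCategory C] (J : GrothendieckTopology C)

/-- A pro-object over `X` (given by its fibre functor) at no stage of which `S` becomes covering. -/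
structure State (X : C) (S : Sieve X) : Type (u + 1) where
  M : C ⥤ Type u
  cofiltered : IsCofiltered M.Elements
  x : M.obj X
  good : ∀ (U : C) (u : M.obj U) (f : U ⟶ X), M.map f u = x → S.pullback f ∉ J U

/-- Finitely generated covering data for every covering sieve. -/
structure Choice where
  n : ∀ Y : C, {R : Sieve Y // R ∈ J Y} → ℕ
  V : ∀ Y R, Fin (n Y R) → C
  g : ∀ Y R k, V Y R k ⟶ Y
  mem : ∀ Y (R : {R : Sieve Y // R ∈ J Y}) k, R.1 (g Y R k)
  cov : ∀ Y R, Sieve.ofArrows (V Y R) (g Y R) ∈ J Y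

variable {J}

/-- In a functor with cofiltered category of elements, two elements are dominated by a third. -/
theorem exists_over {M : C ⥤ Type u} (hM : IsCofiltered M.Elements) {A B : C} (a : M.obj A)
    (b : M.obj B) : ∃ (U : C) (u : M.obj U) (p : U ⟶ A) (q : U ⟶ B),
      M.map p u = a ∧ M.map q u = b := by
  obtain ⟨o, p, q, -⟩ := hM.cone_objs ⟨A, a⟩ ⟨B, b⟩
  exact ⟨o.1, o.2, p.1, q.1, p.2, q.2⟩

/-- Two maps agreeing on an element are equalized by a further element. -/
theorem exists_eq {M : C ⥤ Type u} (hM : IsCofiltered M.Elements) {U A : C} (u : M.obj U)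
    (p q : U ⟶ A) (h : M.map p u = M.map q u) :
    ∃ (U' : C) (u' : M.obj U') (r : U' ⟶ U), M.map r u' = u ∧ r ≫ p = r ≫ q := by
  obtain ⟨o, r, hr⟩ := hM.cone_maps (CategoryOfElements.homMk (F := M) ⟨U, u⟩ ⟨A, M.map q u⟩ p h)
    (CategoryOfElements.homMk (F := M) ⟨U, u⟩ ⟨A, M.map q u⟩ q rfl)
  exact ⟨o.1, o.2, r.1, r.2, congrArg (fun e => e.1) hr⟩

/-- Finitely many pairs of maps agreeing on an element are simultaneously equalized. -/
theorem exists_eq_finset {M : C ⥤ Type u} (hM : IsCofiltered M.Elements) {κ : Type u} (s : Finset κ)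
    {U : C} (u : M.obj U) (A : κ → C) (p q : ∀ k, U ⟶ A k) (h : ∀ k ∈ s, M.map (p k) u = M.map (q k) u) :
    ∃ (U' : C) (u' : M.obj U') (r : U' ⟶ U), M.map r u' = u ∧ ∀ k ∈ s, r ≫ p k = r ≫ q k := by
  classical
  induction s using Finset.induction with
  | empty => exact ⟨U, u, 𝟙 U, by simp, by simp⟩
  | @insert a t _ ih =>
    obtain ⟨U', u', r, hr, ht⟩ := ih fun k hk => h k (Finset.mem_insert_of_mem hk)
    obtain ⟨U'', u'', r', hr', ha⟩ := exists_eq hM u' (r ≫ p a) (r ≫ q a)
      (by rw [Functor.map_comp_apply, Functor.map_comp_apply, hr]; exact h a (Finset.mem_insert_self _ _))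
    refine ⟨U'', u'', r' ≫ r, by rw [Functor.map_comp_apply, hr', hr], fun k hk => ?_⟩
    rcases Finset.mem_insert.1 hk with rfl | hk
    · simpa [Category.assoc] using ha
    · rw [Category.assoc, ht k hk, Category.assoc]

variable {X : C} {S : Sieve X} (ch : Choice J) (σ : State J X S)

/-- Lifting problems for a state. -/
abbrev Task : Type u := Σ Y : C, σ.M.obj Y × {R : Sieve Y // R ∈ J Y}

/-- A finite set of lifting problems placed on a common element. -/
structure Stage : Type u where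
  F : Finset (Task σ)
  U : C
  u : σ.M.obj U
  f : ∀ t ∈ F, U ⟶ t.1
  hf : ∀ (t : Task σ) (ht : t ∈ F), σ.M.map (f t ht) u = t.2.1

variable {σ}

/-- Morphisms of stages. -/
def StageHom (s s' : Stage σ) : Type u :=
  { h : s.U ⟶ s'.U // σ.M.map h s.u = s'.u ∧
    ∃ hF : s'.F ⊆ s.F, ∀ (t : Task σ) (ht : t ∈ s'.F), h ≫ s'.f t ht = s.f t (hF ht) }

instance : Category (Stage σ) where
  Hom := StageHom
  id s := ⟨𝟙 _, by simp, Finset.Subset.refl _, fun t ht => Category.id_comp _⟩
  comp {a b c} h k := ⟨h.1 ≫ k.1, by rw [Functor.map_comp_apply, h.2.1, k.2.1],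
    k.2.2.1.trans h.2.2.1, fun t ht => by rw [Category.assoc, k.2.2.2, h.2.2.2]⟩
  id_comp h := Subtype.ext (Category.id_comp _)
  comp_id h := Subtype.ext (Category.comp_id _)
  assoc h k l := Subtype.ext (Category.assoc _ _ _)

theorem stage_hom_ext {s s' : Stage σ} {h k : s ⟶ s'} (e : h.1 = k.1) : h = k := Subtype.ext e

variable (σ) in
/-- The stage without lifting problems on an element. -/
def single {Y : C} (y : σ.M.obj Y) : Stage σ :=
  ⟨∅, Y, y, fun _ ht => absurd ht (Finset.notMem_empty _),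
    fun _ ht => absurd ht (Finset.notMem_empty _)⟩

theorem exists_stage (s₁ s₂ : Stage σ) : ∃ (s : Stage σ), Nonempty (s ⟶ s₁) ∧ Nonempty (s ⟶ s₂) := by
  classical
  obtain ⟨U, u, p, q, hp, hq⟩ := exists_over σ.cofiltered s₁.u s₂.u
  let F₁ := fun t : Task σ => (t ∈ s₁.F : Prop)
  obtain ⟨U', u', r, hr, he⟩ := exists_eq_finset σ.cofiltered
    (Finset.univ : Finset {t // t ∈ s₁.F ∩ s₂.F}) u (fun t => t.1.1)
    (fun t => p ≫ s₁.f t.1 (Finset.mem_inter.1 t.2).1)
    (fun t => q ≫ s₂.f t.1 (Finset.mem_inter.1 t.2).2)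
    (fun t _ => by rw [Functor.map_comp_apply, Functor.map_comp_apply, hp, hq, s₁.hf, s₂.hf])
  let s : Stage σ :=
    { F := s₁.F ∪ s₂.F
      U := U'
      u := u'
      f := fun t ht => if h : t ∈ s₁.F then r ≫ p ≫ s₁.f t h
        else r ≫ q ≫ s₂.f t ((Finset.mem_union.1 ht).resolve_left h)
      hf := fun t ht => by
        split_ifs with h
        · rw [Functor.map_comp_apply, hr, Functor.map_comp_apply, hp, s₁.hf]
        · rw [Functor.map_comp_apply, hr, Functor.map_comp_apply, hq, s₂.hf] }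
  refine ⟨s, ⟨⟨r ≫ p, by rw [Functor.map_comp_apply, hr, hp], Finset.subset_union_left,
      fun t ht => by simp [s, ht]⟩⟩,
    ⟨⟨r ≫ q, by rw [Functor.map_comp_apply, hr, hq], Finset.subset_union_right, fun t ht => ?_⟩⟩⟩
  by_cases h : t ∈ s₁.F
  · have := he ⟨t, Finset.mem_inter.2 ⟨h, ht⟩⟩ (Finset.mem_univ _)
    simp [s, h, this]
  · simp [s, h]

instance : Nonempty (Stage σ) := ⟨single σ σ.x⟩

instance : IsCofiltered (Stage σ) where
  cone_objs s₁ s₂ := by
    obtain ⟨s, ⟨a⟩, ⟨b⟩⟩ := exists_stage s₁ s₂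
    exact ⟨s, a, b, trivial⟩
  cone_maps s s' h k := by
    obtain ⟨U, u, r, hr, e⟩ := exists_eq σ.cofiltered s.u h.1 k.1 (h.2.1.trans k.2.1.symm)
    exact ⟨⟨s.F, U, u, fun t ht => r ≫ s.f t ht, fun t ht => by rw [Functor.map_comp_apply, hr, s.hf]⟩,
      ⟨r, hr, Finset.Subset.refl _, fun t ht => rfl⟩, Subtype.ext e⟩

variable [HasFiniteLimits C]

/-- The object obtained by solving the lifting problems of a stage as prescribed by `c`. -/
noncomputable abbrev W (s : Stage σ) (c : ∀ t : s.F, Fin (ch.n t.1.1 t.1.2.2)) : C :=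
  widePullback s.U (fun t : s.F => pullback (s.f t.1 t.2) (ch.g t.1.1 t.1.2.2 (c t)))
    (fun _ => pullback.fst _ _)

/-- Projection to the base. -/
noncomputable abbrev Wbase (s : Stage σ) (c : ∀ t : s.F, Fin (ch.n t.1.1 t.1.2.2)) :
    W ch s c ⟶ s.U := WidePullback.base _

/-- `c` keeps `S` from covering at the stage `s`. -/
def Fine (s : Stage σ) (c : ∀ t : s.F, Fin (ch.n t.1.1 t.1.2.2)) : Prop :=
  ∀ f : s.U ⟶ X, σ.M.map f s.u = σ.x → S.pullback (Wbase ch s c ≫ f) ∉ J (W ch s c)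

theorem exists_fine (s : Stage σ) : ∃ c, Fine ch s c := by
  classical
  by_contra hne
  simp only [not_exists, Fine, not_forall, not_not] at hne
  rcases isEmpty_or_nonempty (∀ t : s.F, Fin (ch.n t.1.1 t.1.2.2)) with hE | ⟨⟨c₀⟩⟩
  · obtain ⟨t, ht⟩ : ∃ t : s.F, ch.n t.1.1 t.1.2.2 = 0 := by
      by_contra h
      simp only [not_exists] at h
      exact hE.false fun t => ⟨0, Nat.pos_of_ne_zero (h t)⟩
    obtain ⟨U, u, p, q, hp, hq⟩ := exists_over σ.cofiltered s.u σ.x
    refine σ.good U u q hq (J.superset_covering ?_ (J.pullback_stable (p ≫ s.f t.1 t.2) (ch.cov t.1.1 t.1.2.2)))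
    rintro Z z ⟨_, _, _, ⟨k⟩, -⟩
    exact (Fin.cast ht k).elim0
  · obtain ⟨f, hf, -⟩ := hne c₀
    have key : ∀ c, S.pullback (Wbase ch s c ≫ f) ∈ J (W ch s c) ∨
        ∃ f', σ.M.map f' s.u = σ.x ∧ S.pullback (Wbase ch s c ≫ f') ∈ J (W ch s c) := fun c => by
      obtain ⟨f', h₁, h₂⟩ := hne c
      exact Or.inr ⟨f', h₁, h₂⟩
    choose f' hf' hcov using hne
    obtain ⟨U', u', r, hr, he⟩ := exists_eq_finset σ.cofiltered
      (Finset.univ : Finset (∀ t : s.F, Fin (ch.n t.1.1 t.1.2.2))) s.u (fun _ => X) f' (fun _ => f)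
      (fun c _ => (hf' c).trans hf.symm)
    refine σ.good U' u' (r ≫ f) (by rw [Functor.map_comp_apply, hr, hf]) ?_
    have hF : ∀ T : Finset s.F, ∀ Z (z : Z ⟶ U'), (∀ t ∈ T, ∃ (k : Fin (ch.n t.1.1 t.1.2.2))
        (v : Z ⟶ ch.V t.1.1 t.1.2.2 k), v ≫ ch.g _ _ k = z ≫ r ≫ s.f t.1 t.2) →
        ((∀ t, t ∈ T) → S.pullback (z ≫ r ≫ f) ∈ J Z) := by
      intro T Z z hT hall
      choose k v hv using fun t => hT t (hall t)
      let w : Z ⟶ W ch s k := WidePullback.lift (z ≫ r)
        (fun t => pullback.lift (z ≫ r) (v t) (by rw [Category.assoc, hv t])) (fun t => pullback.lift_fst _ _ _)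
      have := J.pullback_stable w (hcov k)
      rw [← Sieve.pullback_comp, WidePullback.lift_base_assoc, Category.assoc, he k (Finset.mem_univ _)] at this
      exact this
    have cover : ∀ T : Finset s.F, ∃ R ∈ J U', ∀ ⦃Z : C⦄ (z : Z ⟶ U'), R z → ∀ t ∈ T,
        ∃ (k : Fin (ch.n t.1.1 t.1.2.2)) (v : Z ⟶ ch.V t.1.1 t.1.2.2 k),
          v ≫ ch.g _ _ k = z ≫ r ≫ s.f t.1 t.2 := by
      intro T
      induction T using Finset.induction with
      | empty => exact ⟨⊤, J.top_mem _, by simp⟩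
      | @insert a T _ ih =>
        obtain ⟨R, hR, hR'⟩ := ih
        refine ⟨R ⊓ (Sieve.ofArrows _ (ch.g a.1.1 a.1.2.2)).pullback (r ≫ s.f a.1 a.2),
          J.intersection_covering hR (J.pullback_stable _ (ch.cov _ _)), ?_⟩
        rintro Z z ⟨hz, ⟨_, v, _, ⟨k⟩, hk⟩⟩ t ht
        rcases Finset.mem_insert.1 ht with rfl | ht
        · exact ⟨k, v, hk⟩
        · exact hR' z hz t ht
    obtain ⟨R, hR, hR'⟩ := cover Finset.univ
    refine J.transitive hR _ fun Z z hz => ?_
    rw [← Sieve.pullback_comp]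
    exact hF Finset.univ Z z (hR' z hz) (fun t => Finset.mem_univ t)

/-- Restriction of a total assignment to a stage. -/
abbrev res (s : Stage σ) (c : ∀ t : Task σ, Fin (ch.n t.1 t.2.2)) :
    ∀ t : s.F, Fin (ch.n t.1.1 t.1.2.2) := fun t => c t.1

/-- The induced map between solved stages. -/
noncomputable def Wmap (c : ∀ t : Task σ, Fin (ch.n t.1 t.2.2)) {s s' : Stage σ} (h : s ⟶ s') :
    W ch s (res ch s c) ⟶ W ch s' (res ch s' c) :=
  WidePullback.lift (Wbase ch s _ ≫ h.1)
    (fun t => pullback.lift (Wbase ch s _ ≫ h.1)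
      (WidePullback.π (fun t : s.F => pullback.fst (s.f t.1 t.2)
        (ch.g t.1.1 t.1.2.2 (res ch s c t))) ⟨t.1, h.2.2.1 t.2⟩ ≫ pullback.snd _ _)
      (by
        rw [Category.assoc, Category.assoc, ← pullback.condition, h.2.2.2 t.1 t.2, ← Category.assoc,
          WidePullback.π_arrow]))
    (fun t => pullback.lift_fst _ _ _)

theorem Wmap_base (c : ∀ t : Task σ, Fin (ch.n t.1 t.2.2)) {s s' : Stage σ} (h : s ⟶ s') :
    Wmap ch c h ≫ Wbase ch s' (res ch s' c) = Wbase ch s (res ch s c) ≫ h.1 :=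
  WidePullback.lift_base _ _ _ _

theorem Wmap_π_snd (c : ∀ t : Task σ, Fin (ch.n t.1 t.2.2)) {s s' : Stage σ} (h : s ⟶ s') (t : s'.F) :
    Wmap ch c h ≫ WidePullback.π _ t ≫ pullback.snd (s'.f t.1 t.2) (ch.g t.1.1 t.1.2.2 (res ch s' c t)) =
      WidePullback.π (fun t : s.F => pullback.fst (s.f t.1 t.2)
        (ch.g t.1.1 t.1.2.2 (res ch s c t))) ⟨t.1, h.2.2.1 t.2⟩ ≫ pullback.snd _ _ := by
  rw [← Category.assoc, Wmap, WidePullback.lift_π]
  exact pullback.lift_snd _ _ _

theorem W_hom_ext (c : ∀ t : Task σ, Fin (ch.n t.1 t.2.2)) {s : Stage σ} {Z : C}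
    {a b : Z ⟶ W ch s (res ch s c)} (h₁ : a ≫ Wbase ch s _ = b ≫ Wbase ch s _)
    (h₂ : ∀ t : s.F, a ≫ WidePullback.π _ t ≫ pullback.snd (s.f t.1 t.2) (ch.g t.1.1 t.1.2.2 (res ch s c t)) =
      b ≫ WidePullback.π _ t ≫ pullback.snd _ _) : a = b := by
  apply WidePullback.hom_ext
  · intro t
    apply pullback.hom_ext
    · simp only [Category.assoc, WidePullback.π_arrow]
      exact h₁
    · simpa only [Category.assoc] using h₂ t
  · exact h₁

theorem exists_choice : ∃ c : ∀ t : Task σ, Fin (ch.n t.1 t.2.2), ∀ s : Stage σ, Fine ch s (res ch s c) := by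
  classical
  have hpos : ∀ t : Task σ, 0 < ch.n t.1 t.2.2 := fun t => by
    let s : Stage σ := ⟨{t}, t.1, t.2.1, fun t' ht => eqToHom (by rw [Finset.mem_singleton.1 ht]),
      fun t' ht => by obtain rfl := Finset.mem_singleton.1 ht; simp⟩
    obtain ⟨c, -⟩ := exists_fine ch s
    exact Fin.pos (c ⟨t, Finset.mem_singleton_self t⟩)
  let K : Stage σ → Set (∀ t : Task σ, Fin (ch.n t.1 t.2.2)) :=
    fun s => Set.ofPred fun c => Fine ch s (res ch s c)
  have hclosed : ∀ s, IsClosed (K s) := fun s =>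
    (isClosed_discrete (Set.ofPred fun c => Fine ch s c)).preimage
      (continuous_pi fun t => continuous_apply t.1 : Continuous fun c : (∀ t : Task σ, Fin (ch.n t.1 t.2.2)) => res ch s c)
  have hdir : Directed (· ⊇ ·) K := fun s₁ s₂ => by
    obtain ⟨s, ⟨a⟩, ⟨b⟩⟩ := exists_stage s₁ s₂
    have mono : ∀ {s'} (h : s ⟶ s'), K s ⊆ K s' := fun {s'} h c hc f hf hcov => by
      refine hc (h.1 ≫ f) (by rw [Functor.map_comp_apply, h.2.1, hf]) ?_
      have := J.pullback_stable (Wmap ch c h) hcov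
      rwa [← Sieve.pullback_comp, ← Category.assoc, Wmap_base, Category.assoc] at this
    exact ⟨s, mono a, mono b⟩
  obtain ⟨c, hc⟩ := IsCompact.nonempty_iInter_of_directed_nonempty_isCompact_isClosed K hdir
    (fun s => by
      obtain ⟨c, hc⟩ := exists_fine ch s
      refine ⟨fun t => if h : t ∈ s.F then c ⟨t, h⟩ else ⟨0, hpos t⟩, ?_⟩
      show Fine ch s _
      have e : (fun t : s.F => if h : t.1 ∈ s.F then c ⟨t.1, h⟩ else ⟨0, hpos t.1⟩) = c :=
        funext fun t => dif_pos t.2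
      exact (congrArg (Fine ch s) e).mpr hc)
    (fun s => (hclosed s).isCompact) hclosed
  exact ⟨c, fun s => Set.mem_iInter.1 hc s⟩

/-- The diagram of solved stages. -/
noncomputable def pro (c : ∀ t : Task σ, Fin (ch.n t.1 t.2.2)) : Stage σ ⥤ C where
  obj s := W ch s (res ch s c)
  map h := Wmap ch c h
  map_id s := W_hom_ext ch c
    ((Wmap_base ch c (𝟙 s)).trans ((Category.comp_id _).trans (Category.id_comp _).symm))
    (fun t => (Wmap_π_snd ch c (𝟙 s) t).trans (Category.id_comp _).symm)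
  map_comp {a b d} h k := W_hom_ext ch c
    (by
      rw [Wmap_base, Category.assoc, Wmap_base, ← Category.assoc, Wmap_base, Category.assoc]
      rfl)
    (fun t => by
      rw [Wmap_π_snd, Category.assoc, Wmap_π_snd, Wmap_π_snd])

include ch in
theorem next_step : ∃ (σ' : State J X S) (η : σ.M ⟶ σ'.M), η.app X σ.x = σ'.x ∧
    ∀ (Y : C) (y : σ.M.obj Y) (R : Sieve Y), R ∈ J Y →
      ∃ (Z : C) (g : Z ⟶ Y) (_ : R g) (z : σ'.M.obj Z), σ'.M.map g z = η.app Y y := by
  classical
  obtain ⟨c, hc⟩ := exists_choice ch (σ := σ)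
  let p := pro ch c
  haveI : InitiallySmall.{u} (Stage σ) := initiallySmall_of_essentiallySmall _
  let M' := ofIsCofiltered.fiber.{u} p
  let mk : ∀ {Y : C}, σ.M.obj Y → M'.obj Y := fun {Y} y =>
    ofIsCofiltered.fiberMk (p := p) (U := single σ y) (Wbase ch (single σ y) _)
  have mk_eq : ∀ {Y : C} (y : σ.M.obj Y) (s : Stage σ) (f : s.U ⟶ Y), σ.M.map f s.u = y →
      mk y = ofIsCofiltered.fiberMk (p := p) (U := s) (Wbase ch s (res ch s c) ≫ f) := fun {Y} y s f hf => by
    let h : s ⟶ single σ y := ⟨f, hf, Finset.empty_subset _, fun t ht => absurd ht (Finset.notMem_empty _)⟩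
    refine Eq.trans ?_ (congrArg (ofIsCofiltered.fiberMk (p := p) (U := s)) (Wmap_base ch c h))
    exact (ofIsCofiltered.fiberMk_map_comp p h (Wbase ch (single σ y) (res ch (single σ y) c))).symm
  let η : σ.M ⟶ M' :=
    { app := fun Y => ↾mk
      naturality := fun Y Y' g => by
        ext y
        refine (mk_eq (σ.M.map g y) (single σ y) g rfl).trans ?_
        exact (ofIsCofiltered.fiber_map_fiberMk p (U := single σ y) (Wbase ch _ _) g).symm }
  refine ⟨⟨M', inferInstance, mk σ.x, ?_⟩, η, rfl, ?_⟩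
  · intro U u f hu hcov
    obtain ⟨s, φ, rfl⟩ := ofIsCofiltered.fiberMk_jointly_surjective u
    obtain ⟨s', ⟨a⟩, ⟨b⟩⟩ := exists_stage s (single σ σ.x)
    have e1 : ofIsCofiltered.fiberMk (p := p) (U := s') (p.map a ≫ φ ≫ f) = mk σ.x := by
      rw [ofIsCofiltered.fiberMk_map_comp, ← ofIsCofiltered.fiber_map_fiberMk]
      exact hu
    rw [mk_eq σ.x s' b.1 b.2.1] at e1
    obtain ⟨v, q, hq⟩ := ofIsCofiltered.exists_of_fiberMk_eq_fiberMk e1
    refine hc v (q.1 ≫ b.1) ((Functor.map_comp_apply σ.M q.1 b.1 v.u).trans ((congrArg (σ.M.map b.1) q.2.1).trans b.2.1)) ?_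
    have := J.pullback_stable (p.map q ≫ p.map a ≫ φ) hcov
    rw [← Sieve.pullback_comp, Category.assoc, Category.assoc, hq] at this
    refine (congrArg (fun w => S.pullback w ∈ J _) ?_).mp this
    exact (Category.assoc _ _ _).symm.trans ((congrArg (· ≫ b.1) (Wmap_base ch c q)).trans (Category.assoc _ _ _))
  · intro Y y R hR
    let t : Task σ := ⟨Y, y, R, hR⟩
    let s : Stage σ := ⟨{t}, Y, y, fun t' ht => eqToHom (by rw [Finset.mem_singleton.1 ht]),
      fun t' ht => by obtain rfl := Finset.mem_singleton.1 ht; simp [t]⟩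
    refine ⟨_, ch.g Y ⟨R, hR⟩ (c t), ch.mem Y ⟨R, hR⟩ (c t), ofIsCofiltered.fiberMk (p := p) (U := s)
      (WidePullback.π _ (⟨t, Finset.mem_singleton_self t⟩ : s.F) ≫ pullback.snd _ _), ?_⟩
    refine (ofIsCofiltered.fiber_map_fiberMk p _ _).trans ?_
    refine Eq.trans ?_ (mk_eq y s (eqToHom rfl) (by simp [s])).symm
    congr 1
    exact (Category.assoc _ _ _).trans
      ((congrArg (WidePullback.π _ (⟨t, Finset.mem_singleton_self t⟩ : s.F) ≫ ·) pullback.condition.symm).trans
        ((Category.assoc _ _ _).symm.trans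
          (congrArg (· ≫ s.f t (Finset.mem_singleton_self t))
            (WidePullback.π_arrow (fun t : s.F => pullback.fst (s.f t.1 t.2)
              (ch.g t.1.1 t.1.2.2 (res ch s c t))) ⟨t, Finset.mem_singleton_self t⟩))))

variable (σ) in
/-- The next state. -/
noncomputable def next : State J X S := (next_step ch (σ := σ)).choose

variable (σ) in
/-- The map to the next state. -/
noncomputable def η : σ.M ⟶ (next ch σ).M := (next_step ch (σ := σ)).choose_spec.choose

theorem η_x : (η ch σ).app X σ.x = (next ch σ).x := (next_step ch (σ := σ)).choose_spec.choose_spec.1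

theorem η_lift (Y : C) (y : σ.M.obj Y) (R : Sieve Y) (hR : R ∈ J Y) :
    ∃ (Z : C) (g : Z ⟶ Y) (_ : R g) (z : (next ch σ).M.obj Z), (next ch σ).M.map g z = (η ch σ).app Y y :=
  (next_step ch (σ := σ)).choose_spec.choose_spec.2 Y y R hR

omit [HasFiniteLimits C]

/-- The initial state. -/
noncomputable def init (hS : S ∉ J X) : State J X S where
  M := coyoneda.obj (op X)
  cofiltered :=
    { cone_objs := fun a b => ⟨⟨X, 𝟙 X⟩, CategoryOfElements.homMk _ _ a.2 (Category.id_comp _),
        CategoryOfElements.homMk _ _ b.2 (Category.id_comp _), trivial⟩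
      cone_maps := fun a b h k => ⟨⟨X, 𝟙 X⟩, CategoryOfElements.homMk _ _ a.2 (Category.id_comp _),
        CategoryOfElements.ext _ _ _ (h.2.trans k.2.symm)⟩
      nonempty := ⟨⟨X, 𝟙 X⟩⟩ }
  x := 𝟙 X
  good U u f hf hcov := hS (by
    have := J.pullback_stable u hcov
    rwa [← Sieve.pullback_comp, show u ≫ f = 𝟙 X from hf, Sieve.pullback_id] at this)

variable [HasFiniteLimits C]

/-- Deligne's construction: a point avoiding a non-covering sieve. -/
theorem exists_point (hS : S ∉ J X) (ch : Choice J) :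
    ∃ (Φ : GrothendieckTopology.Point.{u} J) (x : Φ.fiber.obj X),
      ∀ (Y : C) (g : Y ⟶ X), S g → ∀ y : Φ.fiber.obj Y, Φ.fiber.map g y ≠ x := by
  let seq : ℕ → State J X S := fun n => Nat.rec (init hS) (fun _ σ => next ch σ) n
  let D : ℕ ⥤ C ⥤ Type u := Functor.ofSequence (X := fun n => (seq n).M) (fun n => η ch (seq n))
  let c := colimit.cocone D
  let hc := fun Y : C => isColimitOfPreserves ((evaluation C (Type u)).obj Y) (colimit.isColimit D)
  let ι : ∀ (n : ℕ) {Y : C}, (seq n).M.obj Y → (colimit D).obj Y := fun n {Y} y => (colimit.ι D n).app Y y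
  have ι_map : ∀ (n : ℕ) {Y Y' : C} (g : Y ⟶ Y') (y : (seq n).M.obj Y),
      (colimit D).map g (ι n y) = ι n ((seq n).M.map g y) := fun n Y Y' g y =>
    (ConcreteCategory.congr_hom ((colimit.ι D n).naturality g) y).symm
  have surj : ∀ {Y : C} (z : (colimit D).obj Y), ∃ n y, ι n (Y := Y) y = z := fun {Y} z =>
    Types.jointly_surjective _ (hc Y) z
  have push : ∀ {n m : ℕ} (h : n ≤ m) {Y : C} (y : (seq n).M.obj Y),
      ι m ((D.map (homOfLE h)).app Y y) = ι n y := fun h Y y =>
    ConcreteCategory.congr_hom (NatTrans.congr_app (colimit.w D (homOfLE h)) Y) y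
  have eq_stage : ∀ {n : ℕ} {Y : C} (y y' : (seq n).M.obj Y), ι n y = ι n y' →
      ∃ (m : ℕ) (h : n ≤ m), (D.map (homOfLE h)).app Y y = (D.map (homOfLE h)).app Y y' := by
    intro n Y y y' h
    obtain ⟨m, f, hf⟩ := (Types.FilteredColimit.isColimit_eq_iff' (hc Y) y y').1 h
    exact ⟨m, leOfHom f, hf⟩
  have hx : ∀ n, ι n (seq n).x = ι 0 (seq 0).x := fun n => by
    induction n with
    | zero => rfl
    | succ n ih =>
      rw [← ih, ← push (Nat.le_add_right n 1) (seq n).x]
      congr 1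
      rw [Functor.ofSequence_map_homOfLE_succ]
      exact (η_x ch).symm
  have natD : ∀ {n m : ℕ} (h : n ≤ m) {Y Y' : C} (g : Y ⟶ Y') (y : (seq n).M.obj Y),
      (seq m).M.map g ((D.map (homOfLE h)).app Y y) = (D.map (homOfLE h)).app Y' ((seq n).M.map g y) :=
    fun h Y Y' g y => (ConcreteCategory.congr_hom ((D.map (homOfLE h)).naturality g) y).symm
  have hco : IsCofiltered (colimit D).Elements :=
    { cone_objs := fun a b => by
        obtain ⟨n, y, hy⟩ := surj a.2
        obtain ⟨n', y', hy'⟩ := surj b.2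
        obtain ⟨U, u, p, q, hp, hq⟩ := exists_over (seq (max n n')).cofiltered
          ((D.map (homOfLE (le_max_left n n'))).app _ y) ((D.map (homOfLE (le_max_right n n'))).app _ y')
        exact ⟨⟨U, ι _ u⟩, CategoryOfElements.homMk _ _ p (by
            show (colimit D).map p (ι _ u) = a.2
            rw [ι_map, hp, push, hy]),
          CategoryOfElements.homMk _ _ q (by
            show (colimit D).map q (ι _ u) = b.2
            rw [ι_map, hq, push, hy']), trivial⟩
      cone_maps := fun a b f g => by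
        obtain ⟨n, y, hy⟩ := surj a.2
        obtain ⟨m, hm, e⟩ := eq_stage ((seq n).M.map f.1 y) ((seq n).M.map g.1 y) (by
          rw [← ι_map, ← ι_map, hy]; exact f.2.trans g.2.symm)
        rw [← natD, ← natD] at e
        obtain ⟨U, u, r, hr, hrr⟩ := exists_eq (seq m).cofiltered _ _ _ e
        exact ⟨⟨U, ι m u⟩, CategoryOfElements.homMk _ _ r (by
          show (colimit D).map r (ι m u) = a.2
          rw [ι_map, hr, push, hy]), CategoryOfElements.ext _ _ _ hrr⟩
      nonempty := ⟨⟨X, ι 0 (seq 0).x⟩⟩ }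
  let Φ : GrothendieckTopology.Point.{u} J :=
    { fiber := colimit D
      isCofiltered := hco
      initiallySmall := initiallySmall_of_essentiallySmall _
      jointly_surjective := fun {Y} R hR z => by
        obtain ⟨n, y, hy⟩ := surj z
        obtain ⟨Z, g, hg, w, hw⟩ := η_lift ch (σ := seq n) Y y R hR
        refine ⟨Z, g, hg, ι (n + 1) w, ?_⟩
        rw [ι_map, ← hy, ← push (Nat.le_add_right n 1) y, Functor.ofSequence_map_homOfLE_succ]
        exact congrArg (ι (n + 1)) hw }
  refine ⟨Φ, ι 0 (seq 0).x, fun Y g hg z hz => ?_⟩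
  obtain ⟨n, y, hy⟩ := surj z
  have hz' : (colimit D).map g z = ι 0 (seq 0).x := hz
  rw [← hy, ι_map, ← hx n] at hz'
  obtain ⟨m, hm, e⟩ := eq_stage _ _ hz'
  rw [← natD] at e
  have pushx : ∀ k n, (D.map (homOfLE (Nat.le_add_right n k))).app X (seq n).x = (seq (n + k)).x := by
    intro k n
    induction k with
    | zero =>
      exact ConcreteCategory.congr_hom (NatTrans.congr_app (D.map_id n) X) (seq n).x
    | succ j ih =>
      refine (ConcreteCategory.congr_hom (NatTrans.congr_app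
        (D.map_comp (homOfLE (Nat.le_add_right n j)) (homOfLE (Nat.le_add_right (n + j) 1))) X) (seq n).x).trans ?_
      refine (congrArg ((D.map (homOfLE (Nat.le_add_right (n + j) 1))).app X) ih).trans ?_
      exact (ConcreteCategory.congr_hom (NatTrans.congr_app
        (Functor.ofSequence_map_homOfLE_succ (fun n => η ch (seq n)) (n + j)) X) _).trans (η_x ch)
  have hxm : (D.map (homOfLE hm)).app X (seq n).x = (seq m).x := by
    obtain ⟨k, rfl⟩ := Nat.exists_eq_add_of_le hm
    exact pushx k n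
  refine (seq m).good Y _ g (e.trans hxm) (J.superset_covering ?_ (J.top_mem Y))
  intro Z k _
  exact S.downward_closed hg k

/-- Deligne: a site with finite limits and finitary covers has enough points. -/
theorem hasEnoughPoints (hJ : ∀ (U : C) (S : Sieve U), S ∈ J U →
    ∃ (n : ℕ) (V : Fin n → C) (g : ∀ k, V k ⟶ U), (∀ k, S (g k)) ∧ Sieve.ofArrows V g ∈ J U) :
    GrothendieckTopology.HasEnoughPoints.{u} J := by
  choose n V g hg hcov using fun (Y : C) (R : {R : Sieve Y // R ∈ J Y}) => hJ Y R.1 R.2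
  let ch : Choice J := ⟨n, V, g, hg, hcov⟩
  let I := Σ Y : C, {S : Sieve Y // S ∉ J Y}
  choose Φ x hΦ using fun i : I => exists_point i.2.2 ch
  refine ⟨ObjectProperty.ofObj Φ, inferInstance, ObjectProperty.IsConservativeFamilyOfPoints.mk' ?_⟩
  intro Y T hT
  by_contra h
  obtain ⟨Z, f, hf, z, hz⟩ := hT ⟨Φ ⟨Y, T, h⟩, .mk _⟩ (x ⟨Y, T, h⟩)
  exact hΦ ⟨Y, T, h⟩ Z f hf z hz

end Groth.Agent.H15Site.Deligne
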