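import Groth.Agent.H16Derived.DerAdj
import Mathlib.Algebra.Homology.DerivedCategory.KInjective
import Mathlib.Algebra.Homology.DerivedCategory.ExactFunctor
import Mathlib.Algebra.Homology.DerivedCategory.DerivabilityStructureInjectives
import Mathlib.Algebra.Homology.DerivedCategory.Plus

/-!
# Full faithfulness on `D⁺` of the functor induced by an exact left adjoint

For `P ⊣ F` with `P` exact, `P.mapDerivedCategory` is fully faithful on bounded below objects iff for
bounded below injective complexes `I`, `J` and a quasi-isomorphism `P I ⟶ J` the adjunct `I ⟶ F J` is a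
quasi-isomorphism.
-/

set_option autoImplicit false
set_option linter.style.haveILetI false

universe w w' v v' u u'

open CategoryTheory CategoryTheory.Limits DerivedCategory DerivedCategory.TStructure

namespace Groth.Agent.H15Site.DerivedFF

section Conj

variable {C : Type u} [Category.{v} C] {D : Type u'} [Category.{v'} D]

/-- Bijectivity on morphisms is invariant under isomorphisms. -/
theorem bijective_map_congr (F : C ⥤ D) {K K' L L' : C} (e : K ≅ K') (e' : L ≅ L')
    (h : Function.Bijective (F.map : (K ⟶ L) → _)) : Function.Bijective (F.map : (K' ⟶ L') → _) := by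
  have : (F.map : (K' ⟶ L') → _) =
      ((F.mapIso e).homCongr (F.mapIso e')) ∘ (F.map : (K ⟶ L) → _) ∘ (e.homCongr e').symm := by
    funext g
    simp [Iso.homCongr, ← Functor.map_comp]
  rw [this]
  exact (Equiv.bijective _).comp (h.comp (Equiv.bijective _))

end Conj

variable {A : Type u} [Category.{v} A] [Abelian A] [HasDerivedCategory.{w} A]
  {B : Type u'} [Category.{v'} B] [Abelian B] [HasDerivedCategory.{w'} B]

variable (B) in
/-- Equal in the derived category is homotopic, for maps to a K-injective complex. -/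
theorem Q_map_eq_iff {K L : CochainComplex B ℤ} [L.IsKInjective] (x y : K ⟶ L) :
    Q.map x = Q.map y ↔ (HomotopyCategory.quotient B (ComplexShape.up ℤ)).map x =
      (HomotopyCategory.quotient B (ComplexShape.up ℤ)).map y := by
  have e := fun z : K ⟶ L => quotientCompQhIso_inv_naturality z
  constructor
  · intro h
    refine (CochainComplex.IsKInjective.Qh_map_bijective _ L).injective ?_
    rw [← cancel_epi ((quotientCompQhIso B).inv.app K), ← e, ← e, h]
  · intro h
    rw [← cancel_mono ((quotientCompQhIso B).inv.app L), e, e, h]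

variable (B) in
theorem Q_map_surjective {K L : CochainComplex B ℤ} [L.IsKInjective] (y : Q.obj K ⟶ Q.obj L) :
    ∃ x : K ⟶ L, Q.map x = y := by
  obtain ⟨z, hz⟩ := (CochainComplex.IsKInjective.Qh_map_bijective _ L).surjective
    ((quotientCompQhIso B).hom.app K ≫ y ≫ (quotientCompQhIso B).inv.app L)
  obtain ⟨x, rfl⟩ := (HomotopyCategory.quotient B (ComplexShape.up ℤ)).map_surjective z
  refine ⟨x, ?_⟩
  rw [← cancel_mono ((quotientCompQhIso B).inv.app L), quotientCompQhIso_inv_naturality, hz]
  simp

variable {P : A ⥤ B} {F : B ⥤ A} [P.Additive] [F.Additive] (adj : P ⊣ F)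

local notation "cP" => P.mapHomologicalComplex (ComplexShape.up ℤ)
local notation "cF" => F.mapHomologicalComplex (ComplexShape.up ℤ)

/-- The adjunct of a morphism of complexes. -/
noncomputable def adjunct {I : CochainComplex A ℤ} {J : CochainComplex B ℤ} (a : (cP).obj I ⟶ J) :
    I ⟶ (cF).obj J :=
  (H16Derived.mapHomologicalComplexAdj adj (ComplexShape.up ℤ)).homEquiv I J a

omit [HasDerivedCategory.{w} A] [HasDerivedCategory.{w'} B] in
theorem adjunct_f {I : CochainComplex A ℤ} {J : CochainComplex B ℤ} (a : (cP).obj I ⟶ J) (i : ℤ) :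
    (adjunct adj a).f i = adj.unit.app (I.X i) ≫ F.map (a.f i) := rfl

omit [HasDerivedCategory.{w} A] [HasDerivedCategory.{w'} B] in
/-- Homotopy classes correspond under the adjunction. -/
theorem quotient_eq_iff {K : CochainComplex A ℤ} {J : CochainComplex B ℤ} (x y : (cP).obj K ⟶ J) :
    (HomotopyCategory.quotient B (ComplexShape.up ℤ)).map x = (HomotopyCategory.quotient B (ComplexShape.up ℤ)).map y ↔
      (HomotopyCategory.quotient A (ComplexShape.up ℤ)).map (adjunct adj x) =
        (HomotopyCategory.quotient A (ComplexShape.up ℤ)).map (adjunct adj y) := by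
  let a := H16Derived.mapHomologicalComplexAdj adj (ComplexShape.up ℤ)
  constructor
  · intro h
    simp only [adjunct, Adjunction.homEquiv_unit]
    exact HomotopyCategory.eq_of_homotopy _ _
      ((F.mapHomotopy (HomotopyCategory.homotopyOfEq _ _ h)).compLeft _)
  · intro h
    rw [← (a.homEquiv K J).symm_apply_apply x, ← (a.homEquiv K J).symm_apply_apply y]
    simp only [Adjunction.homEquiv_counit]
    exact HomotopyCategory.eq_of_homotopy _ _
      ((P.mapHomotopy (HomotopyCategory.homotopyOfEq _ _ h)).compRight _)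

omit [HasDerivedCategory.{w} A] [HasDerivedCategory.{w'} B] in
theorem adjunct_naturality {K I : CochainComplex A ℤ} {J : CochainComplex B ℤ} (g : K ⟶ I)
    (a : (cP).obj I ⟶ J) : adjunct adj ((cP).map g ≫ a) = g ≫ adjunct adj a :=
  (H16Derived.mapHomologicalComplexAdj adj (ComplexShape.up ℤ)).homEquiv_naturality_left g a

/-- The criterion. -/
def Good : Prop :=
  ∀ (I : CochainComplex A ℤ) (n : ℤ) (_ : I.IsStrictlyGE n) (_ : ∀ i, Injective (I.X i))
    (J : CochainComplex B ℤ) (m : ℤ) (_ : J.IsStrictlyGE m) (_ : ∀ i, Injective (J.X i))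
    (a : (cP).obj I ⟶ J), QuasiIso a → QuasiIso (adjunct adj a)

variable [PreservesFiniteLimits P] [PreservesFiniteColimits P]

theorem Q_comp {K I : CochainComplex A ℤ} {J : CochainComplex B ℤ} (a : (cP).obj I ⟶ J) (g : K ⟶ I) :
    Q.map ((cP).map g ≫ a) = P.mapDerivedCategoryFactors.inv.app K ≫ P.mapDerivedCategory.map (Q.map g) ≫
      P.mapDerivedCategoryFactors.hom.app I ≫ Q.map a := by
  rw [P.mapDerivedCategoryFactors_hom_naturality_assoc, Iso.inv_hom_id_app_assoc, ← Functor.map_comp]

include adj in
omit [HasDerivedCategory.{w} A] [HasDerivedCategory.{w'} B] [PreservesFiniteLimits P] [PreservesFiniteColimits P] in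
theorem isKInjective_map [P.PreservesMonomorphisms] (J : CochainComplex B ℤ) (m : ℤ) [J.IsStrictlyGE m]
    (hJ : ∀ i, Injective (J.X i)) : CochainComplex.IsKInjective ((cF).obj J) := by
  have : CochainComplex.IsStrictlyGE ((cF).obj J) m := by
    rw [CochainComplex.isStrictlyGE_iff]
    exact fun i hi => F.map_isZero (CochainComplex.isZero_of_isStrictlyGE J m i hi)
  have : ∀ i, Injective (((cF).obj J).X i) := fun i =>
    haveI := hJ i
    Injective.injective_of_adjoint adj (J.X i)
  exact CochainComplex.isKInjective_of_injective _ m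

variable [EnoughInjectives A] [EnoughInjectives B]

include adj in
/-- Sufficiency. -/
theorem bijective_map (h : Good adj) (K : DerivedCategory A) (L : DerivedCategory A) (n : ℤ) [L.IsGE n] :
    Function.Bijective fun g : K ⟶ L => P.mapDerivedCategory.map g := by
  obtain ⟨L₀, _, ⟨eL⟩⟩ := DerivedCategory.exists_iso_Q_obj_of_isGE L n
  obtain ⟨I, i, hi, hI, _⟩ := CochainComplex.Plus.modelCategoryQuillen.exists_quasiIso_injective L₀ n
  haveI := hI
  haveI : I.IsKInjective := CochainComplex.isKInjective_of_injective I n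
  haveI : CochainComplex.IsStrictlyGE ((cP).obj I) n := by
    rw [CochainComplex.isStrictlyGE_iff]
    exact fun j hj => P.map_isZero (CochainComplex.isZero_of_isStrictlyGE I n j hj)
  obtain ⟨J, a, ha, hJ, _⟩ := CochainComplex.Plus.modelCategoryQuillen.exists_quasiIso_injective ((cP).obj I) n
  haveI := hJ
  haveI : J.IsKInjective := CochainComplex.isKInjective_of_injective J n
  haveI : CochainComplex.IsKInjective ((cF).obj J) := isKInjective_map adj J n hJ
  obtain ⟨K₀, ⟨eK⟩⟩ : ∃ K₀, Nonempty (Q.obj K₀ ≅ K) := ⟨_, ⟨Q.objObjPreimageIso K⟩⟩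
  haveI : IsIso (Q.map i) := inferInstance
  refine bijective_map_congr P.mapDerivedCategory eK ((asIso (Q.map i)).symm ≪≫ eL.symm) ?_
  have hq : IsIso ((HomotopyCategory.quotient A (ComplexShape.up ℤ)).map (adjunct adj a)) :=
    Localization.inverts (HomotopyCategory.quotient A (ComplexShape.up ℤ))
      (HomologicalComplex.homotopyEquivalences A (ComplexShape.up ℤ)) _
      ((CochainComplex.IsKInjective.quasiIso_iff _).1 (h I n inferInstance hI J n inferInstance hJ a ha))
  constructor
  · intro g g' hgg
    obtain ⟨x, rfl⟩ := Q_map_surjective A g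
    obtain ⟨y, rfl⟩ := Q_map_surjective A g'
    have h1 : Q.map ((cP).map x ≫ a) = Q.map ((cP).map y ≫ a) := by rw [Q_comp, Q_comp, hgg]
    rw [Q_map_eq_iff, quotient_eq_iff adj, adjunct_naturality, adjunct_naturality,
      Functor.map_comp, Functor.map_comp, cancel_mono] at h1
    exact (Q_map_eq_iff A x y).2 h1
  · intro y
    obtain ⟨z, hz⟩ := Q_map_surjective B
      (P.mapDerivedCategoryFactors.inv.app K₀ ≫ y ≫ P.mapDerivedCategoryFactors.hom.app I ≫ Q.map a)
    obtain ⟨x, hx⟩ := (HomotopyCategory.quotient A (ComplexShape.up ℤ)).map_surjective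
      ((HomotopyCategory.quotient A (ComplexShape.up ℤ)).map (adjunct adj z) ≫
        inv ((HomotopyCategory.quotient A (ComplexShape.up ℤ)).map (adjunct adj a)))
    refine ⟨Q.map x, ?_⟩
    have h1 : Q.map ((cP).map x ≫ a) = Q.map z := by
      rw [Q_map_eq_iff, quotient_eq_iff adj, adjunct_naturality, Functor.map_comp, hx]
      simp
    rw [Q_comp, hz, cancel_epi, cancel_mono] at h1
    exact h1

omit [EnoughInjectives A] [EnoughInjectives B] in
/-- Necessity. -/
theorem good_of_bijective_map
    (h : ∀ K L : DerivedCategory.Plus A, Function.Bijective fun g : K.obj ⟶ L.obj => P.mapDerivedCategory.map g) :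
    Good adj := by
  intro I n _ hI J m _ hJ a ha
  haveI := hI
  haveI := hJ
  haveI : I.IsKInjective := CochainComplex.isKInjective_of_injective I n
  haveI : J.IsKInjective := CochainComplex.isKInjective_of_injective J m
  haveI : CochainComplex.IsKInjective ((cF).obj J) := isKInjective_map adj J m hJ
  haveI := ha
  haveI : IsIso (Q.map a) := inferInstance
  have hP : ∀ (K : CochainComplex A ℤ) (k : ℤ) [K.IsStrictlyGE k],
      t.plus (Q.obj K) := fun K k _ => ⟨k, inferInstanceAs ((Q.obj K).IsGE k)⟩
  have hb : ∀ (K : CochainComplex A ℤ) (k : ℤ) [K.IsStrictlyGE k],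
      Function.Bijective fun g : Q.obj K ⟶ Q.obj I => P.mapDerivedCategory.map g := fun K k _ =>
    h ⟨Q.obj K, hP K k⟩ ⟨Q.obj I, hP I n⟩
  haveI : CochainComplex.IsStrictlyGE ((cF).obj J) m := by
    rw [CochainComplex.isStrictlyGE_iff]
    exact fun i hi => F.map_isZero (CochainComplex.isZero_of_isStrictlyGE J m i hi)
  let q := HomotopyCategory.quotient A (ComplexShape.up ℤ)
  let ε := (H16Derived.mapHomologicalComplexAdj adj (ComplexShape.up ℤ)).counit.app J
  obtain ⟨y, hy⟩ := (hb ((cF).obj J) m).surjective (P.mapDerivedCategoryFactors.hom.app _ ≫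
    Q.map ε ≫ inv (Q.map a) ≫ P.mapDerivedCategoryFactors.inv.app I)
  obtain ⟨g, rfl⟩ := Q_map_surjective A y
  have h1 : Q.map ((cP).map g ≫ a) = Q.map ε := by
    rw [Q_comp, show P.mapDerivedCategory.map (Q.map g) = _ from hy]
    simp
  rw [Q_map_eq_iff, quotient_eq_iff adj, adjunct_naturality,
    show adjunct adj ε = 𝟙 _ from Equiv.apply_symm_apply
      ((H16Derived.mapHomologicalComplexAdj adj (ComplexShape.up ℤ)).homEquiv ((cF).obj J) J) (𝟙 _) ▸
      congrArg (adjunct adj) (by simp [ε, Adjunction.homEquiv_counit])] at h1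
  have h2 : Q.map ((cP).map (adjunct adj a ≫ g) ≫ a) = Q.map ((cP).map (𝟙 I) ≫ a) := by
    rw [Q_map_eq_iff, quotient_eq_iff adj, adjunct_naturality, adjunct_naturality, Category.assoc,
      Category.id_comp, Functor.map_comp, h1, CategoryTheory.Functor.map_id, Category.comp_id]
  rw [Q_comp, Q_comp, cancel_epi, cancel_mono] at h2
  have h3 := (Q_map_eq_iff A _ _).1 ((hb I n).injective h2)
  haveI : IsIso (q.map (adjunct adj a)) :=
    ⟨q.map g, by rw [← q.map_comp]; exact h3.trans (q.map_id _), by
      rw [← q.map_comp]; exact h1.trans (q.map_id _)⟩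
  rw [← DerivedCategory.isIso_Q_map_iff_quasiIso]
  exact (NatIso.isIso_map_iff (quotientCompQhIso A) (adjunct adj a)).1
    (inferInstanceAs (IsIso (Qh.map (q.map (adjunct adj a)))))

end Groth.Agent.H15Site.DerivedFF
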