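import Groth.Agent.H15Site.CoskHomotopy
import Mathlib

/-!
# Combinatorial homotopies from families indexed by simplices of the interval
-/

set_option linter.style.haveILetI false

open CategoryTheory CategoryTheory.Limits Opposite Simplicial

universe v u

namespace Groth.Agent.H15Site.IntervalHomotopy

open CoskHomotopy (T T_apply δ_apply σ_apply)

variable {E : Type u} [Category.{v} E] {U V : SimplicialObject E} (F G : U ⟶ V)

/-- A family indexed by maps to the interval gives a combinatorial homotopy. -/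
theorem nonempty_homotopy_of_family (H : ∀ (m : ℕ), (⦋m⦌ ⟶ ⦋1⦌) → (U _⦋m⦌ ⟶ V _⦋m⦌))
    (hnat : ∀ (m m' : ℕ) (g : ⦋m'⦌ ⟶ ⦋m⦌) (t : ⦋m⦌ ⟶ ⦋1⦌),
        U.map g.op ≫ H m' (g ≫ t) = H m t ≫ V.map g.op)
    (h0 : ∀ m, H m (SimplexCategory.const ⦋m⦌ ⦋1⦌ 0) = F.app (op ⦋m⦌))
    (h1 : ∀ m, H m (SimplexCategory.const ⦋m⦌ ⦋1⦌ 1) = G.app (op ⦋m⦌)) :
    Nonempty (SimplicialObject.Homotopy F G) := by
  let h : ∀ {m : ℕ} (i : Fin (m + 1)), U _⦋m⦌ ⟶ V _⦋m + 1⦌ := fun {m} i =>
    U.σ i ≫ H (m + 1) (T i)
  have key : ∀ {m m' : ℕ} (g : ⦋m'⦌ ⟶ ⦋m + 1⦌) (i : Fin (m + 1)),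
      h i ≫ V.map g.op = U.map (g ≫ SimplexCategory.σ i).op ≫ H m' (g ≫ T i) := by
    intro m m' g i
    simp only [h, Category.assoc, ← hnat, SimplicialObject.σ, op_comp, Functor.map_comp]
  have key' : ∀ {m m' : ℕ} (g : ⦋m⦌ ⟶ ⦋m'⦌) (i : Fin (m + 1)),
      U.map g.op ≫ h i = U.map (SimplexCategory.σ i ≫ g).op ≫ H (m + 1) (T i) := by
    intro m m' g i
    simp only [h, SimplicialObject.σ, op_comp, Functor.map_comp, Category.assoc]
  refine ⟨⟨fun {m} i => h i, ?_, ?_, ?_, ?_, ?_, ?_, ?_⟩⟩
  · intro m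
    rw [SimplicialObject.δ, key, ← Fin.castSucc_zero, SimplexCategory.δ_comp_σ_self]
    simp only [op_id, CategoryTheory.Functor.map_id, Category.id_comp]
    rw [← h1]
    congr 1
  · intro m
    rw [SimplicialObject.δ, key, ← Fin.succ_last, SimplexCategory.δ_comp_σ_succ]
    simp only [op_id, CategoryTheory.Functor.map_id, Category.id_comp]
    rw [← h0]
    congr 1
    ext j : 3
    simp only [SimplexCategory.comp_toOrderHom, OrderHom.comp_coe, Function.comp_apply, T_apply, δ_apply]
    exact if_pos (by simp [Fin.succAbove_last, Fin.le_last, Fin.succ_last])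
  · intro m i j hij
    rw [SimplicialObject.δ, SimplicialObject.δ, key, key', SimplexCategory.δ_comp_σ_of_le hij]
    congr 2
    ext k : 3
    simp only [SimplexCategory.comp_toOrderHom, OrderHom.comp_coe, Function.comp_apply, T_apply,
      δ_apply, σ_apply]
    exact if_congr (by
      change _ ≤ _ ↔ _ ≤ _
      simp only [Fin.le_def, Fin.lt_def, val_succAbove, val_predAbove, Fin.val_castSucc,
        Fin.val_succ] at *
      split_ifs <;> omega) rfl rfl
  · intro m j
    rw [SimplicialObject.δ, key, key, SimplexCategory.δ_comp_σ_self' (by rfl),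
      SimplexCategory.δ_comp_σ_succ' (by rfl)]
    congr 2
    ext k : 3
    simp only [SimplexCategory.comp_toOrderHom, OrderHom.comp_coe, Function.comp_apply, T_apply,
      δ_apply, σ_apply]
    exact if_congr (by
      change _ ≤ _ ↔ _ ≤ _
      simp only [Fin.le_def, Fin.lt_def, val_succAbove, val_predAbove, Fin.val_castSucc,
        Fin.val_succ] at *
      split_ifs <;> omega) rfl rfl
  · intro m i j hij
    rw [SimplicialObject.δ, SimplicialObject.δ, key, key', SimplexCategory.δ_comp_σ_of_gt hij]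
    congr 2
    ext k : 3
    simp only [SimplexCategory.comp_toOrderHom, OrderHom.comp_coe, Function.comp_apply, T_apply,
      δ_apply, σ_apply]
    exact if_congr (by
      change _ ≤ _ ↔ _ ≤ _
      simp only [Fin.le_def, Fin.lt_def, val_succAbove, val_predAbove, Fin.val_castSucc,
        Fin.val_succ] at *
      split_ifs <;> omega) rfl rfl
  · intro m i j hij
    rw [SimplicialObject.σ, SimplicialObject.σ, key, key', SimplexCategory.σ_comp_σ hij]
    congr 2
    ext k : 3
    simp only [SimplexCategory.comp_toOrderHom, OrderHom.comp_coe, Function.comp_apply, T_apply,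
      δ_apply, σ_apply]
    exact if_congr (by
      change _ ≤ _ ↔ _ ≤ _
      simp only [Fin.le_def, Fin.lt_def, val_succAbove, val_predAbove, Fin.val_castSucc,
        Fin.val_succ] at *
      split_ifs <;> omega) rfl rfl
  · intro m i j hij
    rw [SimplicialObject.σ, SimplicialObject.σ, key, key', ← SimplexCategory.σ_comp_σ hij]
    congr 2
    ext k : 3
    simp only [SimplexCategory.comp_toOrderHom, OrderHom.comp_coe, Function.comp_apply, T_apply,
      δ_apply, σ_apply]
    exact if_congr (by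
      change _ ≤ _ ↔ _ ≤ _
      simp only [Fin.le_def, Fin.lt_def, val_succAbove, val_predAbove, Fin.val_castSucc,
        Fin.val_succ] at *
      split_ifs <;> omega) rfl rfl


/-- Cech objects of formal coproducts: any two maps induced by refinements are homotopic. -/
theorem nonempty_homotopy_cech {D : Type u} [Category.{v} D] [HasFiniteProducts D]
    {A B : FormalCoproduct.{u} D} (f g : A ⟶ B) :
    Nonempty (SimplicialObject.Homotopy (FormalCoproduct.cechFunctor.map f) (FormalCoproduct.cechFunctor.map g)) := by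
  let k : Fin 2 → (A ⟶ B) := fun a => if a = 0 then f else g
  have hl := fun m : ℕ => FormalCoproduct.isLimitPowerFan B (Fin (m + 1))
  let H : ∀ m : ℕ, (⦋m⦌ ⟶ ⦋1⦌) → (A.power (Fin (m + 1)) ⟶ B.power (Fin (m + 1))) := fun m t =>
    Fan.IsLimit.lift (hl m) (fun a => A.powerπ a ≫ k (t.toOrderHom a))
  have hH : ∀ m t (a : Fin (m + 1)), H m t ≫ B.powerπ a = A.powerπ a ≫ k (t.toOrderHom a) :=
    fun m t a => Fan.IsLimit.fac (hl m) _ a
  have hpm : ∀ (m : ℕ) (φ : A ⟶ B) (a : Fin (m + 1)),
      FormalCoproduct.powerMap φ (Fin (m + 1)) ≫ B.powerπ a = A.powerπ a ≫ φ := fun m φ a => by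
    fapply FormalCoproduct.hom_ext
    · rfl
    · intro i
      simp [FormalCoproduct.powerπ, FormalCoproduct.powerMap]
      exact Pi.map_π _ _
  refine nonempty_homotopy_of_family _ _ H (fun m m' p t => ?_) (fun m => ?_) (fun m => ?_)
  · refine Fan.IsLimit.hom_ext (hl m') _ _ fun a => ?_
    change (A.mapPower p.toOrderHom.toFun ≫ H m' (p ≫ t)) ≫ B.powerπ a =
      (H m t ≫ B.mapPower p.toOrderHom.toFun) ≫ B.powerπ a
    rw [Category.assoc, Category.assoc, FormalCoproduct.mapPower_π, hH, hH,
      FormalCoproduct.mapPower_π_assoc]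
    rfl
  · refine Fan.IsLimit.hom_ext (hl m) _ _ fun a => ?_
    exact (hH m _ a).trans (hpm m f a).symm
  · refine Fan.IsLimit.hom_ext (hl m) _ _ fun a => ?_
    exact (hH m _ a).trans (hpm m g a).symm

end Groth.Agent.H15Site.IntervalHomotopy
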