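import Groth.Prelude.Def_SpSeq
import Mathlib.Algebra.Homology.SpectralObject.SpectralSequence
import Mathlib.Algebra.Homology.SpectralObject.FirstPage
import Mathlib.CategoryTheory.Abelian.Refinements
import Mathlib.Data.Int.Interval

/-!
# The abutment of the `E₂` spectral sequence of a first quadrant spectral object

For a first quadrant spectral object `X` indexed by `EInt` in an abelian category, the `E₂`
spectral sequence `X.E₂SpectralSequence` abuts to `H^n(⊥ ≤ ⊤)` with a finite filtration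
`F^p H^n = im (H^n(⊥ ≤ n - p + 1) → H^n(⊥ ≤ ⊤))`.
-/

set_option linter.style.haveILetI false
set_option linter.unusedSectionVars false
set_option backward.isDefEq.respectTransparency false

universe v u

open CategoryTheory CategoryTheory.Limits CategoryTheory.Abelian CategoryTheory.ComposableArrows

namespace Groth.Agent.H15Site.SpAbutment

open CategoryTheory.Abelian.SpectralObject

variable {C : Type u} [Category.{v} C] [Abelian C]

/-- Morphisms between composable arrows in a preorder are unique. -/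
lemma hom_eq {ι : Type*} [Preorder ι] {k : ℕ} {D D' : ComposableArrows ι k} (f g : D ⟶ D') :
    f = g := NatTrans.ext (funext fun _ => Subsingleton.elim _ _)

variable (X : SpectralObject C EInt)

/-- `H^n(i ≤ j)`. -/
noncomputable abbrev Hij (n : ℤ) {i j : EInt} (h : i ≤ j) : C := (X.H n).obj (mk₁ (homOfLE h))

/-- The map `H^n(i ≤ j) → H^n(i' ≤ j')` for `i ≤ i'`, `j ≤ j'`. -/
noncomputable def Hmap (n : ℤ) {i j i' j' : EInt} (h : i ≤ j) (h' : i' ≤ j')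
    (hi : i ≤ i') (hj : j ≤ j') : Hij X n h ⟶ Hij X n h' :=
  (X.H n).map (homMk₁ (homOfLE hi) (homOfLE hj) (Subsingleton.elim _ _))

lemma Hmap_comp (n : ℤ) {i j i' j' i'' j'' : EInt} (h : i ≤ j) (h' : i' ≤ j') (h'' : i'' ≤ j'')
    (hi : i ≤ i') (hj : j ≤ j') (hi' : i' ≤ i'') (hj' : j' ≤ j'') :
    Hmap X n h h' hi hj ≫ Hmap X n h' h'' hi' hj' =
      Hmap X n h h'' (hi.trans hi') (hj.trans hj') := by
  rw [Hmap, Hmap, Hmap, ← Functor.map_comp]
  congr 1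

lemma isIso_map_of_isIso (n : ℤ) {i j i' j' : EInt} (h : i ≤ j) (h' : i' ≤ j')
    (hi : i = i') (hj : j = j') (φ : mk₁ (homOfLE h) ⟶ mk₁ (homOfLE h')) :
    IsIso ((X.H n).map φ) := by
  subst hi hj
  rw [hom_eq φ (𝟙 _), (X.H n).map_id]
  try infer_instance

lemma isIso_map_right (n : ℤ) {i j k : EInt} (h : i ≤ j) (h' : j ≤ k)
    (h₁ : IsZero (Hij X (n - 1) h')) (h₂ : IsZero (Hij X n h'))
    (φ : mk₁ (homOfLE h) ⟶ mk₁ (homOfLE (h.trans h'))) : IsIso ((X.H n).map φ) := by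
  rw [hom_eq φ (twoδ₂Toδ₁ (homOfLE h) (homOfLE h') _ (homOfLE_comp h h'))]
  have : Epi ((X.H n).map (twoδ₂Toδ₁ (homOfLE h) (homOfLE h') _ (homOfLE_comp h h'))) :=
    (X.exact₂ _ _ _ (homOfLE_comp h h') n).epi_f (h₂.eq_of_tgt _ _)
  have : Mono ((X.H n).map (twoδ₂Toδ₁ (homOfLE h) (homOfLE h') _ (homOfLE_comp h h'))) :=
    (X.exact₁ _ _ _ (homOfLE_comp h h') (n - 1) n).mono_g (h₁.eq_of_src _ _)
  exact isIso_of_mono_of_epi _

lemma isIso_map_left (n : ℤ) {i j k : EInt} (h : i ≤ j) (h' : j ≤ k)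
    (h₁ : IsZero (Hij X n h)) (h₂ : IsZero (Hij X (n + 1) h))
    (φ : mk₁ (homOfLE (h.trans h')) ⟶ mk₁ (homOfLE h')) : IsIso ((X.H n).map φ) := by
  rw [hom_eq φ (twoδ₁Toδ₀ (homOfLE h) (homOfLE h') _ (homOfLE_comp h h'))]
  exact X.isIso_H_map_twoδ₁Toδ₀ n (n + 1) rfl _ _ _ _ h₁ h₂

lemma isZero_neg [X.IsFirstQuadrant] (n : ℤ) (hn : n < 0) : IsZero (Hij X n (bot_le : (⊥ : EInt) ≤ ⊤)) :=
  (X.exact₂ (homOfLE (bot_le : (⊥ : EInt) ≤ ((0 : ℤ) : EInt)))
    (homOfLE (le_top : ((0 : ℤ) : EInt) ≤ ⊤)) _ (homOfLE_comp _ _) n).isZero_of_both_zeros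
    ((X.isZero₁_of_isFirstQuadrant _ _ _ le_rfl n).eq_of_src _ _)
    ((X.isZero₂_of_isFirstQuadrant _ _ _ n (by simpa using hn)).eq_of_tgt _ _)

variable {H : ℤ → C} (e : ∀ n : ℤ, Hij X n (bot_le : (⊥ : EInt) ≤ ⊤) ≅ H n)

/-- The map `H^n(⊥ ≤ q) → H n`. -/
noncomputable def toAb (n q : ℤ) : Hij X n (bot_le : (⊥ : EInt) ≤ (q : EInt)) ⟶ H n :=
  Hmap X n _ _ le_rfl le_top ≫ (e n).hom

lemma Hmap_toAb (n q q' : ℤ) (h : q ≤ q') :
    Hmap X n (bot_le : (⊥ : EInt) ≤ (q : EInt)) (bot_le : (⊥ : EInt) ≤ (q' : EInt)) le_rfl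
      (by simpa using h) ≫ toAb X e n q' = toAb X e n q := by
  rw [toAb, toAb, ← Category.assoc, Hmap_comp]

/-- The filtration on the abutment. -/
noncomputable def fil (n p : ℤ) : Subobject (H n) := imageSubobject (toAb X e n (n - p + 1))

lemma fil_anti (n : ℤ) : Antitone (fil X e n) := by
  intro p p' h
  exact SpSeq.FilCx.imageSubobject_le_of_fac _
    (Hmap_toAb X e n (n - p' + 1) (n - p + 1) (by lia))

/-- `n - (p + 1) + 1 ≤ n - p + 1` in `EInt`. -/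
lemma le_succ' (n p : ℤ) :
    ((n - (p + 1) + 1 : ℤ) : EInt) ≤ ((n - p + 1 : ℤ) : EInt) := by simp; lia

lemma factorThru_ofLE (n p : ℤ) :
    factorThruImageSubobject (toAb X e n (n - (p + 1) + 1)) ≫
      (fil X e n (p + 1)).ofLE (fil X e n p) (fil_anti X e n (Int.le_add_one le_rfl)) =
    Hmap X n (bot_le : (⊥ : EInt) ≤ ((n - (p + 1) + 1 : ℤ) : EInt))
      (bot_le : (⊥ : EInt) ≤ ((n - p + 1 : ℤ) : EInt)) le_rfl (le_succ' n p) ≫
      factorThruImageSubobject (toAb X e n (n - p + 1)) := by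
  rw [← cancel_mono (fil X e n p).arrow, Category.assoc, Subobject.ofLE_arrow]
  unfold fil
  rw [imageSubobject_arrow_comp, Category.assoc, imageSubobject_arrow_comp, Hmap_toAb]
  lia

/-- The projection `H^n(⊥ ≤ n - p + 1) → gr^p H n`. -/
noncomputable def toGr (n p : ℤ) :
    Hij X n (bot_le : (⊥ : EInt) ≤ ((n - p + 1 : ℤ) : EInt)) ⟶
      SpSeq.grPiece (fil X e n) (fil_anti X e n) p :=
  factorThruImageSubobject (toAb X e n (n - p + 1)) ≫ cokernel.π _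

instance (n p : ℤ) : Epi (toGr X e n p) := by
  unfold toGr SpSeq.grPiece SpSeq.subquot; infer_instance

/-- `E^n(⊥ ≤ q ≤ q + 1 ≤ ⊤)`, with `q = n - p`. -/
noncomputable abbrev EInfty (n p : ℤ) : C :=
  X.E (homOfLE (bot_le : (⊥ : EInt) ≤ ((n - (p + 1) + 1 : ℤ) : EInt)))
    (homOfLE (le_succ' n p))
    (homOfLE (le_top : ((n - p + 1 : ℤ) : EInt) ≤ ⊤)) (n - 1) n (n + 1)

lemma map_toGr (n p : ℤ) (φ : mk₁ (homOfLE (bot_le : (⊥ : EInt) ≤ ((n - (p + 1) + 1 : ℤ) : EInt))) ⟶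
      mk₁ (homOfLE (bot_le : (⊥ : EInt) ≤ ((n - p + 1 : ℤ) : EInt)))) :
    (X.H n).map φ ≫ toGr X e n p = 0 := by
  have h := factorThru_ofLE X e n p
  rw [hom_eq φ (homMk₁ (homOfLE le_rfl) (homOfLE (le_succ' n p)) (Subsingleton.elim _ _))]
  rw [Hmap] at h
  rw [toGr, ← Category.assoc, ← h, Category.assoc, cokernel.condition, comp_zero]

lemma δ_factorThru (n p : ℤ) :
    X.δ (homOfLE (bot_le : (⊥ : EInt) ≤ ((n - p + 1 : ℤ) : EInt))) (homOfLE le_top) (n - 1) n ≫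
      factorThruImageSubobject (toAb X e n (n - p + 1)) = 0 := by
  rw [← cancel_mono (imageSubobject (toAb X e n (n - p + 1))).arrow, Category.assoc,
    imageSubobject_arrow_comp, zero_comp, toAb, Hmap,
    hom_eq (homMk₁ _ _ _) (twoδ₂Toδ₁ (homOfLE bot_le) (homOfLE le_top) _ (homOfLE_comp _ _)),
    ← Category.assoc, X.zero₁ _ _ _ _ (n - 1) n, zero_comp]

/-- The map from the `E_∞` term to the graded piece. -/
noncomputable def EToGr (n p : ℤ) : EInfty X n p ⟶ SpSeq.grPiece (fil X e n) (fil_anti X e n) p :=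
  X.descE _ _ _ (homOfLE bot_le) (Subsingleton.elim _ _) (n - 1) n (n + 1) (toGr X e n p)
    (map_toGr X e n p _) (by lia)
    (by rw [toGr, ← Category.assoc, δ_factorThru, zero_comp])

lemma toE_EToGr (n p : ℤ) :
    (X.cokernelSequenceE (homOfLE (bot_le : (⊥ : EInt) ≤ ((n - (p + 1) + 1 : ℤ) : EInt)))
      (homOfLE (le_succ' n p))
      (homOfLE (le_top : ((n - p + 1 : ℤ) : EInt) ≤ ⊤)) (homOfLE bot_le) (Subsingleton.elim _ _)
      (n - 1) n (n + 1)).g ≫ EToGr X e n p = toGr X e n p := by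
  show (X.toCycles _ _ _ _ n ≫ X.πE _ _ _ (n - 1) n (n + 1)) ≫ EToGr X e n p = toGr X e n p
  rw [Category.assoc]
  exact X.toCycles_πE_descE ..

instance (n p : ℤ) : Epi (EToGr X e n p) :=
  epi_of_epi_fac (toE_EToGr X e n p)

instance (n p : ℤ) : Mono (EToGr X e n p) := by
  rw [Preadditive.mono_iff_cancel_zero]
  intro A y hy
  let g : Hij X n (bot_le : (⊥ : EInt) ≤ ((n - p + 1 : ℤ) : EInt)) ⟶ EInfty X n p :=
    X.toCycles _ _ _ (Subsingleton.elim _ _) n ≫ X.πE _ _ _ (n - 1) n (n + 1)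
  have hg : g ≫ EToGr X e n p = toGr X e n p := toE_EToGr X e n p
  have : Epi g := epi_comp _ _
  obtain ⟨A₁, π₁, _, z, hz⟩ := surjective_up_to_refinements_of_epi g y
  have hz' : (z ≫ factorThruImageSubobject (toAb X e n (n - p + 1))) ≫ cokernel.π
      ((fil X e n (p + 1)).ofLE (fil X e n p) (fil_anti X e n (Int.le_add_one le_rfl))) = 0 := by
    rw [toGr] at hg
    rw [Category.assoc, ← hg, ← Category.assoc, ← hz, Category.assoc, hy, comp_zero]
  let T := ShortComplex.mk ((fil X e n (p + 1)).ofLE (fil X e n p)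
    (fil_anti X e n (Int.le_add_one le_rfl))) (cokernel.π _) (cokernel.condition _)
  obtain ⟨A₂, π₂, _, w, hw⟩ := (ShortComplex.exact_of_g_is_cokernel T
    (cokernelIsCokernel _)).exact_up_to_refinements (z ≫ _) hz'
  obtain ⟨A₃, π₃, _, t, ht⟩ := surjective_up_to_refinements_of_epi
    (factorThruImageSubobject (toAb X e n (n - (p + 1) + 1))) w
  dsimp [T] at w hw ht
  let x : A₃ ⟶ Hij X n (bot_le : (⊥ : EInt) ≤ ((n - p + 1 : ℤ) : EInt)) :=
    (π₃ ≫ π₂) ≫ z - t ≫ Hmap X n bot_le bot_le le_rfl (le_succ' n p)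
  have hx : x ≫ (X.H n).map (twoδ₂Toδ₁ (homOfLE (bot_le : (⊥ : EInt) ≤ ((n - p + 1 : ℤ) : EInt)))
      (homOfLE le_top) _ (homOfLE_comp _ _)) = 0 := by
    have h1 : x ≫ factorThruImageSubobject (toAb X e n (n - p + 1)) = 0 := by
      rw [Preadditive.sub_comp, Category.assoc t, ← factorThru_ofLE X e n p, sub_eq_zero]
      simp only [Category.assoc] at hw ⊢
      rw [hw, ← Category.assoc, ht, Category.assoc]
    have h2 : x ≫ toAb X e n (n - p + 1) = 0 := by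
      rw [← imageSubobject_arrow_comp (toAb X e n (n - p + 1)), ← Category.assoc, h1, zero_comp]
    rw [← cancel_mono (e n).hom, zero_comp, Category.assoc]
    rw [toAb, Hmap] at h2
    convert h2 using 4
    exact hom_eq _ _
  obtain ⟨A₄, π₄, _, s, hs⟩ :=
    (X.exact₁ _ _ _ (homOfLE_comp _ _) (n - 1) n).exact_up_to_refinements x hx
  change A₄ ⟶ Hij X (n - 1) (le_top : ((n - p + 1 : ℤ) : EInt) ≤ ⊤) at s
  change π₄ ≫ x = s ≫ X.δ _ _ (n - 1) n at hs
  let S := X.cokernelSequenceE (homOfLE (bot_le : (⊥ : EInt) ≤ ((n - (p + 1) + 1 : ℤ) : EInt)))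
      (homOfLE (le_succ' n p))
      (homOfLE (le_top : ((n - p + 1 : ℤ) : EInt) ≤ ⊤)) (homOfLE bot_le) (Subsingleton.elim _ _)
      (n - 1) n (n + 1)
  have key : (π₄ ≫ π₃ ≫ π₂) ≫ z = biprod.lift (π₄ ≫ t) s ≫ S.f := by
    show _ = biprod.lift _ _ ≫ biprod.desc _ _
    rw [biprod.lift_desc, ← hs]
    have e1 : ∀ φ : mk₁ (homOfLE (bot_le : (⊥ : EInt) ≤ ((n - (p + 1) + 1 : ℤ) : EInt))) ⟶
        mk₁ (homOfLE (bot_le : (⊥ : EInt) ≤ ((n - p + 1 : ℤ) : EInt))),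
        (X.H n).map φ = Hmap X n bot_le bot_le le_rfl (le_succ' n p) := fun φ =>
      congrArg _ (hom_eq _ _)
    rw [e1]
    simp [x, Category.assoc]
  rw [← cancel_epi π₁, comp_zero, ← cancel_epi (π₄ ≫ π₃ ≫ π₂), comp_zero, hz, ← Category.assoc,
    key, Category.assoc]
  exact (congrArg (_ ≫ ·) S.zero).trans comp_zero

/-- The `E_∞` term is the graded piece. -/
noncomputable def EIsoGr (n p : ℤ) :
    EInfty X n p ≅ SpSeq.grPiece (fil X e n) (fil_anti X e n) p :=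
  have := isIso_of_mono_of_epi (EToGr X e n p)
  asIso (EToGr X e n p)

variable [X.IsFirstQuadrant]

/-- For `i₀ ≤ 0` and `i₃` large, `E^n(i₀ ≤ q ≤ q' ≤ i₃)` is the `E_∞` term. -/
noncomputable def EIsoInfty (n : ℤ) {i₀ i₁ i₂ i₃ : EInt} (h₀₁ : i₀ ≤ i₁) (h₁₂ : i₁ ≤ i₂)
    (h₂₃ : i₂ ≤ i₃) (h₀ : i₀ ≤ ((0 : ℤ) : EInt)) (h₃ : ((n : ℤ) : EInt) ≤ i₃) :
    X.E (homOfLE h₀₁) (homOfLE h₁₂) (homOfLE h₂₃) (n - 1) n (n + 1) ≅
      X.E (homOfLE (bot_le : ⊥ ≤ i₁)) (homOfLE h₁₂) (homOfLE (le_top : i₂ ≤ ⊤))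
        (n - 1) n (n + 1) := by
  let α : mk₃ (homOfLE (bot_le : ⊥ ≤ i₁)) (homOfLE h₁₂) (homOfLE h₂₃) ⟶
      mk₃ (homOfLE h₀₁) (homOfLE h₁₂) (homOfLE h₂₃) :=
    homMk₃ (homOfLE bot_le) (homOfLE le_rfl) (homOfLE le_rfl) (homOfLE le_rfl)
      (Subsingleton.elim _ _) (Subsingleton.elim _ _) (Subsingleton.elim _ _)
  let β : mk₃ (homOfLE (bot_le : ⊥ ≤ i₁)) (homOfLE h₁₂) (homOfLE h₂₃) ⟶
      mk₃ (homOfLE (bot_le : ⊥ ≤ i₁)) (homOfLE h₁₂) (homOfLE (le_top : i₂ ≤ ⊤)) :=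
    homMk₃ (homOfLE le_rfl) (homOfLE le_rfl) (homOfLE le_rfl) (homOfLE le_top)
      (Subsingleton.elim _ _) (Subsingleton.elim _ _) (Subsingleton.elim _ _)
  have hlt : ∀ m < n, (m : EInt) < i₃ := fun m hm => lt_of_lt_of_le (by simpa using hm) h₃
  have : IsIso (X.map _ _ _ _ _ _ α (n - 1) n (n + 1)) := by
    refine X.isIso_map _ _ _ _ _ _ α (n - 1) n (n + 1) ?_ ?_ ?_
    · exact isIso_map_of_isIso X _ h₂₃ h₂₃ rfl rfl _
    · exact isIso_map_of_isIso X _ h₁₂ h₁₂ rfl rfl _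
    · exact isIso_map_left X _ bot_le h₀₁ (X.isZero₁_of_isFirstQuadrant _ _ _ h₀ _)
        (X.isZero₁_of_isFirstQuadrant _ _ _ h₀ _) _
  have : IsIso (X.map _ _ _ _ _ _ β (n - 1) n (n + 1)) := by
    refine X.isIso_map _ _ _ _ _ _ β (n - 1) n (n + 1) ?_ ?_ ?_
    · exact isIso_map_right X _ h₂₃ le_top (X.isZero₂_of_isFirstQuadrant _ _ _ _ (hlt _ (by lia)))
        (X.isZero₂_of_isFirstQuadrant _ _ _ _ (hlt _ (by lia))) _
    · exact isIso_map_of_isIso X _ h₁₂ h₁₂ rfl rfl _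
    · exact isIso_map_of_isIso X _ bot_le bot_le rfl rfl _
  let a := asIso (X.map _ _ _ _ _ _ α (n - 1) n (n + 1) (Int.sub_add_cancel n 1) rfl)
  let b := asIso (X.map _ _ _ _ _ _ β (n - 1) n (n + 1) (Int.sub_add_cancel n 1) rfl)
  exact a.symm ≪≫ b

/-- A page from which the position is stationary. -/
def rk (pq : ℤ × ℤ) : ℤ := max 2 (max (pq.2 + 2) (pq.1 + 2))

lemma isZero_page_of_q (r : ℤ) (hr : 2 ≤ r) (pq : ℤ × ℤ) (hq : pq.2 < 0) :
    IsZero ((X.E₂SpectralSequence.page r hr).X pq) :=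
  isZero_spectralSequence_page_X_of_isZero_H' _ _ _ hr _
    (X.isZero₁_of_isFirstQuadrant _ _ _ (by simp; lia) _)

lemma isZero_page_of_p (r : ℤ) (hr : 2 ≤ r) (pq : ℤ × ℤ) (hp : pq.1 < 0) :
    IsZero ((X.E₂SpectralSequence.page r hr).X pq) :=
  isZero_spectralSequence_page_X_of_isZero_H' _ _ _ hr _
    (X.isZero₂_of_isFirstQuadrant _ _ _ _ (by simp; lia))

lemma stationary (pq : ℤ × ℤ) : SpSeq.StationaryAt X.E₂SpectralSequence pq (rk pq) := by
  refine ⟨le_max_left _ _, fun r hr hr' => ⟨?_, ?_⟩⟩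
  · exact (isZero_page_of_p X r hr _ (by
      have : pq.1 + 2 ≤ r := (le_max_right _ _).trans ((le_max_right _ _).trans hr')
      simp only [Prod.fst_sub]; lia)).eq_of_src _ _
  · exact (isZero_page_of_q X r hr _ (by
      have : pq.2 + 2 ≤ r := (le_max_left _ _).trans ((le_max_right _ _).trans hr')
      simp only [Prod.snd_add]; lia)).eq_of_tgt _ _

/-- The stationary value at `(p, q)`, for `p + q = n`, is the `E_∞` term. -/
noncomputable def pageIso (n : ℤ) (pq : ℤ × ℤ) (hn : pq.1 + pq.2 = n) :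
    (X.E₂SpectralSequence.page (rk pq) (le_max_left _ _)).X pq ≅ EInfty X n pq.1 :=
  have h1 : pq.2 + 2 ≤ rk pq := (le_max_left _ _).trans (le_max_right _ _)
  have h2 : pq.1 + 2 ≤ rk pq := (le_max_right _ _).trans (le_max_right _ _)
  X.spectralSequencePageXIso coreE₂Cohomological (rk pq) (le_max_left _ _) pq
    ((pq.2 - rk pq + 2 : ℤ) : EInt) ((n - (pq.1 + 1) + 1 : ℤ) : EInt)
    ((n - pq.1 + 1 : ℤ) : EInt) ((pq.2 + rk pq - 1 : ℤ) : EInt)
    rfl
    (congrArg WithBotTop.coe (by lia)) (congrArg WithBotTop.coe (by lia)) rfl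
    (n - 1) n (n + 1) (by simp; lia) ≪≫
  EIsoInfty X n _ _ _ (by simp; lia) (by simp; lia)

/-- The abutment. -/
noncomputable def abutment : SpSeq.Abutment X.E₂SpectralSequence H where
  fil := fil X e
  anti := fil_anti X e
  rk := rk
  stat := stationary X
  β pq := pageIso X _ pq rfl ≪≫ EIsoGr X e _ _

lemma abutment_isFinite (n : ℤ) : (abutment X e).IsFinite n := by
  refine ⟨⟨0, ?_⟩, ⟨n + 1, ?_⟩⟩
  · show fil X e n 0 = ⊤
    have : Epi (toAb X e n (n - 0 + 1)) := by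
      have : Epi (Hmap X n (bot_le : (⊥ : EInt) ≤ ((n - 0 + 1 : ℤ) : EInt))
          (bot_le : (⊥ : EInt) ≤ ⊤) le_rfl le_top) := by
        rw [Hmap, hom_eq (homMk₁ _ _ _)
          (twoδ₂Toδ₁ (homOfLE bot_le) (homOfLE le_top) _ (homOfLE_comp _ _))]
        exact (X.exact₂ _ _ _ _ n).epi_f
          ((X.isZero₂_of_isFirstQuadrant _ _ _ n (by simp)).eq_of_tgt _ _)
      unfold toAb; infer_instance
    have : Epi (imageSubobject (toAb X e n (n - 0 + 1))).arrow :=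
      epi_of_epi_fac (imageSubobject_arrow_comp _)
    have : IsIso (fil X e n 0).arrow :=
      isIso_of_mono_of_epi (imageSubobject (toAb X e n (n - 0 + 1))).arrow
    exact Subobject.eq_top_of_isIso_arrow _
  · show fil X e n (n + 1) = ⊥
    have : toAb X e n (n - (n + 1) + 1) = 0 :=
      (X.isZero₁_of_isFirstQuadrant _ _ _ (by simp) n).eq_of_src _ _
    simp only [fil, this, imageSubobject_zero]

lemma isBounded : SpSeq.IsBounded X.E₂SpectralSequence := by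
  intro n
  refine (Set.finite_Icc (0 : ℤ) n).subset fun p hp => ?_
  by_contra h
  simp only [Set.mem_Icc, not_and_or, not_le] at h
  rcases h with h | h
  · exact hp (isZero_page_of_p X 2 le_rfl _ h)
  · exact hp (isZero_page_of_q X 2 le_rfl _ (by dsimp; lia))

/-- The existence statement: a first quadrant spectral object with `H^{p+q}(q ≤ q + 1) ≅ E₂ (p, q)`
in the quadrant and total terms `H n` gives a bounded `E₂` spectral sequence with a finite
abutment. -/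
theorem exists_spectralSequence (E₂ : ℤ → ℤ → C)
    (he : ∀ p q : ℤ, 0 ≤ p → 0 ≤ q →
      Nonempty (Hij X (p + q) (show (q : EInt) ≤ ((q + 1 : ℤ) : EInt) by simp) ≅ E₂ p q))
    (hz : ∀ p q : ℤ, ¬ (0 ≤ p ∧ 0 ≤ q) → IsZero (E₂ p q))
    (heH : ∀ n : ℤ, Nonempty (Hij X n (bot_le : (⊥ : EInt) ≤ ⊤) ≅ H n)) :
    ∃ (E : E₂CohomologicalSpectralSequence C) (a : SpSeq.Abutment E H),
      (∀ n, a.IsFinite n) ∧ SpSeq.IsBounded E ∧
      ∀ p q : ℤ, Nonempty ((E.page 2 le_rfl).X (p, q) ≅ E₂ p q) := by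
  refine ⟨X.E₂SpectralSequence, abutment X fun n => Classical.choice (heH n),
    abutment_isFinite X _, isBounded X, fun p q => ?_⟩
  by_cases h : 0 ≤ p ∧ 0 ≤ q
  · exact ⟨X.spectralSequenceFirstPageXIso coreE₂Cohomological (p, q) _ _
      rfl rfl (p + q) rfl ≪≫ (he p q h.1 h.2).some⟩
  · refine ⟨IsZero.iso ?_ (hz p q h)⟩
    rw [not_and_or, not_le, not_le] at h
    rcases h with h | h
    · exact isZero_page_of_p X 2 le_rfl _ h
    · exact isZero_page_of_q X 2 le_rfl _ h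

end Groth.Agent.H15Site.SpAbutment
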