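import Groth.Agent.H15Site.ClosedPushAb
import Groth.Agent.H15Site.CmpThms
import Groth.Agent.H15Site.CohTerminal
import Groth.Agent.H16Derived.AcyclicLES
import Groth.Prelude.Def_CohTop
import Mathlib.Algebra.Homology.DerivedCategory.KInjective
import Mathlib.CategoryTheory.Abelian.Injective.Resolution
import Mathlib.Algebra.Homology.Embedding.CochainComplex

/-!
# `T ↦ H^q(T, F|_T)` as a functor of the space `T` over `S`
-/

universe u

open CategoryTheory CategoryTheory.Limits Opposite TopologicalSpace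

set_option linter.style.haveILetI false
set_option backward.isDefEq.respectTransparency false

namespace Groth.Agent.H15Site.PullCoh

attribute [local instance 10000] SiteInst.hasSheafifySite SiteInst.hasWeakSheafifySite
  SiteInst.hasExtSite SiteInst.enoughInjSite
attribute [local instance] HasDerivedCategory.standard

/-- The adjunction. -/
noncomputable abbrev adjP {X Y : TopCat.{u}} (f : X ⟶ Y) : CohTop.pull f ⊣ CohTop.push f :=
  TopCat.Sheaf.pullbackPushforwardAdjunction AddCommGrpCat.{u} f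

variable {S : TopCat.{u}} (F : CohTop.Ab S)

/-- `F|_T`. -/
noncomputable abbrev G {X : TopCat.{u}} (p : X ⟶ S) : CohTop.Ab X := (CohTop.pull p).obj F

lemma push_comp {X X' : TopCat.{u}} (h : X' ⟶ X) (p : X ⟶ S) :
    CohTop.push h ⋙ CohTop.push p = CohTop.push (h ≫ p) := rfl

/-- The canonical map `F|_T ⟶ h_*(F|_{T'})`. -/
noncomputable def φ {X X' : TopCat.{u}} (h : X' ⟶ X) (p : X ⟶ S) (p' : X' ⟶ S) (hh : h ≫ p = p') :
    G F p ⟶ (CohTop.push h).obj (G F p') :=
  ((adjP p).homEquiv _ _).symm ((adjP p').unit.app F ≫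
    eqToHom (show (CohTop.push p').obj (G F p') = (CohTop.push p).obj ((CohTop.push h).obj (G F p'))
      by subst hh; rfl))

lemma φ_id {X : TopCat.{u}} (p : X ⟶ S) (hh : 𝟙 X ≫ p = p) : φ F (𝟙 X) p p hh = 𝟙 (G F p) := by
  apply ((adjP p).homEquiv _ _).injective
  refine (Equiv.apply_symm_apply _ _).trans ?_
  exact (Category.comp_id _).trans
    ((adjP p).homEquiv_id F).symm

lemma φ_comp {X X' X'' : TopCat.{u}} (k : X'' ⟶ X') (h : X' ⟶ X) (p : X ⟶ S) (p' : X' ⟶ S)
    (p'' : X'' ⟶ S) (hh : h ≫ p = p') (hk : k ≫ p' = p'') (hkh : (k ≫ h) ≫ p = p'') :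
    φ F (k ≫ h) p p'' hkh =
      φ F h p p' hh ≫ (CohTop.push h).map (φ F k p' p'' hk) := by
  subst hh
  subst hk
  apply ((adjP p).homEquiv _ _).injective
  refine (Equiv.apply_symm_apply _ _).trans ?_
  rw [Adjunction.homEquiv_naturality_right, φ, Equiv.apply_symm_apply]
  have h2 := ((adjP (h ≫ p)).homEquiv F ((CohTop.push k).obj (G F (k ≫ h ≫ p)))).apply_symm_apply
    ((adjP (k ≫ h ≫ p)).unit.app F ≫ eqToHom (rfl : (CohTop.push (k ≫ h ≫ p)).obj (G F (k ≫ h ≫ p)) = _))
  rw [Adjunction.homEquiv_unit] at h2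
  refine Eq.trans ?_ ((congrArg (· ≫ (CohTop.push p).map ((CohTop.push h).map
    (φ F k (h ≫ p) (k ≫ h ≫ p) rfl))) (Category.comp_id _)).symm)
  exact h2.symm

/-- The injective resolution of `F|_T`. -/
noncomputable abbrev R {X : TopCat.{u}} (p : X ⟶ S) : CochainComplex (CohTop.Ab X) ℤ :=
  (injectiveResolution (G F p)).cochainComplex

/-- Its augmentation. -/
noncomputable abbrev aug {X : TopCat.{u}} (p : X ⟶ S) :
    (CochainComplex.singleFunctor (CohTop.Ab X) 0).obj (G F p) ⟶ R F p :=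
  (injectiveResolution (G F p)).ι'

/-- The direct image of a resolution. -/
noncomputable abbrev pR {X X' : TopCat.{u}} (h : X' ⟶ X) (p' : X' ⟶ S) :
    CochainComplex (CohTop.Ab X) ℤ :=
  ((CohTop.push h).mapHomologicalComplex (ComplexShape.up ℤ)).obj (R F p')

instance isKInjective_pR {X X' : TopCat.{u}} (h : X' ⟶ X) (p' : X' ⟶ S) :
    (pR F h p').IsKInjective := by
  haveI : ∀ n, Injective ((pR F h p').X n) := fun n =>
    ClosedPushAb.push_injective h ((R F p').X n)
  haveI : (pR F h p').IsStrictlyGE 0 := by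
    rw [CochainComplex.isStrictlyGE_iff]
    intro i hi
    exact (CohTop.push h).map_isZero (CochainComplex.isZero_of_isStrictlyGE _ 0 i hi)
  exact CochainComplex.isKInjective_of_injective _ 0

/-- `φ` on complexes. -/
noncomputable def φCx {X X' : TopCat.{u}} (h : X' ⟶ X) (p : X ⟶ S) (p' : X' ⟶ S) (hh : h ≫ p = p') :
    (CochainComplex.singleFunctor (CohTop.Ab X) 0).obj (G F p) ⟶ pR F h p' :=
  (CochainComplex.singleFunctor (CohTop.Ab X) 0).map (φ F h p p' hh) ≫
    (HomologicalComplex.singleMapHomologicalComplex (CohTop.push h) (ComplexShape.up ℤ) 0).inv.app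
      (G F p') ≫
    ((CohTop.push h).mapHomologicalComplex (ComplexShape.up ℤ)).map (aug F p')

theorem bijective_precomp {X : TopCat.{u}} (p : X ⟶ S) (L : CochainComplex (CohTop.Ab X) ℤ)
    [L.IsKInjective] :
    Function.Bijective (fun g : (HomotopyCategory.quotient _ _).obj (R F p) ⟶
        (HomotopyCategory.quotient _ (ComplexShape.up ℤ)).obj L =>
      (HomotopyCategory.quotient _ _).map (aug F p) ≫ g) := by
  haveI : IsIso (DerivedCategory.Qh.map ((HomotopyCategory.quotient _ _).map (aug F p))) := by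
    haveI : IsIso (DerivedCategory.Q.map (aug F p)) :=
      (DerivedCategory.isIso_Q_map_iff_quasiIso _ _).2 inferInstance
    exact (NatIso.isIso_map_iff (DerivedCategory.quotientCompQhIso _) (aug F p)).2 inferInstance
  constructor
  · intro g g' h
    refine (CochainComplex.IsKInjective.Qh_map_bijective _ L).1 ?_
    exact (cancel_epi (DerivedCategory.Qh.map ((HomotopyCategory.quotient _ _).map (aug F p)))).1
      (by rw [← Functor.map_comp, ← Functor.map_comp]; exact congrArg _ h)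
  · intro f
    obtain ⟨g, hg⟩ := (CochainComplex.IsKInjective.Qh_map_bijective _ L).2
      (inv (DerivedCategory.Qh.map ((HomotopyCategory.quotient _ _).map (aug F p))) ≫
        DerivedCategory.Qh.map f)
    refine ⟨g, (CochainComplex.IsKInjective.Qh_map_bijective _ L).1 ?_⟩
    rw [Functor.map_comp, hg, IsIso.hom_inv_id_assoc]

/-- A lift of `φ`. -/
def IsLift {X X' : TopCat.{u}} (h : X' ⟶ X) (p : X ⟶ S) (p' : X' ⟶ S) (hh : h ≫ p = p')
    (g : R F p ⟶ pR F h p') : Prop :=
  Nonempty (Homotopy (aug F p ≫ g) (φCx F h p p' hh))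

theorem exists_lift {X X' : TopCat.{u}} (h : X' ⟶ X) (p : X ⟶ S) (p' : X' ⟶ S) (hh : h ≫ p = p') :
    ∃ g, IsLift F h p p' hh g := by
  obtain ⟨g, hg⟩ := (bijective_precomp F p (pR F h p')).2
    ((HomotopyCategory.quotient _ _).map (φCx F h p p' hh))
  obtain ⟨g, rfl⟩ := (HomotopyCategory.quotient _ _).map_surjective g
  exact ⟨g, ⟨HomotopyCategory.homotopyOfEq _ _ (((HomotopyCategory.quotient _ _).map_comp _ _).trans hg)⟩⟩

/-- A chosen lift. -/
noncomputable def lift {X X' : TopCat.{u}} (h : X' ⟶ X) (p : X ⟶ S) (p' : X' ⟶ S) (hh : h ≫ p = p') :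
    R F p ⟶ pR F h p' :=
  Classical.choose (exists_lift F h p p' hh)

theorem lift_spec {X X' : TopCat.{u}} (h : X' ⟶ X) (p : X ⟶ S) (p' : X' ⟶ S) (hh : h ≫ p = p') :
    IsLift F h p p' hh (lift F h p p' hh) :=
  Classical.choose_spec (exists_lift F h p p' hh)

theorem homotopy_of_isLift {X X' : TopCat.{u}} {h : X' ⟶ X} {p : X ⟶ S} {p' : X' ⟶ S}
    {hh : h ≫ p = p'} {g g' : R F p ⟶ pR F h p'} (hg : IsLift F h p p' hh g)
    (hg' : IsLift F h p p' hh g') : Nonempty (Homotopy g g') := by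
  refine ⟨HomotopyCategory.homotopyOfEq _ _ ((bijective_precomp F p (pR F h p')).1 ?_)⟩
  show _ ≫ _ = _ ≫ _
  rw [← Functor.map_comp, ← Functor.map_comp]
  exact (HomotopyCategory.eq_of_homotopy _ _ hg.some).trans
    (HomotopyCategory.eq_of_homotopy _ _ hg'.some).symm

theorem isLift_id {X : TopCat.{u}} (p : X ⟶ S) (hh : 𝟙 X ≫ p = p) :
    IsLift F (𝟙 X) p p hh (𝟙 (R F p)) := by
  refine ⟨Homotopy.ofEq ?_⟩
  show aug F p ≫ 𝟙 _ = _
  rw [Category.comp_id, φCx, φ_id, CategoryTheory.Functor.map_id, Category.id_comp]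
  refine HomologicalComplex.from_single_hom_ext ?_
  simp [CochainComplex.singleFunctor, CochainComplex.singleFunctors,
    HomologicalComplex.singleMapHomologicalComplex_inv_app_self]
  exact (Iso.hom_inv_id_assoc _ _).symm

theorem isLift_comp {X X' X'' : TopCat.{u}} (k : X'' ⟶ X') (h : X' ⟶ X) (p : X ⟶ S) (p' : X' ⟶ S)
    (p'' : X'' ⟶ S) (hh : h ≫ p = p') (hk : k ≫ p' = p'') (hkh : (k ≫ h) ≫ p = p'')
    {g : R F p ⟶ pR F h p'} {g' : R F p' ⟶ pR F k p''} (hg : IsLift F h p p' hh g)
    (hg' : IsLift F k p' p'' hk g') :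
    IsLift F (k ≫ h) p p'' hkh
      (g ≫ ((CohTop.push h).mapHomologicalComplex (ComplexShape.up ℤ)).map g') := by
  let P := (CohTop.push h).mapHomologicalComplex (ComplexShape.up ℤ)
  refine ⟨(Homotopy.ofEq (Category.assoc _ _ _).symm).trans
    ((hg.some.compRight (P.map g')).trans ?_)⟩
  have e1 : φCx F h p p' hh ≫ P.map g' =
      ((CochainComplex.singleFunctor (CohTop.Ab X) 0).map (φ F h p p' hh) ≫
        (HomologicalComplex.singleMapHomologicalComplex (CohTop.push h) (ComplexShape.up ℤ) 0).inv.app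
          (G F p')) ≫ P.map (aug F p' ≫ g') := by
    rw [φCx, P.map_comp]
    simp only [Category.assoc]
    rfl
  refine (Homotopy.ofEq e1).trans ((((CohTop.push h).mapHomotopy hg'.some).compLeft _).trans
    (Homotopy.ofEq ?_))
  rw [φCx, φCx, φ_comp F k h p p' p'' hh hk hkh]
  refine HomologicalComplex.from_single_hom_ext ?_
  simp [P, CochainComplex.singleFunctor, CochainComplex.singleFunctors,
    HomologicalComplex.singleMapHomologicalComplex_inv_app_self, HomologicalComplex.single_map_f_self]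
  rfl

/-- Global sections. -/
noncomputable abbrev Γ (X : TopCat.{u}) : CohTop.Ab X ⥤ AddCommGrpCat.{u} :=
  sheafToPresheaf (Opens.grothendieckTopology X) AddCommGrpCat.{u} ⋙
    (evaluation (Opens X)ᵒᵖ AddCommGrpCat.{u}).obj (op ⊤)

instance additive_Γ (X : TopCat.{u}) : (Γ X).Additive where map_add := rfl

/-- Sections of the resolution. -/
noncomputable abbrev ΓR {X : TopCat.{u}} (p : X ⟶ S) : CochainComplex AddCommGrpCat.{u} ℤ :=
  ((Γ X).mapHomologicalComplex (ComplexShape.up ℤ)).obj (R F p)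

/-- The map of complexes of sections of a lift. -/
noncomputable def ΓMap {X X' : TopCat.{u}} {h : X' ⟶ X} {p : X ⟶ S} {p' : X' ⟶ S}
    (g : R F p ⟶ pR F h p') : ΓR F p ⟶ ΓR F p' :=
  ((Γ X).mapHomologicalComplex (ComplexShape.up ℤ)).map g

/-- The functor `T ↦ H^q(T, F|_T)`. -/
noncomputable def A (q : ℕ) : (Over S)ᵒᵖ ⥤ AddCommGrpCat.{u} where
  obj T := (ΓR F T.unop.hom).homology (q : ℤ)
  map {T T'} a := HomologicalComplex.homologyMap
    (ΓMap F (lift F a.unop.left T.unop.hom T'.unop.hom (Over.w a.unop))) (q : ℤ)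
  map_id T := by
    obtain ⟨H⟩ := homotopy_of_isLift F (lift_spec F (𝟙 T.unop.left) T.unop.hom T.unop.hom
      (Category.id_comp _)) (isLift_id F T.unop.hom (Category.id_comp _))
    refine (((Γ _).mapHomotopy H).homologyMap_eq (q : ℤ)).trans ?_
    show HomologicalComplex.homologyMap (((Γ _).mapHomologicalComplex _).map (𝟙 (R F T.unop.hom))) _ = _
    rw [CategoryTheory.Functor.map_id]
    exact HomologicalComplex.homologyMap_id _ _
  map_comp {T T' T''} a b := by
    obtain ⟨H⟩ := homotopy_of_isLift F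
      (lift_spec F (b.unop.left ≫ a.unop.left) T.unop.hom T''.unop.hom (Over.w (b.unop ≫ a.unop)))
      (isLift_comp F b.unop.left a.unop.left T.unop.hom T'.unop.hom T''.unop.hom (Over.w a.unop)
        (Over.w b.unop) (Over.w (b.unop ≫ a.unop))
        (lift_spec F a.unop.left T.unop.hom T'.unop.hom (Over.w a.unop))
        (lift_spec F b.unop.left T'.unop.hom T''.unop.hom (Over.w b.unop)))
    refine (((Γ _).mapHomotopy H).homologyMap_eq (q : ℤ)).trans ?_
    rw [← HomologicalComplex.homologyMap_comp]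
    refine congrArg (fun t => HomologicalComplex.homologyMap t (q : ℤ)) ?_
    exact Functor.map_comp _ _ _

theorem nonempty_A_iso (q : ℕ) (T : Over S) :
    Nonempty ((A F q).obj (op T) ≅ AddCommGrpCat.of (CohTop.H (G F T.hom) q)) := by
  let J := Opens.grothendieckTopology T.left
  let sp := sheafToPresheaf J AddCommGrpCat.{u}
  let ev := (evaluation (Opens T.left)ᵒᵖ AddCommGrpCat.{u}).obj (op ⊤)
  haveI := (sheafificationAdjunction J AddCommGrpCat.{u}).rightAdjoint_preservesLimits
  obtain ⟨e₁⟩ := H16Derived.AcyclicLES.nonempty_rightDerived_iso sp (R F T.hom) 0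
    (fun k => inferInstance) (aug F T.hom) q
  obtain ⟨e₂⟩ := CmpSite.nonempty_rightDerived_sections_iso q (G F T.hom)
  obtain ⟨e₃⟩ := CohTerminal.nonempty_H_addEquiv J (T := (⊤ : Opens T.left))
    (IsTerminal.ofUniqueHom (fun U => homOfLE le_top) (fun _ _ => rfl)) (G F T.hom) q
  let K := ((sp.mapHomologicalComplex (ComplexShape.up ℤ)).obj (R F T.hom))
  exact ⟨((K.sc (q : ℤ)).mapHomologyIso ev) ≪≫ ev.mapIso (e₁.symm ≪≫ e₂) ≪≫ e₃.symm.toAddCommGrpIso⟩

end Groth.Agent.H15Site.PullCoh
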