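import Groth.Agent.H15Site.SplitDescent
import Groth.Agent.H15Site.BaseChange
import Mathlib.CategoryTheory.Abelian.GrothendieckAxioms.Sheaf
import Mathlib.CategoryTheory.Abelian.GrothendieckCategory.EnoughInjectives
import Mathlib.Algebra.Category.Grp.AB
import Mathlib.CategoryTheory.Sites.LocallyBijective

/-!
# Restriction of total sites of diagrams of spaces along open embeddings
-/

set_option autoImplicit false
set_option linter.style.haveILetI false
set_option linter.unusedSectionVars false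
set_option backward.isDefEq.respectTransparency false
set_option backward.isDefEq.respectTransparency.types false

universe u

open CategoryTheory CategoryTheory.Limits Opposite Pseudofunctor Pseudofunctor.CoGrothendieck
open TopologicalSpace Groth.Agent.H15Site.OpensFib Topology

noncomputable section

namespace Groth.Agent.H15Site.OpensRestrict

abbrev Ab := AddCommGrpCat.{u}

section General

variable {C D : Type u} [SmallCategory C] [SmallCategory D]

/-- A component of a right Kan extension of a map is invertible when the map is invertible on the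
comma category. -/
theorem isIso_ran_map_app (L : C ⥤ D) {F₁ F₂ : C ⥤ Ab.{u}} (g : F₁ ⟶ F₂) (X : D)
    (h : ∀ A : StructuredArrow X L, IsIso (g.app A.right)) : IsIso ((L.ran.map g).app X) := by
  let h₁ := L.isPointwiseRightKanExtensionRanCounit F₁ X
  let h₂ := L.isPointwiseRightKanExtensionRanCounit F₂ X
  haveI := h
  let w : StructuredArrow.proj X L ⋙ F₁ ≅ StructuredArrow.proj X L ⋙ F₂ :=
    NatIso.ofComponents (fun A => asIso (g.app A.right)) (fun {A B} f => g.naturality f.right)
  have e : (L.ran.map g).app X = (IsLimit.conePointsIsoOfNatIso h₁ h₂ w).hom := by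
    refine h₂.hom_ext fun A => ?_
    rw [IsLimit.conePointsIsoOfNatIso_hom_comp]
    change (L.ran.map g).app X ≫ (L.ran.obj F₂).map A.hom ≫ (L.ranCounit.app F₂).app A.right =
      ((L.ran.obj F₁).map A.hom ≫ (L.ranCounit.app F₁).app A.right) ≫ g.app A.right
    rw [← NatTrans.naturality_assoc, Category.assoc]
    congr 1
    exact congr_app (L.ranCounit.naturality g) A.right
  rw [e]
  infer_instance

/-- The left Kan extension preserves monomorphisms when the comma categories are cofiltered or empty. -/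
theorem preservesMonomorphisms_sheafPullback (G : C ⥤ D)
    (hG : ∀ Z : D, Nonempty (StructuredArrow Z G) → IsCofiltered (StructuredArrow Z G))
    (J : GrothendieckTopology C) (K : GrothendieckTopology D) [G.IsContinuous J K] :
    (G.sheafPullback Ab.{u} J K).PreservesMonomorphisms := by
  have h1 : (G.op.lan : (Cᵒᵖ ⥤ Ab.{u}) ⥤ Dᵒᵖ ⥤ Ab.{u}).PreservesMonomorphisms := ⟨fun {P Q} t ht => by
    rw [NatTrans.mono_iff_mono_app]
    intro Z
    have hmono : Mono (colimMap (Functor.whiskerLeft (CostructuredArrow.proj G.op Z) t)) := by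
      by_cases hne : Nonempty (CostructuredArrow G.op Z)
      · obtain ⟨A⟩ := hne
        haveI := hG Z.unop ⟨StructuredArrow.mk A.hom.unop⟩
        haveI : IsFiltered (CostructuredArrow G.op Z) :=
          IsFiltered.of_equivalence (structuredArrowOpEquivalence G (unop Z))
        haveI := (NatTrans.mono_iff_mono_app t).1 ht
        haveI : Mono (Functor.whiskerLeft (CostructuredArrow.proj G.op Z) t) :=
          (NatTrans.mono_iff_mono_app _).2 fun A => inferInstanceAs (Mono (t.app _))
        exact (colim (J := CostructuredArrow G.op Z) (C := Ab.{u})).map_mono _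
      · haveI : IsEmpty (CostructuredArrow G.op Z) := not_nonempty_iff.1 hne
        refine ⟨fun a b _ => IsZero.eq_of_tgt ?_ a b⟩
        refine (IsZero.iff_id_eq_zero _).2 (colimit.hom_ext fun A => (IsEmpty.false A).elim)
    have e := (lanEvaluationIsoColim (E := Ab.{u}) G.op Z).hom.naturality t
    have : Mono ((G.op.lan.map t).app Z ≫ (lanEvaluationIsoColim (E := Ab.{u}) G.op Z).hom.app Q) := by
      change Mono ((G.op.lan ⋙ (evaluation _ _).obj Z).map t ≫ _)
      rw [e]
      exact mono_comp' inferInstance hmono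
    exact mono_of_mono _ ((lanEvaluationIsoColim (E := Ab.{u}) G.op Z).hom.app Q)⟩
  haveI := h1
  haveI : (Functor.sheafPullbackConstruction.sheafPullback G Ab.{u} J K).PreservesMonomorphisms :=
    Functor.preservesMonomorphisms_comp _ _
  exact Functor.PreservesMonomorphisms.of_iso (Functor.sheafPullbackConstruction.sheafPullbackIso G Ab.{u} J K).symm

end General

variable {D : Type} [SmallCategory D] {Y Y' : (WithInitial D)ᵒᵖ ⥤ TopCat.{u}} (e : Y' ⟶ Y)
  (he : ∀ k, IsOpenEmbedding (e.app k))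

theorem nat_apply {k l : K D} (b : k ⟶ l) (x : Y'.obj k) :
    e.app l (Y'.map b x) = Y.map b (e.app k x) :=
  ConcreteCategory.congr_hom (e.naturality b) x

/-- The open image functor at an index. -/
abbrev img (k : K D) : Opens (Y'.obj k) ⥤ Opens (Y.obj k) := (he k).isOpenMap.functor

/-- `⟨k, U⟩ ↦ ⟨k, e U⟩`. -/
def Ω : ∫ᶜ (F Y') ⥤ ∫ᶜ (F Y) where
  obj X := obj' X.base ((img e he X.base).obj (fib X))
  map {X Z} f := mkHom _ _ f.base (by
    rintro _ ⟨x, hx, rfl⟩
    exact ⟨Y'.map f.base x, le_of_hom f hx, nat_apply e f.base x⟩)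
  map_id X := hom_ext rfl
  map_comp f g := hom_ext rfl

/-- `⟨k, U⟩ ↦ ⟨k, e⁻¹ U⟩`. -/
def ΩR : ∫ᶜ (F Y) ⥤ ∫ᶜ (F Y') where
  obj X := obj' X.base ((Opens.map (e.app X.base)).obj (fib X))
  map {X Z} f := mkHom _ _ f.base (by
    intro x hx
    change e.app Z.base (Y'.map f.base x) ∈ fib Z
    rw [nat_apply]
    exact le_of_hom f hx)
  map_id X := hom_ext rfl
  map_comp f g := hom_ext rfl

/-- `Ω ⊣ ΩR`. -/
def adjΩ : Ω e he ⊣ ΩR e :=
  Adjunction.mkOfUnitCounit
    { unit :=
        { app := fun X => mkHom _ _ (𝟙 X.base) (by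
            intro x hx
            change e.app X.base (Y'.map (𝟙 X.base) x) ∈ (img e he X.base).obj (fib X)
            rw [Y'.map_id]
            exact ⟨x, hx, rfl⟩)
          naturality := fun _ _ f => hom_ext ((Category.comp_id _).trans (Category.id_comp _).symm) }
      counit :=
        { app := fun X => mkHom _ _ (𝟙 X.base) (by
            rintro _ ⟨x, hx, rfl⟩
            change Y.map (𝟙 X.base) (e.app X.base x) ∈ fib X
            rw [Y.map_id]
            exact hx)
          naturality := fun _ _ f => hom_ext ((Category.comp_id _).trans (Category.id_comp _).symm) }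
      left_triangle := by
        apply NatTrans.ext
        funext X
        refine hom_ext ?_
        simp [mkHom, Ω, ΩR]
        try exact Category.comp_id _
      right_triangle := by
        apply NatTrans.ext
        funext X
        refine hom_ext ?_
        simp [mkHom, Ω, ΩR]
        try exact Category.comp_id _ }

abbrev PY (Y : (WithInitial D)ᵒᵖ ⥤ TopCat.{u}) := FibDesc.part (F Y)

/-- The open set of an object of the plain part. -/
abbrev fibP {Y : (WithInitial D)ᵒᵖ ⥤ TopCat.{u}} (X : ∫ᶜ (PY Y)) :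
    Opens (Y.obj ((FibDesc.toAug D).obj X.base)) := X.fiber

/-- Constructor of objects of the plain part. -/
abbrev objP {Y : (WithInitial D)ᵒᵖ ⥤ TopCat.{u}} (k : Dᵒᵖ) (U : Opens (Y.obj ((FibDesc.toAug D).obj k))) :
    ∫ᶜ (PY Y) := ⟨k, U⟩

theorem le_of_P_hom {Y : (WithInitial D)ᵒᵖ ⥤ TopCat.{u}} {X Z : ∫ᶜ (PY Y)} (f : X ⟶ Z) :
    fibP X ≤ (Opens.map (Y.map ((FibDesc.toAug D).map f.base))).obj (fibP Z) :=
  (show fibP X ⟶ (Opens.map (Y.map ((FibDesc.toAug D).map f.base))).obj (fibP Z) from f.fiber).le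

/-- Constructor of morphisms of the plain part. -/
def mkP {Y : (WithInitial D)ᵒᵖ ⥤ TopCat.{u}} (X Z : ∫ᶜ (PY Y)) (b : X.base ⟶ Z.base)
    (h : fibP X ≤ (Opens.map (Y.map ((FibDesc.toAug D).map b))).obj (fibP Z)) : X ⟶ Z :=
  ⟨b, (show fibP X ⟶ (Opens.map (Y.map ((FibDesc.toAug D).map b))).obj (fibP Z) from homOfLE h)⟩

/-- `Ω` on the plain part. -/
def Ωp : ∫ᶜ (PY Y') ⥤ ∫ᶜ (PY Y) where
  obj X := objP X.base ((img e he _).obj (fibP X))
  map {X Z} f := mkP _ _ f.base (by
    rintro _ ⟨x, hx, rfl⟩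
    exact ⟨Y'.map ((FibDesc.toAug D).map f.base) x, le_of_P_hom f hx, nat_apply e _ x⟩)
  map_id X := part_hom_ext rfl
  map_comp f g := part_hom_ext rfl

/-- `ΩR` on the plain part. -/
def ΩpR : ∫ᶜ (PY Y) ⥤ ∫ᶜ (PY Y') where
  obj X := objP X.base ((Opens.map (e.app _)).obj (fibP X))
  map {X Z} f := mkP _ _ f.base (by
    intro x hx
    change e.app _ (Y'.map ((FibDesc.toAug D).map f.base) x) ∈ fibP Z
    rw [nat_apply]
    exact le_of_P_hom f hx)
  map_id X := part_hom_ext rfl
  map_comp f g := part_hom_ext rfl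

/-- `Ωp ⊣ ΩpR`. -/
def adjΩp : Ωp e he ⊣ ΩpR e :=
  Adjunction.mkOfUnitCounit
    { unit :=
        { app := fun X => mkP _ _ (𝟙 X.base) (by
            intro x hx
            change e.app _ (Y'.map ((FibDesc.toAug D).map (𝟙 X.base)) x) ∈ (img e he _).obj (fibP X)
            rw [(FibDesc.toAug D).map_id, Y'.map_id]
            exact ⟨x, hx, rfl⟩)
          naturality := fun _ _ f => part_hom_ext ((Category.comp_id _).trans (Category.id_comp _).symm) }
      counit :=
        { app := fun X => mkP _ _ (𝟙 X.base) (by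
            rintro _ ⟨x, hx, rfl⟩
            change Y.map ((FibDesc.toAug D).map (𝟙 X.base)) (e.app _ x) ∈ fibP X
            rw [(FibDesc.toAug D).map_id, Y.map_id]
            exact hx)
          naturality := fun _ _ f => part_hom_ext ((Category.comp_id _).trans (Category.id_comp _).symm) }
      left_triangle := by
        apply NatTrans.ext
        funext X
        refine part_hom_ext ?_
        simp [mkP, Ωp, ΩpR]
        try exact Category.comp_id _
      right_triangle := by
        apply NatTrans.ext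
        funext X
        refine part_hom_ext ?_
        simp [mkP, Ωp, ΩpR]
        try exact Category.comp_id _ }

instance isContinuous_Ω : (Ω e he).IsContinuous (FibDesc.totAug (F Y') (J Y')) (FibDesc.totAug (F Y) (J Y)) := by
  rw [Groth.Agent.H14FibSite.isContinuous_total_iff (isPreFibSite Y')]
  intro k
  haveI := (he k).functor_isContinuous
  have := Groth.Agent.H14FibSite.isContinuous_ι (isPreFibSite Y) k
  exact Functor.isContinuous_comp' (F₁ := img e he k) (F₂ := ι (F Y) k)
    (NatIso.ofComponents (fun U => Iso.refl _)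
      (fun {U V} r => hom_ext ((Category.comp_id _).trans (Category.id_comp _).symm)))
    (Opens.grothendieckTopology (Y'.obj k)) (Opens.grothendieckTopology (Y.obj k)) _

instance isContinuous_ΩR : (ΩR e).IsContinuous (FibDesc.totAug (F Y) (J Y)) (FibDesc.totAug (F Y') (J Y')) := by
  rw [Groth.Agent.H14FibSite.isContinuous_total_iff (isPreFibSite Y)]
  intro k
  have := Groth.Agent.H14FibSite.isContinuous_ι (isPreFibSite Y') k
  exact Functor.isContinuous_comp' (F₁ := Opens.map (e.app k)) (F₂ := ι (F Y') k)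
    (NatIso.ofComponents (fun U => Iso.refl _)
      (fun {U V} r => hom_ext ((Category.comp_id _).trans (Category.id_comp _).symm)))
    (Opens.grothendieckTopology (Y.obj k)) (Opens.grothendieckTopology (Y'.obj k)) _

instance isContinuous_Ωp :
    (Ωp e he).IsContinuous (FibDesc.totPart (F Y') (J Y')) (FibDesc.totPart (F Y) (J Y)) := by
  rw [Groth.Agent.H14FibSite.isContinuous_total_iff (isPreFibSite_part Y')]
  intro k
  haveI := (he ((FibDesc.toAug D).obj k)).functor_isContinuous
  haveI : (ι (PY Y) k).IsContinuous (Opens.grothendieckTopology (Y.obj ((FibDesc.toAug D).obj k)))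
      (FibDesc.totPart (F Y) (J Y)) := Groth.Agent.H14FibSite.isContinuous_ι (isPreFibSite_part Y) k
  exact Functor.isContinuous_comp' (F₁ := img e he ((FibDesc.toAug D).obj k)) (F₂ := ι (PY Y) k)
    (NatIso.ofComponents (fun U => Iso.refl _)
      (fun {U V} r => part_hom_ext ((Category.comp_id _).trans (Category.id_comp _).symm)))
    (Opens.grothendieckTopology (Y'.obj ((FibDesc.toAug D).obj k)))
    (Opens.grothendieckTopology (Y.obj ((FibDesc.toAug D).obj k))) _

instance isContinuous_ΩpR :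
    (ΩpR e).IsContinuous (FibDesc.totPart (F Y) (J Y)) (FibDesc.totPart (F Y') (J Y')) := by
  rw [Groth.Agent.H14FibSite.isContinuous_total_iff (isPreFibSite_part Y)]
  intro k
  haveI : (ι (PY Y') k).IsContinuous (Opens.grothendieckTopology (Y'.obj ((FibDesc.toAug D).obj k)))
      (FibDesc.totPart (F Y') (J Y')) := Groth.Agent.H14FibSite.isContinuous_ι (isPreFibSite_part Y') k
  exact Functor.isContinuous_comp' (F₁ := Opens.map (e.app ((FibDesc.toAug D).obj k))) (F₂ := ι (PY Y') k)
    (NatIso.ofComponents (fun U => Iso.refl _)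
      (fun {U V} r => part_hom_ext ((Category.comp_id _).trans (Category.id_comp _).symm)))
    (Opens.grothendieckTopology (Y.obj ((FibDesc.toAug D).obj k)))
    (Opens.grothendieckTopology (Y'.obj ((FibDesc.toAug D).obj k))) _

instance isContinuous_ω : (img e he (FibDesc.bot D)).IsContinuous
    (J Y' (FibDesc.bot D)) (J Y (FibDesc.bot D)) :=
  (he _).functor_isContinuous

/-- Base sheaves. -/
abbrev B₀ (Y : (WithInitial D)ᵒᵖ ⥤ TopCat.{u}) := Sheaf (J Y (FibDesc.bot D)) Ab.{u}

abbrev jT : SplitDescent.T Y ⥤ SplitDescent.T Y' :=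
  (Ω e he).sheafPushforwardContinuous Ab.{u} (FibDesc.totAug (F Y') (J Y')) (FibDesc.totAug (F Y) (J Y))

abbrev rT : SplitDescent.T Y' ⥤ SplitDescent.T Y :=
  (ΩR e).sheafPushforwardContinuous Ab.{u} (FibDesc.totAug (F Y) (J Y)) (FibDesc.totAug (F Y') (J Y'))

abbrev jP : SplitDescent.P₀ Y ⥤ SplitDescent.P₀ Y' :=
  (Ωp e he).sheafPushforwardContinuous Ab.{u} (FibDesc.totPart (F Y') (J Y')) (FibDesc.totPart (F Y) (J Y))

abbrev rP : SplitDescent.P₀ Y' ⥤ SplitDescent.P₀ Y :=
  (ΩpR e).sheafPushforwardContinuous Ab.{u} (FibDesc.totPart (F Y) (J Y)) (FibDesc.totPart (F Y') (J Y'))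

abbrev jB : B₀ Y ⥤ B₀ Y' :=
  (img e he (FibDesc.bot D)).sheafPushforwardContinuous Ab.{u} (J Y' (FibDesc.bot D)) (J Y (FibDesc.bot D))

abbrev rB : B₀ Y' ⥤ B₀ Y :=
  (Opens.map (e.app (FibDesc.bot D))).sheafPushforwardContinuous Ab.{u} (J Y (FibDesc.bot D)) (J Y' (FibDesc.bot D))

abbrev adT : jT e he ⊣ rT e := (adjΩ e he).sheafPushforwardContinuous (E := Ab.{u}) _ _

abbrev adP : jP e he ⊣ rP e := (adjΩp e he).sheafPushforwardContinuous (E := Ab.{u}) _ _

abbrev adB : jB e he ⊣ rB e :=
  haveI : ((he (FibDesc.bot D)).isOpenMap.functor).IsContinuous (J Y' (FibDesc.bot D)) (J Y (FibDesc.bot D)) :=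
    isContinuous_ω e he
  ((he (FibDesc.bot D)).isOpenMap.adjunction).sheafPushforwardContinuous (E := Ab.{u}) _ _

instance isIso_counit_P : IsIso (adP e he).counit := by
  rw [NatTrans.isIso_iff_isIso_app]
  intro M
  rw [← isIso_iff_of_reflects_iso _ (sheafToPresheaf _ _), NatTrans.isIso_iff_isIso_app]
  intro X
  have : IsIso ((adjΩp e he).unit.app X.unop) := by
    refine ⟨mkP _ _ (𝟙 _) ?_, part_hom_ext (Category.comp_id _), part_hom_ext (Category.comp_id _)⟩
    intro x hx
    change Y'.map ((FibDesc.toAug D).map (𝟙 _)) x ∈ fibP X.unop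
    rw [(FibDesc.toAug D).map_id, Y'.map_id]
    obtain ⟨y, hy, hyx⟩ := hx
    exact (he _).injective hyx ▸ hy
  exact inferInstanceAs (IsIso (M.obj.map ((adjΩp e he).unit.app X.unop).op))

instance isIso_counit_B : IsIso (adB e he).counit := by
  rw [NatTrans.isIso_iff_isIso_app]
  intro M
  rw [← isIso_iff_of_reflects_iso _ (sheafToPresheaf _ _), NatTrans.isIso_iff_isIso_app]
  intro U
  have : IsIso (((he (FibDesc.bot D)).isOpenMap.adjunction).unit.app U.unop) := by
    refine ⟨homOfLE (fun x hx => ?_), Subsingleton.elim _ _, Subsingleton.elim _ _⟩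
    obtain ⟨y, hy, hyx⟩ := hx
    exact (he _).injective hyx ▸ hy
  exact inferInstanceAs (IsIso (M.obj.map (((he (FibDesc.bot D)).isOpenMap.adjunction).unit.app U.unop).op))

/-- `incl' ⋙ Ω = Ωp ⋙ incl`. -/
def inclIso : Ωp e he ⋙ FibDesc.incl (F Y) ≅ FibDesc.incl (F Y') ⋙ Ω e he :=
  NatIso.ofComponents (fun _ => Iso.refl _)
    (fun {_ _} f => hom_ext ((Category.comp_id _).trans (Category.id_comp _).symm))

/-- `eps ⋙ ΩR = e⁻¹ ⋙ eps'`. -/
def epsIso : FibDesc.eps (F Y) ⋙ ΩR e ≅ Opens.map (e.app (FibDesc.bot D)) ⋙ FibDesc.eps (F Y') :=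
  NatIso.ofComponents (fun _ => Iso.refl _)
    (fun {_ _} f => hom_ext ((Category.comp_id _).trans (Category.id_comp _).symm))

abbrev pull (Y : (WithInitial D)ᵒᵖ ⥤ TopCat.{u}) : B₀ Y ⥤ SplitDescent.P₀ Y :=
  FibDesc.pull (F Y) (J Y) Ab.{u}

abbrev push (Y : (WithInitial D)ᵒᵖ ⥤ TopCat.{u}) : SplitDescent.P₀ Y ⥤ B₀ Y :=
  FibDesc.push (F Y) (J Y) Ab.{u}

abbrev adj (Y : (WithInitial D)ᵒᵖ ⥤ TopCat.{u}) : pull Y ⊣ push Y := FibDesc.adj (F Y) (J Y) Ab.{u}

abbrev ranS (Y : (WithInitial D)ᵒᵖ ⥤ TopCat.{u}) : SplitDescent.P₀ Y ⥤ SplitDescent.T Y :=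
  (FibDesc.incl (F Y)).sheafPushforwardCocontinuous Ab.{u} (FibDesc.totPart (F Y) (J Y)) (FibDesc.totAug (F Y) (J Y))

/-- Right Kan extension commutes with pushing forward. -/
def ranIso : rP e ⋙ ranS Y ≅ ranS Y' ⋙ rT e :=
  Adjunction.rightAdjointUniq
    (((FibDesc.incl (F Y)).sheafAdjunctionCocontinuous Ab.{u} (FibDesc.totPart (F Y) (J Y))
      (FibDesc.totAug (F Y) (J Y))).comp (adP e he))
    (((adT e he).comp ((FibDesc.incl (F Y')).sheafAdjunctionCocontinuous Ab.{u} (FibDesc.totPart (F Y') (J Y'))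
      (FibDesc.totAug (F Y') (J Y')))).ofNatIsoLeft
      (haveI := Functor.isContinuous_comp (Ωp e he) (FibDesc.incl (F Y)) (FibDesc.totPart (F Y') (J Y'))
          (FibDesc.totPart (F Y) (J Y)) (FibDesc.totAug (F Y) (J Y))
       Functor.sheafPushforwardContinuousComp' (inclIso e he).symm Ab.{u} (FibDesc.totPart (F Y') (J Y'))
          (FibDesc.totAug (F Y') (J Y')) (FibDesc.totAug (F Y) (J Y)) ≪≫
        (Functor.sheafPushforwardContinuousComp (Ωp e he) (FibDesc.incl (F Y)) Ab.{u}
          (FibDesc.totPart (F Y') (J Y')) (FibDesc.totPart (F Y) (J Y)) (FibDesc.totAug (F Y) (J Y))).symm))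

/-- Restriction to the base commutes with pushing forward. -/
def restrIso : rT e ⋙ SplitDescent.restr Y ≅ SplitDescent.restr Y' ⋙ rB e :=
  haveI := isContinuous_eps Y'
  haveI := isContinuous_eps Y
  haveI := Functor.isContinuous_comp (Opens.map (e.app (FibDesc.bot D))) (FibDesc.eps (F Y'))
    (J Y (FibDesc.bot D)) (J Y' (FibDesc.bot D)) (FibDesc.totAug (F Y') (J Y'))
  Functor.sheafPushforwardContinuousComp' (epsIso e) Ab.{u} (J Y (FibDesc.bot D))
      (FibDesc.totAug (F Y) (J Y)) (FibDesc.totAug (F Y') (J Y')) ≪≫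
    (Functor.sheafPushforwardContinuousComp (Opens.map (e.app (FibDesc.bot D))) (FibDesc.eps (F Y')) Ab.{u}
      (J Y (FibDesc.bot D)) (J Y' (FibDesc.bot D)) (FibDesc.totAug (F Y') (J Y'))).symm

/-- `θ̄_*` commutes with pushing forward. -/
def pushIso : rP e ⋙ push Y ≅ push Y' ⋙ rB e :=
  (Functor.associator _ _ _).symm ≪≫ Functor.isoWhiskerRight (ranIso e he) (SplitDescent.restr Y) ≪≫
    Functor.associator _ _ _ ≪≫ Functor.isoWhiskerLeft (ranS Y') (restrIso e) ≪≫ (Functor.associator _ _ _).symm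

/-- `θ̄^*` commutes with restriction. -/
def pullIso : jB e he ⋙ pull Y' ≅ pull Y ⋙ jP e he :=
  BaseChange.φ (adj Y) (adj Y') (adB e he) (adP e he) (pushIso e he)

variable (hr : ∀ (k : K D) (y : Y.obj k),
  Y.map ((botTerminal (D := D)).from k) y ∈ Set.range (e.app (FibDesc.bot D)) → y ∈ Set.range (e.app k))

include hr in
theorem mem_range_of_hom {Z : ∫ᶜ (PY Y)} {X : ∫ᶜ (F Y')} (f : (FibDesc.incl (F Y)).obj Z ⟶ (Ω e he).obj X)
    {y : Y.obj ((FibDesc.toAug D).obj Z.base)} (hy : y ∈ fibP Z) : y ∈ Set.range (e.app _) := by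
  refine hr _ y ?_
  obtain ⟨x, -, hx⟩ := le_of_hom f hy
  refine ⟨Y'.map ((botTerminal (D := D)).from X.base) x, ?_⟩
  rw [nat_apply, hx]
  have hb : (f.base : (FibDesc.toAug D).obj Z.base ⟶ X.base) ≫ (botTerminal (D := D)).from X.base =
      (botTerminal (D := D)).from _ := bot_ext _ _
  change (Y.map f.base ≫ Y.map ((botTerminal (D := D)).from X.base)) y = _
  rw [← Y.map_comp, hb]
  rfl

include hr in
theorem isIso_jB_push {M M' : SplitDescent.P₀ Y} (g : M ⟶ M') (h : IsIso ((jP e he).map g)) :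
    IsIso ((jB e he).map ((push Y).map g)) := by
  rw [← isIso_iff_of_reflects_iso _ (sheafToPresheaf _ _), NatTrans.isIso_iff_isIso_app]
  intro V
  change IsIso (((FibDesc.incl (F Y)).op.ran.map g.hom).app
    (op ((FibDesc.eps (F Y)).obj ((img e he (FibDesc.bot D)).obj V.unop))))
  refine isIso_ran_map_app _ _ _ fun A => ?_
  let Z : ∫ᶜ (PY Y) := A.right.unop
  have hZ : ∀ y ∈ fibP Z, y ∈ Set.range (e.app _) := fun y hy =>
    mem_range_of_hom e he hr (X := (FibDesc.eps (F Y')).obj V.unop) A.hom.unop hy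
  have hc : IsIso ((adjΩp e he).counit.app Z) := by
    refine ⟨mkP _ _ (𝟙 _) ?_, part_hom_ext (Category.comp_id _), part_hom_ext (Category.comp_id _)⟩
    intro y hy
    change Y.map ((FibDesc.toAug D).map (𝟙 _)) y ∈ (img e he _).obj ((Opens.map (e.app _)).obj (fibP Z))
    rw [(FibDesc.toAug D).map_id, Y.map_id]
    obtain ⟨x, rfl⟩ := hZ y hy
    exact ⟨x, hy, rfl⟩
  have h1 : IsIso (g.hom.app (op ((Ωp e he).obj ((ΩpR e).obj Z)))) :=
    inferInstanceAs (IsIso (((sheafToPresheaf _ _).map ((jP e he).map g)).app (op ((ΩpR e).obj Z))))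
  exact (NatTrans.isIso_app_iff_of_iso g.hom (asIso ((adjΩp e he).counit.app Z).op)).2 h1

include hr in
theorem isIso_θ (M : SplitDescent.P₀ Y) :
    IsIso (BaseChange.θ (adj Y) (adj Y') (pullIso e he) M) :=
  BaseChange.isIso_θ (adj Y) (adj Y') (adB e he) (adP e he) (pullIso e he)
    (fun g hg => isIso_jB_push e he hr g hg) M

include hr in
theorem cofiltered_Ωp (Z : ∫ᶜ (PY Y)) (hne : Nonempty (StructuredArrow Z (Ωp e he))) :
    IsCofiltered (StructuredArrow Z (Ωp e he)) := by
  obtain ⟨A⟩ := hne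
  have hZ : ∀ y ∈ fibP Z, y ∈ Set.range (e.app _) := fun y hy =>
    mem_range_of_hom e he hr (X := (FibDesc.incl (F Y')).obj A.right)
      ((FibDesc.incl (F Y)).map A.hom) hy
  let Z₀ : ∫ᶜ (PY Y') := (ΩpR e).obj Z
  let z : Z ⟶ (Ωp e he).obj Z₀ := mkP _ _ (𝟙 Z.base) (by
    intro y hy
    change Y.map ((FibDesc.toAug D).map (𝟙 _)) y ∈ (img e he _).obj (fibP Z₀)
    rw [(FibDesc.toAug D).map_id, Y.map_id]
    obtain ⟨x, rfl⟩ := hZ y hy
    exact ⟨x, hy, rfl⟩)
  have lift : ∀ B : StructuredArrow Z (Ωp e he), ∃ _ : StructuredArrow.mk z ⟶ B, True := fun B =>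
    ⟨StructuredArrow.homMk ((ΩpR e).map B.hom ≫ mkP _ _ (𝟙 _) (by
        intro x hx
        change Y'.map ((FibDesc.toAug D).map (𝟙 _)) x ∈ fibP B.right
        rw [(FibDesc.toAug D).map_id, Y'.map_id]
        obtain ⟨y, hy, hyx⟩ := hx
        exact (he _).injective hyx ▸ hy))
      (part_hom_ext ((Category.id_comp _).trans (Category.comp_id _))), trivial⟩
  haveI : Nonempty (StructuredArrow Z (Ωp e he)) := ⟨A⟩
  haveI : IsCofilteredOrEmpty (StructuredArrow Z (Ωp e he)) :=
    { cone_objs := fun B C => by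
        obtain ⟨f, -⟩ := lift B
        obtain ⟨g, -⟩ := lift C
        exact ⟨_, f, g, trivial⟩
      cone_maps := fun B C a b => by
        obtain ⟨f, -⟩ := lift B
        refine ⟨_, f, StructuredArrow.ext _ _ (part_hom_ext ?_)⟩
        have ha : 𝟙 Z.base ≫ (f ≫ a).right.base = C.hom.base :=
          congrArg CoGrothendieck.Hom.base (StructuredArrow.w (f ≫ a))
        have hb : 𝟙 Z.base ≫ (f ≫ b).right.base = C.hom.base :=
          congrArg CoGrothendieck.Hom.base (StructuredArrow.w (f ≫ b))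
        rw [Category.id_comp] at ha hb
        exact ha.trans hb.symm }
  exact ⟨⟩

theorem cofiltered_ω (U : Opens (Y.obj (FibDesc.bot D)))
    (hne : Nonempty (StructuredArrow U (img e he (FibDesc.bot D)))) :
    IsCofiltered (StructuredArrow U (img e he (FibDesc.bot D))) := by
  haveI := hne
  haveI : IsCofilteredOrEmpty (StructuredArrow U (img e he (FibDesc.bot D))) :=
    { cone_objs := fun B C =>
        ⟨StructuredArrow.mk (Y := B.right ⊓ C.right)
          (show U ⟶ (img e he (FibDesc.bot D)).obj (B.right ⊓ C.right) from homOfLE fun y hy => by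
            obtain ⟨x, hx, rfl⟩ := B.hom.le hy
            obtain ⟨x', hx', e'⟩ := C.hom.le hy
            exact ⟨x, ⟨hx, (he _).injective e' ▸ hx'⟩, rfl⟩),
          StructuredArrow.homMk (homOfLE inf_le_left) (Subsingleton.elim _ _),
          StructuredArrow.homMk (homOfLE inf_le_right) (Subsingleton.elim _ _), trivial⟩
      cone_maps := fun B C a b => ⟨B, 𝟙 B, by
        congr 1
        exact StructuredArrow.ext _ _ (Subsingleton.elim _ _)⟩ }
  exact ⟨⟩

include hr in
theorem injective_jP (M : SplitDescent.P₀ Y) [Injective M] : Injective ((jP e he).obj M) :=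
  haveI := preservesMonomorphisms_sheafPullback (Ωp e he) (cofiltered_Ωp e he hr)
    (FibDesc.totPart (F Y') (J Y')) (FibDesc.totPart (F Y) (J Y))
  Injective.injective_of_adjoint ((Ωp e he).sheafAdjunctionContinuous Ab.{u}
    (FibDesc.totPart (F Y') (J Y')) (FibDesc.totPart (F Y) (J Y))) M

theorem injective_jB (M : B₀ Y) [Injective M] : Injective ((jB e he).obj M) :=
  haveI := preservesMonomorphisms_sheafPullback (img e he (FibDesc.bot D)) (cofiltered_ω e he)
    (J Y' (FibDesc.bot D)) (J Y (FibDesc.bot D))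
  Injective.injective_of_adjoint ((img e he (FibDesc.bot D)).sheafAdjunctionContinuous Ab.{u}
    (J Y' (FibDesc.bot D)) (J Y (FibDesc.bot D))) M

instance : PreservesFiniteLimits (jP e he) :=
  haveI : PreservesLimitsOfSize.{0, 0} (jP e he) := ((Ωp e he).sheafAdjunctionContinuous Ab.{u}
    (FibDesc.totPart (F Y') (J Y')) (FibDesc.totPart (F Y) (J Y))).rightAdjoint_preservesLimits
  PreservesLimitsOfSize.preservesFiniteLimits _

instance : PreservesFiniteColimits (jP e he) :=
  haveI : PreservesColimitsOfSize.{0, 0} (jP e he) := (adP e he).leftAdjoint_preservesColimits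
  PreservesColimitsOfSize.preservesFiniteColimits _

instance : PreservesFiniteLimits (jB e he) :=
  haveI : PreservesLimitsOfSize.{0, 0} (jB e he) := ((img e he (FibDesc.bot D)).sheafAdjunctionContinuous Ab.{u}
    (J Y' (FibDesc.bot D)) (J Y (FibDesc.bot D))).rightAdjoint_preservesLimits
  PreservesLimitsOfSize.preservesFiniteLimits _

instance : PreservesFiniteColimits (jB e he) :=
  haveI : PreservesColimitsOfSize.{0, 0} (jB e he) := (adB e he).leftAdjoint_preservesColimits
  PreservesColimitsOfSize.preservesFiniteColimits _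

end Groth.Agent.H15Site.OpensRestrict
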