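import Groth.Agent.H15Site.OpensFib
import Groth.Agent.H15Site.AdjBC
import Groth.Agent.H15Site.DerivedRetract
import Mathlib.CategoryTheory.Adjunction.Triple
import Mathlib.Topology.Sheaves.SheafCondition.Sites

/-!
# Augmented diagrams of spaces with an extra degeneracy are of cohomological descent

`Y` is an augmented `D`-indexed space, `ψ` an index functor from the augmented to the plain index category
with `d : idx ψ ⟶ 𝟭`, and `h : Y ⟶ idx ψ ⋙ Y` a section of `Y d`.
-/

set_option autoImplicit false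
set_option linter.style.haveILetI false
set_option backward.isDefEq.respectTransparency false
set_option backward.isDefEq.respectTransparency.types false

universe u

open CategoryTheory CategoryTheory.Limits Opposite Pseudofunctor Pseudofunctor.CoGrothendieck
open TopologicalSpace Groth.Agent.H15Site.OpensFib

noncomputable section

namespace Groth.Agent.H15Site.SplitDescent

variable {D : Type} [SmallCategory D] (Y : (WithInitial D)ᵒᵖ ⥤ TopCat.{u}) {ψ : K D ⥤ Dᵒᵖ}
  (d : idx ψ ⟶ 𝟭 (K D))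

/-- `⟨k, U⟩ ↦ ⟨k, (Y d)⁻¹ U⟩`. -/
def L : ∫ᶜ (F Y) ⥤ ∫ᶜ (G Y ψ) where
  obj X := objG X.base ((Opens.map (Y.map (d.app X.base))).obj (fib X))
  map {X Z} f := mkG _ _ f.base (by
    intro x hx
    have h1 := le_of_hom f (show Y.map (d.app X.base) x ∈ fib X from hx)
    change Y.map (d.app Z.base) (Y.map ((idx ψ).map f.base) x) ∈ fib Z
    rw [← ConcreteCategory.comp_apply, ← Y.map_comp, d.naturality, Y.map_comp, ConcreteCategory.comp_apply]
    exact h1)
  map_id X := G_hom_ext rfl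
  map_comp f g := G_hom_ext rfl

instance isContinuous_L : (L Y d).IsContinuous (FibDesc.totAug (F Y) (J Y))
    (FibSite.totalTopology (G Y ψ) (JG Y ψ)) := by
  rw [Groth.Agent.H14FibSite.isContinuous_total_iff (isPreFibSite Y)]
  intro k
  haveI : (ι (G Y ψ) k).IsContinuous (Opens.grothendieckTopology (Y.obj ((idx ψ).obj k)))
      (FibSite.totalTopology (G Y ψ) (JG Y ψ)) :=
    Groth.Agent.H14FibSite.isContinuous_ι (isPreFibSite_G Y ψ) k
  haveI : (Opens.map (Y.map (d.app k))).IsContinuous (Opens.grothendieckTopology (Y.obj k))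
      (Opens.grothendieckTopology (Y.obj ((idx ψ).obj k))) :=
    inferInstanceAs ((Opens.map (show Y.obj ((idx ψ).obj k) ⟶ Y.obj k from Y.map (d.app k))).IsContinuous _ _)
  exact Functor.isContinuous_comp' (F₁ := Opens.map (Y.map (d.app k))) (F₂ := ι (G Y ψ) k)
    (NatIso.ofComponents (fun U => Iso.refl _)
      (fun {U V} r => G_hom_ext ((Category.comp_id _).trans (Category.id_comp _).symm)))
    (Opens.grothendieckTopology (Y.obj k)) (Opens.grothendieckTopology (Y.obj ((idx ψ).obj k))) _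

/-- The two index embeddings composed. -/
abbrev σ' : ∫ᶜ (G Y ψ) ⥤ ∫ᶜ (F Y) := σ Y ψ ⋙ FibDesc.incl (F Y)

instance isContinuous_σ' : (σ' Y (ψ := ψ)).IsContinuous (FibSite.totalTopology (G Y ψ) (JG Y ψ))
    (FibDesc.totAug (F Y) (J Y)) :=
  Functor.isContinuous_comp _ _ _ (FibDesc.totPart (F Y) (J Y)) _

instance isCocontinuous_σ' : (σ' Y (ψ := ψ)).IsCocontinuous (FibSite.totalTopology (G Y ψ) (JG Y ψ))
    (FibDesc.totAug (F Y) (J Y)) :=
  isCocontinuous_comp (σ Y ψ) (FibDesc.incl (F Y)) (K := FibDesc.totPart (F Y) (J Y)) _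

/-- The comparison arrow on the augmented total category. -/
def cArr : L Y d ⋙ σ' Y ⟶ 𝟭 (∫ᶜ (F Y)) where
  app X := mkHom _ X (d.app X.base) (fun _ hx => hx)
  naturality X Z f := hom_ext (d.naturality f.base)

/-- The restriction of `d` to the plain index category. -/
def dPart : FibDesc.toAug D ⋙ ψ ⟶ 𝟭 Dᵒᵖ where
  app i := (FibDesc.toAug D).preimage (d.app ((FibDesc.toAug D).obj i))
  naturality i j f := (FibDesc.toAug D).map_injective (by
    rw [Functor.map_comp, Functor.map_comp, Functor.map_preimage, Functor.map_preimage]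
    exact d.naturality ((FibDesc.toAug D).map f))

/-- The comparison arrow on the plain total category. -/
def cArrPart : FibDesc.incl (F Y) ⋙ L Y d ⋙ σ Y ψ ⟶ 𝟭 (∫ᶜ (FibDesc.part (F Y))) where
  app X := ⟨(dPart d).app X.base,
    (show (show Opens (Y.obj ((idx ψ).obj ((FibDesc.toAug D).obj X.base))) from
        (((FibDesc.incl (F Y) ⋙ L Y d ⋙ σ Y ψ).obj X).fiber)) ⟶
        (Opens.map (Y.map ((FibDesc.toAug D).map ((dPart d).app X.base)))).obj X.fiber from
      homOfLE (by
        intro x hx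
        rw [show (FibDesc.toAug D).map ((dPart d).app X.base) = d.app _ from (FibDesc.toAug D).map_preimage _]
        exact hx))⟩
  naturality X Z f := part_hom_ext ((dPart d).naturality f.base)

theorem incl_cArrPart (X : ∫ᶜ (FibDesc.part (F Y))) :
    (FibDesc.incl (F Y)).map ((cArrPart Y d).app X) = (cArr Y d).app ((FibDesc.incl (F Y)).obj X) :=
  hom_ext ((FibDesc.toAug D).map_preimage _)

variable (h : Y ⟶ idx ψ ⋙ Y) (hd : ∀ k, h.app k ≫ Y.map (d.app k) = 𝟙 (Y.obj k))

include hd in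
theorem hd_apply (k : K D) (x : Y.obj k) : Y.map (d.app k) (h.app k x) = x :=
  ConcreteCategory.congr_hom (hd k) x

/-- `Φ ∘ L = id`. -/
def LΦ : L Y d ⋙ Φ Y h ≅ 𝟭 (∫ᶜ (F Y)) :=
  NatIso.ofComponents (fun X =>
    { hom := mkHom _ _ (𝟙 X.base) (by
        intro x hx
        change Y.map (𝟙 X.base) x ∈ fib X
        rw [Y.map_id]
        exact (hd_apply Y d h hd X.base x) ▸ (show Y.map (d.app X.base) (h.app X.base x) ∈ fib X from hx))
      inv := mkHom _ _ (𝟙 X.base) (by
        intro x hx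
        change Y.map (d.app X.base) (h.app X.base (Y.map (𝟙 X.base) x)) ∈ fib X
        rw [hd_apply Y d h hd, Y.map_id]
        exact hx)
      hom_inv_id := hom_ext (Category.comp_id _)
      inv_hom_id := hom_ext (Category.comp_id _) })
    (fun f => hom_ext ((Category.comp_id _).trans (Category.id_comp _).symm))

abbrev Ab := AddCommGrpCat.{u}

/-- Sheaves on the augmented total site. -/
abbrev T := Sheaf (FibDesc.totAug (F Y) (J Y)) Ab.{u}

/-- Sheaves on the plain total site. -/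
abbrev P₀ := Sheaf (FibDesc.totPart (F Y) (J Y)) Ab.{u}

/-- Sheaves on the pulled back total site. -/
abbrev W (ψ : K D ⥤ Dᵒᵖ) := Sheaf (FibSite.totalTopology (G Y ψ) (JG Y ψ)) Ab.{u}

abbrev inclS : T Y ⥤ P₀ Y :=
  (FibDesc.incl (F Y)).sheafPushforwardContinuous Ab.{u} (FibDesc.totPart (F Y) (J Y)) (FibDesc.totAug (F Y) (J Y))

abbrev σS (ψ : K D ⥤ Dᵒᵖ) : P₀ Y ⥤ W Y ψ :=
  (σ Y ψ).sheafPushforwardContinuous Ab.{u} (FibSite.totalTopology (G Y ψ) (JG Y ψ)) (FibDesc.totPart (F Y) (J Y))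

abbrev σ'S (ψ : K D ⥤ Dᵒᵖ) : T Y ⥤ W Y ψ :=
  (σ' Y (ψ := ψ)).sheafPushforwardContinuous Ab.{u} (FibSite.totalTopology (G Y ψ) (JG Y ψ))
    (FibDesc.totAug (F Y) (J Y))

abbrev LS : W Y ψ ⥤ T Y :=
  (L Y d).sheafPushforwardContinuous Ab.{u} (FibDesc.totAug (F Y) (J Y)) (FibSite.totalTopology (G Y ψ) (JG Y ψ))

abbrev ΦS : T Y ⥤ W Y ψ :=
  (Φ Y h).sheafPushforwardContinuous Ab.{u} (FibSite.totalTopology (G Y ψ) (JG Y ψ)) (FibDesc.totAug (F Y) (J Y))

abbrev ΦP : W Y ψ ⥤ T Y :=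
  (Φ Y h).sheafPullback Ab.{u} (FibSite.totalTopology (G Y ψ) (JG Y ψ)) (FibDesc.totAug (F Y) (J Y))

abbrev adjΦ : ΦP Y h ⊣ ΦS Y h :=
  (Φ Y h).sheafAdjunctionContinuous Ab.{u} (FibSite.totalTopology (G Y ψ) (JG Y ψ)) (FibDesc.totAug (F Y) (J Y))

abbrev ext : Sheaf (J Y (FibDesc.bot D)) Ab.{u} ⥤ T Y := FibSite.extend (F Y) (J Y) Ab.{u} (FibDesc.bot D)

abbrev restr : T Y ⥤ Sheaf (J Y (FibDesc.bot D)) Ab.{u} := FibSite.restr (F Y) (J Y) Ab.{u} (FibDesc.bot D)

abbrev adjE : ext Y ⊣ restr Y :=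
  (FibDesc.eps (F Y)).sheafAdjunctionContinuous Ab.{u} (J Y (FibDesc.bot D)) (FibDesc.totAug (F Y) (J Y))

/-- `N ⟶ L^* σ'^* N`. -/
def cS : 𝟭 (T Y) ⟶ σ'S Y ψ ⋙ LS Y d where
  app N := ⟨{ app := fun X => N.obj.map ((cArr Y d).app X.unop).op
              naturality := fun X Z f => by
                change N.obj.map f ≫ N.obj.map _ = N.obj.map _ ≫ N.obj.map _
                rw [← N.obj.map_comp, ← N.obj.map_comp]
                exact congrArg _ (Quiver.Hom.unop_inj ((cArr Y d).naturality f.unop).symm) }⟩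
  naturality N N' t := by
    ext X : 3
    exact (t.hom.naturality ((cArr Y d).app X.unop).op).symm

/-- `M ⟶ incl^* L^* σ^* M`. -/
def cP : 𝟭 (P₀ Y) ⟶ σS Y ψ ⋙ LS Y d ⋙ inclS Y where
  app M := ⟨{ app := fun X => M.obj.map ((cArrPart Y d).app X.unop).op
              naturality := fun X Z f => by
                change M.obj.map f ≫ M.obj.map _ = M.obj.map _ ≫ M.obj.map _
                rw [← M.obj.map_comp, ← M.obj.map_comp]
                exact congrArg _ (Quiver.Hom.unop_inj ((cArrPart Y d).naturality f.unop).symm) }⟩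
  naturality M M' t := by
    ext X : 3
    exact (t.hom.naturality ((cArrPart Y d).app X.unop).op).symm

theorem cP_inclS (N : T Y) : (cP Y d).app ((inclS Y).obj N) = (inclS Y).map ((cS Y d).app N) := by
  ext X : 3
  change N.obj.map ((FibDesc.incl (F Y)).map ((cArrPart Y d).app X.unop)).op = _
  rw [incl_cArrPart]
  rfl

/-- `L^* Φ_* = id`. -/
def eS : ΦS Y h ⋙ LS Y d ≅ 𝟭 (T Y) :=
  NatIso.ofComponents (fun N => (fullyFaithfulSheafToPresheaf _ _).preimageIso
    (NatIso.ofComponents (fun X => N.obj.mapIso (((LΦ Y d h hd).symm.app X.unop).op))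
      (fun {X Z} f => by
        change N.obj.map _ ≫ N.obj.map _ = N.obj.map _ ≫ N.obj.map _
        rw [← N.obj.map_comp, ← N.obj.map_comp]
        exact congrArg _ (Quiver.Hom.unop_inj ((LΦ Y d h hd).inv.naturality f.unop).symm))))
    (fun {N N'} t => by
      ext X : 3
      exact (t.hom.naturality _).symm)

/-- `N ⟶ Φ^* σ'^* N`. -/
def γ : 𝟭 (T Y) ⟶ σ'S Y ψ ⋙ ΦP Y h :=
  cS Y d ≫ Functor.whiskerLeft (σ'S Y ψ) (Functor.whiskerRight (adjΦ Y h).unit (LS Y d)) ≫
    Functor.whiskerLeft (σ'S Y ψ ⋙ ΦP Y h) (eS Y d h hd).hom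

/-- `M ⟶ incl^* Φ^* σ^* M`. -/
def α : 𝟭 (P₀ Y) ⟶ σS Y ψ ⋙ ΦP Y h ⋙ inclS Y :=
  cP Y d ≫ Functor.whiskerLeft (σS Y ψ) (Functor.whiskerRight (adjΦ Y h).unit (LS Y d ⋙ inclS Y)) ≫
    Functor.whiskerRight (Functor.whiskerLeft (σS Y ψ ⋙ ΦP Y h) (eS Y d h hd).hom) (inclS Y)

theorem α_inclS (N : T Y) : (α Y d h hd).app ((inclS Y).obj N) = (inclS Y).map ((γ Y d h hd).app N) := by
  refine Eq.trans ?_ (((inclS Y).map_comp _ _).trans (congrArg _ ((inclS Y).map_comp _ _))).symm
  change (cP Y d).app ((inclS Y).obj N) ≫ _ = _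
  rw [cP_inclS]
  rfl

theorem isIso_ψ (w : W Y ψ) : IsIso ((restr Y).map ((cS Y d).app
    (((σ' Y (ψ := ψ)).sheafPushforwardCocontinuous Ab.{u} _ (FibDesc.totAug (F Y) (J Y))).obj w) ≫
    (LS Y d).map (((σ' Y (ψ := ψ)).sheafAdjunctionCocontinuous Ab.{u} _ (FibDesc.totAug (F Y) (J Y))).counit.app w))) := by
  rw [← isIso_iff_of_reflects_iso _ (sheafToPresheaf _ _)]
  rw [NatTrans.isIso_iff_isIso_app]
  intro V
  let X : ∫ᶜ (F Y) := (FibDesc.eps (F Y)).obj V.unop
  let A₀ : StructuredArrow (op X) (σ' Y (ψ := ψ)).op :=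
    StructuredArrow.mk (Y := op ((L Y d).obj X)) ((cArr Y d).app X).op
  have hA : IsInitial A₀ := by
    refine IsInitial.ofUniqueHom (fun Z => ?_) (fun Z m => ?_)
    · let z : Z.right.unop ⟶ (L Y d).obj X :=
        mkG _ _ ((botTerminal (D := D)).from _) (by
          intro x hx
          change Y.map (d.app (FibDesc.bot D))
            (Y.map ((idx ψ).map ((botTerminal (D := D)).from Z.right.unop.base)) x) ∈ fib X
          have h1 := le_of_hom Z.hom.unop hx
          rw [← ConcreteCategory.comp_apply, ← Y.map_comp]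
          rw [bot_ext ((idx ψ).map ((botTerminal (D := D)).from Z.right.unop.base) ≫ d.app (FibDesc.bot D))
            (Z.hom.unop.base : (idx ψ).obj Z.right.unop.base ⟶ FibDesc.bot D)]
          exact h1)
      exact StructuredArrow.homMk z.op (Quiver.Hom.unop_inj (hom_ext (bot_ext _ _)))
    · exact StructuredArrow.ext _ _ (Quiver.Hom.unop_inj (G_hom_ext (bot_ext _ _)))
  have hiso := IsLimit.isIso_π_app_of_isInitial
    ((σ' Y (ψ := ψ)).op.isPointwiseRightKanExtensionRanCounit w.obj (op X)) A₀ hA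
  change IsIso ((((σ' Y (ψ := ψ)).op.ran.obj w.obj)).map ((cArr Y d).app X).op ≫
    (((σ' Y (ψ := ψ)).sheafAdjunctionCocontinuous Ab.{u} _ (FibDesc.totAug (F Y) (J Y))).counit.app w).hom.app
      (op ((L Y d).obj X)))
  rw [Functor.sheafAdjunctionCocontinuous_counit_app_hom, Functor.ranAdjunction_counit]
  exact hiso

instance ext_fullyFaithful : IsIso (adjE Y).unit := by
  let R₁ := (FibDesc.eps (F Y)).sheafPushforwardCocontinuous Ab.{u} (J Y (FibDesc.bot D)) (FibDesc.totAug (F Y) (J Y))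
  haveI : IsIso ((FibDesc.eps (F Y)).sheafAdjunctionCocontinuous Ab.{u} (J Y (FibDesc.bot D))
      (FibDesc.totAug (F Y) (J Y))).counit := by
    rw [NatTrans.isIso_iff_isIso_app]
    intro G₀
    rw [← isIso_iff_of_reflects_iso _ (sheafToPresheaf _ _)]
    change IsIso (((FibDesc.eps (F Y)).sheafAdjunctionCocontinuous Ab.{u} (J Y (FibDesc.bot D))
      (FibDesc.totAug (F Y) (J Y))).counit.app G₀).hom
    rw [Functor.sheafAdjunctionCocontinuous_counit_app_hom]
    infer_instance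
  let t : Adjunction.Triple (ext Y) (restr Y) R₁ :=
    ⟨adjE Y, (FibDesc.eps (F Y)).sheafAdjunctionCocontinuous Ab.{u} (J Y (FibDesc.bot D)) (FibDesc.totAug (F Y) (J Y))⟩
  exact t.isIso_unit_iff_isIso_counit.2 inferInstance

theorem isIso_γ_ext (G₀ : Sheaf (J Y (FibDesc.bot D)) Ab.{u}) : IsIso ((γ Y d h hd).app ((ext Y).obj G₀)) :=
  AdjBC.isIso_app (adjE Y)
    ((σ' Y (ψ := ψ)).sheafAdjunctionCocontinuous Ab.{u} (FibSite.totalTopology (G Y ψ) (JG Y ψ))
      (FibDesc.totAug (F Y) (J Y)))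
    (adjΦ Y h) (LS Y d) (cS Y d) (eS Y d h hd) (isIso_ψ Y d) (γ Y d h hd) (fun _ => rfl) G₀

instance : PreservesFiniteLimits (inclS Y) :=
  haveI : PreservesLimitsOfSize.{0, 0} (inclS Y) := ((FibDesc.incl (F Y)).sheafAdjunctionContinuous Ab.{u}
    (FibDesc.totPart (F Y) (J Y)) (FibDesc.totAug (F Y) (J Y))).rightAdjoint_preservesLimits
  PreservesLimitsOfSize.preservesFiniteLimits _

instance : PreservesFiniteColimits (inclS Y) :=
  haveI : PreservesColimitsOfSize.{0, 0} (inclS Y) := ((FibDesc.incl (F Y)).sheafAdjunctionCocontinuous Ab.{u}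
    (FibDesc.totPart (F Y) (J Y)) (FibDesc.totAug (F Y) (J Y))).leftAdjoint_preservesColimits
  PreservesColimitsOfSize.preservesFiniteColimits _

instance : PreservesFiniteLimits (σS Y ψ) :=
  haveI : PreservesLimitsOfSize.{0, 0} (σS Y ψ) := ((σ Y ψ).sheafAdjunctionContinuous Ab.{u}
    (FibSite.totalTopology (G Y ψ) (JG Y ψ)) (FibDesc.totPart (F Y) (J Y))).rightAdjoint_preservesLimits
  PreservesLimitsOfSize.preservesFiniteLimits _

instance : PreservesFiniteColimits (σS Y ψ) :=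
  haveI : PreservesColimitsOfSize.{0, 0} (σS Y ψ) := ((σ Y ψ).sheafAdjunctionCocontinuous Ab.{u}
    (FibSite.totalTopology (G Y ψ) (JG Y ψ)) (FibDesc.totPart (F Y) (J Y))).leftAdjoint_preservesColimits
  PreservesColimitsOfSize.preservesFiniteColimits _

instance : PreservesFiniteColimits (ΦP Y h) :=
  haveI : PreservesColimitsOfSize.{0, 0} (ΦP Y h) := (adjΦ Y h).leftAdjoint_preservesColimits
  PreservesColimitsOfSize.preservesFiniteColimits _

instance : PreservesFiniteLimits (restr Y) :=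
  haveI : PreservesLimitsOfSize.{0, 0} (restr Y) := (adjE Y).rightAdjoint_preservesLimits
  PreservesLimitsOfSize.preservesFiniteLimits _

instance : PreservesFiniteColimits (restr Y) :=
  haveI : PreservesColimitsOfSize.{0, 0} (restr Y) := ((FibDesc.eps (F Y)).sheafAdjunctionCocontinuous Ab.{u}
    (J Y (FibDesc.bot D)) (FibDesc.totAug (F Y) (J Y))).leftAdjoint_preservesColimits
  PreservesColimitsOfSize.preservesFiniteColimits _

set_option synthInstance.maxHeartbeats 400000 in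
set_option maxHeartbeats 800000 in
instance preservesFiniteLimits_ext : PreservesFiniteLimits (ext Y) :=
  haveI : PreservesFiniteLimits ((FibDesc.eps (F Y)).op.lan : _ ⥤ (∫ᶜ (F Y))ᵒᵖ ⥤ Ab.{u}) :=
    lan_preservesFiniteLimits_of_flat (E := Ab.{u}) (FibDesc.eps (F Y))
  Functor.sheafPullbackConstruction.preservesFiniteLimits (FibDesc.eps (F Y)) Ab.{u} _ _

set_option synthInstance.maxHeartbeats 400000 in
set_option maxHeartbeats 800000 in
instance preservesFiniteLimits_ΦP : PreservesFiniteLimits (ΦP Y h) :=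
  haveI : PreservesFiniteLimits ((Φ Y h).op.lan : _ ⥤ (∫ᶜ (F Y))ᵒᵖ ⥤ Ab.{u}) :=
    lan_preservesFiniteLimits_of_flat (E := Ab.{u}) (Φ Y h)
  Functor.sheafPullbackConstruction.preservesFiniteLimits (Φ Y h) Ab.{u} _ _

instance preservesFiniteLimits_pull : PreservesFiniteLimits (FibDesc.pull (F Y) (J Y) Ab.{u}) :=
  comp_preservesFiniteLimits (ext Y) (inclS Y)

attribute [local instance] HasDerivedCategory.standard

include d h hd in
/-- An augmented space with an extra degeneracy is of cohomological descent. -/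
theorem isCohDescentTop : FibDesc.IsCohDescentTop Y := by
  refine ⟨inferInstance, inferInstance, inferInstance, inferInstance, inferInstance, inferInstance, ?_⟩
  intro K₀ L₀
  let H : P₀ Y ⥤ P₀ Y := σS Y ψ ⋙ ΦP Y h ⋙ inclS Y
  let R : P₀ Y ⥤ Sheaf (J Y (FibDesc.bot D)) Ab.{u} := σS Y ψ ⋙ ΦP Y h ⋙ restr Y
  let P := FibDesc.pull (F Y) (J Y) Ab.{u}
  haveI : PreservesFiniteLimits (ΦP Y h ⋙ inclS Y) := comp_preservesFiniteLimits _ _
  haveI : PreservesFiniteColimits (ΦP Y h ⋙ inclS Y) := comp_preservesFiniteColimits _ _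
  haveI : PreservesFiniteLimits (ΦP Y h ⋙ restr Y) := comp_preservesFiniteLimits _ _
  haveI : PreservesFiniteColimits (ΦP Y h ⋙ restr Y) := comp_preservesFiniteColimits _ _
  haveI : PreservesFiniteLimits H := comp_preservesFiniteLimits (σS Y ψ) (ΦP Y h ⋙ inclS Y)
  haveI : PreservesFiniteColimits H := comp_preservesFiniteColimits (σS Y ψ) (ΦP Y h ⋙ inclS Y)
  haveI : PreservesFiniteLimits R := comp_preservesFiniteLimits (σS Y ψ) (ΦP Y h ⋙ restr Y)
  haveI : PreservesFiniteColimits R := comp_preservesFiniteColimits (σS Y ψ) (ΦP Y h ⋙ restr Y)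
  haveI : H.Additive := H.additive_of_preserves_binary_products
  haveI : R.Additive := R.additive_of_preserves_binary_products
  haveI hγ := isIso_γ_ext Y d h hd
  let β : R ⋙ P ⟶ H :=
    Functor.whiskerLeft (σS Y ψ ⋙ ΦP Y h) (Functor.whiskerRight (adjE Y).counit (inclS Y))
  let ρ' : 𝟭 _ ⟶ P ⋙ R := (adjE Y).unit ≫ Functor.whiskerRight (Functor.whiskerLeft (ext Y) (γ Y d h hd)) (restr Y)
  haveI : IsIso ρ' := by
    rw [NatTrans.isIso_iff_isIso_app]
    intro G₀
    haveI := hγ G₀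
    change IsIso ((adjE Y).unit.app G₀ ≫ (restr Y).map ((γ Y d h hd).app ((ext Y).obj G₀)))
    infer_instance
  refine DerivedRetract.bijective_map (P := P) (R := R) (H := H) (α Y d h hd) β (asIso ρ').symm
    (fun G₀ => ?_) (fun G₀ => ?_) K₀.obj L₀.obj
  · haveI := hγ G₀
    rw [show (α Y d h hd).app (P.obj G₀) = (inclS Y).map ((γ Y d h hd).app ((ext Y).obj G₀)) from
      α_inclS Y d h hd _]
    infer_instance
  · haveI := hγ G₀
    haveI : IsIso ((adjE Y).counit.app ((ext Y).obj G₀)) := by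
      have := (adjE Y).left_triangle_components G₀
      haveI : IsIso ((ext Y).map ((adjE Y).unit.app G₀) ≫ (adjE Y).counit.app ((ext Y).obj G₀)) := by
        rw [this]; exact IsIso.id _
      exact IsIso.of_isIso_comp_left ((ext Y).map ((adjE Y).unit.app G₀)) _
    have e := (NatTrans.isIso_app_iff_of_iso (adjE Y).counit
      (asIso ((γ Y d h hd).app ((ext Y).obj G₀)))).1 ‹IsIso ((adjE Y).counit.app ((ext Y).obj G₀))›
    exact @Functor.map_isIso _ _ _ _ _ _ (inclS Y) _ e

end Groth.Agent.H15Site.SplitDescent
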