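import Groth.Agent.H15Site.CechRestrict

/-!
# Cohomological descent is local on the base
-/

set_option autoImplicit false
set_option linter.style.haveILetI false
set_option linter.unusedSectionVars false
set_option backward.isDefEq.respectTransparency false
set_option backward.isDefEq.respectTransparency.types false

universe u

open CategoryTheory CategoryTheory.Limits Opposite TopologicalSpace Topology
open Groth.Agent.H15Site.OpensFib Groth.Agent.H15Site.OpensRestrict

noncomputable section

namespace Groth.Agent.H15Site.DescentLocal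

/-- Isomorphisms of abelian sheaves are detected on an open cover. -/
theorem isIso_of_cover {S : TopCat.{u}} {M N : Sheaf (Opens.grothendieckTopology S) AddCommGrpCat.{u}}
    (g : M ⟶ N) {ι : Type u} (V : ι → Opens S) (hV : iSup V = ⊤)
    (h : ∀ i (U : Opens S), U ≤ V i → IsIso (g.hom.app (op U))) : IsIso g := by
  have hcov : ∀ x : S, ∃ i, x ∈ V i := fun x => Opens.mem_iSup.1 (hV ▸ trivial)
  haveI : (Opens.grothendieckTopology S).HasSheafCompose (forget AddCommGrpCat.{u}) := inferInstance
  refine (Sheaf.isLocallyBijective_iff_isIso g).1 ?_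
  refine ⟨⟨fun {U} x y hxy => ?_⟩, ⟨fun {U} s => ?_⟩⟩
  · intro p hp
    obtain ⟨i, hi⟩ := hcov p
    haveI := h i (U.unop ⊓ V i) inf_le_right
    refine ⟨U.unop ⊓ V i, homOfLE inf_le_left, ?_, ⟨hp, hi⟩⟩
    apply (ConcreteCategory.bijective_of_isIso (g.hom.app (op (U.unop ⊓ V i)))).injective
    have hx := fun z => ConcreteCategory.congr_hom
      (g.hom.naturality (homOfLE (inf_le_left : U.unop ⊓ V i ≤ U.unop)).op) z
    exact (hx x).trans ((congrArg _ hxy).trans (hx y).symm)
  · intro p hp
    obtain ⟨i, hi⟩ := hcov p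
    haveI := h i (U ⊓ V i) inf_le_right
    refine ⟨U ⊓ V i, homOfLE inf_le_left, ?_, ⟨hp, hi⟩⟩
    exact (ConcreteCategory.bijective_of_isIso (g.hom.app (op (U ⊓ V i)))).surjective _

instance {D : Type} [SmallCategory D] {Y Y' : (WithInitial D)ᵒᵖ ⥤ TopCat.{u}} (e : Y' ⟶ Y)
    (he : ∀ k, IsOpenEmbedding (e.app k)) : (jB e he).Additive :=
  Functor.additive_of_preserves_binary_products _

instance {D : Type} [SmallCategory D] {Y Y' : (WithInitial D)ᵒᵖ ⥤ TopCat.{u}} (e : Y' ⟶ Y)
    (he : ∀ k, IsOpenEmbedding (e.app k)) : (jP e he).Additive :=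
  Functor.additive_of_preserves_binary_products _

attribute [local instance] HasDerivedCategory.standard

/-- Descent is local on the base, for a family of open embeddings covering it. -/
theorem isCohDescentMap_of_cover {X S : TopCat.{u}} (f : X ⟶ S) {ι : Type u} {T : ι → TopCat.{u}}
    (j : ∀ i, T i ⟶ S) (hj : ∀ i, IsOpenEmbedding (j i)) (hcov : ∀ x : S, ∃ i, x ∈ Set.range (j i))
    (h : ∀ i, FibDesc.IsCohDescentMap (pullback.snd f (j i))) : FibDesc.IsCohDescentMap f := by
  let Y := FibDesc.cechAug f
  let Y' := fun i => FibDesc.cechAug (pullback.snd f (j i))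
  let e := fun i => CechRestrict.e f (j i)
  have he := fun i => CechRestrict.isOpenEmbedding_e f (j i) (hj i)
  have hr := fun i => CechRestrict.hr_e f (j i) (hj i)
  have hgood : DerivedFF.Good (OpensRestrict.adj Y) := by
    refine BaseChange.good_of_local (OpensRestrict.adj Y) (fun i => OpensRestrict.adj (Y' i))
      (fun i => jB (e i) (he i)) (fun i => jP (e i) (he i))
      (fun i M hM => injective_jB (e i) (he i) M) (fun i M hM => injective_jP (e i) (he i) (hr i) M)
      (fun {M N} g hg => ?_) (fun i => pullIso (e i) (he i)) (fun i => isIso_θ (e i) (he i) (hr i))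
      (fun i => DerivedFF.good_of_bijective_map _ ?_)
    · refine isIso_of_cover g (fun i => ⟨Set.range (j i), (hj i).isOpen_range⟩) (eq_top_iff.2 fun x _ => ?_) ?_
      · obtain ⟨i, hi⟩ := hcov x
        exact Opens.mem_iSup.2 ⟨i, hi⟩
      · intro i U hU
        haveI := hg i
        obtain ⟨W, rfl⟩ : ∃ W, U = (img (e i) (he i) (FibDesc.bot SimplexCategory)).obj W := by
          refine ⟨(Opens.map (j i)).obj U, Opens.ext ?_⟩
          exact (Set.image_preimage_eq_of_subset (f := j i) hU).symm
        exact inferInstanceAs (IsIso (((sheafToPresheaf _ _).map ((jB (e i) (he i)).map g)).app (op W)))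
    · obtain ⟨_, _, _, _, _, _, hb⟩ := h i
      exact hb
  refine ⟨inferInstance, inferInstance, inferInstance, inferInstance, inferInstance, inferInstance, ?_⟩
  intro K L
  obtain ⟨n, hn⟩ := L.property
  haveI := hn
  exact DerivedFF.bijective_map (OpensRestrict.adj Y) hgood K.obj L.obj n

end Groth.Agent.H15Site.DescentLocal
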