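import Groth.Agent.H15Site.EdgeBase

/-!
# Existence and uniqueness of the maps from Čech cohomology to cohomology
-/

universe u

open CategoryTheory CategoryTheory.Limits Opposite CategoryTheory.Abelian

namespace Groth.Agent.H15Site.Edge

attribute [local instance 10000] SiteInst.hasSheafifySite SiteInst.hasWeakSheafifySite
  SiteInst.hasExtSite SiteInst.enoughInjSite

variable {C : Type u} [SmallCategory C] [HasPullbacks C] {J : GrothendieckTopology C} {U : C}
  {ι : Type u} (Y : ι → Over U)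
  (hY : Sieve.ofArrows (fun i => (Y i).left) (fun i => (Y i).hom) ∈ J U)

/-- Degree zero Čech cohomology of a sheaf. -/
noncomputable def sheafEquiv (F : Sheaf J AddCommGrpCat.{u}) :
    F.obj.obj (op U) ≃+ CohCx.cechH F.obj Y 0 :=
  AddEquiv.ofBijective (CechEdge.toCech Y F.obj)
    (CechSite.bijective_toCech_of_isSheaf Y F.obj F.property hY)

/-- The comparison in degree zero. -/
noncomputable def e₀ (P : Cᵒᵖ ⥤ AddCommGrpCat.{u}) :
    CohCx.cechH P Y 0 →+ CohSite.HU (CechEdge.shf J P) 0 U :=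
  (CechEdge.sectH0 J U (CechEdge.shf J P)).toAddMonoidHom.comp
    ((sheafEquiv Y hY (CechEdge.shf J P)).symm.toAddMonoidHom.comp
      (CechEdge.cechHMap Y (toSheafify J P) 0))

theorem e₀_eq_of {P : Cᵒᵖ ⥤ AddCommGrpCat.{u}} {x : CohCx.cechH P Y 0}
    {s : (CechEdge.shf J P).obj.obj (op U)}
    (h : CechEdge.cechHMap Y (toSheafify J P) 0 x = CechEdge.toCech Y (CechEdge.shf J P).obj s) :
    e₀ Y hY P x = CechEdge.sectH0 J U _ s :=
  congrArg (CechEdge.sectH0 J U _)
    ((congrArg (sheafEquiv Y hY (CechEdge.shf J P)).symm h).trans (AddEquiv.symm_apply_apply _ _))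

theorem e₀_zero (P : Cᵒᵖ ⥤ AddCommGrpCat.{u}) (s : P.obj (op U)) :
    e₀ Y hY P (CechEdge.toCech Y P s) =
      CechEdge.sectH0 J U (CechEdge.shf J P) (((toSheafify J P).app (op U)).hom s) :=
  e₀_eq_of Y hY (cechHMap_toCech Y (toSheafify J P) s)

theorem e₀_natural (P Q : Cᵒᵖ ⥤ AddCommGrpCat.{u}) (φ : P ⟶ Q) (x : CohCx.cechH P Y 0) :
    e₀ Y hY Q (CechEdge.cechHMap Y φ 0 x) =
      CechEdge.HUmap (CechEdge.shfMap J φ) 0 U (e₀ Y hY P x) := by
  obtain ⟨s, hs⟩ := (sheafEquiv Y hY (CechEdge.shf J P)).surjective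
    (CechEdge.cechHMap Y (toSheafify J P) 0 x)
  rw [e₀_eq_of Y hY hs.symm, sectH0_natural]
  refine e₀_eq_of Y hY ?_
  rw [cechHMap_comp]
  refine (congrArg (fun m => CechEdge.cechHMap Y m 0 x) (toSheafify_naturality J φ)).trans ?_
  rw [← cechHMap_comp]
  exact (congrArg (CechEdge.cechHMap Y _ 0) hs.symm).trans
    (cechHMap_toCech Y (CechEdge.shfMap J φ).hom s)

/-- The effacing sequence of a presheaf. -/
noncomputable abbrev godSeq (P : Cᵒᵖ ⥤ AddCommGrpCat.{u}) :
    ShortComplex (Cᵒᵖ ⥤ AddCommGrpCat.{u}) :=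
  ShortComplex.mk (CechSite.toGod P) (cokernel.π (CechSite.toGod P)) (cokernel.condition _)

omit [HasPullbacks C] in
theorem godSeq_shortExact (P : Cᵒᵖ ⥤ AddCommGrpCat.{u}) : (godSeq P).ShortExact :=
  { exact := ShortComplex.exact_cokernel _
    mono_f := inferInstance
    epi_g := inferInstance }

theorem godSeq_cx (P : Cᵒᵖ ⥤ AddCommGrpCat.{u}) :
    ((godSeq P).map (CechEdge.cxFunctor Y)).ShortExact :=
  CechSite.shortExact_map_cxFunctor_of_shortExact Y (godSeq_shortExact P)

omit [HasPullbacks C] in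
theorem sheafify_shortExact {S : ShortComplex (Cᵒᵖ ⥤ AddCommGrpCat.{u})} (hS : S.ShortExact) :
    (S.map (presheafToSheaf J AddCommGrpCat.{u})).ShortExact :=
  hS.map_of_exact _

/-- A natural family of comparison maps in a given degree. -/
structure Level (p : ℕ) where
  /-- The maps. -/
  app : ∀ P : Cᵒᵖ ⥤ AddCommGrpCat.{u}, CohCx.cechH P Y p →+ CohSite.HU (CechEdge.shf J P) p U
  natural : ∀ (P Q : Cᵒᵖ ⥤ AddCommGrpCat.{u}) (φ : P ⟶ Q) (x : CohCx.cechH P Y p),
    app Q (CechEdge.cechHMap Y φ p x) = CechEdge.HUmap (CechEdge.shfMap J φ) p U (app P x)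

variable {Y}

theorem Level.ker_le {p : ℕ} (e : Level (J := J) Y p) (P : Cᵒᵖ ⥤ AddCommGrpCat.{u}) :
    (δC Y (godSeq_cx Y P) p).ker ≤
      ((CechEdge.extδ (sheafify_shortExact (J := J) (godSeq_shortExact P)) U p).comp
        (e.app (godSeq P).X₃)).ker := by
  intro x hx
  obtain ⟨z, rfl⟩ := exists_of_δC_eq_zero Y (godSeq_cx Y P) p x hx
  rw [AddMonoidHom.mem_ker, AddMonoidHom.comp_apply]
  exact (congrArg (CechEdge.extδ (sheafify_shortExact (J := J) (godSeq_shortExact P)) U p)
    (e.natural _ _ (godSeq P).g z)).trans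
      (extδ_HUmap_g (sheafify_shortExact (godSeq_shortExact P)) U p _)

/-- The next comparison map. -/
noncomputable def Level.nextApp {p : ℕ} (e : Level (J := J) Y p) (P : Cᵒᵖ ⥤ AddCommGrpCat.{u}) :
    CohCx.cechH P Y (p + 1) →+ CohSite.HU (CechEdge.shf J P) (p + 1) U :=
  AddMonoidHom.liftOfSurjective (δC Y (godSeq_cx Y P) p)
    (δC_surjective Y (godSeq_cx Y P) p (CechSite.isZero_cechH_god Y P p))
    ⟨_, e.ker_le P⟩

theorem Level.nextApp_δ {p : ℕ} (e : Level (J := J) Y p) (P : Cᵒᵖ ⥤ AddCommGrpCat.{u})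
    (x : CohCx.cechH (godSeq P).X₃ Y p) :
    e.nextApp P (δC Y (godSeq_cx Y P) p x) =
      CechEdge.extδ (sheafify_shortExact (J := J) (godSeq_shortExact P)) U p
        (e.app (godSeq P).X₃ x) :=
  AddMonoidHom.liftOfRightInverse_comp_apply _ _ _ ⟨_, e.ker_le P⟩ x

omit [HasPullbacks C] in
/-- The map of effacing sequences. -/
noncomputable def godSeqMap {P Q : Cᵒᵖ ⥤ AddCommGrpCat.{u}} (φ : P ⟶ Q) :
    godSeq P ⟶ godSeq Q where
  τ₁ := φ
  τ₂ := CechSite.godMap φ
  τ₃ := cokernel.map _ _ φ (CechSite.godMap φ) (CechSite.toGod_natural φ)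
  comm₁₂ := (CechSite.toGod_natural φ).symm
  comm₂₃ := (cokernel.π_desc _ _ _).symm

/-- The next level. -/
noncomputable def Level.next {p : ℕ} (e : Level (J := J) Y p) : Level (J := J) Y (p + 1) where
  app := e.nextApp
  natural P Q φ x := by
    obtain ⟨y, rfl⟩ := δC_surjective Y (godSeq_cx Y P) p (CechSite.isZero_cechH_god Y P p) x
    refine (congrArg (e.nextApp Q)
      (δC_natural Y (godSeq_cx Y P) (godSeq_cx Y Q) (godSeqMap φ) p y)).trans ?_
    rw [e.nextApp_δ, e.nextApp_δ, e.natural]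
    exact (extδ_natural (sheafify_shortExact (godSeq_shortExact P))
      (sheafify_shortExact (godSeq_shortExact Q))
      ((presheafToSheaf J AddCommGrpCat.{u}).mapShortComplex.map (godSeqMap φ)) U p _).symm

/-- The levels. -/
noncomputable def level : ∀ p : ℕ, Level (J := J) Y p
  | 0 => ⟨e₀ Y hY, e₀_natural Y hY⟩
  | p + 1 => (level p).next

theorem level_delta (p : ℕ) (S : ShortComplex (Cᵒᵖ ⥤ AddCommGrpCat.{u})) (hS : S.ShortExact)
    (hC : (S.map (CechEdge.cxFunctor Y)).ShortExact) (x : CohCx.cechH S.X₃ Y p) :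
    (level (J := J) hY (p + 1)).app S.X₁ (δC Y hC p x) =
      CechEdge.extδ (sheafify_shortExact (J := J) hS) U p ((level hY p).app S.X₃ x) := by
  haveI := hS.mono_f
  haveI := hS.epi_g
  let i : S.X₁ ⟶ CechSite.God S.X₂ := S.f ≫ CechSite.toGod S.X₂
  let S' : ShortComplex (Cᵒᵖ ⥤ AddCommGrpCat.{u}) :=
    ShortComplex.mk i (cokernel.π i) (cokernel.condition i)
  have hS' : S'.ShortExact :=
    { exact := ShortComplex.exact_cokernel _
      mono_f := mono_comp S.f (CechSite.toGod S.X₂)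
      epi_g := inferInstanceAs (Epi (cokernel.π i)) }
  have hC' : (S'.map (CechEdge.cxFunctor Y)).ShortExact :=
    CechSite.shortExact_map_cxFunctor_of_shortExact Y hS'
  have hw : S.f ≫ CechSite.toGod S.X₂ ≫ cokernel.π i = 0 := by
    rw [← Category.assoc]; exact cokernel.condition i
  let φ : S ⟶ S' :=
    { τ₁ := 𝟙 _
      τ₂ := CechSite.toGod S.X₂
      τ₃ := hS.exact.desc (CechSite.toGod S.X₂ ≫ cokernel.π i) hw
      comm₁₂ := Category.id_comp _
      comm₂₃ := (hS.exact.g_desc _ hw).symm }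
  let ψ : godSeq S.X₁ ⟶ S' :=
    { τ₁ := 𝟙 _
      τ₂ := CechSite.godMap S.f
      τ₃ := cokernel.map _ _ (𝟙 _) (CechSite.godMap S.f)
        ((CechSite.toGod_natural S.f).trans (Category.id_comp i).symm)
      comm₁₂ := (Category.id_comp i).trans (CechSite.toGod_natural S.f).symm
      comm₂₃ := (cokernel.π_desc _ _ _).symm }
  let G := presheafToSheaf J AddCommGrpCat.{u}
  -- the statement for `S'`
  have key : ∀ x' : CohCx.cechH S'.X₃ Y p,
      (level (J := J) hY (p + 1)).app S.X₁ (δC Y hC' p x') =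
        CechEdge.extδ (sheafify_shortExact (J := J) hS') U p ((level hY p).app S'.X₃ x') := by
    intro x'
    obtain ⟨y, hy⟩ := δC_surjective Y (godSeq_cx Y S.X₁) p (CechSite.isZero_cechH_god Y S.X₁ p)
      (δC Y hC' p x')
    have h1 : δC Y hC' p (x' - CechEdge.cechHMap Y ψ.τ₃ p y) = 0 := by
      rw [map_sub, ← δC_natural Y (godSeq_cx Y S.X₁) hC' ψ p y, hy]
      exact sub_eq_zero.2 (cechHMap_id Y S.X₁ (p + 1) _).symm
    obtain ⟨z, hz⟩ := exists_of_δC_eq_zero Y hC' p _ h1
    rw [← hy, show x' = CechEdge.cechHMap Y S'.g p z + CechEdge.cechHMap Y ψ.τ₃ p y by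
      rw [hz, sub_add_cancel]]
    refine Eq.trans ?_ (congrArg (CechEdge.extδ (sheafify_shortExact (J := J) hS') U p)
      (map_add ((level (J := J) hY p).app S'.X₃) (CechEdge.cechHMap Y S'.g p z)
        (CechEdge.cechHMap Y ψ.τ₃ p y))).symm
    refine Eq.trans ?_ (map_add (CechEdge.extδ (sheafify_shortExact (J := J) hS') U p) _ _).symm
    refine Eq.trans ?_ (congrArg (· + _) ((congrArg
      (CechEdge.extδ (sheafify_shortExact (J := J) hS') U p) ((level hY p).natural _ _ S'.g z)).trans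
        (extδ_HUmap_g (sheafify_shortExact hS') U p _))).symm
    refine Eq.trans ?_ (zero_add _).symm
    refine Eq.trans ?_ (congrArg (CechEdge.extδ (sheafify_shortExact (J := J) hS') U p)
      ((level hY p).natural _ _ ψ.τ₃ y)).symm
    refine ((level hY p).nextApp_δ S.X₁ y).trans (Eq.trans ?_ (extδ_natural
      (sheafify_shortExact (godSeq_shortExact S.X₁)) (sheafify_shortExact hS')
      (G.mapShortComplex.map ψ) U p _))
    exact (HUmap_id _ _ _ _).symm.trans
      (congrArg (fun m => CechEdge.HUmap m (p + 1) U _) (G.map_id S.X₁).symm)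
  have h2 : δC Y hC p x = δC Y hC' p (CechEdge.cechHMap Y φ.τ₃ p x) :=
    (cechHMap_id Y S.X₁ (p + 1) _).symm.trans (δC_natural Y hC hC' φ p x)
  refine (congrArg ((level (J := J) hY (p + 1)).app S.X₁) h2).trans ((key _).trans ?_)
  refine (congrArg (CechEdge.extδ (sheafify_shortExact (J := J) hS') U p)
    ((level hY p).natural _ _ φ.τ₃ x)).trans ?_
  refine (extδ_natural (sheafify_shortExact hS) (sheafify_shortExact hS')
    (G.mapShortComplex.map φ) U p _).symm.trans ?_
  exact (congrArg (fun m => CechEdge.HUmap m (p + 1) U _) (G.map_id S.X₁)).trans (HUmap_id _ _ _ _)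

include hY in
/-- Existence of the comparison maps. -/
theorem exists_isEdge :
    ∃ e : ∀ (P : Cᵒᵖ ⥤ AddCommGrpCat.{u}) (p : ℕ),
      CohCx.cechH P Y p →+ CohSite.HU (CechEdge.shf J P) p U, CechEdge.IsEdge J Y e :=
  ⟨fun P p => (level hY p).app P,
    { cover := hY
      zero := fun P s => e₀_zero Y hY P s
      natural := fun P Q φ p x => (level hY p).natural P Q φ x
      delta := fun S hS hC p x => level_delta hY p S hS hC x }⟩

omit [HasPullbacks C] in
theorem isIso_shfMap_toSheafify (P : Cᵒᵖ ⥤ AddCommGrpCat.{u}) :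
    IsIso (CechEdge.shfMap J (toSheafify J P)) :=
  inferInstanceAs (IsIso ((presheafToSheaf J AddCommGrpCat.{u}).map
    ((sheafificationAdjunction J AddCommGrpCat.{u}).unit.app P)))

/-- Uniqueness of the comparison maps. -/
theorem isEdge_unique
    {e e' : ∀ (P : Cᵒᵖ ⥤ AddCommGrpCat.{u}) (p : ℕ),
      CohCx.cechH P Y p →+ CohSite.HU (CechEdge.shf J P) p U}
    (he : CechEdge.IsEdge J Y e) (he' : CechEdge.IsEdge J Y e') : e = e' := by
  funext P p
  induction p generalizing P with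
  | zero =>
    refine AddMonoidHom.ext fun x => ?_
    haveI := isIso_shfMap_toSheafify (J := J) P
    apply (HUmap_bijective (CechEdge.shfMap J (toSheafify J P)) 0 U).1
    obtain ⟨s, hs⟩ := (sheafEquiv Y he.cover (CechEdge.shf J P)).surjective
      (CechEdge.cechHMap Y (toSheafify J P) 0 x)
    rw [← he.natural, ← he'.natural, ← hs]
    exact (he.zero _ s).trans (he'.zero _ s).symm
  | succ p ih =>
    refine AddMonoidHom.ext fun x => ?_
    obtain ⟨y, rfl⟩ := δC_surjective Y (godSeq_cx Y P) p (CechSite.isZero_cechH_god Y P p) x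
    have hy : e (godSeq P).X₃ p y = e' (godSeq P).X₃ p y := DFunLike.congr_fun (ih (godSeq P).X₃) y
    exact (he.delta (godSeq P) (godSeq_shortExact P) (godSeq_cx Y P) p y).trans
      ((congrArg (CechEdge.extδ (sheafify_shortExact (J := J) (godSeq_shortExact P)) U p) hy).trans
        (he'.delta (godSeq P) (godSeq_shortExact P) (godSeq_cx Y P) p y).symm)

end Groth.Agent.H15Site.Edge
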