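import Groth.Agent.H15Site.EdgeMaps
import Mathlib.Topology.Sheaves.Sheaf

/-!
# The comparison maps respect refinements
-/

set_option autoImplicit false
set_option linter.style.haveILetI false
set_option linter.unusedSectionVars false
set_option backward.isDefEq.respectTransparency false
set_option backward.isDefEq.respectTransparency.types false

universe u

open CategoryTheory CategoryTheory.Limits Opposite

namespace Groth.Agent.H15Site.EdgeRefine

attribute [local instance 10000] SiteInst.hasSheafifySite SiteInst.hasWeakSheafifySite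
  SiteInst.hasExtSite SiteInst.enoughInjSite

variable {C : Type u} [SmallCategory C] [HasPullbacks C] {J : GrothendieckTopology C} {U : C}
  {ι κ : Type u} {Y : ι → Over U} {Y' : κ → Over U}
  (f : FormalCoproduct.mk ι Y ⟶ FormalCoproduct.mk κ Y')

/-- Refinement, natural in the presheaf. -/
noncomputable def ρ : CechEdge.cxFunctor (C := C) Y' ⟶ CechEdge.cxFunctor Y :=
  Functor.whiskerLeft ((Functor.whiskeringLeft (Over U)ᵒᵖ Cᵒᵖ AddCommGrpCat.{u}).obj (Over.forget U).op)
    (Functor.whiskerRight (Functor.whiskerLeft (FormalCoproduct.evalOp.{u} (Over U) AddCommGrpCat.{u})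
      ((Functor.whiskeringLeft _ _ _).map (NatTrans.rightOp (FormalCoproduct.cechFunctor.map f))))
      (AlgebraicTopology.alternatingCofaceMapComplex AddCommGrpCat.{u}))

theorem ρ_app (P : Cᵒᵖ ⥤ AddCommGrpCat.{u}) : (ρ f).app P = CohCx.cechRefine P f := rfl

theorem toCech₀_ρ (P : Cᵒᵖ ⥤ AddCommGrpCat.{u}) :
    CechEdge.toCech₀ P Y' ≫ ((ρ f).app P).f 0 = CechEdge.toCech₀ P Y := by
  show CechEdge.toCech₀ P Y' ≫
    ((FormalCoproduct.evalOp.{u} (Over U) AddCommGrpCat.{u}).obj ((Over.forget U).op ⋙ P)).map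
      ((FormalCoproduct.cechFunctor.map f).app (op (SimplexCategory.mk 0))).op = _
  rw [FormalCoproduct.evalOp_obj_map]
  apply Pi.hom_ext
  intro i
  erw [Category.assoc, Pi.lift_π, Pi.lift_π, Pi.lift_π_assoc]
  change P.map _ ≫ P.map _ = P.map _
  rw [← P.map_comp]
  congr 1
  exact congrArg Quiver.Hom.op (Over.w (((FormalCoproduct.cechFunctor.map f).app
    (op (SimplexCategory.mk 0))).φ i))

theorem refine_toCech (P : Cᵒᵖ ⥤ AddCommGrpCat.{u}) (s : P.obj (op U)) :
    (HomologicalComplex.homologyMap ((ρ f).app P) 0).hom (CechEdge.toCech Y' P s) = CechEdge.toCech Y P s := by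
  have h : CechEdge.toCycles P Y' ≫ HomologicalComplex.cyclesMap ((ρ f).app P) 0 = CechEdge.toCycles P Y := by
    rw [← cancel_mono ((CechEdge.cx P Y).iCycles 0)]
    refine (Category.assoc _ _ _).trans ((congrArg (CechEdge.toCycles P Y' ≫ ·)
      (HomologicalComplex.cyclesMap_i ((ρ f).app P) 0)).trans ((Category.assoc _ _ _).symm.trans ?_))
    exact ((congrArg (· ≫ _) (CechEdge.toCycles_i P Y')).trans (toCech₀_ρ f P)).trans
      (CechEdge.toCycles_i P Y).symm
  have h2 : (CechEdge.toCycles P Y' ≫ (CechEdge.cx P Y').homologyπ 0) ≫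
      HomologicalComplex.homologyMap ((ρ f).app P) 0 = CechEdge.toCycles P Y ≫ (CechEdge.cx P Y).homologyπ 0 := by
    rw [Category.assoc]
    erw [HomologicalComplex.homologyπ_naturality]
    rw [← Category.assoc, h]
    rfl
  exact ConcreteCategory.congr_hom h2 s

/-- Composed with refinement the comparison maps are the comparison maps. -/
theorem isEdge_refine {e : ∀ (P : Cᵒᵖ ⥤ AddCommGrpCat.{u}) (p : ℕ),
      CohCx.cechH P Y p →+ CohSite.HU (CechEdge.shf J P) p U}
    (he : CechEdge.IsEdge J Y e)
    (hY' : Sieve.ofArrows (fun i => (Y' i).left) (fun i => (Y' i).hom) ∈ J U) :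
    CechEdge.IsEdge J Y' (fun P p => (e P p).comp (HomologicalComplex.homologyMap ((ρ f).app P) p).hom) where
  cover := hY'
  zero P s := (congrArg (e P 0) (refine_toCech f P s)).trans (he.zero P s)
  natural P Q φ p x := by
    refine Eq.trans ?_ (he.natural P Q φ p ((HomologicalComplex.homologyMap ((ρ f).app P) p).hom x))
    refine congrArg (e Q p) ?_
    have := ConcreteCategory.congr_hom (((HomologicalComplex.homologyMap_comp _ _ p).symm.trans
      ((congrArg (fun k => HomologicalComplex.homologyMap k p) ((ρ f).naturality φ)).trans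
        (HomologicalComplex.homologyMap_comp _ _ p)))) x
    exact this
  delta S hS hC p x := by
    have hC' : (S.map (CechEdge.cxFunctor Y)).ShortExact :=
      CechSite.shortExact_map_cxFunctor_of_shortExact Y hS
    refine Eq.trans ?_ (he.delta S hS hC' p ((HomologicalComplex.homologyMap ((ρ f).app S.X₃) p).hom x))
    refine congrArg (e S.X₁ (p + 1)) ?_
    exact ConcreteCategory.congr_hom
      (HomologicalComplex.HomologySequence.δ_naturality (S.mapNatTrans (ρ f)) hC hC' p (p + 1) rfl) x

theorem edgeSh_refine {e : ∀ (P : Cᵒᵖ ⥤ AddCommGrpCat.{u}) (p : ℕ),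
      CohCx.cechH P Y p →+ CohSite.HU (CechEdge.shf J P) p U}
    {e' : ∀ (P : Cᵒᵖ ⥤ AddCommGrpCat.{u}) (p : ℕ),
      CohCx.cechH P Y' p →+ CohSite.HU (CechEdge.shf J P) p U}
    (he : CechEdge.IsEdge J Y e) (he' : CechEdge.IsEdge J Y' e')
    (F : Sheaf J AddCommGrpCat.{u}) (p : ℕ) (x : CohCx.cechH F.obj Y' p) :
    CechEdge.edgeSh e F p ((HomologicalComplex.homologyMap (CohCx.cechRefine F.obj f) p).hom x) =
      CechEdge.edgeSh e' F p x := by
  have h := Edge.isEdge_unique (isEdge_refine f he he'.cover) he'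
  exact congrArg (CechEdge.HUmap ((sheafificationAdjunction J AddCommGrpCat.{u}).counit.app F) p U)
    (DFunLike.congr_fun (congrFun (congrFun h F.obj) p) x)

end Groth.Agent.H15Site.EdgeRefine
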