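import Groth.Agent.H15Site.SiteCmpEquiv

/-!
# The comparison morphism of two topologies on modules
-/

set_option autoImplicit false
set_option linter.style.haveILetI false
set_option linter.unusedSectionVars false

universe u

open CategoryTheory CategoryTheory.Limits CategoryTheory.Pretriangulated Opposite DerivedCategory
  DerivedCategory.TStructure CategoryTheory.Abelian

attribute [local instance] HasDerivedCategory.standard

namespace Groth.Agent.H15Site.EpsEquiv

open SiteGen SiteGenInst H16Derived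

attribute [local instance 10000] SiteInst.hasSheafifySite SiteInst.hasWeakSheafifySite

section General

variable {C D : Type u} [SmallCategory C] [SmallCategory D] {J : GrothendieckTopology C}
  {K : GrothendieckTopology D} {O_C : Sheaf J CommRingCat.{u}} {O_D : Sheaf K CommRingCat.{u}}
  (f : ModSite.RMor O_C O_D)
  (A : ObjectProperty (ModSite.Mod O_C)) [WSerre.IsWeakSerre A] (B : Set D)
  (hB : ∀ U : D, ∃ (ι : Type u) (Y : ι → D) (g : ∀ i, Y i ⟶ U), Sieve.ofArrows Y g ∈ K U ∧ ∀ i, Y i ∈ B)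
  (hvan : ∀ U ∈ B, ∀ F : ModSite.Mod O_C, A F → ∀ p : ℕ, 0 < p →
    Subsingleton (ModSite.HU O_C F p (f.fn.obj U)))

include hB hvan in
/-- Over an acyclic class the direct image of an epimorphism with kernel in `A` is epi. -/
theorem epi_push_map {S : ShortComplex (ModSite.Mod O_C)} (hS : S.ShortExact) (h : A S.X₁) :
    Epi (f.push.map S.g) := by
  haveI := H10Coh.isGrothendieckAbelian_sheafOfModules (ModSite.ringSh O_C)
  refine Preadditive.epi_of_cancel_zero _ fun {Z} φ hφ => (genMod O_D).gen φ fun U s => ?_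
  obtain ⟨ι, Yc, g, hcov, hY⟩ := hB U
  refine (genMod O_D).sep hcov _ ?_
  rintro W _ ⟨_, p, _, ⟨i⟩, rfl⟩
  let s' := (genMod O_D).G.map (g i) ≫ s
  let ψ : (genMod O_C).G.obj (f.fn.obj (Yc i)) ⟶ S.X₃ :=
    (eMod O_C (f.fn.obj (Yc i)) S.X₃).symm (eMod O_D (Yc i) (f.push.obj S.X₃) s')
  obtain ⟨e⟩ := nonempty_ext_free_addEquiv O_C (f.fn.obj (Yc i)) S.X₁ 1
  have h1 : Subsingleton (Ext.{u} ((genMod O_C).G.obj (f.fn.obj (Yc i))) S.X₁ 1) :=
    e.toEquiv.subsingleton_congr.2 (hvan _ (hY i) S.X₁ h 1 one_pos)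
  obtain ⟨l, hl⟩ := Ext.covariant_sequence_exact₃ _ hS (Ext.mk₀ ψ) (zero_add 1)
    (Subsingleton.elim (α := Ext.{u} ((genMod O_C).G.obj (f.fn.obj (Yc i))) S.X₁ 1) _ _)
  obtain ⟨l, rfl⟩ := (Ext.mk₀_bijective _ _).2 l
  rw [Ext.mk₀_comp_mk₀] at hl
  have hl' := (Ext.mk₀_bijective _ _).1 hl
  let L : (genMod O_D).G.obj (Yc i) ⟶ f.push.obj S.X₂ :=
    (eMod O_D (Yc i) (f.push.obj S.X₂)).symm (eMod O_C (f.fn.obj (Yc i)) S.X₂ l)
  have hL : L ≫ f.push.map S.g = s' := by
    refine (eMod O_D (Yc i) (f.push.obj S.X₃)).injective ?_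
    refine ((eMod_naturality_right O_D L (f.push.map S.g)).trans (congrArg _
      ((eMod O_D (Yc i) (f.push.obj S.X₂)).apply_symm_apply _))).trans ?_
    refine (eMod_naturality_right O_C l S.g).symm.trans ?_
    refine (congrArg _ hl').trans ?_
    exact (eMod O_C (f.fn.obj (Yc i)) S.X₃).apply_symm_apply _
  have h0 : s' ≫ φ = 0 := by rw [← hL, Category.assoc, hφ, comp_zero]
  rw [Functor.map_comp, Category.assoc, ← Category.assoc ((genMod O_D).G.map (g i))]
  exact (congrArg (_ ≫ ·) h0).trans comp_zero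

variable [PreservesFiniteLimits f.pull] [IsIso f.adj.counit]

include hB hvan in
/-- The image of `A` is a weak Serre subcategory. -/
theorem isWeakSerre_map : WSerre.IsWeakSerre (A.map f.push) := by
  haveI := f.adj.rightAdjoint_preservesLimits
  haveI : PreservesFiniteLimits f.push := inferInstance
  haveI : f.push.Full := f.adj.fullyFaithfulROfIsIsoCounit.full
  haveI : f.push.Faithful := f.adj.fullyFaithfulROfIsIsoCounit.faithful
  have hsh : ∀ {S : ShortComplex (ModSite.Mod O_C)}, S.ShortExact → A S.X₁ →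
      (S.map f.push).ShortExact := fun {S} hS h => by
    haveI := epi_push_map f A B hB hvan hS h
    haveI := hS.mono_f
    exact { exact := hS.exact.map_of_mono_of_preservesKernel f.push inferInstance inferInstance
            mono_f := inferInstanceAs (Mono (f.push.map S.f))
            epi_g := inferInstanceAs (Epi (f.push.map S.g)) }
  have mem : ∀ {E : ModSite.Mod O_D} {F : ModSite.Mod O_C}, A F → (f.push.obj F ≅ E) →
      A.map f.push E := fun hF e => (A.prop_map_iff f.push _).2 ⟨_, hF, ⟨e⟩⟩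
  refine { exists_zero := ?_, kernels_le := ?_, cokernels_le := ?_, prop_X₂_of_shortExact := ?_ }
  · obtain ⟨Z, hZ, hA⟩ := A.exists_prop_of_containsZero
    exact ⟨f.push.obj Z, f.push.map_isZero hZ, mem hA (Iso.refl _)⟩
  · rintro _ ⟨φ, k, hk, hX, hY⟩
    obtain ⟨F, hF, ⟨a⟩⟩ := (A.prop_map_iff f.push _).1 hX
    obtain ⟨G, hG, ⟨b⟩⟩ := (A.prop_map_iff f.push _).1 hY
    let ψ := f.push.preimage (a.hom ≫ φ ≫ b.inv)
    refine mem (A.prop_of_isLimit_kernelFork (limit.isLimit (parallelPair ψ 0)) hF hG)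
      (PreservesKernel.iso f.push ψ ≪≫ kernel.mapIso _ φ a b (by simp [ψ]) ≪≫
        (IsLimit.conePointUniqueUpToIso (limit.isLimit (parallelPair φ 0)) hk))
  · rintro _ ⟨φ, k, hk, hX, hY⟩
    obtain ⟨F, hF, ⟨a⟩⟩ := (A.prop_map_iff f.push _).1 hX
    obtain ⟨G, hG, ⟨b⟩⟩ := (A.prop_map_iff f.push _).1 hY
    let ψ := f.push.preimage (a.hom ≫ φ ≫ b.inv)
    have hker : A (kernel ψ) := A.prop_of_isLimit_kernelFork (limit.isLimit (parallelPair ψ 0)) hF hG
    have hcok : A (cokernel ψ) := A.prop_of_isColimit_cokernelCofork (colimit.isColimit (parallelPair ψ 0)) hF hG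
    have him : A (kernel (cokernel.π ψ)) :=
      A.prop_of_isLimit_kernelFork (limit.isLimit (parallelPair (cokernel.π ψ) 0)) hG hcok
    let q : F ⟶ kernel (cokernel.π ψ) := kernel.lift _ ψ (cokernel.condition ψ)
    haveI : Epi q := inferInstanceAs (Epi (Abelian.factorThruImage ψ))
    have h1 : (ShortComplex.mk (kernel.ι (cokernel.π ψ)) (cokernel.π ψ) (kernel.condition _)).ShortExact :=
      { exact := ShortComplex.exact_of_f_is_kernel _ (kernelIsKernel _) }
    have h2 : (ShortComplex.mk (kernel.ι q) q (kernel.condition q)).ShortExact :=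
      { exact := ShortComplex.exact_of_f_is_kernel _ (kernelIsKernel _) }
    have hkq : A (kernel q) := A.prop_of_isLimit_kernelFork (limit.isLimit (parallelPair q 0)) hF him
    haveI : Epi (f.push.map q) := epi_push_map f A B hB hvan h2 hkq
    have h3 := hsh h1 him
    haveI := h3.epi_g
    haveI : Epi (f.push.map (cokernel.π ψ)) := h3.epi_g
    let c : CokernelCofork φ := CokernelCofork.ofπ (b.inv ≫ f.push.map (cokernel.π ψ)) (by
      rw [← Iso.cancel_iso_hom_left a, comp_zero, ← Category.assoc φ, ← Category.assoc,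
        ← f.push.map_preimage (a.hom ≫ φ ≫ b.inv), ← f.push.map_comp]
      exact (congrArg f.push.map (cokernel.condition ψ)).trans (f.push.map_zero _ _))
    have hc : IsColimit c := by
      refine CokernelCofork.IsColimit.ofπ _ _
        (fun {W} g hg => h3.exact.desc (b.hom ≫ g) ?_) (fun {W} g hg => ?_)
        (fun {W} g hg m hm => ?_)
      · refine (cancel_epi (f.push.map q)).1 ?_
        refine ((Category.assoc _ _ _).symm.trans ?_).trans comp_zero.symm
        refine (congrArg (· ≫ b.hom ≫ g) ((f.push.map_comp _ _).symm.trans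
          (congrArg f.push.map (kernel.lift_ι _ ψ (cokernel.condition ψ))))).trans ?_
        simp [ψ, hg]
      · exact (Category.assoc _ _ _).trans
          ((congrArg (b.inv ≫ ·) (h3.exact.g_desc _ _)).trans (b.inv_hom_id_assoc g))
      · refine (cancel_epi (f.push.map (cokernel.π ψ))).1 ?_
        refine Eq.trans ?_ (h3.exact.g_desc _ _).symm
        exact ((congrArg (b.hom ≫ ·) ((Category.assoc _ _ _).symm.trans hm)).symm.trans
          (b.hom_inv_id_assoc _)).symm
    exact mem hcok (IsColimit.coconePointUniqueUpToIso hc hk)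
  · intro S hS h₁ h₃
    obtain ⟨F₁, hF₁, ⟨a⟩⟩ := (A.prop_map_iff f.push _).1 h₁
    obtain ⟨F₃, hF₃, ⟨b⟩⟩ := (A.prop_map_iff f.push _).1 h₃
    have hP : (S.map f.pull).ShortExact := hS.map_of_exact f.pull
    have hA₁ : A (f.pull.obj S.X₁) := A.prop_of_iso
      ((asIso (f.adj.counit.app F₁)).symm ≪≫ f.pull.mapIso a) hF₁
    have hA₃ : A (f.pull.obj S.X₃) := A.prop_of_iso
      ((asIso (f.adj.counit.app F₃)).symm ≪≫ f.pull.mapIso b) hF₃
    have hA₂ : A (f.pull.obj S.X₂) := A.prop_X₂_of_shortExact hP hA₁ hA₃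
    haveI hu₁ : IsIso (f.adj.unit.app S.X₁) := f.adj.isIso_unit_app_of_iso a.symm
    haveI hu₃ : IsIso (f.adj.unit.app S.X₃) := f.adj.isIso_unit_app_of_iso b.symm
    let φ : S ⟶ (S.map f.pull).map f.push :=
      { τ₁ := f.adj.unit.app S.X₁, τ₂ := f.adj.unit.app S.X₂, τ₃ := f.adj.unit.app S.X₃
        comm₁₂ := (f.adj.unit.naturality S.f).symm
        comm₂₃ := (f.adj.unit.naturality S.g).symm }
    haveI : IsIso φ.τ₁ := hu₁
    haveI : IsIso φ.τ₃ := hu₃
    haveI : IsIso φ.τ₂ := ShortComplex.isIso₂_of_shortExact_of_isIso₁₃ φ hS (hsh hP hA₁)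
    exact mem hA₂ (asIso φ.τ₂).symm

include hB hvan in
theorem isZero_homology_push [SiteCmp.HasRpushD f] (F : ModSite.Mod O_C) (hF : A F) (p : ℤ) (hp : 0 < p) :
    IsZero ((homologyFunctor _ p).obj ((SiteCmp.RpushD f).obj (SiteCmp.inD O_C F))) := by
  rw [IsZero.iff_id_eq_zero]
  refine (genMod O_D).gen _ fun U s => ?_
  rw [Category.comp_id]
  obtain ⟨S, hS, hlift⟩ := exists_local_lift (genMod O_D) s
  obtain ⟨ι, Yc, g, hg, hcov, hY⟩ := exists_cofinal_mem B hB hS
  refine (genMod O_D).sep hcov _ ?_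
  rintro W _ ⟨_, q, _, ⟨i⟩, rfl⟩
  obtain ⟨y, hy⟩ := hlift (g i) (hg i)
  obtain ⟨k, rfl⟩ : ∃ k : ℕ, p = k := ⟨p.toNat, by omega⟩
  have h0 : y = 0 := FreePush.eq_zero_push f (Yc i) _ (k : ℤ) (fun w =>
    ((van_mod_iff O_C k (f.fn.obj (Yc i)) F).2 (hvan _ (hY i) F hF k (Int.ofNat_lt.1 hp))).elim w 0) y
  rw [h0, cls_zero] at hy
  rw [Functor.map_comp, Category.assoc, ← hy, comp_zero]

include hB hvan in
/-- `Rf_*` of an object of `A` is `f_*` in degree zero. -/
theorem nonempty_push_iso [SiteCmp.HasRpushD f] (F : ModSite.Mod O_C) (hF : A F) :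
    Nonempty ((SiteCmp.RpushD f).obj (SiteCmp.inD O_C F) ≅ SiteCmp.inD O_D (f.push.obj F)) := by
  haveI := H10Coh.isGrothendieckAbelian_sheafOfModules (ModSite.ringSh O_C)
  haveI : EnoughInjectives (ModSite.Mod O_C) := IsGrothendieckAbelian.enoughInjectives.{u}
  haveI := f.adj.rightAdjoint_preservesLimits
  haveI := SiteCmpTrunc.isGE_push f (SiteCmp.inD O_C F) 0
  haveI : DerivedCategory.IsLE ((SiteCmp.RpushD f).obj (SiteCmp.inD O_C F)) 0 := by
    rw [isLE_iff]
    exact fun i hi => isZero_homology_push f A B hB hvan F hF i hi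
  obtain ⟨Z, ⟨e⟩⟩ :=
    ((SiteCmp.RpushD f).obj (SiteCmp.inD O_C F)).exists_iso_singleFunctor_obj_of_isGE_of_isLE 0
  obtain ⟨e₀⟩ := RDerPlus.nonempty_homology_single_iso f.push F 0
  let e₁ : Z ≅ f.push.obj F :=
    ((singleFunctorCompHomologyFunctorIso _ 0).app Z).symm ≪≫ (homologyFunctor _ 0).mapIso e.symm ≪≫
      e₀ ≪≫ f.push.rightDerivedZeroIsoSelf.app F
  exact ⟨e ≪≫ (singleFunctor _ 0).mapIso e₁⟩

/-- For any derived adjunction, full faithfulness of `f^*` on a class gives the unit. -/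
theorem isIso_unit_single [SiteCmp.HasRpushD f] (adj : SiteCmp.pullD f ⊣ SiteCmp.RpushD f)
    (F' : ModSite.Mod O_D)
    (h2b : Function.Bijective (fun φ : F' ⟶ F' => f.pull.map φ))
    (hR : Nonempty ((SiteCmp.RpushD f).obj (SiteCmp.inD O_C (f.pull.obj F')) ≅ SiteCmp.inD O_D F')) :
    IsIso (adj.unit.app (SiteCmp.inD O_D F')) := by
  obtain ⟨r⟩ := hR
  let e := (f.pull.mapDerivedCategorySingleFunctor (0 : ℤ)).app F'
  let η := adj.unit.app (SiteCmp.inD O_D F')
  let ν : (SiteCmp.RpushD f).obj ((SiteCmp.pullD f).obj (SiteCmp.inD O_D F')) ≅ SiteCmp.inD O_D F' :=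
    (SiteCmp.RpushD f).mapIso e ≪≫ r
  obtain ⟨u, hu⟩ := (singleFunctor (ModSite.Mod O_D) 0).map_surjective (η ≫ ν.hom)
  suffices h : IsIso u by
    haveI : IsIso (η ≫ ν.hom) := hu ▸ inferInstance
    exact IsIso.of_isIso_comp_right η ν.hom
  have hbij : Function.Bijective (fun φ : F' ⟶ F' => φ ≫ u) := by
    have h1 : Function.Bijective (fun φ : F' ⟶ F' =>
        adj.homEquiv _ _ ((SiteCmp.pullD f).map ((singleFunctor (ModSite.Mod O_D) 0).map φ))) := by
      refine (adj.homEquiv _ _).bijective.comp ?_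
      have hc : (fun φ : F' ⟶ F' => (SiteCmp.pullD f).map ((singleFunctor (ModSite.Mod O_D) 0).map φ)) =
          fun φ => e.hom ≫ (singleFunctor (ModSite.Mod O_C) 0).map (f.pull.map φ) ≫ e.inv := by
        funext φ
        have := (f.pull.mapDerivedCategorySingleFunctor (0 : ℤ)).hom.naturality φ
        exact ((Iso.eq_comp_inv e).2 this).trans (Category.assoc _ _ _)
      change Function.Bijective (fun φ : F' ⟶ F' => _)
      rw [hc]
      exact (Iso.homCongr e.symm e.symm).bijective.comp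
        (Function.Bijective.comp
          (g := ((singleFunctor (ModSite.Mod O_C) 0).map : (f.pull.obj F' ⟶ f.pull.obj F') → _))
          ⟨(singleFunctor (ModSite.Mod O_C) 0).map_injective,
            (singleFunctor (ModSite.Mod O_C) 0).map_surjective⟩ h2b)
    have h2 : ∀ φ : F' ⟶ F', (singleFunctor (ModSite.Mod O_D) 0).map (φ ≫ u) =
        adj.homEquiv _ _ ((SiteCmp.pullD f).map ((singleFunctor (ModSite.Mod O_D) 0).map φ)) ≫
          ν.hom := fun φ => by
      rw [Functor.map_comp, hu, Adjunction.homEquiv_unit, ← Category.assoc]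
      exact congrArg (· ≫ ν.hom) (adj.unit.naturality ((singleFunctor (ModSite.Mod O_D) 0).map φ))
    refine ⟨fun φ φ' h => h1.1 ((Iso.cancel_iso_hom_right _ _ ν).1 ?_), fun x => ?_⟩
    · exact (h2 φ).symm.trans ((congrArg _ h).trans (h2 φ'))
    · obtain ⟨φ, hφ⟩ := h1.2 ((singleFunctor (ModSite.Mod O_D) 0).map x ≫ ν.inv)
      refine ⟨φ, (singleFunctor (ModSite.Mod O_D) 0).map_injective ?_⟩
      rw [h2, show adj.homEquiv _ _ ((SiteCmp.pullD f).map ((singleFunctor _ 0).map φ)) = _ from hφ,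
        Category.assoc, ν.inv_hom_id, Category.comp_id]
  obtain ⟨v, hv⟩ := hbij.2 (𝟙 _)
  refine ⟨v, hbij.1 ?_, hv⟩
  change (u ≫ v) ≫ u = 𝟙 _ ≫ u
  rw [Category.assoc, show v ≫ u = 𝟙 _ from hv, Category.comp_id, Category.id_comp]

end General

section Eps

variable {C : Type u} [SmallCategory C] {J J' : GrothendieckTopology C} (h : J' ≤ J)
  (O : Sheaf J CommRingCat.{u})

/-- The preimage of a map under `ε_*`. -/
noncomputable def preimage {M N : ModSite.Mod O}
    (ψ : (SiteCmp.eps h O).push.obj M ⟶ (SiteCmp.eps h O).push.obj N) : M ⟶ N :=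
  ⟨{ app := fun X => ModuleCat.ofHom
        (X := M.val.obj X) (Y := N.val.obj X)
        { toFun := fun x => (ψ.val.app X).hom x
          map_add' := fun x y => map_add (ψ.val.app X).hom x y
          map_smul' := fun r x => LinearMap.map_smul (ψ.val.app X).hom r x }
     naturality := fun g => by
       ext x
       exact ConcreteCategory.congr_hom (ψ.val.naturality g) x }⟩

theorem full_push : (SiteCmp.eps h O).push.Full where
  map_surjective ψ := ⟨preimage h O ψ, rfl⟩

theorem faithful_push : (SiteCmp.eps h O).push.Faithful where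
  map_injective {M N φ φ'} e := by
    apply SheafOfModules.hom_ext
    ext X x
    exact ConcreteCategory.congr_hom (congr($(e).val.app X)) x

theorem isIso_counit : IsIso (SiteCmp.eps h O).adj.counit :=
  haveI := full_push h O
  haveI := faithful_push h O
  inferInstance

end Eps

end Groth.Agent.H15Site.EpsEquiv
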