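import Groth.Agent.H15Site.ModFlat
import Groth.Prelude.Def_KFlatSite
import Groth.Agent.H16Derived.KFlat.Generic
import Groth.Agent.H16Derived.KFlat.Resolution
import Groth.Agent.H16Derived.KFlat.BoundedAbove
import Groth.Agent.H16Derived.KFlat.Colim

/-!
K-flat complexes of modules on a ringed site: instances for the generic K-flat library and a
functorial K-flat resolution.
-/

universe u
open CategoryTheory CategoryTheory.Limits Opposite

namespace Groth.Agent.H15Site.ModKFlat

open Groth.Agent.H15Site.ModTensor Groth.Agent.H16Derived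

attribute [local instance 10000] SiteInst.hasSheafifySite SiteInst.hasWeakSheafifySite

section Reduce

variable {A : Type*} [Category A] [Abelian A] (Φ : A ⥤ A) (π : Φ ⟶ 𝟭 A)

open ZeroObject

/-- Make a functor preserve zero morphisms by killing the image of the zero object. -/
noncomputable def reduce : A ⥤ A where
  obj M := cokernel (Φ.map (0 : (0 : A) ⟶ M))
  map {M N} f := cokernel.map _ _ (𝟙 _) (Φ.map f) (by
    rw [Category.id_comp, ← Functor.map_comp, zero_comp])
  map_id M := (cancel_epi (cokernel.π _)).1 (by simp)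
  map_comp f g := (cancel_epi (cokernel.π _)).1 (by simp)

instance : (reduce Φ).PreservesZeroMorphisms where
  map_zero M N := by
    refine (cancel_epi (cokernel.π _)).1 ?_
    refine (cokernel.π_desc _ _ _).trans (Eq.trans ?_ comp_zero.symm)
    show Φ.map (0 : M ⟶ N) ≫ cokernel.π (Φ.map (0 : (0 : A) ⟶ N)) = 0
    rw [show (0 : M ⟶ N) = (0 : M ⟶ 0) ≫ (0 : (0 : A) ⟶ N) from zero_comp.symm,
      Functor.map_comp, Category.assoc, cokernel.condition, comp_zero]

/-- The augmentation of the reduced functor. -/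
noncomputable def reduceπ : reduce Φ ⟶ 𝟭 A where
  app M := cokernel.desc _ (π.app M) (by rw [π.naturality]; exact comp_zero)
  naturality {M N} f := by
    refine (cancel_epi (cokernel.π _)).1 ?_
    refine ((cokernel.π_desc_assoc _ _ _ _).trans ?_).trans (cokernel.π_desc_assoc _ _ _ _).symm
    exact ((Category.assoc _ _ _).trans (congrArg (_ ≫ ·) (cokernel.π_desc _ _ _))).trans
      (π.naturality f)

theorem epi_reduceπ_app (M : A) [Epi (π.app M)] : Epi ((reduceπ Φ π).app M) :=
  epi_of_epi_fac (cokernel.π_desc _ _ _ : _ ≫ (reduceπ Φ π).app M = π.app M)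

theorem exists_retract_reduce (M : A) :
    ∃ (i : cokernel (Φ.map (0 : (0 : A) ⟶ M)) ⟶ Φ.obj M)
      (r : Φ.obj M ⟶ cokernel (Φ.map (0 : (0 : A) ⟶ M))), i ≫ r = 𝟙 _ := by
  refine ⟨cokernel.desc _ (𝟙 _ - Φ.map (0 : M ⟶ 0) ≫ Φ.map (0 : (0 : A) ⟶ M)) ?_,
    cokernel.π _, ?_⟩
  · rw [Preadditive.comp_sub, Category.comp_id, ← Category.assoc, ← Functor.map_comp,
      show (0 : (0 : A) ⟶ M) ≫ (0 : M ⟶ 0) = 𝟙 _ from (isZero_zero _).eq_of_src _ _,
      CategoryTheory.Functor.map_id, Category.id_comp, sub_self]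
  · refine (cancel_epi (cokernel.π (Φ.map (0 : (0 : A) ⟶ M)))).1 ?_
    refine (cokernel.π_desc_assoc _ _ _ _).trans ?_
    show _ = cokernel.π (Φ.map (0 : (0 : A) ⟶ M)) ≫ 𝟙 _
    rw [Preadditive.sub_comp, Category.id_comp, Category.assoc, Category.comp_id]
    exact ((congrArg (_ - _ ≫ ·) (cokernel.condition _)).trans
      (congrArg (_ - ·) comp_zero)).trans (sub_zero _)

end Reduce

variable {C : Type u} [SmallCategory C] {J : GrothendieckTopology C} {O : Sheaf J CommRingCat.{u}}

theorem isFlat_of_retract {M N : ModSite.Mod O} (i : N ⟶ M) (r : M ⟶ N) (h : i ≫ r = 𝟙 N)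
    (hM : ModSite.IsFlat M) : ModSite.IsFlat N := by
  rw [isFlat_iff] at hM ⊢
  refine ⟨fun {A B} f _ => ?_⟩
  let τ := (ModSite.tensorBi O).flip.map i
  have h1 : τ.app A ≫ ((ModSite.tensorBi O).flip.map r).app A = 𝟙 _ := by
    rw [← NatTrans.comp_app, ← Functor.map_comp, h, CategoryTheory.Functor.map_id, NatTrans.id_app]
  have : Mono (τ.app A) := (SplitMono.mk _ h1).mono
  have : Mono ((tR M).map f) := hM.preserves f
  have : Mono ((tR N).map f ≫ τ.app B) := by
    rw [τ.naturality]
    infer_instance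
  exact mono_of_mono _ (τ.app B)

theorem hasExactColimitsOfShape_nat : HasExactColimitsOfShape ℕ (ModSite.Mod O) := by
  have := H10Coh.isGrothendieckAbelian_sheafOfModules (ModSite.ringSh O)
  have : AB5OfSize.{0, 0} (ModSite.Mod O) := AB5OfSize_shrink.{0, 0, u, u} _
  exact AB5OfSize.ofShape ℕ

theorem countableAB4 : CountableAB4 (ModSite.Mod O) := by
  have := H10Coh.isGrothendieckAbelian_sheafOfModules (ModSite.ringSh O)
  have : HasFiniteBiproducts (ModSite.Mod O) := Abelian.hasFiniteBiproducts
  have : AB4OfSize.{u} (ModSite.Mod O) := AB4.of_AB5 (ModSite.Mod O)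
  have := hasExactColimitsOfShape_nat (O := O)
  exact inferInstance

instance preservesColimitsNat_obj (N : ModSite.Mod O) :
    PreservesColimitsOfShape ℕ ((ModSite.tensorBi O).obj N) :=
  have := preservesColimits_tL N
  have : PreservesColimitsOfSize.{0, 0} ((ModSite.tensorBi O).obj N) :=
    preservesColimitsOfSize_shrink.{0, u, 0, u} _
  inferInstance

instance preservesColimitsNat_flip_obj (N : ModSite.Mod O) :
    PreservesColimitsOfShape ℕ ((ModSite.tensorBi O).flip.obj N) :=
  have := preservesColimits_tR N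
  have : PreservesColimitsOfSize.{0, 0} ((ModSite.tensorBi O).flip.obj N) :=
    preservesColimitsOfSize_shrink.{0, u, 0, u} _
  inferInstance

theorem isFlatObj_iff (M : ModSite.Mod O) :
    KFlat.IsFlatObj (ModSite.tensorBi O) M ↔ ModSite.IsFlat M := by
  constructor
  · intro h
    rw [isFlat_iff]
    refine ⟨fun {A B} f _ => ?_⟩
    exact (h (ShortComplex.mk f (cokernel.π f) (cokernel.condition f))
      { exact := ShortComplex.exact_cokernel f }).mono_f
  · intro h S hS
    have := additive_tR M
    have := h.1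
    have := h.2
    exact hS.map_of_exact (tR M)

theorem isFlatObj_flip (M : ModSite.Mod O) (h : ModSite.IsFlat M) :
    KFlat.IsFlatObj (ModSite.tensorBi O).flip M := fun S hS =>
  ShortComplex.shortExact_of_iso (S.mapNatIso (tLIso M).symm) ((isFlatObj_iff M).2 h S hS)

theorem isKFlat_iff (K : CochainComplex (ModSite.Mod O) ℤ) :
    ModSite.IsKFlat K ↔ KFlat.IsKFlat (ModSite.tensorBi O) K :=
  (KFlat.isKFlat_iff_homology (ModSite.tensorBi O) K).symm

variable (O) in
/-- The free cover by presheaves with free sections. -/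
noncomputable def freeCover : ModSite.Mod O ⥤ ModSite.Mod O :=
  forg O ⋙ (PresheafOfModules.toPresheaf _ ⋙ (Functor.whiskeringRight _ _ _).obj (forget _)) ⋙
    PresheafOfModules.free _ ⋙ aSh O

variable (O) in
/-- The augmentation of the free cover. -/
noncomputable def freeCoverπ : freeCover O ⟶ 𝟭 (ModSite.Mod O) :=
  Functor.whiskerLeft (forg O)
    (Functor.whiskerRight (PresheafOfModules.freeAdjunction _).counit (aSh O)) ≫ (adj O).counit

instance (M : ModSite.Mod O) : Epi ((freeCoverπ O).app M) := by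
  have : Epi ((PresheafOfModules.freeAdjunction _).counit.app ((forg O).obj M)) :=
    PresheafOfModules.epi_of_surjective fun X x => by
      refine ⟨ModuleCat.freeMk (show (((forg O).obj M).presheaf ⋙ forget _).obj X from x), ?_⟩
      exact ModuleCat.freeDesc_apply _ _
  have : (forg O).Full := (SheafOfModules.fullyFaithfulForget (ModSite.ringSh O)).full
  have : (forg O).Faithful := (SheafOfModules.fullyFaithfulForget (ModSite.ringSh O)).faithful
  show Epi ((aSh O).map ((PresheafOfModules.freeAdjunction _).counit.app ((forg O).obj M)) ≫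
    (adj O).counit.app M)
  infer_instance

theorem isFlat_freeCover (M : ModSite.Mod O) : ModSite.IsFlat ((freeCover O).obj M) :=
  isFlat_aSh fun X => by
    show Module.Flat (O.obj.obj X) ((((forg O).obj M).presheaf ⋙ forget _).obj X →₀ O.obj.obj X)
    infer_instance

variable (O) in
/-- The flat cover, preserving zero morphisms. -/
noncomputable abbrev cover : ModSite.Mod O ⥤ ModSite.Mod O := reduce (freeCover O)

variable (O) in
/-- The augmentation of the flat cover. -/
noncomputable abbrev coverπ : cover O ⟶ 𝟭 (ModSite.Mod O) := reduceπ _ (freeCoverπ O)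

instance (M : ModSite.Mod O) : Epi ((coverπ O).app M) := epi_reduceπ_app _ _ M

theorem isFlat_cover (M : ModSite.Mod O) : ModSite.IsFlat ((cover O).obj M) := by
  obtain ⟨i, r, h⟩ := exists_retract_reduce (freeCover O) M
  exact isFlat_of_retract i r h (isFlat_freeCover M)

/-- The functorial K-flat resolution. -/
noncomputable abbrev res (G : CochainComplex (ModSite.Mod O) ℤ) :
    CochainComplex (ModSite.Mod O) ℤ :=
  (KFlat.Res.P (cover O) (coverπ O)).obj G

/-- The augmentation of the resolution. -/
noncomputable abbrev resψ (G : CochainComplex (ModSite.Mod O) ℤ) : res G ⟶ G :=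
  (KFlat.Res.ψ (cover O) (coverπ O)).app G

theorem quasiIso_resψ (G : CochainComplex (ModSite.Mod O) ℤ) :
    QuasiIso (resψ G) ∧ ∀ n, Epi ((resψ G).f n) :=
  have := hasExactColimitsOfShape_nat (O := O)
  KFlat.Res.quasiIso_ψ_app G

theorem isKFlat_res (G : CochainComplex (ModSite.Mod O) ℤ) :
    KFlat.IsKFlat (ModSite.tensorBi O) (res G) :=
  have := hasExactColimitsOfShape_nat (O := O)
  have := countableAB4 (O := O)
  KFlat.Res.isKFlat_P (fun M => (isFlatObj_iff _).2 (isFlat_cover M)) G

theorem isKFlat_flip_res (G : CochainComplex (ModSite.Mod O) ℤ) :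
    KFlat.IsKFlat (ModSite.tensorBi O).flip (res G) :=
  have := hasExactColimitsOfShape_nat (O := O)
  have := countableAB4 (O := O)
  KFlat.Res.isKFlat_P (fun M => isFlatObj_flip _ (isFlat_cover M)) G

theorem isFlat_res_X (G : CochainComplex (ModSite.Mod O) ℤ) (n : ℤ) :
    ModSite.IsFlat ((res G).X n) :=
  have := hasExactColimitsOfShape_nat (O := O)
  have := countableAB4 (O := O)
  (isFlatObj_iff _).1 (KFlat.Res.isFlatObj_P (fun M => (isFlatObj_iff _).2 (isFlat_cover M)) G n)

end Groth.Agent.H15Site.ModKFlat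

namespace Groth.Agent.H15Site.ModKFlat

open Groth.Agent.H15Site.ModTensor Groth.Agent.H16Derived

attribute [local instance 10000] SiteInst.hasSheafifySite SiteInst.hasWeakSheafifySite

variable {C : Type u} [SmallCategory C] {J : GrothendieckTopology C} {O : Sheaf J CommRingCat.{u}}

/-- An exact K-flat complex stays exact after tensoring with any module on the left. -/
theorem acyclic_tL_map_of_isKFlat (M : ModSite.Mod O) {K : CochainComplex (ModSite.Mod O) ℤ}
    (hK : KFlat.IsKFlat (ModSite.tensorBi O) K) (hac : K.Acyclic) :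
    ((((ModSite.tensorBi O).obj M).mapHomologicalComplex (ComplexShape.up ℤ)).obj K).Acyclic := by
  have := countableAB4 (O := O)
  let L := (CochainComplex.singleFunctor (ModSite.Mod O) 0).obj M
  have hL : ∀ p, p ≠ 0 → IsZero (L.X p) := fun p hp =>
    HomologicalComplex.isZero_single_obj_X _ _ _ _ hp
  have := (quasiIso_resψ L).1
  have h := KFlat.acyclic_tot_of_acyclic_of_isKFlat (ModSite.tensorBi O) hac hK (resψ L)
    (isKFlat_flip_res L)
  refine KFlat.acyclic_of_iso ?_ (KFlat.acyclic_of_iso
    (KFlat.singleLeftIso (ModSite.tensorBi O) L K hL).symm h)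
  exact (NatIso.mapHomologicalComplex ((ModSite.tensorBi O).mapIso
    (HomologicalComplex.singleObjXSelf (ComplexShape.up ℤ) 0 M)) _).app K

/-- Tensoring a right exact piece which is exact after applying the functor keeps the mono. -/
theorem mono_map_of_exact_map {A B : Type*} [Category A] [Category B] [Abelian A] [Abelian B]
    (G : A ⥤ B) [G.Additive] [PreservesFiniteColimits G] {X₁ X₂ Z X₃ : A} (d : X₁ ⟶ X₂) (p : X₂ ⟶ Z)
    (ι : Z ⟶ X₃) (w : d ≫ p = 0) [Epi p]
    (w' : G.map d ≫ G.map (p ≫ ι) = 0)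
    (hG : (ShortComplex.mk (G.map d) (G.map (p ≫ ι)) w').Exact) : Mono (G.map ι) := by
  refine Preadditive.mono_of_cancel_zero _ fun {W} t ht => ?_
  obtain ⟨W₁, π₁, _, t₁, ht₁⟩ := surjective_up_to_refinements_of_epi (G.map p) t
  have h : t₁ ≫ G.map (p ≫ ι) = 0 := by
    rw [Functor.map_comp, ← reassoc_of% ht₁, ht, comp_zero]
  obtain ⟨W₂, π₂, _, w₂, hw₂⟩ := hG.exact_up_to_refinements _ h
  have hz : π₂ ≫ π₁ ≫ t = 0 := by
    rw [ht₁, reassoc_of% hw₂]
    show w₂ ≫ G.map d ≫ G.map p = 0
    rw [← Functor.map_comp, w, Functor.map_zero, comp_zero]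
  simpa only [← cancel_epi π₁, ← cancel_epi π₂, comp_zero] using hz

/-- Flatness from monos into flat objects after tensoring. -/
theorem isFlat_of_mono_into_flat {Z X : ModSite.Mod O} (ι : Z ⟶ X) (hX : ModSite.IsFlat X)
    (h : ∀ M : ModSite.Mod O, Mono (((ModSite.tensorBi O).obj M).map ι)) : ModSite.IsFlat Z := by
  rw [isFlat_iff] at hX ⊢
  refine ⟨fun {A B} f _ => ?_⟩
  let τ := (ModSite.tensorBi O).map f
  have : Mono (τ.app X) := hX.preserves f
  have := h A
  have : Mono (τ.app Z ≫ ((ModSite.tensorBi O).obj B).map ι) := by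
    rw [← τ.naturality ι]
    infer_instance
  exact mono_of_mono (τ.app Z) (((ModSite.tensorBi O).obj B).map ι)

end Groth.Agent.H15Site.ModKFlat
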