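import Mathlib.Algebra.Homology.DerivedCategory.Ext.ExactSequences
import Mathlib.Algebra.Homology.QuasiIso
import Mathlib.Algebra.Homology.SingleHomology

/-!
# Maps out of a resolution by objects without higher extensions
-/

set_option autoImplicit false
set_option linter.style.haveILetI false
set_option linter.unusedSectionVars false
set_option backward.isDefEq.respectTransparency false

universe w v u

open CategoryTheory CategoryTheory.Limits CategoryTheory.Abelian

namespace Groth.Agent.H15Site.ExactResolution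

variable {A : Type u} [Category.{v} A] [Abelian A]
  {P : ChainComplex A ℕ} {Z : A} (φ : P ⟶ (ChainComplex.single₀ A).obj Z) [QuasiIso φ]

/-- The cokernels of the differentials. -/
noncomputable abbrev Q (P : ChainComplex A ℕ) (p : ℕ) : A := cokernel (P.d (p + 1) p)

/-- `Q (p + 1) ⟶ P p ⟶ Q p`. -/
noncomputable abbrev seq (P : ChainComplex A ℕ) (p : ℕ) : ShortComplex A :=
  ShortComplex.mk (cokernel.desc (P.d (p + 1 + 1) (p + 1)) (P.d (p + 1) p) (P.d_comp_d _ _ _))
    (cokernel.π (P.d (p + 1) p)) (by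
      rw [← cancel_epi (cokernel.π _), ← Category.assoc, cokernel.π_desc, cokernel.condition,
        comp_zero])

include φ in
theorem shortExact_seq (p : ℕ) : (seq P p).ShortExact := by
  have hex : (P.sc' (p + 1 + 1) (p + 1) p).Exact :=
    (P.exactAt_iff' _ _ _ (by simp) (by simp)).1
      ((quasiIsoAt_iff_exactAt' φ (p + 1) (HomologicalComplex.exactAt_single_obj _ _ _ _ (by simp))).1
        inferInstance)
  refine { exact := ?_, mono_f := hex.mono_cokernelDesc, epi_g := inferInstance }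
  refine ShortComplex.exact_of_g_is_cokernel _ (CokernelCofork.IsColimit.ofπ _ _
    (fun g hg => cokernel.desc _ g (by
      rw [← cokernel.π_desc (P.d (p + 1 + 1) (p + 1)) (P.d (p + 1) p) (P.d_comp_d _ _ _),
        Category.assoc]
      exact (congrArg (cokernel.π (P.d (p + 1 + 1) (p + 1)) ≫ ·) hg).trans comp_zero))
    (fun g hg => cokernel.π_desc _ _ _)
    (fun g hg m hm => ?_))
  rw [← cancel_epi (cokernel.π (P.d (p + 1) p)), cokernel.π_desc]
  exact hm

include φ in
theorem exact_zero :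
    (ShortComplex.mk (P.d 1 0) (φ.f 0) (by rw [← φ.comm]; simp)).Exact ∧ Epi (φ.f 0) := by
  have h := (ChainComplex.quasiIsoAt₀_iff φ).1 inferInstance
  exact (ShortComplex.quasiIso_iff_of_zeros'
    ((HomologicalComplex.shortComplexFunctor' A (ComplexShape.down ℕ) 1 0 0).map φ)
    (by simp) (by simp) (by simp)).1 h

/-- The last cokernel is the resolved object. -/
noncomputable def isoZero : Q P 0 ≅ Z :=
  haveI := (exact_zero φ).2
  (cokernelIsCokernel (P.d 1 0)).coconePointUniqueUpToIso (exact_zero φ).1.gIsCokernel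

theorem π_isoZero : cokernel.π (P.d 1 0) ≫ (isoZero φ).hom = φ.f 0 :=
  haveI := (exact_zero φ).2
  IsColimit.comp_coconePointUniqueUpToIso_hom (cokernelIsCokernel (P.d 1 0))
    (exact_zero φ).1.gIsCokernel WalkingParallelPair.one

variable [HasExt.{w} A] {F : A}

include φ in
theorem subsingleton_ext_Q (hZ : ∀ q, Subsingleton (Ext Z F (q + 1)))
    (hP : ∀ n q, Subsingleton (Ext (P.X n) F (q + 1))) (p q : ℕ) :
    Subsingleton (Ext (Q P p) F (q + 1)) := by
  induction p generalizing q with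
  | zero =>
    refine subsingleton_of_forall_eq 0 fun x => ?_
    rw [← x.mk₀_id_comp, ← (isoZero φ).hom_inv_id, ← Ext.mk₀_comp_mk₀,
      Ext.comp_assoc _ _ _ (zero_add 0) (zero_add (q + 1)) (by omega),
      (hZ q).elim ((Ext.mk₀ (isoZero φ).inv).comp x (zero_add _)) 0, Ext.comp_zero]
  | succ p ih =>
    refine subsingleton_of_forall_eq 0 fun x => ?_
    obtain ⟨y, rfl⟩ := Ext.contravariant_sequence_exact₁ (shortExact_seq φ p) F x
      (show 1 + (q + 1) = q + 2 by omega) ((ih (q + 1)).elim _ _)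
    rw [(hP p q).elim y 0, Ext.comp_zero]

include φ in
theorem exists_factor (hZ : ∀ q, Subsingleton (Ext Z F (q + 1)))
    (hP : ∀ n q, Subsingleton (Ext (P.X n) F (q + 1))) (p : ℕ) (x : P.X (p + 1) ⟶ F)
    (hx : P.d (p + 1 + 1) (p + 1) ≫ x = 0) : ∃ y : P.X p ⟶ F, P.d (p + 1) p ≫ y = x := by
  obtain ⟨e, he⟩ := Ext.contravariant_sequence_exact₁ (shortExact_seq φ p) F
    (Ext.mk₀ (cokernel.desc _ x hx)) (show 1 + 0 = 1 by omega)
    ((subsingleton_ext_Q φ hZ hP p 0).elim _ _)
  obtain ⟨y, rfl⟩ := (Ext.mk₀_bijective _ _).2 e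
  rw [Ext.mk₀_comp_mk₀] at he
  refine ⟨y, ?_⟩
  have h := congrArg (cokernel.π (P.d (p + 1 + 1) (p + 1)) ≫ ·) ((Ext.mk₀_bijective _ _).1 he)
  simpa using h

include φ in
theorem exists_factor_zero (x : P.X 0 ⟶ F) (hx : P.d 1 0 ≫ x = 0) :
    ∃ y : Z ⟶ F, φ.f 0 ≫ y = x :=
  ⟨(isoZero φ).inv ≫ cokernel.desc _ x hx, by
    rw [← π_isoZero φ, Category.assoc, Iso.hom_inv_id_assoc, cokernel.π_desc]⟩

end Groth.Agent.H15Site.ExactResolution
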