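import Groth.Agent.H15Site.ModOver
import Groth.Prelude.Def_ModSite2
import Mathlib.CategoryTheory.Sites.Point.Over

/-!
# The stalks of an extension by zero on a ringed site
-/

set_option autoImplicit false
set_option linter.style.haveILetI false
set_option linter.unusedSectionVars false
set_option backward.isDefEq.respectTransparency false
set_option backward.isDefEq.respectTransparency.types false

universe u

open CategoryTheory CategoryTheory.Limits Opposite

namespace Groth.Agent.H15Site.ExtZeroStalk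

open Groth.Agent.H15Site.ModTensor Groth.Agent.H15Site.OverPre Groth.Agent.H15Site.ModOver

attribute [local instance 10000] SiteInst.hasSheafifySite SiteInst.hasWeakSheafifySite

variable {C : Type u} [SmallCategory C] {J : GrothendieckTopology C}
  {R : Cᵒᵖ ⥤ CommRingCat.{u}} {U : C} (M : PRU R U) (p : GrothendieckTopology.Point.{u} J)

/-- A summand, as a map of groups. -/
noncomputable def inA {V : C} (φ : V ⟶ U) :
    M.presheaf.obj (op (Over.mk φ)) ⟶ (jObj M).presheaf.obj (op V) :=
  AddCommGrpCat.ofHom (inc M (X := op V) φ).hom.toAddMonoidHom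

/-- Maps out of the sum. -/
theorem exists_descA {V : C} {A : AddCommGrpCat.{u}} (g : ∀ φ : V ⟶ U, M.presheaf.obj (op (Over.mk φ)) ⟶ A) :
    ∃ h : (jObj M).presheaf.obj (op V) ⟶ A, ∀ φ : V ⟶ U, inA M φ ≫ h = g φ := by
  classical
  refine ⟨AddCommGrpCat.ofHom (show _ →+ A from DirectSum.toAddMonoid fun φ => (g φ).hom), fun φ => ?_⟩
  ext m
  exact DirectSum.toAddMonoid_of (fun φ : V ⟶ U => (g φ).hom) φ m

theorem hom_extA {V : C} {A : AddCommGrpCat.{u}} {h h' : (jObj M).presheaf.obj (op V) ⟶ A}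
    (e : ∀ φ : V ⟶ U, inA M φ ≫ h = inA M φ ≫ h') : h = h' := by
  classical
  refine AddCommGrpCat.hom_ext (DirectSum.addHom_ext fun φ m => ?_)
  exact ConcreteCategory.congr_hom (e φ) m

theorem map_inA {V W : C} (f : W ⟶ V) {φ : V ⟶ U} {ψ : W ⟶ U} (e : Over.mk ψ ⟶ Over.mk φ) (he : e.left = f) :
    inA M φ ≫ (jObj M).presheaf.map f.op = M.presheaf.map e.op ≫ inA M ψ := by
  ext m
  exact jMap_inc M (X := op V) (Y := op W) f.op e he m

/-- The stalk of the sum is the sum of the stalks over the points above. -/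
theorem nonempty_fiber_iso :
    Nonempty (p.presheafFiber.obj (jObj M).presheaf ≅
      ∐ fun x : p.fiber.obj U => (p.over x).presheafFiber.obj M.presheaf) := by
  let T : AddCommGrpCat.{u} := ∐ fun x : p.fiber.obj U => (p.over x).presheafFiber.obj M.presheaf
  let g : ∀ {V : C} (v : p.fiber.obj V) (φ : V ⟶ U), M.presheaf.obj (op (Over.mk φ)) ⟶ T := fun v φ =>
    (p.over (p.fiber.map φ v)).toPresheafFiber (Over.mk φ) ⟨v, rfl⟩ M.presheaf ≫
      Sigma.ι (fun x : p.fiber.obj U => (p.over x).presheafFiber.obj M.presheaf) (p.fiber.map φ v)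
  choose d hd using fun (V : C) (v : p.fiber.obj V) => exists_descA M (fun φ => g v φ)
  have hg : ∀ {V : C} (v : p.fiber.obj V) (φ : V ⟶ U) (x : p.fiber.obj U) (hx : p.fiber.map φ v = x),
      g v φ = (p.over x).toPresheafFiber (Over.mk φ) ⟨v, hx⟩ M.presheaf ≫
        Sigma.ι (fun x : p.fiber.obj U => (p.over x).presheafFiber.obj M.presheaf) x := by
    rintro V v φ x rfl
    rfl
  have ha : ∀ ⦃W V : C⦄ (f : W ⟶ V) (w : p.fiber.obj W),
      (jObj M).presheaf.map f.op ≫ d W w = d V (p.fiber.map f w) := fun W V f w => by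
    refine hom_extA M fun φ => ?_
    let e : Over.mk (f ≫ φ) ⟶ Over.mk φ := Over.homMk f
    rw [← Category.assoc, map_inA M f e rfl, Category.assoc, hd, hd,
      hg w (f ≫ φ) (p.fiber.map φ (p.fiber.map f w)) (by rw [Functor.map_comp]; rfl), ← Category.assoc,
      GrothendieckTopology.Point.toPresheafFiber_w]
    rfl
  let a : p.presheafFiber.obj (jObj M).presheaf ⟶ T := p.presheafFiberDesc d ha
  let c : ∀ (x : p.fiber.obj U) (Y : Over U), (p.over x).fiber.obj Y →
      (M.presheaf.obj (op Y) ⟶ p.presheafFiber.obj (jObj M).presheaf) := fun _ Y y =>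
    inA M Y.hom ≫ p.toPresheafFiber Y.left y.1 (jObj M).presheaf
  have hc : ∀ (x : p.fiber.obj U) ⦃Y Z : Over U⦄ (k : Y ⟶ Z) (y : (p.over x).fiber.obj Y),
      M.presheaf.map k.op ≫ c x Y y = c x Z ((p.over x).fiber.map k y) := fun x Y Z k y => by
    dsimp only [c]
    rw [← Category.assoc, ← map_inA M k.left (φ := Z.hom) (ψ := Y.hom) k rfl, Category.assoc,
      GrothendieckTopology.Point.toPresheafFiber_w]
    rfl
  let b : T ⟶ p.presheafFiber.obj (jObj M).presheaf :=
    Sigma.desc fun x => (p.over x).presheafFiberDesc (c x) (hc x)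
  refine ⟨⟨a, b, ?_, ?_⟩⟩
  · refine p.presheafFiber_hom_ext fun V v => ?_
    rw [← Category.assoc, p.toPresheafFiber_presheafFiberDesc d ha, Category.comp_id]
    refine hom_extA M fun φ => ?_
    rw [← Category.assoc, hd]
    simp only [g, b, Category.assoc, Sigma.ι_desc]
    exact (p.over (p.fiber.map φ v)).toPresheafFiber_presheafFiberDesc _ (hc _) (Over.mk φ) ⟨v, rfl⟩
  · refine Sigma.hom_ext _ _ fun x => (p.over x).presheafFiber_hom_ext fun Y y => ?_
    simp only [b, Sigma.ι_desc_assoc, Category.comp_id]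
    rw [← Category.assoc, (p.over x).toPresheafFiber_presheafFiberDesc (c x) (hc x)]
    show (inA M Y.hom ≫ p.toPresheafFiber Y.left y.1 (jObj M).presheaf) ≫ p.presheafFiberDesc d ha = _
    rw [Category.assoc, p.toPresheafFiber_presheafFiberDesc d ha]
    exact (hd Y.left y.1 Y.hom).trans (hg y.1 Y.hom x y.2)

theorem nonempty_stalk_iso (O : Sheaf J CommRingCat.{u}) (G : ModSite.Mod (O.over U)) :
    Nonempty (ModSite.stalkAb p ((ModSite.extZero O U).obj G) ≅
      ∐ fun x : p.fiber.obj U => ModSite.stalkAb (p.over x) G) := by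
  obtain ⟨e⟩ := nonempty_fiber_iso (R := O.obj) (U := U) ((forg (O.over U)).obj G) p
  let P : PMod O := (jp O U).obj ((forg (O.over U)).obj G)
  have : IsIso (p.presheafFiber.map (CategoryTheory.toSheafify J P.presheaf)) :=
    p.W_isInvertedBy_presheafFiber' _ (J.W_toSheafify P.presheaf)
  exact ⟨p.sheafFiber.mapIso ((SheafOfModules.toSheaf _).mapIso ((jIso O U).app G)) ≪≫
    (asIso (p.presheafFiber.map (CategoryTheory.toSheafify J P.presheaf))).symm ≪≫ e⟩

end Groth.Agent.H15Site.ExtZeroStalk
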