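import Groth.Agent.H15Site.ModRelFlat
import Groth.Prelude.Def_ModSite2
import Mathlib.CategoryTheory.Sites.Point.Conservative
import Mathlib.RingTheory.Flat.EquationalCriterion

/-!
# Germs at a point of a site: representatives and refinement; flatness of stalks

`flat_stalk_of_locTriv`, `locTriv_of_flat_stalks`: a module is flat iff its stalks at a conservative
family of points are flat (through the equational criterion `LocTriv`).
-/

universe u

open CategoryTheory CategoryTheory.Limits Opposite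

set_option linter.style.haveILetI false

namespace Groth.Agent.H15Site.PointGerm

open ModTensor ModRel

attribute [local instance 10000] SiteInst.hasSheafifySite SiteInst.hasWeakSheafifySite

variable {C : Type u} [SmallCategory C] {J : GrothendieckTopology C}
  (p : GrothendieckTopology.Point.{u} J)

section Generic

variable {A : Type*} [Category A] [HasColimitsOfSize.{u, u} A]
  {FC : A → A → Type*} {CC : A → Type u} [∀ X Y, FunLike (FC X Y) (CC X) (CC Y)]
  [ConcreteCategory.{u} A FC] [PreservesFilteredColimitsOfSize.{u, u} (forget A)]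

/-- Finitely many coincidences of germs hold on a common smaller neighbourhood. -/
theorem exists_refine (P : Cᵒᵖ ⥤ A) {X : C} (x : p.fiber.obj X) {ι : Type*} (s : Finset ι)
    (a b : ι → ToType (P.obj (op X)))
    (h : ∀ i ∈ s, p.toPresheafFiber X x P (a i) = p.toPresheafFiber X x P (b i)) :
    ∃ (Y : C) (g : Y ⟶ X) (y : p.fiber.obj Y), p.fiber.map g y = x ∧
      ∀ i ∈ s, P.map g.op (a i) = P.map g.op (b i) := by
  classical
  induction s using Finset.induction with
  | empty => exact ⟨X, 𝟙 X, x, by simp, by simp⟩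
  | @insert i s hi ih =>
    obtain ⟨Y, g, y, hy, hY⟩ := ih fun j hj => h j (Finset.mem_insert_of_mem hj)
    have h0 := h i (Finset.mem_insert_self i s)
    rw [← hy, ← p.toPresheafFiber_w_apply, ← p.toPresheafFiber_w_apply,
      p.toPresheafFiber_eq_iff'] at h0
    obtain ⟨Z, g', z, hz, hZ⟩ := h0
    refine ⟨Z, g' ≫ g, z, by simp [hz, hy], fun j hj => ?_⟩
    rcases Finset.mem_insert.1 hj with rfl | hj
    · simpa [op_comp, Functor.map_comp] using hZ
    · simp [op_comp, Functor.map_comp, hY j hj]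

/-- Refinement of a finite family of coincidences, indexed by a finite type. -/
theorem exists_refine' (P : Cᵒᵖ ⥤ A) {X : C} (x : p.fiber.obj X) {ι : Type*} [Fintype ι]
    (a b : ι → ToType (P.obj (op X)))
    (h : ∀ i, p.toPresheafFiber X x P (a i) = p.toPresheafFiber X x P (b i)) :
    ∃ (Y : C) (g : Y ⟶ X) (y : p.fiber.obj Y), p.fiber.map g y = x ∧
      ∀ i, P.map g.op (a i) = P.map g.op (b i) := by
  obtain ⟨Y, g, y, hy, hY⟩ := exists_refine p P x Finset.univ a b fun i _ => h i
  exact ⟨Y, g, y, hy, fun i => hY i (Finset.mem_univ i)⟩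

end Generic

/-- A point has a neighbourhood. -/
theorem exists_nhd : ∃ X : C, Nonempty (p.fiber.obj X) := by
  obtain ⟨Z⟩ := IsCofiltered.nonempty (C := p.fiber.Elements)
  exact ⟨Z.1, ⟨Z.2⟩⟩

variable {O : Sheaf J CommRingCat.{u}}

/-- Finitely many germs of functions and sections are germs on one neighbourhood, under a given one. -/
theorem exists_rep (F : ModSite.Mod O) {U : C} (u₀ : p.fiber.obj U) {ι κ : Type} [Fintype ι]
    [Fintype κ] (r : ι → ModSite.stalkRing p O) (m : κ → ModSite.stalkAb p F) :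
    ∃ (X : C) (g : X ⟶ U) (x : p.fiber.obj X), p.fiber.map g x = u₀ ∧
      ∃ (r₀ : ι → O.obj.obj (op X)) (m₀ : κ → ((forg O).obj F).obj (op X)),
        (∀ i, ModSite.germRing p X x (r₀ i) = r i) ∧ ∀ k, ModSite.germ p F X x (m₀ k) = m k := by
  classical
  choose XR xR R hR using fun i => p.toPresheafFiber_jointly_surjective (P := O.obj) (r i)
  choose XM xM M hM using fun k =>
    p.toPresheafFiber_jointly_surjective (P := (ModSite.toAb F).obj) (m k)
  let o : ι ⊕ κ ⊕ Unit → p.fiber.Elements :=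
    Sum.elim (fun i => ⟨XR i, xR i⟩) (Sum.elim (fun k => ⟨XM k, xM k⟩) fun _ => ⟨U, u₀⟩)
  obtain ⟨Z, hZ⟩ := IsCofiltered.inf_objs_exists (Finset.univ.image o)
  have hZ' : ∀ i, Nonempty (Z ⟶ o i) :=
    fun i => hZ (Finset.mem_image.2 ⟨i, Finset.mem_univ i, rfl⟩)
  have π' : ∀ i, Z ⟶ o i := fun i => (hZ' i).some
  refine ⟨Z.1, (π' (.inr (.inr ()))).1, Z.2, (π' (.inr (.inr ()))).2,
    fun i => O.obj.map (π' (.inl i)).1.op (R i),
    fun k => (ModSite.toAb F).obj.map (π' (.inr (.inl k))).1.op (M k), fun i => ?_, fun k => ?_⟩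
  · exact (p.toPresheafFiber_w_apply (π' (.inl i)).1 Z.2 O.obj (R i)).trans
      ((congrArg (fun t => p.toPresheafFiber (XR i) t O.obj (R i)) (π' (.inl i)).2).trans (hR i))
  · exact (p.toPresheafFiber_w_apply (π' (.inr (.inl k))).1 Z.2 (ModSite.toAb F).obj (M k)).trans
      ((congrArg (fun t => p.toPresheafFiber (XM k) t (ModSite.toAb F).obj (M k))
        (π' (.inr (.inl k))).2).trans (hM k))

lemma germ_sum (F : ModSite.Mod O) {X : C} (x : p.fiber.obj X) {ι : Type*} (s : Finset ι)
    (m : ι → ((forg O).obj F).obj (op X)) :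
    ModSite.germ p F X x (∑ i ∈ s, m i) = ∑ i ∈ s, ModSite.germ p F X x (m i) :=
  map_sum (p.toPresheafFiber X x (ModSite.toAb F).obj).hom m s

lemma germ_lin (F : ModSite.Mod O) {X : C} (x : p.fiber.obj X) {ι : Type*} [Fintype ι]
    (r : ι → O.obj.obj (op X)) (m : ι → ((forg O).obj F).obj (op X)) :
    ModSite.germ p F X x (∑ i, r i • m i) =
      ∑ i, ModSite.germRing p X x (r i) • ModSite.germ p F X x (m i) := by
  rw [germ_sum]
  exact Finset.sum_congr rfl fun i _ => ModSite.germ_smul p F X x (r i) (m i)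

lemma germ_rs (F : ModSite.Mod O) {X Y : C} (g : Y ⟶ X) (y : p.fiber.obj Y)
    (m : ((forg O).obj F).obj (op X)) :
    ModSite.germ p F Y y (rs ((forg O).obj F) g.op m) = ModSite.germ p F X (p.fiber.map g y) m :=
  p.toPresheafFiber_w_apply g y (ModSite.toAb F).obj m

lemma germRing_rr {X Y : C} (g : Y ⟶ X) (y : p.fiber.obj Y) (r : O.obj.obj (op X)) :
    ModSite.germRing p Y y (rr O g.op r) = ModSite.germRing p X (p.fiber.map g y) r :=
  p.toPresheafFiber_w_apply g y O.obj r

/-- The stalks of a flat module are flat. -/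
theorem flat_stalk_of_locTriv {F : ModSite.Mod O} (hF : LocTriv F) :
    Module.Flat (ModSite.stalkRing p O) (ModSite.stalkMod p F) := by
  rw [Module.Flat.iff_forall_isTrivialRelation]
  intro l f x h
  obtain ⟨U, ⟨u₀⟩⟩ := exists_nhd p
  obtain ⟨X, g, xX, -, f₀, m₀, hf, hm⟩ := exists_rep p F u₀ f x
  have h0 : ModSite.germ p F X xX (∑ i, f₀ i • m₀ i) = ModSite.germ p F X xX 0 := by
    rw [germ_lin]
    simp only [hf, hm]
    exact h.trans (map_zero (p.toPresheafFiber X xX (ModSite.toAb F).obj).hom).symm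
  obtain ⟨Y, gY, y, hy, hY⟩ := exists_refine' p (ModSite.toAb F).obj xX (ι := Unit)
    (fun _ => ∑ i, f₀ i • m₀ i) (fun _ => 0) (fun _ => h0)
  have hY' : rs ((forg O).obj F) gY.op (∑ i, f₀ i • m₀ i) = 0 :=
    (hY ()).trans (rs_zero ((forg O).obj F) gY.op)
  rw [rs_sum] at hY'
  simp only [rs_smul'] at hY'
  obtain ⟨S, hS, hS'⟩ := hF Y l (fun i => rr O gY.op (f₀ i))
    (fun i => rs ((forg O).obj F) gY.op (m₀ i)) hY'
  obtain ⟨V, gV, hgV, v, hv⟩ := p.jointly_surjective S hS y
  obtain ⟨k, t, a, h1, h2⟩ := hS' gV hgV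
  refine ⟨k, fun i j => ModSite.germRing p V v (a i j), fun j => ModSite.germ p F V v (t j),
    fun i => ?_, fun j => ?_⟩
  · have := congrArg (ModSite.germ p F V v) (h1 i)
    rw [germ_rs, hv, germ_rs, hy] at this
    exact (hm i).symm.trans (this.trans (germ_lin p F v _ _))
  · have := congrArg (p.toPresheafFiber V v O.obj).hom (h2 j)
    rw [map_sum, map_zero] at this
    refine Eq.trans (Finset.sum_congr rfl fun i _ => ?_) this
    show f i * ModSite.germRing p V v (a i j) = _
    rw [map_mul, mul_comm]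
    congr 1
    show f i = ModSite.germRing p V v (rr O gV.op (rr O gY.op (f₀ i)))
    rw [germRing_rr, hv, germRing_rr, hy, hf]

/-- A module with flat stalks at a conservative family of points is flat. -/
theorem locTriv_of_flat_stalks {P : ObjectProperty (GrothendieckTopology.Point.{u} J)}
    (hP : P.IsConservativeFamilyOfPoints) {F : ModSite.Mod O}
    (h : ∀ q : GrothendieckTopology.Point.{u} J, P q →
      Module.Flat (ModSite.stalkRing q O) (ModSite.stalkMod q F)) : LocTriv F := by
  intro U n f s hs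
  let S : Presieve U := fun V g =>
    ∃ (l : ℕ) (t : Fin l → ((forg O).obj F).obj (op V)) (a : Fin n → Fin l → O.obj.obj (op V)),
      (∀ j, rs ((forg O).obj F) g.op (s j) = ∑ k, a j k • t k) ∧
      (∀ k, ∑ j, a j k * rr O g.op (f j) = 0)
  let S' : Sieve U := ⟨S, fun {V W g} hg h => by
    obtain ⟨l, t, a, h1, h2⟩ := hg
    refine ⟨l, fun k => rs ((forg O).obj F) h.op (t k), fun j k => rr O h.op (a j k),
      fun j => ?_, fun k => ?_⟩
    · rw [op_comp, ← rs_rs, h1, rs_sum]
      simp only [rs_smul']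
    · have := congrArg (O.obj.map h.op).hom (h2 k)
      rw [map_sum, map_zero] at this
      refine Eq.trans (Finset.sum_congr rfl fun j _ => ?_) this
      rw [map_mul, op_comp, ← rr_rr]⟩
  refine ⟨S', ?_, fun V g hg => hg⟩
  refine J.superset_covering (S := Sieve.ofArrows (fun a : Σ V : C, { g : V ⟶ U // S g } => a.1)
    (fun a => a.2.1)) ?_ ?_
  · rw [Sieve.generate_le_iff, Presieve.ofArrows_le_iff]
    exact fun a => a.2.2
  · rw [hP.jointly_reflect_ofArrows_mem]
    rintro ⟨q, hq⟩ (u₀ : q.fiber.obj U)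
    have hflat := h q hq
    have hrel : ∑ j, ModSite.germRing q U u₀ (f j) • ModSite.germ q F U u₀ (s j) =
        (0 : ModSite.stalkMod q F) := by
      refine (germ_lin q F u₀ f s).symm.trans ?_
      exact (congrArg (ModSite.germ q F U u₀) hs).trans
        (map_zero (q.toPresheafFiber U u₀ (ModSite.toAb F).obj).hom)
    obtain ⟨k, a, y, h1, h2⟩ := Module.Flat.iff_forall_isTrivialRelation.1 hflat hrel
    obtain ⟨X, g, x, hx, a₀, y₀, ha, hy⟩ := exists_rep q F u₀ (fun i : Fin n × Fin k => a i.1 i.2) y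
    obtain ⟨Y, g₁, y₁, hy₁, hY⟩ := exists_refine' q (ModSite.toAb F).obj x (ι := Fin n)
      (fun j => rs ((forg O).obj F) g.op (s j)) (fun j => ∑ i, a₀ (j, i) • y₀ i) (fun j => by
        show ModSite.germ q F X x (rs ((forg O).obj F) g.op (s j)) = ModSite.germ q F X x _
        rw [germ_rs, hx]
        refine Eq.trans ?_ (germ_lin q F x _ _).symm
        simp only [ha, hy]
        exact h1 j)
    obtain ⟨Z, g₂, z, hz, hZ⟩ := exists_refine' q O.obj y₁ (ι := Fin k)
      (fun i => ∑ j, rr O g₁.op (a₀ (j, i)) * rr O (g₁ ≫ g).op (f j)) (fun _ => 0) (fun i => by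
        rw [map_zero, map_sum]
        refine Eq.trans (Finset.sum_congr rfl fun j _ => ?_) (h2 i)
        rw [map_mul, mul_comm]
        show ModSite.germRing q Y y₁ (rr O (g₁ ≫ g).op (f j)) *
          ModSite.germRing q Y y₁ (rr O g₁.op (a₀ (j, i))) = _
        rw [germRing_rr, germRing_rr, hy₁, ha, Functor.map_comp]
        simp [hy₁, hx])
    refine ⟨⟨Z, g₂ ≫ g₁ ≫ g, k, fun i => rs ((forg O).obj F) (g₂ ≫ g₁).op (y₀ i),
      fun j i => rr O (g₂ ≫ g₁).op (a₀ (j, i)), fun j => ?_, fun i => ?_⟩, z, ?_⟩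
    · have e := congrArg (rs ((forg O).obj F) g₂.op) (show rs ((forg O).obj F) g₁.op
        (rs ((forg O).obj F) g.op (s j)) = rs ((forg O).obj F) g₁.op (∑ i, a₀ (j, i) • y₀ i) from hY j)
      rw [rs_rs, rs_rs, rs_rs, rs_sum] at e
      simp only [rs_smul'] at e
      simpa [op_comp] using e
    · have e := hZ i
      rw [map_zero, map_sum] at e
      refine Eq.trans (Finset.sum_congr rfl fun j _ => ?_) e
      rw [map_mul]
      show _ = rr O g₂.op _ * rr O g₂.op _
      rw [rr_rr, rr_rr]
      simp [op_comp]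
    · simp [hz, hy₁, hx]

end Groth.Agent.H15Site.PointGerm
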