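import Groth.Agent.H15Site.RefTrivInv
import Groth.Agent.H15Site.PointGerm

/-!
# Modules flat over the inverse image ring at the points

`flat_stalk_resInv`: the stalk of `F` restricted to `f⁻¹O_D` is `F_p` with scalars through the
stalk of `f⁻¹O_D ⟶ O_C`.
-/

universe u

open CategoryTheory CategoryTheory.Limits Opposite

set_option linter.style.haveILetI false
set_option backward.isDefEq.respectTransparency false

namespace Groth.Agent.H15Site.InvRingChart

open ModTensor ModRel PullTensor

attribute [local instance 10000] SiteInst.hasSheafifySite SiteInst.hasWeakSheafifySite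

variable {C D : Type u} [SmallCategory C] [SmallCategory D] {J : GrothendieckTopology C}
  {K : GrothendieckTopology D} {O_C : Sheaf J CommRingCat.{u}} {O_D : Sheaf K CommRingCat.{u}}
  (f : ModSite.RMor O_C O_D)

lemma moduleStalk_resInv (p : GrothendieckTopology.Point.{u} J) (F : ModSite.Mod O_C) :
    ModSite.moduleStalk p (resInv f F) = (Module.compHom (ModSite.stalkAb p F)
      ((p.sheafFiber (A := CommRingCat.{u})).map f.invSharp).hom :
        Module (ModSite.stalkRing p f.invRing) (ModSite.stalkAb p F)) := by
  refine Module.ext' _ _ fun r m => ?_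
  obtain ⟨U, ⟨u₀⟩⟩ := PointGerm.exists_nhd p
  obtain ⟨X, g, x, -, r₀, m₀, hr, hm⟩ := PointGerm.exists_rep p (resInv f F) u₀ (ι := Unit)
    (κ := Unit) (fun _ => r) (fun _ => m)
  rw [← hr (), ← hm ()]
  refine (ModSite.germ_smul p (resInv f F) X x (r₀ ()) (m₀ ())).symm.trans ?_
  refine Eq.trans ?_ (congrArg (fun t : ModSite.stalkRing p O_C => t • ModSite.germ p F X x (m₀ ()))
    (p.toPresheafFiber_naturality_apply f.invSharp.hom X x (r₀ ()))).symm
  exact ModSite.germ_smul p F X x _ _

theorem locTriv_resInv_of_flat_stalks {P : ObjectProperty (GrothendieckTopology.Point.{u} J)}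
    (hP : P.IsConservativeFamilyOfPoints) {F : ModSite.Mod O_C}
    (h : ∀ p : GrothendieckTopology.Point.{u} J, P p →
      @Module.Flat (ModSite.stalkRing p f.invRing) (ModSite.stalkAb p F) _ _
        (Module.compHom (ModSite.stalkAb p F)
          ((p.sheafFiber (A := CommRingCat.{u})).map f.invSharp).hom)) :
    LocTriv (resInv f F) := by
  refine PointGerm.locTriv_of_flat_stalks hP fun p hp => ?_
  show @Module.Flat _ _ _ _ (ModSite.moduleStalk p (resInv f F))
  rw [moduleStalk_resInv]
  exact h p hp

theorem exact_pull_tR {P : ObjectProperty (GrothendieckTopology.Point.{u} J)}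
    (hP : P.IsConservativeFamilyOfPoints) (F : ModSite.Mod O_C)
    (h : ∀ p : GrothendieckTopology.Point.{u} J, P p →
      @Module.Flat (ModSite.stalkRing p f.invRing) (ModSite.stalkAb p F) _ _
        (Module.compHom (ModSite.stalkAb p F)
          ((p.sheafFiber (A := CommRingCat.{u})).map f.invSharp).hom)) :
    PreservesFiniteLimits (f.pull ⋙ tR F) ∧ PreservesFiniteColimits (f.pull ⋙ tR F) :=
  ⟨preservesFiniteLimits_pull_tR (refTriv_of_locTriv (locTriv_resInv_of_flat_stalks f hP h)),
    preservesFiniteColimits_pull_tR f F⟩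

end Groth.Agent.H15Site.InvRingChart
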