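import Groth.Agent.H15Site.PullFlat
import Groth.Agent.H15Site.PullTensor
import Groth.Agent.H15Site.CartanSite
import Groth.Agent.H10Coh.ToSheaf

/-!
Inverse image along a morphism of ringed sites is exact on short exact sequences with flat cokernel.
-/

universe u

open CategoryTheory CategoryTheory.Limits MonoidalCategory Opposite TensorProduct
open scoped Classical

namespace Groth.Agent.H15Site.PullTensor

open ModTensor ModRel

attribute [local instance 10000] SiteInst.hasSheafifySite SiteInst.hasWeakSheafifySite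

variable {C D : Type u} [SmallCategory C] [SmallCategory D] {J : GrothendieckTopology C}
  {K : GrothendieckTopology D} {O_C : Sheaf J CommRingCat.{u}} {O_D : Sheaf K CommRingCat.{u}}
  {f : ModSite.RMor O_C O_D}

section Sections

variable {S : ShortComplex (ModSite.Mod O_D)} (hS : S.ShortExact)

include hS in
theorem shortExact_toAb : (S.map (SheafOfModules.toSheaf.{u} (ModSite.ringSh O_D))).ShortExact := by
  have := H10Coh.preservesFiniteColimits_toSheaf (ModSite.ringSh O_D)
  exact hS.map_of_exact _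

include hS in
theorem injective_f (d : Dᵒᵖ) : Function.Injective ((((forg O_D).map S.f).app d).hom) :=
  (Edge.exact_sections (shortExact_toAb hS) d).1

include hS in
theorem exists_preimage_f (d : Dᵒᵖ) (x : ((forg O_D).obj S.X₂).obj d)
    (hx : (((forg O_D).map S.g).app d).hom x = 0) :
    ∃ y, (((forg O_D).map S.f).app d).hom y = x :=
  (Edge.exact_sections (shortExact_toAb hS) d).2 x hx

include hS in
theorem exists_lift_g {e : D} {q : ℕ} (t : Fin q → ((forg O_D).obj S.X₃).obj (op e)) :
    ∃ T ∈ K e, ∀ ⦃e' : D⦄ (g : e' ⟶ e), T g →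
      ∃ t' : Fin q → ((forg O_D).obj S.X₂).obj (op e'),
        ∀ l, (((forg O_D).map S.g).app (op e')).hom (t' l) = rs _ g.op (t l) := by
  let T : Fin q → Sieve e := fun l =>
    Presheaf.imageSieve ((S.map (SheafOfModules.toSheaf.{u} (ModSite.ringSh O_D))).g.hom) (t l)
  have hT : ∀ s : Finset (Fin q), s.inf T ∈ K e := fun s => by
    induction s using Finset.induction_on with
    | empty => exact K.top_mem e
    | insert a s _ ih =>
      rw [Finset.inf_insert]
      exact K.intersection_covering
        (Edge.imageSieve_mem_of_shortExact (shortExact_toAb hS) _) ih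
  refine ⟨Finset.univ.inf T, hT _, fun e' g hg => ?_⟩
  have h : ∀ l, T l g := fun l => (Finset.inf_le (Finset.mem_univ l) : Finset.univ.inf T ≤ T l) _ hg
  choose t' ht' using h
  exact ⟨t', ht'⟩

end Sections

section MapM

/-- A morphism of presheaves of modules on sections, linear over the commutative ring. -/
noncomputable abbrev sectLin {M' M : PMod O_D} (u : M' ⟶ M) (e : D) :
    M'.obj (op e) →ₗ[O_D.obj.obj (op e)] M.obj (op e) :=
  (u.app (op e)).hom


variable {M' M : PMod O_D} (u : M' ⟶ M) {G : PMod O_C}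

/-- `u` on generators. -/
def idxMap {c : C} (i : Idx f M' c) : Idx f M c := ⟨i.X, (u.app _).hom i.m⟩

variable (f)

/-- Functoriality of the explicit presheaf inverse image. -/
noncomputable def explMap : expl f M' ⟶ expl f M :=
  cokernel.desc (relHom f M')
    (PresheafOfModules.freeObjDesc
      { app := fun c => ↾fun i => cl f M i.X ((u.app _).hom i.m)
        naturality := fun c c' v => by
          ext i
          exact (rs_cl f M v.unop i.X _).symm })
    (by
      refine PresheafOfModules.hom_ext fun c => ModuleCat.free_hom_ext fun r => ?_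
      show (PresheafOfModules.Hom.app (PresheafOfModules.freeObjDesc _) c).hom
        (((relHom f M').app c).hom (dl O_C (P := relP f M') r)) = 0
      rw [relHom_dl]
      rcases r with ⟨X, m, m'⟩ | ⟨X, r, m⟩ | ⟨X, d', g, m⟩
      · simp only [relVal, map_sub]
        erw [ModuleCat.freeDesc_apply, ModuleCat.freeDesc_apply, ModuleCat.freeDesc_apply]
        show cl f M X ((u.app _).hom (m + m')) - cl f M X ((u.app _).hom m) -
          cl f M X ((u.app _).hom m') = 0
        rw [map_add, cl_add]
        abel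
      · simp only [relVal, map_sub, map_smul]
        erw [ModuleCat.freeDesc_apply, ModuleCat.freeDesc_apply]
        show cl f M X ((u.app _).hom (r • m)) - rho X r • cl f M X ((u.app _).hom m) = 0
        rw [show (u.app _).hom (r • m : M'.obj _) = r • (u.app _).hom m from
          (u.app _).hom.map_smul r m, cl_smul]
        exact sub_self _
      · simp only [relVal, map_sub]
        erw [ModuleCat.freeDesc_apply, ModuleCat.freeDesc_apply]
        show cl f M X ((u.app _).hom (rs M' g.op m)) -
          cl f M (StructuredArrow.mk (X.hom ≫ f.fn.map g)) ((u.app _).hom m) = 0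
        rw [rs_app]
        exact sub_eq_zero.2 (cl_res f M (X := X) (Y := StructuredArrow.mk (X.hom ≫ f.fn.map g))
          (StructuredArrow.homMk g rfl) _))

lemma explMap_cl {c : C} (X : StructuredArrow c f.fn) (m : M'.obj (op X.right)) :
    ((explMap f u).app (op c)).hom (cl f M' X m) = cl f M X ((u.app _).hom m) := by
  refine (ConcreteCategory.congr_hom (congrArg (fun k => PresheafOfModules.Hom.app k (op c))
    (cokernel.π_desc (relHom f M') _ _)) (dl O_C (P := idxP f M') (⟨X, m⟩ : Idx f M' c))).trans ?_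
  exact ModuleCat.freeDesc_apply _ _

variable {f}

/-- `u` on coordinates. -/
noncomputable def mapI {c : C} :
    (Idx f M' c →₀ G.obj (op c)) →+ (Idx f M c →₀ G.obj (op c)) :=
  Finsupp.mapDomain.addMonoidHom (idxMap u)

lemma mapI_single {c : C} (i : Idx f M' c) (x : G.obj (op c)) :
    mapI u (Finsupp.single i x) = Finsupp.single (idxMap u i) x :=
  Finsupp.mapDomain_single

lemma cls_mapI {c : C} (z : Idx f M' c →₀ G.obj (op c)) :
    cls f M G (mapI u z) = ((G ◁ explMap f u).app (op c)).hom (cls f M' G z) := by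
  induction z using Finsupp.induction_linear with
  | zero => simp only [map_zero]
  | add z₁ z₂ h₁ h₂ => simp only [map_add, h₁, h₂]
  | single i x =>
    rw [mapI_single, cls_single, cls_single]
    exact (congrArg (fun t => x ⊗ₜ[O_C.obj.obj (op c)] t) (explMap_cl f u i.X i.m)).symm

lemma evc_mapI {c c' : C} {v : c' ⟶ c} {S : Finset (StructuredArrow c f.fn)}
    {T : Finset (PullSets.Arr f.fn c)} (κ : PullSets.DCone f.fn v S T)
    (z : Idx f M' c →₀ G.obj (op c)) (hz : ∀ i ∈ z.support, i.X ∈ S) :
    evc κ (mapI u z) = LinearMap.lTensor (Rs f κ.b G) (sectLin u κ.e) (evc κ z) := by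
  conv_lhs => rw [← Finsupp.sum_single z]
  conv_rhs => rw [← Finsupp.sum_single z]
  rw [Finsupp.sum, map_sum, map_sum, map_sum]
  refine Eq.trans ?_ (map_sum _ _ _).symm
  refine Finset.sum_congr rfl fun i hi => ?_
  rw [mapI_single, evc_single κ i (hz i hi), evc_single κ (idxMap u i) (hz i hi)]
  refine Eq.trans ?_ (LinearMap.lTensor_tmul _ _ _ _).symm
  congr 1
  exact (rs_app u _ _).symm

end MapM

section Pure

variable {S : ShortComplex (ModSite.Mod O_D)} (hS : S.ShortExact) (hH : LocTriv S.X₃)
  {G : PMod O_C}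

include hS hH in
lemma kill_pure {c : C} {e : D} (b : c ⟶ f.fn.obj e)
    (w : Rs f b G ⊗[O_D.obj.obj (op e)] ((forg O_D).obj S.X₁).obj (op e))
    (hw : LinearMap.lTensor (Rs f b G) (sectLin ((forg O_D).map S.f) e) w = 0) :
    ∃ T ∈ K e, ∀ ⦃e' : D⦄ (g : e' ⟶ e), T g → ∀ ⦃c' : C⦄ (v : c' ⟶ c)
      (b' : c' ⟶ f.fn.obj e'), b' ≫ f.fn.map g = v ≫ b →
        rs (G ⊗ expl f ((forg O_D).obj S.X₁)) v.op (psiC b w) = 0 := by
  obtain ⟨n, x, m, rfl⟩ := exists_sum_toRs b w
  replace hw : ∑ i, toRs f b G (x i) ⊗ₜ[O_D.obj.obj (op e)]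
      ((((forg O_D).map S.f).app (op e)).hom (m i)) = 0 := by
    refine Eq.trans ?_ hw
    refine Eq.trans ?_ (map_sum _ _ _).symm
    exact Finset.sum_congr rfl fun i _ => (LinearMap.lTensor_tmul _ _ _ _).symm
  obtain ⟨k, l, g₂, a, a', nn, hm, h0, hg⟩ := TensorRel.exists_rel _ _ hw
  let A : Fin n ⊕ Fin k → Fin l → O_D.obj.obj (op e) := Sum.elim a a'
  let π : ((forg O_D).obj S.X₂).obj (op e) →ₗ[O_D.obj.obj (op e)]
      ((forg O_D).obj S.X₃).obj (op e) := (((forg O_D).map S.g).app (op e)).hom
  have hπf : ∀ y, π ((((forg O_D).map S.f).app (op e)).hom y) = 0 := fun y =>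
    ConcreteCategory.congr_hom
      (congrArg (fun k => PresheafOfModules.Hom.app k (op e)) (congrArg (forg O_D).map S.zero)) y
  have hrel : ∀ i, ∑ j, A i j • π (nn j) = 0 := by
    intro i
    rcases i with p | s
    · have := congrArg π (hm p)
      rw [hπf, map_sum] at this
      simp only [map_smul] at this
      exact this.symm
    · have := congrArg π (h0 s)
      rw [map_sum, map_zero] at this
      simp only [map_smul] at this
      exact this
  obtain ⟨T, hT, hT'⟩ := hH.multi e l A (fun j => π (nn j)) hrel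
  have key : ∀ ⦃e₁ : D⦄ (g : e₁ ⟶ e), T g → ∃ W ∈ K e₁, ∀ ⦃e' : D⦄ (g' : e' ⟶ e₁), W g' →
      ∀ ⦃c' : C⦄ (v : c' ⟶ c) (b' : c' ⟶ f.fn.obj e'), b' ≫ f.fn.map (g' ≫ g) = v ≫ b →
        rs (G ⊗ expl f ((forg O_D).obj S.X₁)) v.op
          (psiC b (∑ i, toRs f b G (x i) ⊗ₜ[O_D.obj.obj (op e)] m i)) = 0 := by
    intro e₁ g hg₁
    obtain ⟨q, t, β, ht, hβ⟩ := hT' g hg₁
    obtain ⟨W, hW, hW'⟩ := exists_lift_g hS t
    refine ⟨W, hW, fun e' g' hg' c' v b' hb => ?_⟩
    obtain ⟨t', ht'⟩ := hW' g' hg'
    have hy : ∀ j, ∃ y : ((forg O_D).obj S.X₁).obj (op e'),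
        (((forg O_D).map S.f).app (op e')).hom y =
          rs _ (g' ≫ g).op (nn j) - ∑ r, rr O_D g'.op (β j r) • t' r := by
      intro j
      refine exists_preimage_f hS (op e') _ ?_
      rw [map_sub, map_sum, rs_app]
      simp only [map_smul, ht']
      rw [op_comp, ← rs_rs]
      show rs _ g'.op (rs _ g.op (π (nn j))) - _ = 0
      rw [ht, ModRel.rs_sum]
      simp only [rs_smul']
      exact sub_self _
    choose y hy using hy
    have hAy : ∀ i, (((forg O_D).map S.f).app (op e')).hom (∑ j, rr O_D (g' ≫ g).op (A i j) • y j) =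
        rs _ (g' ≫ g).op (∑ j, A i j • nn j) := by
      intro i
      rw [map_sum, ModRel.rs_sum]
      simp only [map_smul, hy, smul_sub, Finset.sum_sub_distrib, rs_smul', Finset.smul_sum, smul_smul]
      rw [sub_eq_self, Finset.sum_comm]
      refine Finset.sum_eq_zero fun r _ => ?_
      rw [← Finset.sum_smul]
      have := congrArg (rr O_D g'.op) (hβ i r)
      simp only [rr, map_sum, map_mul, map_zero] at this
      have h2 : ∑ j, rr O_D (g' ≫ g).op (A i j) * rr O_D g'.op (β j r) = 0 := by
        refine Eq.trans (Finset.sum_congr rfl fun j _ => ?_) this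
        rw [op_comp, ← rr_rr, mul_comm]
      rw [h2, zero_smul]
    have hm' : ∀ p, rs ((forg O_D).obj S.X₁) (g' ≫ g).op (m p) =
        ∑ j, rr O_D (g' ≫ g).op (a p j) • y j := fun p => by
      apply injective_f hS
      refine (rs_app _ _ _).trans ?_
      rw [hm p]
      exact (hAy (Sum.inl p)).symm
    have h0' : ∀ s, ∑ j, rr O_D (g' ≫ g).op (a' s j) • y j = 0 := fun s => by
      apply injective_f hS
      refine (hAy (Sum.inr s)).trans ?_
      show rs _ _ (∑ j, a' s j • nn j) = _
      rw [h0 s, ModRel.rs_zero, map_zero]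
    rw [rs_psiC_sum b v (g' ≫ g) b' hb]
    refine Eq.trans ?_ (map_zero (psiC b'))
    congr 1
    let P : Rs f b G →+ Rs f b' G :=
      { toFun := fun y => toRs f b' G (rs G v.op ((toRs f b G).symm y))
        map_zero' := by rw [map_zero, ModRel.rs_zero, map_zero]
        map_add' := fun y y' => by rw [map_add, rs_add, map_add] }
    have hP : ∀ (r : O_D.obj.obj (op e)) (y : Rs f b G),
        rr O_D (g' ≫ g).op r • P y = P (r • y) := fun r y => by
      obtain ⟨y, rfl⟩ := (toRs f b G).surjective y
      exact (congrArg (fun t => rr O_D (g' ≫ g).op r • toRs f b' G (rs G v.op t))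
        ((toRs f b G).symm_apply_apply y)).trans (rs_smul_lift b v (g' ≫ g) b' hb r y)
    have hz : ∑ i : Fin n ⊕ Fin k,
        Sum.elim (fun p => toRs f b' G (rs G v.op (x p))) (fun s => P (g₂ s)) i
          ⊗ₜ[O_D.obj.obj (op e')]
        Sum.elim (fun p => rs ((forg O_D).obj S.X₁) (g' ≫ g).op (m p))
          (fun _ => (0 : ((forg O_D).obj S.X₁).obj (op e'))) i = 0 := by
      refine sum_tmul_eq_zero _ _ (fun i j => rr O_D (g' ≫ g).op (A i j)) y (fun i => ?_) (fun j => ?_)
      · rcases i with p | s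
        · exact hm' p
        · exact (h0' s).symm
      · rw [Fintype.sum_sum_type]
        have := congrArg P (hg j)
        rw [map_add, map_sum, map_sum, map_zero] at this
        simp only [← hP] at this
        refine Eq.trans ?_ this
        congr 1
    rw [Fintype.sum_sum_type] at hz
    simpa [TensorProduct.tmul_zero] using hz
  choose W hW hW' using key
  refine ⟨Sieve.bind T.arrows W, K.bind_covering hT hW, fun e' w' hw' c' v b' hb => ?_⟩
  obtain ⟨e₁, g', g, hg₁, hg', rfl⟩ := hw'
  exact hW' g hg₁ g' hg' v b' hb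

include hS hH in
theorem mono_aSh_whiskerLeft_explMap :
    Mono ((aSh O_C).map (G ◁ explMap f ((forg O_D).map S.f))) := by
  refine mono_aSh_map _ fun c ζ hζ => ?_
  obtain ⟨z, rfl⟩ := cls_surjective f ((forg O_D).obj S.X₁) G ζ
  rw [← cls_mapI] at hζ
  obtain ⟨A, T, hgood⟩ := good_of_cls_eq_zero _ hζ
  let S₁ := A ∪ z.support.image Idx.X
  rcases S₁.eq_empty_or_nonempty with h | h
  · have : z = 0 := by
      rw [← Finsupp.support_eq_empty]
      simp only [S₁, Finset.union_eq_empty, Finset.image_eq_empty] at h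
      exact h.2
    refine ⟨⊤, J.top_mem c, fun c' v _ => ?_⟩
    rw [this, map_zero, ModRel.rs_zero]
  obtain ⟨U, hU, hU'⟩ := PullSets.locally_cone (K := K) (J := J) f.fn S₁ h T
  have key : ∀ ⦃c' : C⦄ (v : c' ⟶ c), U v → ∃ W ∈ J c', ∀ ⦃c'' : C⦄ (t : c'' ⟶ c'), W t →
      rs (G ⊗ expl f ((forg O_D).obj S.X₁)) (t ≫ v).op
        (cls f ((forg O_D).obj S.X₁) G z) = 0 := by
    intro c' v hv
    obtain ⟨κ⟩ := hU' v hv
    have hsupp : ∀ i ∈ z.support, i.X ∈ S₁ := fun i hi =>
      Finset.mem_union_right _ (Finset.mem_image_of_mem _ hi)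
    have hzero := hgood S₁ T Finset.subset_union_left (Finset.Subset.refl T) c' v κ
    rw [evc_mapI ((forg O_D).map S.f) κ z hsupp] at hzero
    obtain ⟨Se, hSe, hkill⟩ := kill_pure hS hH κ.b (evc κ z) hzero
    obtain ⟨W, hW, hW'⟩ := PullSets.locally_lift (K := K) (J := J) f.fn κ.b Se hSe
    refine ⟨W, hW, fun c'' t ht => ?_⟩
    obtain ⟨e', g, b', hg, hb⟩ := hW' t ht
    rw [op_comp, ← rs_rs, ← psiC_evc κ z hsupp]
    exact hkill g hg t b' hb
  choose W hW hW' using key
  refine ⟨Sieve.bind U.arrows W, J.bind_covering hU hW, fun c'' w hw => ?_⟩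
  obtain ⟨c', t, v, hv, ht, rfl⟩ := hw
  exact hW' v hv t ht

end Pure

lemma explσ_explMap {M' M : PMod O_D} (u : M' ⟶ M) :
    explσ f M' ≫ (pushP f).map (explMap f u) = u ≫ explσ f M := by
  refine PresheafOfModules.hom_ext fun d => ModuleCat.hom_ext (LinearMap.ext fun m => ?_)
  exact explMap_cl f u (StructuredArrow.mk (T := f.fn) (Y := d.unop) (𝟙 (f.fn.obj d.unop))) m

theorem mono_pull_map {S : ShortComplex (ModSite.Mod O_D)} (hS : S.ShortExact)
    (hH : ModSite.IsFlat S.X₃) : Mono (f.pull.map S.f) := by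
  have h1 := mono_aSh_whiskerLeft_explMap (f := f) hS (LocTriv.of_isFlat hH)
    (G := 𝟙_ (PMod O_C))
  let q := explMap f ((forg O_D).map S.f)
  have h2 : Mono ((aSh O_C).map q) :=
    (((MorphismProperty.monomorphisms (ModSite.Mod O_C)).arrow_mk_iso_iff
      (Arrow.isoMk ((aSh O_C).mapIso (λ_ _)) ((aSh O_C).mapIso (λ_ _))
        (by
          show (aSh O_C).map _ ≫ (aSh O_C).map q = (aSh O_C).map _ ≫ (aSh O_C).map _
          rw [← Functor.map_comp, ← Functor.map_comp]
          exact congrArg _ (MonoidalCategory.leftUnitor_naturality q).symm))).1 h1)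
  have e := psi_naturality (explσ f ((forg O_D).obj S.X₁)) (explσ f ((forg O_D).obj S.X₂))
    ((forg O_D).map S.f) q (explσ_explMap _)
  have i1 := (univ_iff_isIso _).1 (univ_explσ f ((forg O_D).obj S.X₁))
  have i2 := (univ_iff_isIso _).1 (univ_explσ f ((forg O_D).obj S.X₂))
  have h3 : Mono ((FP f).map ((forg O_D).map S.f)) :=
    (((MorphismProperty.monomorphisms (ModSite.Mod O_C)).arrow_mk_iso_iff
      (Arrow.isoMk (@asIso _ _ _ _ (psi (explσ f ((forg O_D).obj S.X₁))) i1)
        (@asIso _ _ _ _ (psi (explσ f ((forg O_D).obj S.X₂))) i2) e)).2 h2)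
  have := ModOver.counit_isIso (O := O_D)
  exact (((MorphismProperty.monomorphisms (ModSite.Mod O_C)).arrow_mk_iso_iff
    (Arrow.isoMk (f.pull.mapIso (asIso ((adj O_D).counit.app S.X₁)))
      (f.pull.mapIso (asIso ((adj O_D).counit.app S.X₂)))
      (by
        show f.pull.map _ ≫ f.pull.map S.f = f.pull.map _ ≫ f.pull.map _
        rw [← Functor.map_comp, ← Functor.map_comp]
        exact congrArg _ ((adj O_D).counit.naturality S.f).symm))).1 h3)

theorem shortExact_pull {S : ShortComplex (ModSite.Mod O_D)} (hS : S.ShortExact)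
    (hH : ModSite.IsFlat S.X₃) : (S.map f.pull).ShortExact := by
  have := preservesColimits_pull f
  have : PreservesFiniteColimits f.pull := PreservesColimitsOfSize.preservesFiniteColimits _
  have := ModTensor.additive_of_preservesFiniteColimits f.pull
  have h1 := exact_and_epi_map f.pull hS
  exact { exact := h1.1, mono_f := mono_pull_map hS hH, epi_g := h1.2 }

end Groth.Agent.H15Site.PullTensor
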