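import Groth.Agent.H15Site.PullKFlat
import Groth.Agent.H15Site.PullPure
import Groth.Agent.H16Derived.LeftDerTri
import Groth.Agent.H16Derived.KFlat.Generic

/-!
# K-flat complexes with flat terms are adapted to the inverse image of modules
-/

set_option linter.style.haveILetI false

universe u

open CategoryTheory CategoryTheory.Limits Opposite

attribute [local instance] HasDerivedCategory.standard

namespace Groth.Agent.H15Site.PullAdapted

open ModTensor Groth.Agent.H16Derived PullKFlat

attribute [local instance 10000] SiteInst.hasSheafifySite SiteInst.hasWeakSheafifySite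
attribute [local instance] PullKFlat.additive_pull

variable {C D : Type u} [SmallCategory C] [SmallCategory D] {J : GrothendieckTopology C}
  {K : GrothendieckTopology D} {O_C : Sheaf J CommRingCat.{u}} {O_D : Sheaf K CommRingCat.{u}}

/-- K-flat complexes with flat terms. -/
def kflatFlat (O : Sheaf K CommRingCat.{u}) : ObjectProperty (CochainComplex (ModSite.Mod O) ℤ) :=
  fun L => KFlat.IsKFlat (ModSite.tensorBi O) L ∧ ∀ i : ℤ, KFlat.IsFlatObj (ModSite.tensorBi O) (L.X i)

instance (O : Sheaf K CommRingCat.{u}) : (kflatFlat O).IsStableUnderShift ℤ where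
  isStableUnderShiftBy n := ⟨fun _ hE => ⟨hE.1.shift n, fun _ => hE.2 _⟩⟩

variable (f : ModSite.RMor O_C O_D)

/-- The pullback of an acyclic complex in the class is acyclic. -/
theorem acyclic_pull {L : CochainComplex (ModSite.Mod O_D) ℤ} (hac : L.Acyclic)
    (hL : kflatFlat O_D L) :
    ((f.pull.mapHomologicalComplex (ComplexShape.up ℤ)).obj L).Acyclic := by
  have hfl : ∀ i : ℤ, ModSite.IsFlat (L.X i) := fun i => (ModKFlat.isFlatObj_iff _).1 (hL.2 i)
  have hz := isFlat_cycles hL.1 hac hfl
  have he : ∀ i j : ℤ, i + 1 = j → Epi (L.toCycles i j) := fun i j hij => by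
    refine Preadditive.epi_of_cancel_zero _ fun {P} g hg => ?_
    have hc := (L.homologyIsCokernel i j (by simpa using by omega)).fac (CokernelCofork.ofπ g hg)
      WalkingParallelPair.one
    exact hc.symm.trans ((congrArg (· ≫ _) ((hac j).isZero_homology.eq_of_tgt _ 0)).trans zero_comp)
  intro n
  rw [HomologicalComplex.exactAt_iff' _ (n - 1) n (n + 1) (by simp) (by simp)]
  let S : ShortComplex (ModSite.Mod O_D) :=
    ShortComplex.mk (L.iCycles n) (L.toCycles n (n + 1)) (by
      rw [← cancel_mono (L.iCycles (n + 1)), Category.assoc, HomologicalComplex.toCycles_i,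
        zero_comp, HomologicalComplex.iCycles_d])
  have hS : S.ShortExact := by
    refine { exact := ?_, mono_f := inferInstanceAs (Mono (L.iCycles n)),
             epi_g := he n (n + 1) rfl }
    let S' : ShortComplex (ModSite.Mod O_D) :=
      ShortComplex.mk (L.iCycles n) (L.d n (n + 1)) (L.iCycles_d n (n + 1))
    have hS' : S'.Exact :=
      ShortComplex.exact_of_f_is_kernel _ (L.cyclesIsKernel n (n + 1) (by simp))
    exact (ShortComplex.exact_iff_of_epi_of_isIso_of_mono
      ({ τ₁ := 𝟙 _, τ₂ := 𝟙 _, τ₃ := L.iCycles (n + 1)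
         comm₁₂ := by simp [S, S']
         comm₂₃ := by simp [S, S'] } : S ⟶ S')).2 hS'
  have hG := PullTensor.shortExact_pull (f := f) hS (hz (n + 1))
  haveI : PreservesFiniteColimits f.pull :=
    have := PullTensor.preservesColimits_pull f
    PreservesColimitsOfSize.preservesFiniteColimits _
  haveI : Epi (f.pull.map (L.toCycles (n - 1) n)) := by
    haveI := he (n - 1) n (by omega)
    infer_instance
  haveI : Mono (f.pull.map (L.iCycles (n + 1))) := by
    let S₁ : ShortComplex (ModSite.Mod O_D) :=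
      ShortComplex.mk (L.iCycles (n + 1)) (L.toCycles (n + 1) (n + 1 + 1)) (by
        rw [← cancel_mono (L.iCycles (n + 1 + 1)), Category.assoc, HomologicalComplex.toCycles_i,
          zero_comp, HomologicalComplex.iCycles_d])
    have hS₁ : S₁.ShortExact := by
      refine { exact := ?_, mono_f := inferInstanceAs (Mono (L.iCycles (n + 1))),
               epi_g := he (n + 1) (n + 1 + 1) rfl }
      let S' : ShortComplex (ModSite.Mod O_D) :=
        ShortComplex.mk (L.iCycles (n + 1)) (L.d (n + 1) (n + 1 + 1)) (L.iCycles_d _ _)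
      have hS' : S'.Exact :=
        ShortComplex.exact_of_f_is_kernel _ (L.cyclesIsKernel (n + 1) (n + 1 + 1) (by simp))
      exact (ShortComplex.exact_iff_of_epi_of_isIso_of_mono
        ({ τ₁ := 𝟙 _, τ₂ := 𝟙 _, τ₃ := L.iCycles (n + 1 + 1)
           comm₁₂ := by simp [S₁, S']
           comm₂₃ := by simp [S₁, S'] } : S₁ ⟶ S')).2 hS'
    exact (PullTensor.shortExact_pull (f := f) hS₁ (hz (n + 1 + 1))).mono_f
  let T₂ : ShortComplex (ModSite.Mod O_C) :=
    ShortComplex.mk (f.pull.map (L.iCycles n)) (f.pull.map (L.d n (n + 1))) (by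
      rw [← Functor.map_comp, HomologicalComplex.iCycles_d, Functor.map_zero])
  let φ : ((f.pull.mapHomologicalComplex (ComplexShape.up ℤ)).obj L).sc' (n - 1) n (n + 1) ⟶ T₂ :=
    { τ₁ := f.pull.map (L.toCycles (n - 1) n), τ₂ := 𝟙 _, τ₃ := 𝟙 _
      comm₁₂ := by
        refine ((f.pull.map_comp _ _).symm.trans ?_).trans (Category.comp_id _).symm
        exact congrArg f.pull.map (L.toCycles_i (n - 1) n)
      comm₂₃ := (Category.id_comp _).trans (Category.comp_id _).symm }
  let ψ : S.map f.pull ⟶ T₂ :=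
    { τ₁ := 𝟙 _, τ₂ := 𝟙 _, τ₃ := f.pull.map (L.iCycles (n + 1))
      comm₁₂ := (Category.id_comp _).trans (Category.comp_id _).symm
      comm₂₃ := by
        refine (Category.id_comp _).trans (Eq.trans ?_ (f.pull.map_comp _ _))
        exact congrArg f.pull.map (L.toCycles_i n (n + 1)).symm }
  haveI h₁ : Epi φ.τ₁ := by assumption
  haveI h₂ : IsIso φ.τ₂ := IsIso.id _
  haveI h₃ : Mono φ.τ₃ := (inferInstance : Mono (𝟙 _))
  haveI k₁ : Epi ψ.τ₁ := (inferInstance : Epi (𝟙 _))
  haveI k₂ : IsIso ψ.τ₂ := IsIso.id _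
  haveI k₃ : Mono ψ.τ₃ := by assumption
  exact (ShortComplex.exact_iff_of_epi_of_isIso_of_mono φ).2
    ((ShortComplex.exact_iff_of_epi_of_isIso_of_mono ψ).1 hG.exact)

/-- K-flat complexes with flat terms are adapted to `f^*`. -/
noncomputable def pullAdapted : LeftDerTri.Adapted f.pull (kflatFlat O_D) where
  R := KFlat.Res.P (ModKFlat.cover O_D) (ModKFlat.coverπ O_D)
  ψ := KFlat.Res.ψ (ModKFlat.cover O_D) (ModKFlat.coverπ O_D)
  mem G := ⟨ModKFlat.isKFlat_res G, fun i => (ModKFlat.isFlatObj_iff _).2 (ModKFlat.isFlat_res_X G i)⟩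
  quasiIso G := (ModKFlat.quasiIso_resψ G).1
  cone φ hX hY :=
    haveI := ModKFlat.countableAB4 (O := O_D)
    ⟨KFlat.IsKFlat.mappingCone φ hX.1 hY.1,
    KFlat.isFlatObj_mappingCone_X φ hX.2 hY.2⟩
  acyclic _ hW hK := acyclic_pull f hW hK

end Groth.Agent.H15Site.PullAdapted
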