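import Groth.Agent.H15Site.AdaptedAdj
import Groth.Agent.H15Site.PullAdapted
import Groth.Agent.H15Site.SiteGenInst
import Groth.Agent.H16Derived.KFlat.BoundedAbove
import Groth.Prelude.Def_SiteCmp

/-!
# `Rf_*` and the free modules: `Hom(G Y, Rf_* X) = Hom(G (u Y), X)`
-/

set_option autoImplicit false
set_option linter.style.haveILetI false

open CategoryTheory CategoryTheory.Limits CategoryTheory.Functor CategoryTheory.Pretriangulated

namespace Groth.Agent.H15Site.FreePush

open H16Derived FlatAdjD AdaptedAdj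

universe w w' v u u'

section

variable {A : Type u} [Category.{v} A] [Abelian A] [HasDerivedCategory.{w} A]
  {B : Type u'} [Category.{v} B] [Abelian B] [HasDerivedCategory.{w'} B] [IsGrothendieckAbelian.{v} B]
  {G : A ⥤ B} [G.Additive] {F : B ⥤ A} [F.Additive]
  {P : ObjectProperty (CochainComplex A ℤ)} [P.IsStableUnderShift ℤ]

/-- The left adjoint of the right derived functor, computed by adapted complexes. -/
theorem exists_leftAdjoint (adj : G ⊣ F) (h : LeftDerTri.Adapted G P)
    [(toD F).HasRightDerivedFunctor (HomotopyCategory.quasiIso B (ComplexShape.up ℤ))] :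
    ∃ (L : DerivedCategory A ⥤ DerivedCategory B) (_ : L.CommShift ℤ) (_ : L.IsTriangulated),
      (∀ K : CochainComplex A ℤ, P K → Nonempty (L.obj (DerivedCategory.Q.obj K) ≅
        DerivedCategory.Q.obj ((G.mapHomologicalComplex (ComplexShape.up ℤ)).obj K))) ∧
      Nonempty (L ⊣ (toD F).totalRightDerived DerivedCategory.Qh
        (HomotopyCategory.quasiIso B (ComplexShape.up ℤ))) := by
  haveI := hasLeftDerived h
  haveI : (HomotopyCategory.quotient A (ComplexShape.up ℤ) ⋙
      DerivedCategory.Qh (C := A)).IsLocalization (HomologicalComplex.quasiIso A (ComplexShape.up ℤ)) :=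
    Functor.IsLocalization.of_iso _ (DerivedCategory.quotientCompQhIso A).symm
  let W₁ := HomotopyCategory.quasiIso A (ComplexShape.up ℤ)
  let W₂ := HomotopyCategory.quasiIso B (ComplexShape.up ℤ)
  let L := (toDL G).totalLeftDerived DerivedCategory.Qh W₁
  let α := (toDL G).totalLeftDerivedCounit DerivedCategory.Qh W₁
  let R := (toD F).totalRightDerived DerivedCategory.Qh W₂
  let β := (toD F).totalRightDerivedUnit DerivedCategory.Qh W₂
  let η := LeftDerTri.derivedIso α h
  letI := LeftDerTri.commShift η h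
  haveI := LeftDerTri.isTriangulated η h
  refine ⟨L, inferInstance, inferInstance, fun K hK => ⟨η.app ⟨K, hK⟩⟩, ?_⟩
  haveI : (toD F).HasPointwiseRightDerivedFunctor W₂ :=
    RDerived.hasPointwiseRightDerivedFunctor_of_resolutions DerivedCategory.Qh _ _ fun M => by
      obtain ⟨I, hI, s, hs⟩ := exists_local M
      exact ⟨_, s, hs, fun K => CochainComplex.IsKInjective.Qh_map_bijective K I⟩
  haveI : (L ⋙ R).IsLeftDerivedFunctor
      ((Functor.associator _ _ _).inv ≫ whiskerRight α R) W₁ := by
    refine LeftDer.isLeftDerivedFunctor_of_isIso_resolved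
      (W₁ := HomologicalComplex.quasiIso A (ComplexShape.up ℤ)) W₁ DerivedCategory.Qh
      (HomotopyCategory.quotient A (ComplexShape.up ℤ))
      (HomologicalComplex.homotopyEquivalences A (ComplexShape.up ℤ)) (ψ₀ := h.ψ) h.quasiIso
      (fun X Y f hf => ?_) (fun X => ?_) _ _ (fun X => ?_)
    · haveI : QuasiIso f := hf
      haveI := quasiIso_R_map h f
      haveI := isIso_toDL_map h (h.R.map f) (h.mem X) (h.mem Y)
      exact inferInstanceAs (IsIso (R.map
        ((HomotopyCategory.quotient A (ComplexShape.up ℤ) ⋙ toDL G).map (h.R.map f))))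
    · haveI := h.quasiIso (h.R.obj X)
      haveI := isIso_toDL_map h (h.ψ.app (h.R.obj X)) (h.mem _) (h.mem X)
      exact inferInstanceAs (IsIso (R.map
        ((HomotopyCategory.quotient A (ComplexShape.up ℤ) ⋙ toDL G).map (h.ψ.app (h.R.obj X)))))
    · haveI := LeftDerTri.isIso_counit α h (h.R.obj X) (h.mem X)
      simp only [NatTrans.comp_app, associator_inv_app, whiskerRight_app]
      infer_instance
  haveI : (R ⋙ L).IsRightDerivedFunctor
      (whiskerRight β L ≫ (Functor.associator _ _ _).hom) W₂ := by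
    refine RDerived.isRightDerivedFunctor_of_isIso_local _ _ _ _ _ fun M => ?_
    obtain ⟨I, hI, s, hs⟩ := exists_local M
    refine ⟨_, s, hs, fun K => CochainComplex.IsKInjective.Qh_map_bijective K I, ?_⟩
    haveI : IsIso (β.app ((HomotopyCategory.quotient _ _).obj I)) :=
      RDerived.isIso_unit_app_of_bijective DerivedCategory.Qh W₂ _ _ β _
        fun K => CochainComplex.IsKInjective.Qh_map_bijective K I
    simp only [NatTrans.comp_app, associator_hom_app, whiskerRight_app]
    infer_instance
  exact ⟨(homotopyAdj adj).derived W₁ W₂ α β⟩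

end

end Groth.Agent.H15Site.FreePush

namespace Groth.Agent.H15Site.FreePush

universe u₀

open H16Derived SiteGenInst Opposite ZeroObject

attribute [local instance] HasDerivedCategory.standard
attribute [local instance] PullKFlat.additive_pull
attribute [local instance 10000] SiteInst.hasSheafifySite SiteInst.hasWeakSheafifySite

variable {C D : Type u₀} [SmallCategory C] [SmallCategory D] {J : GrothendieckTopology C}
  {K : GrothendieckTopology D} {O_C : Sheaf J CommRingCat.{u₀}} {O_D : Sheaf K CommRingCat.{u₀}}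
  (f : ModSite.RMor O_C O_D)

/-- `f^*` of the free module on `Y` is the free module on `u Y`. -/
noncomputable def pullFreeIso (Y : D) :
    f.pull.obj ((freeModFunctor O_D).obj Y) ≅ (freeModFunctor O_C).obj (f.fn.obj Y) :=
  let e : ∀ M : ModSite.Mod O_C,
      (f.pull.obj ((freeModFunctor O_D).obj Y) ⟶ M) ≃ ((freeModFunctor O_C).obj (f.fn.obj Y) ⟶ M) :=
    fun M => (f.adj.homEquiv _ M).trans ((eMod O_D Y (f.push.obj M)).trans
      (eMod O_C (f.fn.obj Y) M).symm)
  Coyoneda.ext _ _ (fun {M} => e M) (fun {M} => (e M).symm)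
    (fun {M} => (e M).left_inv) (fun {M} => (e M).right_inv)
    (fun {M N} φ g => by
      obtain ⟨x, rfl⟩ := (e M).surjective φ
      rw [Equiv.symm_apply_apply, Equiv.symm_apply_eq]
      refine (eMod O_C (f.fn.obj Y) N).injective ?_
      refine ((eMod_naturality_right O_C _ g).trans ?_).trans
        ((eMod O_C (f.fn.obj Y) N).apply_symm_apply _).symm
      refine (congrArg _ ((eMod O_C (f.fn.obj Y) M).apply_symm_apply _)).trans ?_
      refine Eq.trans ?_ (congrArg (eMod O_D Y _) (f.adj.homEquiv_naturality_right x g)).symm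
      exact (eMod_naturality_right O_D _ (f.push.map g)).symm)

theorem isFlat_free (Y : D) : ModSite.IsFlat ((freeModFunctor O_D).obj Y) :=
  ModTensor.isFlat_aSh fun X => by
    show Module.Flat (O_D.obj.obj X) ((yoneda.obj Y).obj X →₀ O_D.obj.obj X)
    infer_instance

theorem kflatFlat_single (Y : D) : PullAdapted.kflatFlat O_D
    ((CochainComplex.singleFunctor (ModSite.Mod O_D) 0).obj ((freeModFunctor O_D).obj Y)) := by
  have := ModKFlat.countableAB4 (O := O_D)
  have hflat : ∀ i : ℤ, KFlat.IsFlatObj (ModSite.tensorBi O_D)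
      (((CochainComplex.singleFunctor (ModSite.Mod O_D) 0).obj ((freeModFunctor O_D).obj Y)).X i) :=
    fun i => by
      rw [ModKFlat.isFlatObj_iff]
      by_cases hi : i = 0
      · subst hi
        exact ModTensor.isFlat_of_iso (HomologicalComplex.singleObjXSelf (ComplexShape.up ℤ) 0 _).symm
          (isFlat_free Y)
      · refine ModTensor.isFlat_of_iso
          ((isZero_zero (ModSite.Mod O_D)).iso (HomologicalComplex.isZero_single_obj_X _ _ _ _ hi)) ?_
        rw [ModTensor.isFlat_iff]
        refine ⟨fun {X₁ X₂} g _ => ?_⟩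
        have : IsZero ((ModTensor.tR (0 : ModSite.Mod O_D)).obj X₁) :=
          ((ModSite.tensorBi O_D).flip.map_isZero (isZero_zero (ModSite.Mod O_D))).obj X₁
        exact ⟨fun a b _ => this.eq_of_tgt a b⟩
  exact ⟨KFlat.isKFlat_of_singleDegree _ 0
    (fun q hq => HomologicalComplex.isZero_single_obj_X _ _ _ _ hq) (hflat 0), hflat⟩

/-- Vanishing of classes on `u Y` gives vanishing of classes on `Y` of the direct image. -/
theorem eq_zero_push [SiteCmp.HasRpushD f] (Y : D) (X : DerivedCategory (ModSite.Mod O_C)) (i : ℤ)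
    (h : ∀ z : (DerivedCategory.singleFunctor _ 0).obj ((genMod O_C).G.obj (f.fn.obj Y)) ⟶ X⟦i⟧,
      z = 0)
    (z : (DerivedCategory.singleFunctor _ 0).obj ((genMod O_D).G.obj Y) ⟶
      ((SiteCmp.RpushD f).obj X)⟦i⟧) : z = 0 := by
  haveI := H10Coh.isGrothendieckAbelian_sheafOfModules (ModSite.ringSh O_C)
  obtain ⟨L, _, _, hL, ⟨adj⟩⟩ := exists_leftAdjoint (G := f.pull) (F := f.push) f.adj
    (PullAdapted.pullAdapted f)
  let S := (CochainComplex.singleFunctor (ModSite.Mod O_D) 0).obj ((freeModFunctor O_D).obj Y)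
  obtain ⟨e⟩ := hL S (kflatFlat_single Y)
  let e' : L.obj ((DerivedCategory.singleFunctor _ 0).obj ((genMod O_D).G.obj Y)) ≅
      (DerivedCategory.singleFunctor _ 0).obj ((genMod O_C).G.obj (f.fn.obj Y)) :=
    e ≪≫ DerivedCategory.Q.mapIso
        ((HomologicalComplex.singleMapHomologicalComplex f.pull (ComplexShape.up ℤ) 0).app _) ≪≫
      (DerivedCategory.singleFunctor _ 0).mapIso (pullFreeIso f Y)
  let eL := (L.commShiftIso (-i)).app ((DerivedCategory.singleFunctor _ 0).obj ((genMod O_D).G.obj Y))
    ≪≫ (shiftFunctor _ (-i)).mapIso e'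
  apply (RlimTriang.shEquiv _ _ i).symm.injective
  apply (adj.homEquiv _ _).symm.injective
  have h0 : ∀ w : L.obj (((DerivedCategory.singleFunctor _ 0).obj ((genMod O_D).G.obj Y))⟦-i⟧) ⟶ X,
      w = 0 := fun w => by
    have h1 : eL.inv ≫ w = 0 := (RlimTriang.shEquiv _ _ i).injective ((h _).trans (h _).symm)
    rwa [← cancel_epi eL.inv, comp_zero]
  exact (h0 _).trans (h0 _).symm

end Groth.Agent.H15Site.FreePush
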