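import Mathlib.CategoryTheory.Sites.RegularEpi
import Mathlib.CategoryTheory.Sites.LocallySurjective
import Mathlib.CategoryTheory.Limits.Types.Pullbacks
import Mathlib.CategoryTheory.Limits.FunctorCategory.Basic
import Mathlib.CategoryTheory.Limits.Shapes.Pullback.IsPullback.Basic
import Mathlib.CategoryTheory.Sites.Limits
import Mathlib.CategoryTheory.MorphismProperty.Limits

/-!
# Epimorphisms of sheaves of types are universally effective
-/

set_option autoImplicit false

namespace Groth.Agent.H15Site

open CategoryTheory CategoryTheory.Limits Opposite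

universe v u w

variable {C : Type u} [Category.{v} C] {J : GrothendieckTopology C}

/-- Local surjectivity is stable under base change. -/
theorem isLocallySurjective_of_isPullback {P F G H : Sheaf J (Type w)} {f' : P ⟶ H} {g' : P ⟶ F}
    {g : H ⟶ G} {f : F ⟶ G} (h : IsPullback f' g' g f) [Sheaf.IsLocallySurjective f] :
    Sheaf.IsLocallySurjective f' := by
  refine ⟨fun {U} s => ?_⟩
  refine J.superset_covering ?_ (Presheaf.imageSieve_mem J f.hom (g.hom.app (op U) s))
  rintro V a ⟨x, hx⟩
  have hp := (h.map (sheafToPresheaf J (Type w))).map ((evaluation Cᵒᵖ (Type w)).obj (op V))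
  have e : g.hom.app (op V) (H.obj.map a.op s) = f.hom.app (op V) x := by
    rw [NatTrans.naturality_apply]; exact hx.symm
  obtain ⟨z, hz, -⟩ := ((Types.isPullback_iff _ _ _ _).1 hp).2.2 (H.obj.map a.op s) x e
  exact ⟨z, hz⟩

/-- An epimorphism of sheaves of types is a universally effective epimorphism. -/
theorem sheaf_universally_effectiveEpi [HasSheafify J (Type w)] {X Y : Sheaf J (Type w)}
    (f : X ⟶ Y) [Epi f] :
    (MorphismProperty.universally (fun (A B : Sheaf J (Type w)) (p : A ⟶ B) => EffectiveEpi p)) f := by
  intro X' Y' i₁ i₂ f' h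
  haveI := (Sheaf.isLocallySurjective_iff_epi f).2 inferInstance
  haveI := isLocallySurjective_of_isPullback h
  haveI : Epi f' := (Sheaf.isLocallySurjective_iff_epi f').1 inferInstance
  haveI := IsRegularEpiCategory.regularEpiOfEpi f'
  infer_instance

end Groth.Agent.H15Site
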