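import Groth.Prelude.Def_SGA4a
import Mathlib.CategoryTheory.InducedCategory
import Mathlib.CategoryTheory.Generator.Basic
import Mathlib.CategoryTheory.Sites.LocallyBijective
import Mathlib.CategoryTheory.Sites.Limits
import Mathlib.CategoryTheory.EffectiveEpi.Comp
import Mathlib.CategoryTheory.Limits.VanKampen
import Groth.Agent.H15Site.SheafEpi

/-!
# Giraud's theorem: the axioms characterise topoi
-/

set_option autoImplicit false
set_option linter.unusedSectionVars false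
set_option linter.style.haveILetI false
set_option linter.unusedVariables false
set_option backward.isDefEq.respectTransparency false

universe v u

noncomputable section

open CategoryTheory CategoryTheory.Limits Opposite SGA4

namespace Groth.Agent.H15Site.Giraud

variable {E : Type v} [Category.{u} E] [HasFiniteLimits E]

section UEpi

/-- Universally effective epimorphism. -/
def UEpi {X Y : E} (f : X ⟶ Y) : Prop :=
  ∀ (B : E) (g : B ⟶ Y), EffectiveEpi (pullback.snd f g)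

lemma UEpi.effectiveEpi {X Y : E} {f : X ⟶ Y} (h : UEpi f) : EffectiveEpi f := by
  haveI := h Y (𝟙 Y)
  have e : f = inv (pullback.fst f (𝟙 Y)) ≫ pullback.snd f (𝟙 Y) := by
    rw [IsIso.eq_inv_comp, pullback.condition, Category.comp_id]
  rw [e]
  infer_instance

lemma UEpi.epi {X Y : E} {f : X ⟶ Y} (h : UEpi f) : Epi f :=
  haveI := h.effectiveEpi; inferInstance

lemma exists_lift_mono {X Y I Z : E} (p : X ⟶ Y) [EffectiveEpi p] (m : I ⟶ Z) [Mono m]
    (a : X ⟶ I) (b : Y ⟶ Z) (h : a ≫ m = p ≫ b) : ∃ c : Y ⟶ I, c ≫ m = b := by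
  refine ⟨EffectiveEpi.desc p a fun g₁ g₂ hg => ?_, ?_⟩
  · rw [← cancel_mono m, Category.assoc, Category.assoc, h, reassoc_of% hg]
  · rw [← cancel_epi p, EffectiveEpi.fac_assoc, h]

lemma isIso_of_mono_of_effectiveEpi {X Y I : E} (p : X ⟶ Y) [EffectiveEpi p] (m : I ⟶ Y) [Mono m]
    (a : X ⟶ I) (h : a ≫ m = p) : IsIso m := by
  obtain ⟨c, hc⟩ := exists_lift_mono p m a (𝟙 Y) (by rw [h, Category.comp_id])
  haveI : IsSplitEpi m := IsSplitEpi.mk' ⟨c, hc⟩
  exact isIso_of_mono_of_isSplitEpi m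

variable (hc : ∀ (R A : E) (p₁ p₂ : R ⟶ A), IsEquivRel p₁ p₂ → IsEffectiveUniversalEquivRel p₁ p₂)

include hc in
/-- Image factorisation. -/
lemma exists_factor {X Y : E} (f : X ⟶ Y) :
    ∃ (I : E) (q : X ⟶ I) (m : I ⟶ Y), UEpi q ∧ Mono m ∧ q ≫ m = f := by
  let k₁ := pullback.fst f f
  let k₂ := pullback.snd f f
  have hR : IsEquivRel k₁ k₂ := by
    intro T
    refine ⟨fun a b h => pullback.hom_ext (congrArg Prod.fst h) (congrArg Prod.snd h), ?_⟩
    have key : ∀ a b : T ⟶ X, (∃ g, g ≫ k₁ = a ∧ g ≫ k₂ = b) ↔ a ≫ f = b ≫ f := fun a b =>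
      ⟨fun ⟨g, h₁, h₂⟩ => by rw [← h₁, ← h₂, Category.assoc, Category.assoc, pullback.condition],
        fun h => ⟨pullback.lift a b h, pullback.lift_fst _ _ _, pullback.lift_snd _ _ _⟩⟩
    exact ⟨fun a => (key a a).2 rfl, fun h => (key _ _).2 ((key _ _).1 h).symm,
      fun h h' => (key _ _).2 (((key _ _).1 h).trans ((key _ _).1 h'))⟩
  obtain ⟨I, q, hpb, hpo, hu⟩ := hc _ _ _ _ hR
  let m : I ⟶ Y := hpo.desc f f pullback.condition
  have hm : q ≫ m = f := hpo.inl_desc _ _ _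
  refine ⟨I, q, m, hu, ⟨fun {T} a b hab => ?_⟩, hm⟩
  have h₁ : Epi (pullback.snd q a) := haveI := hu T a; inferInstance
  let s := pullback.snd q a
  have h₂ : Epi (pullback.snd q (s ≫ b)) := haveI := hu _ (s ≫ b); inferInstance
  let t := pullback.snd q (s ≫ b)
  let x := t ≫ pullback.fst q a
  let y := pullback.fst q (s ≫ b)
  have hx : x ≫ q = (t ≫ s) ≫ a := by simp [x, s, pullback.condition]
  have hy : y ≫ q = (t ≫ s) ≫ b := by simp [y, t, s, pullback.condition]
  have hxy : x ≫ f = y ≫ f := by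
    rw [← hm, reassoc_of% hx, reassoc_of% hy, hab]
  obtain ⟨g, hg₁, hg₂⟩ : ∃ g, g ≫ k₁ = x ∧ g ≫ k₂ = y :=
    ⟨pullback.lift x y hxy, pullback.lift_fst _ _ _, pullback.lift_snd _ _ _⟩
  have e : x ≫ q = y ≫ q := by rw [← hg₁, ← hg₂, Category.assoc, Category.assoc, hpb.w]
  rw [hx, hy] at e
  haveI : Epi (t ≫ s) := epi_comp _ _
  exact (cancel_epi (t ≫ s)).1 e

end UEpi

/-- The data of a detecting family and the axioms. -/
structure Axioms (E : Type v) [Category.{u} E] [HasFiniteLimits E] where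
  /-- index of the generators -/
  ι : Type u
  /-- generators -/
  G : ι → E
  coprod : HasDisjointUniversalCoproducts.{v, u} E
  rel : ∀ (R A : E) (p₁ p₂ : R ⟶ A), IsEquivRel p₁ p₂ → IsEffectiveUniversalEquivRel p₁ p₂
  detect : ∀ {I Z : E} (m : I ⟶ Z) [Mono m], (∀ i (g : G i ⟶ Z), ∃ a, a ≫ m = g) → IsIso m

namespace Axioms

variable (A : Axioms E)

/-- The small site of generators. -/
abbrev Gen : Type u := InducedCategory E A.G

/-- A map factors through a monomorphism once its composites with generators do. -/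
lemma exists_lift {I Z Z' : E} (m : I ⟶ Z) [Mono m] (t : Z' ⟶ Z)
    (h : ∀ i (w : A.G i ⟶ Z'), ∃ a, a ≫ m = w ≫ t) : ∃ a, a ≫ m = t := by
  haveI : IsIso (pullback.snd m t) := A.detect _ fun i w => by
    obtain ⟨a, ha⟩ := h i w
    exact ⟨pullback.lift a w ha, pullback.lift_snd _ _ _⟩
  exact ⟨inv (pullback.snd m t) ≫ pullback.fst m t, by
    rw [Category.assoc, pullback.condition, IsIso.inv_hom_id_assoc]⟩

lemma hom_ext {X Y : E} {a b : X ⟶ Y} (h : ∀ i (g : A.G i ⟶ X), g ≫ a = g ≫ b) : a = b := by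
  haveI : IsIso (equalizer.ι a b) := A.detect _ fun i g => ⟨equalizer.lift g (h i g), equalizer.lift_ι _ _⟩
  exact (cancel_epi (equalizer.ι a b)).1 (equalizer.condition a b)

/-- Decomposition along a coproduct. -/
lemma isIso_of_decomp {κ : Type u} {X : κ → E} (c : Cofan X) (hu : IsUniversalColimit c) {Z : E}
    (g : Z ⟶ c.pt) {I : E} (m : I ⟶ Z) [Mono m]
    (h : ∀ i (w : A.G i ⟶ Z), (∃ (k : κ) (v : A.G i ⟶ X k), v ≫ c.inj k = w ≫ g) → ∃ a, a ≫ m = w) :
    IsIso m := by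
  let c' : Cofan (fun k => pullback g (c.inj k)) := Cofan.mk Z fun k => pullback.fst g (c.inj k)
  obtain ⟨hc'⟩ := hu c' (Discrete.natTrans fun k => pullback.snd g (c.inj k.as)) g
    (by ext ⟨k⟩; exact (pullback.condition (f := g) (g := c.inj k)).symm) (.of_discrete _)
    (fun ⟨k⟩ => IsPullback.of_hasPullback g (c.inj k))
  have hk : ∀ k, ∃ a, a ≫ m = pullback.fst g (c.inj k) := fun k =>
    A.exists_lift m _ fun i w => h i _ ⟨k, w ≫ pullback.snd g (c.inj k), by
      simp [pullback.condition]⟩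
  choose a ha using hk
  haveI : IsSplitEpi m := IsSplitEpi.mk' ⟨Cofan.IsColimit.desc hc' a, by
    refine Cofan.IsColimit.hom_ext hc' _ _ fun k => ?_
    rw [Cofan.IsColimit.fac_assoc, ha]
    exact (Category.comp_id _).symm⟩
  exact isIso_of_mono_of_isSplitEpi m

/-- A sieve is covering when it is jointly extremally epimorphic. -/
def Covers {X : A.Gen} (S : Sieve X) : Prop :=
  ∀ ⦃I : E⦄ (m : I ⟶ A.G X) [Mono m],
    (∀ ⦃Y : A.Gen⦄ (f : Y ⟶ X), S f → ∃ a, a ≫ m = f.hom) → IsIso m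

lemma covers_pullback {X Y : A.Gen} {S : Sieve X} (g : Y ⟶ X) (hS : A.Covers S) :
    A.Covers (S.pullback g) := by
  intro I m _ hm
  let κ : Type u := Σ Z : A.Gen, {f : Z ⟶ X // S f}
  obtain ⟨c, hcc, -, hu⟩ := A.coprod κ fun k => A.G k.1
  let p : c.pt ⟶ A.G X := Cofan.IsColimit.desc hcc fun k => k.2.1.hom
  obtain ⟨I₀, q, m₀, hq, hm₀, e⟩ := exists_factor A.rel p
  haveI := hm₀
  haveI : IsIso m₀ := hS m₀ fun Z f hf => ⟨c.inj ⟨Z, f, hf⟩ ≫ q, by
    rw [Category.assoc, e]; exact Cofan.IsColimit.fac hcc _ _⟩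
  let r : A.G Y ⟶ I₀ := g.hom ≫ inv m₀
  haveI := hq _ r
  obtain ⟨a, ha⟩ := A.exists_lift m (pullback.snd q r) fun i w => by
    haveI : IsIso (pullback.snd m (w ≫ pullback.snd q r)) :=
      A.isIso_of_decomp c hu (w ≫ pullback.fst q r) _ fun j v ⟨k, v', hv'⟩ => by
        let f : (show A.Gen from j) ⟶ Y := InducedCategory.homMk (v ≫ w ≫ pullback.snd q r)
        have hf : S (f ≫ g) := by
          have e' : f ≫ g = InducedCategory.homMk v' ≫ k.2.1 := by
            ext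
            simp only [f, InducedCategory.comp_hom, InducedCategory.homMk_hom]
            have h1 : v' ≫ k.2.1.hom = v' ≫ c.inj k ≫ p := by
              rw [Cofan.IsColimit.fac]
            rw [h1, reassoc_of% hv', ← e, pullback.condition_assoc]
            simp [r]
          rw [e']
          exact S.downward_closed k.2.2 _
        obtain ⟨b, hb⟩ := hm f hf
        exact ⟨pullback.lift b v (by simpa [f] using hb), pullback.lift_snd _ _ _⟩
    exact ⟨inv (pullback.snd m (w ≫ pullback.snd q r)) ≫ pullback.fst _ _, by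
      rw [Category.assoc, pullback.condition, IsIso.inv_hom_id_assoc]⟩
  exact isIso_of_mono_of_effectiveEpi (pullback.snd q r) m a ha

/-- The topology on the generators. -/
def topology : GrothendieckTopology A.Gen where
  sieves X := Set.ofPred fun S => A.Covers S
  top_mem' X I m _ hm := by
    obtain ⟨a, ha⟩ := hm (𝟙 X) trivial
    haveI : IsSplitEpi m := IsSplitEpi.mk' ⟨a, ha⟩
    exact isIso_of_mono_of_isSplitEpi m
  pullback_stable' X Y S g hS := A.covers_pullback g hS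
  transitive' X S hS R hR I m _ hm := by
    refine hS m fun Y f hf => ?_
    haveI : IsIso (pullback.snd m f.hom) := hR hf _ fun Z g hg => by
      obtain ⟨a, ha⟩ := hm (g ≫ f) hg
      exact ⟨pullback.lift a g.hom ha, pullback.lift_snd _ _ _⟩
    exact ⟨inv (pullback.snd m f.hom) ≫ pullback.fst _ _, by
      rw [Category.assoc, pullback.condition, IsIso.inv_hom_id_assoc]⟩

/-- The arrows along which a map into a coproduct factors through a summand. -/
def splitting {κ : Type u} {X : κ → E} (c : Cofan X) {Y : A.Gen} (g : A.G Y ⟶ c.pt) : Sieve Y where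
  arrows Z f := ∃ (k : κ) (v : A.G Z ⟶ X k), v ≫ c.inj k = f.hom ≫ g
  downward_closed := by
    rintro Z W f ⟨k, v, hv⟩ h
    exact ⟨k, h.hom ≫ v, by simp [hv]⟩

lemma splitting_covers {κ : Type u} {X : κ → E} (c : Cofan X) (hu : IsUniversalColimit c) {Y : A.Gen}
    (g : A.G Y ⟶ c.pt) : A.splitting c g ∈ A.topology Y :=
  fun I m _ hm => A.isIso_of_decomp c hu g m fun i w hw => hm (InducedCategory.homMk w) hw

lemma ext_of_covers {X : A.Gen} {S : Sieve X} (hS : S ∈ A.topology X) {Y : E} {a b : A.G X ⟶ Y}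
    (h : ∀ ⦃Z : A.Gen⦄ (f : Z ⟶ X), S f → f.hom ≫ a = f.hom ≫ b) : a = b := by
  haveI : IsIso (equalizer.ι a b) := hS _ fun Z f hf => ⟨equalizer.lift f.hom (h f hf), equalizer.lift_ι _ _⟩
  exact (cancel_epi (equalizer.ι a b)).1 (equalizer.condition a b)

/-- The restricted Yoneda embedding into presheaves. -/
def hPre : E ⥤ (A.Genᵒᵖ ⥤ Type u) :=
  yoneda ⋙ (Functor.whiskeringLeft _ _ _).obj (inducedFunctor A.G).op

lemma isSheaf_hPre (Y : E) : Presheaf.IsSheaf A.topology (A.hPre.obj Y) := by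
  rw [isSheaf_iff_isSheaf_of_type]
  intro X S hS
  rw [← Presieve.isSeparatedFor_and_exists_isAmalgamation_iff_isSheafFor]
  refine ⟨fun x t₁ t₂ h₁ h₂ => A.ext_of_covers hS fun Z f hf => (h₁ f hf).trans (h₂ f hf).symm,
    fun x hx => ?_⟩
  let κ : Type u := Σ Z : A.Gen, {f : Z ⟶ X // S f}
  obtain ⟨c, hcc, -, hu⟩ := A.coprod κ fun k => A.G k.1
  let p : c.pt ⟶ A.G X := Cofan.IsColimit.desc hcc fun k => k.2.1.hom
  let d : c.pt ⟶ Y := Cofan.IsColimit.desc hcc fun k => x k.2.1 k.2.2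
  have hp : ∀ k : κ, c.inj k ≫ p = k.2.1.hom := fun k => Cofan.IsColimit.fac hcc _ _
  have hd : ∀ k : κ, c.inj k ≫ d = x k.2.1 k.2.2 := fun k => Cofan.IsColimit.fac hcc _ _
  obtain ⟨I₀, q, m₀, hq, hm₀, e⟩ := exists_factor A.rel p
  haveI := hm₀
  haveI : IsIso m₀ := hS m₀ fun Z f hf => ⟨c.inj ⟨Z, f, hf⟩ ≫ q, by
    rw [Category.assoc, e]; exact hp _⟩
  haveI := hq.effectiveEpi
  haveI : EffectiveEpi p := e ▸ inferInstanceAs (EffectiveEpi (q ≫ m₀))
  have hdd : ∀ {T : E} (a b : T ⟶ c.pt), a ≫ p = b ≫ p → a ≫ d = b ≫ d := by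
    intro T a b hab
    refine A.hom_ext fun i w => ?_
    refine A.ext_of_covers (A.topology.intersection_covering
      (A.splitting_covers c hu (Y := (i : A.Gen)) (w ≫ a))
      (A.splitting_covers c hu (Y := (i : A.Gen)) (w ≫ b))) fun Z f hf => ?_
    obtain ⟨⟨k, v, hv⟩, ⟨k', v', hv'⟩⟩ := hf
    have h₁ : f.hom ≫ w ≫ a ≫ d = v ≫ x k.2.1 k.2.2 := by
      rw [← hd k, reassoc_of% hv]
    have h₂ : f.hom ≫ w ≫ b ≫ d = v' ≫ x k'.2.1 k'.2.2 := by
      rw [← hd k', reassoc_of% hv']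
    rw [h₁, h₂]
    refine hx (InducedCategory.homMk v) (InducedCategory.homMk v') k.2.2 k'.2.2 ?_
    ext
    simp only [InducedCategory.comp_hom, InducedCategory.homMk_hom]
    rw [← hp k, ← hp k', reassoc_of% hv, reassoc_of% hv', hab]
  refine ⟨EffectiveEpi.desc p d fun a b h => hdd a b h, fun Z f hf => ?_⟩
  change f.hom ≫ EffectiveEpi.desc p d _ = x f hf
  rw [← hp ⟨Z, f, hf⟩, Category.assoc, EffectiveEpi.fac]
  exact hd _

/-- The comparison functor to sheaves. -/
def h : E ⥤ Sheaf A.topology (Type u) :=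
  ObjectProperty.lift _ A.hPre A.isSheaf_hPre

instance : PreservesFiniteLimits A.h := by
  haveI : PreservesFiniteLimits (A.h ⋙ sheafToPresheaf _ _) :=
    inferInstanceAs (PreservesFiniteLimits (yoneda ⋙ (Functor.whiskeringLeft _ _ _).obj (inducedFunctor A.G).op))
  exact ⟨fun K _ _ => preservesLimitsOfShape_of_reflects_of_preserves A.h (sheafToPresheaf _ _)⟩

/-- All generators mapping to an object. -/
lemma exists_cover (X : E) :
    ∃ (c : Cofan (fun k : Σ i : A.ι, A.G i ⟶ X => A.G k.1)) (hcc : IsColimit c) (p : c.pt ⟶ X),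
      IsUniversalColimit c ∧ (∀ k, c.inj k ≫ p = k.2) ∧ UEpi p := by
  obtain ⟨c, hcc, -, hu⟩ := A.coprod (Σ i : A.ι, A.G i ⟶ X) fun k => A.G k.1
  let p : c.pt ⟶ X := Cofan.IsColimit.desc hcc fun k => k.2
  have hp : ∀ k, c.inj k ≫ p = k.2 := fun k => Cofan.IsColimit.fac hcc _ _
  refine ⟨c, hcc, p, hu, hp, ?_⟩
  obtain ⟨I₀, q, m₀, hq, hm₀, e⟩ := exists_factor A.rel p
  haveI := hm₀
  haveI : IsIso m₀ := A.detect _ fun i g => ⟨c.inj ⟨i, g⟩ ≫ q, by
    rw [Category.assoc, e]; exact hp _⟩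
  intro B g
  haveI := hq B (g ≫ inv m₀)
  have hpb : IsPullback (pullback.fst q (g ≫ inv m₀)) (pullback.snd q (g ≫ inv m₀)) p g :=
    (IsPullback.of_hasPullback q (g ≫ inv m₀)).of_iso (Iso.refl _) (Iso.refl _) (Iso.refl _)
      (asIso m₀) (by simp) (by simp) (by simp [e]) (by simp)
  rw [← hpb.isoPullback_inv_snd]
  infer_instance

instance : A.h.Faithful where
  map_injective {X Y} a b hab := A.hom_ext fun i g =>
    ConcreteCategory.congr_hom (congrArg (fun t : A.h.obj X ⟶ A.h.obj Y => t.hom.app (op (i : A.Gen))) hab) g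

instance : A.h.Full where
  map_surjective {X Y} φ := by
    obtain ⟨c, hcc, p, hu, hp, hpe⟩ := A.exists_cover X
    haveI := hpe.effectiveEpi
    let φf : ∀ {i : A.Gen}, (A.G i ⟶ X) → (A.G i ⟶ Y) := fun {i} g => φ.hom.app (op i) g
    have hnat : ∀ {i j : A.Gen} (f : j ⟶ i) (g : A.G i ⟶ X), φf (f.hom ≫ g) = f.hom ≫ φf g :=
      fun f g => NatTrans.naturality_apply φ.hom f.op g
    let d : c.pt ⟶ Y := Cofan.IsColimit.desc hcc fun k => φf (i := k.1) k.2
    have hd : ∀ k, c.inj k ≫ d = φf (i := k.1) k.2 := fun k => Cofan.IsColimit.fac hcc _ _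
    have key : ∀ (i : A.Gen) (g : A.G i ⟶ c.pt), g ≫ d = φf (g ≫ p) := by
      intro i g
      refine A.ext_of_covers (A.splitting_covers c hu g) fun Z f hf => ?_
      obtain ⟨k, v, hv⟩ := hf
      rw [← hnat, ← reassoc_of% hv, ← reassoc_of% hv, hd, hp]
      exact (hnat (InducedCategory.homMk v : Z ⟶ (k.1 : A.Gen)) k.2).symm
    refine ⟨EffectiveEpi.desc p d fun a b hab => A.hom_ext fun i w => ?_, ?_⟩
    · rw [← Category.assoc, ← Category.assoc, key, key, Category.assoc, Category.assoc, hab]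
    · ext ⟨i⟩ g
      change g ≫ EffectiveEpi.desc p d _ = φ.hom.app (op i) g
      refine Eq.trans (congrArg (fun t => t ≫ EffectiveEpi.desc p d _) (hp ⟨i, g⟩).symm) ?_
      refine Eq.trans (Category.assoc _ _ _) ?_
      rw [EffectiveEpi.fac, hd]

lemma epi_h_map {X Y : E} {f : X ⟶ Y} (hf : UEpi f) : Epi (A.h.map f) := by
  refine (Sheaf.isLocallySurjective_iff_epi _).1 ⟨fun {U} s => ?_⟩
  intro I m _ hm
  let s' : A.G U ⟶ Y := s
  haveI := hf _ s'
  obtain ⟨a, ha⟩ := A.exists_lift m (pullback.snd f s') fun i w => by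
    refine hm (InducedCategory.homMk (w ≫ pullback.snd f s') : (show A.Gen from i) ⟶ U)
      ⟨(w ≫ pullback.fst f s' : A.G i ⟶ X), ?_⟩
    change (w ≫ pullback.fst f s') ≫ f = (w ≫ pullback.snd f s') ≫ s'
    rw [Category.assoc, Category.assoc, pullback.condition]
  exact isIso_of_mono_of_effectiveEpi (pullback.snd f s') m a ha

/-- Every sheaf is a quotient of an object of `E`. -/
lemma exists_epi (F : Sheaf A.topology (Type u)) : ∃ (X : E) (ψ : A.h.obj X ⟶ F), Epi ψ := by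
  obtain ⟨c, hcc, hdis, hu⟩ := A.coprod (Σ i : A.Gen, F.obj.obj (op i)) fun k => A.G k.1
  have hF := (isSheaf_iff_isSheaf_of_type _ _).1 F.property
  have hsub : ∀ {i j : Σ i : A.Gen, F.obj.obj (op i)} (hij : i ≠ j) {Z : A.Gen}
      (a : A.G Z ⟶ A.G i.1) (b : A.G Z ⟶ A.G j.1), a ≫ c.inj i = b ≫ c.inj j →
      (⊥ : Sieve Z) ∈ A.topology Z := by
    intro i j hij Z a b hab I m _ _
    obtain ⟨hinit⟩ := CoproductDisjoint.nonempty_isInitial_of_ne hcc hij
      (PullbackCone.mk (pullback.fst (c.inj i) (c.inj j)) (pullback.snd (c.inj i) (c.inj j))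
        pullback.condition) (pullbackIsPullback _ _)
    obtain ⟨c₀, hc₀, -, hu₀⟩ := A.coprod PEmpty.{u + 1} fun x => x.elim
    refine A.isIso_of_decomp c₀ hu₀ (pullback.lift a b hab ≫ hinit.to c₀.pt) m ?_
    rintro _ _ ⟨k, -⟩
    exact k.elim
  have hcompat : ∀ (Z : A.Gen) (k k' : Σ i : A.Gen, F.obj.obj (op i))
      (a : A.G Z ⟶ A.G k.1) (b : A.G Z ⟶ A.G k'.1), a ≫ c.inj k = b ≫ c.inj k' →
      F.obj.map (InducedCategory.homMk a : Z ⟶ k.1).op k.2 =
        F.obj.map (InducedCategory.homMk b : Z ⟶ k'.1).op k'.2 := by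
    intro Z k k' a b hab
    by_cases hk : k = k'
    · subst hk
      haveI := CoproductDisjoint.mono_inj hcc k
      rw [(cancel_mono (c.inj k)).1 hab]
    · exact (hF _ (hsub hk a b hab)).isSeparatedFor.ext fun V f hf => hf.elim
  let x : ∀ {i : A.Gen} (g : A.G i ⟶ c.pt),
      Presieve.FamilyOfElements F.obj (A.splitting c g).arrows := fun g Z f hf =>
    F.obj.map (InducedCategory.homMk hf.choose_spec.choose : Z ⟶ hf.choose.1).op hf.choose.2
  have hx : ∀ {i : A.Gen} (g : A.G i ⟶ c.pt) {Z : A.Gen} (f : Z ⟶ i) (hf : A.splitting c g f)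
      (k) (v : A.G Z ⟶ A.G (Sigma.fst k)), v ≫ c.inj k = f.hom ≫ g →
      x g f hf = F.obj.map (InducedCategory.homMk v : Z ⟶ k.1).op k.2 := fun g Z f hf k v hv =>
    hcompat _ _ _ _ _ (hf.choose_spec.choose_spec.trans hv.symm)
  have hxc : ∀ {i : A.Gen} (g : A.G i ⟶ c.pt), (x g).Compatible := by
    intro i g Y₁ Y₂ Z g₁ g₂ f₁ f₂ h₁ h₂ e
    obtain ⟨k, v, hv⟩ := h₁
    obtain ⟨k', v', hv'⟩ := h₂
    refine ((congrArg (fun t => F.obj.map g₁.op t) (hx g f₁ _ k v hv)).trans ?_).trans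
      (congrArg (fun t => F.obj.map g₂.op t) (hx g f₂ _ k' v' hv')).symm
    simp only [← Functor.map_comp_apply, ← op_comp]
    have e' : g₁.hom ≫ f₁.hom = g₂.hom ≫ f₂.hom := congrArg (fun t => t.hom) e
    exact hcompat Z k k' (g₁.hom ≫ v) (g₂.hom ≫ v')
      (by rw [Category.assoc, Category.assoc, hv, hv', reassoc_of% e'])
  let ψ₀ : ∀ {i : A.Gen}, (A.G i ⟶ c.pt) → F.obj.obj (op i) := fun g =>
    (hF _ (A.splitting_covers c hu g)).amalgamate (x g) (hxc g)
  have hψ : ∀ {i : A.Gen} (g : A.G i ⟶ c.pt) {Z : A.Gen} (f : Z ⟶ i) (k) (v : A.G Z ⟶ A.G (Sigma.fst k)),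
      v ≫ c.inj k = f.hom ≫ g →
      F.obj.map f.op (ψ₀ g) = F.obj.map (InducedCategory.homMk v : Z ⟶ k.1).op k.2 := fun g Z f k v hv =>
    ((hF _ (A.splitting_covers c hu g)).valid_glue (hxc g) f ⟨k, v, hv⟩).trans (hx g f _ k v hv)
  let ψ : A.h.obj c.pt ⟶ F := ⟨{
    app := fun i => ↾fun g => ψ₀ (i := i.unop) g
    naturality := fun i j f => by
      ext g
      change ψ₀ (f.unop.hom ≫ g) = F.obj.map f (ψ₀ g)
      refine (hF _ (A.splitting_covers c hu (f.unop.hom ≫ g))).isSeparatedFor.ext fun V w hw => ?_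
      obtain ⟨k, v, hv⟩ := hw
      rw [hψ _ w k v hv, ← Functor.map_comp_apply]
      exact (hψ g (w ≫ f.unop) k v (hv.trans (Category.assoc _ _ _).symm)).symm }⟩
  refine ⟨c.pt, ψ, (Sheaf.isLocallySurjective_iff_epi ψ).1 ⟨fun {U} s => ?_⟩⟩
  refine A.topology.superset_covering (fun V f _ => ?_) (A.topology.top_mem U)
  refine ⟨(f.hom ≫ c.inj ⟨U, s⟩ : A.G V ⟶ c.pt), ?_⟩
  change ψ₀ (f.hom ≫ c.inj ⟨U, s⟩) = F.obj.map f.op s
  have h := hψ (f.hom ≫ c.inj ⟨U, s⟩) (𝟙 V) ⟨U, s⟩ f.hom (Category.id_comp _).symm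
  rw [op_id, Functor.map_id_apply] at h
  exact h

instance : A.h.EssSurj where
  mem_essImage F := by
    obtain ⟨X, ψ, hψ⟩ := A.exists_epi F
    let R := pullback ψ ψ
    obtain ⟨Z, χ, hχ⟩ := A.exists_epi R
    obtain ⟨z₁, hz₁⟩ := A.h.map_surjective (χ ≫ pullback.fst ψ ψ)
    obtain ⟨z₂, hz₂⟩ := A.h.map_surjective (χ ≫ pullback.snd ψ ψ)
    obtain ⟨I, q, m, hq, hm, e⟩ := exists_factor A.rel (prod.lift z₁ z₂)
    let i₁ := m ≫ prod.fst
    let i₂ := m ≫ prod.snd
    have hqi₁ : q ≫ i₁ = z₁ := by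
      show q ≫ m ≫ prod.fst = z₁
      rw [reassoc_of% e, prod.lift_fst]
    have hqi₂ : q ≫ i₂ = z₂ := by
      show q ≫ m ≫ prod.snd = z₂
      rw [reassoc_of% e, prod.lift_snd]
    haveI := A.epi_h_map hq
    have hw : A.h.map i₁ ≫ ψ = A.h.map i₂ ≫ ψ := by
      rw [← cancel_epi (A.h.map q), ← Functor.map_comp_assoc, ← Functor.map_comp_assoc, hqi₁, hqi₂,
        hz₁, hz₂, Category.assoc, Category.assoc, pullback.condition]
    let θ : A.h.obj I ⟶ R := pullback.lift (A.h.map i₁) (A.h.map i₂) hw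
    have hθ : A.h.map q ≫ θ = χ := by
      apply pullback.hom_ext
      · rw [Category.assoc, pullback.lift_fst, ← Functor.map_comp, hqi₁, hz₁]
      · rw [Category.assoc, pullback.lift_snd, ← Functor.map_comp, hqi₂, hz₂]
    haveI : Epi θ := epi_of_epi_fac hθ
    have hj : ∀ {T : Sheaf A.topology (Type u)} (a b : T ⟶ A.h.obj I),
        a ≫ A.h.map i₁ = b ≫ A.h.map i₁ → a ≫ A.h.map i₂ = b ≫ A.h.map i₂ → a = b := by
      intro T a b h₁ h₂
      haveI := hm
      rw [← cancel_mono (A.h.map m), ← cancel_mono (PreservesLimitPair.iso A.h X X).hom]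
      apply Limits.prod.hom_ext
      · simpa [i₁, PreservesLimitPair.iso_hom, prodComparison_fst, ← Functor.map_comp] using h₁
      · simpa [i₂, PreservesLimitPair.iso_hom, prodComparison_snd, ← Functor.map_comp] using h₂
    haveI : Mono θ := ⟨fun a b hab => hj a b
      (by simpa only [θ, Category.assoc, pullback.lift_fst] using congrArg (fun t => t ≫ pullback.fst ψ ψ) hab)
      (by simpa only [θ, Category.assoc, pullback.lift_snd] using congrArg (fun t => t ≫ pullback.snd ψ ψ) hab)⟩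
    haveI : IsIso θ := isIso_of_mono_of_epi θ
    have hK : IsPullback (A.h.map i₁) (A.h.map i₂) ψ ψ :=
      (IsPullback.of_hasPullback ψ ψ).of_iso (asIso θ).symm (Iso.refl _) (Iso.refl _) (Iso.refl _)
        (by simp [θ]) (by simp [θ]) (by simp) (by simp)
    have hrel : IsEquivRel i₁ i₂ := by
      intro T
      refine ⟨fun a b hab => A.h.map_injective (hj _ _ ?_ ?_), ?_⟩
      · rw [← Functor.map_comp, ← Functor.map_comp]; exact congrArg A.h.map (congrArg Prod.fst hab)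
      · rw [← Functor.map_comp, ← Functor.map_comp]; exact congrArg A.h.map (congrArg Prod.snd hab)
      have key : ∀ a b : T ⟶ X,
          (∃ g, g ≫ i₁ = a ∧ g ≫ i₂ = b) ↔ A.h.map a ≫ ψ = A.h.map b ≫ ψ := by
        intro a b
        constructor
        · rintro ⟨g, rfl, rfl⟩
          simp only [Functor.map_comp, Category.assoc, hw]
        · intro h
          obtain ⟨g, hg₁, hg₂⟩ := hK.exists_lift _ _ h
          obtain ⟨g, rfl⟩ := A.h.map_surjective g
          exact ⟨g, A.h.map_injective (by rw [A.h.map_comp, hg₁]),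
            A.h.map_injective (by rw [A.h.map_comp, hg₂])⟩
      exact ⟨fun a => (key a a).2 rfl, fun h => (key _ _).2 ((key _ _).1 h).symm,
        fun h h' => (key _ _).2 (((key _ _).1 h).trans ((key _ _).1 h'))⟩
    obtain ⟨Q, π, hpb, -, hπu⟩ := A.rel _ _ _ _ hrel
    haveI := A.epi_h_map hπu
    haveI := IsRegularEpiCategory.regularEpiOfEpi ψ
    haveI := IsRegularEpiCategory.regularEpiOfEpi (A.h.map π)
    have hK' : IsPullback (A.h.map i₁) (A.h.map i₂) (A.h.map π) (A.h.map π) := hpb.map A.h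
    let d₁ : A.h.obj Q ⟶ F := EffectiveEpi.desc (A.h.map π) ψ fun a b hab => by
      obtain ⟨g, hg₁, hg₂⟩ := hK'.exists_lift a b hab
      rw [← hg₁, ← hg₂, Category.assoc, Category.assoc, hw]
    let d₂ : F ⟶ A.h.obj Q := EffectiveEpi.desc ψ (A.h.map π) fun a b hab => by
      obtain ⟨g, hg₁, hg₂⟩ := hK.exists_lift a b hab
      rw [← hg₁, ← hg₂, Category.assoc, Category.assoc, hK'.w]
    exact ⟨Q, ⟨⟨d₁, d₂, by rw [← cancel_epi (A.h.map π)]; simp [d₁, d₂],
      by rw [← cancel_epi ψ]; simp [d₁, d₂]⟩⟩⟩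

include A in
lemma isTopos : IsTopos.{v, u} E := by
  haveI : A.h.IsEquivalence := {}
  exact ⟨A.Gen, inferInstance, A.topology, ⟨A.h.asEquivalence⟩⟩

end Axioms

end Groth.Agent.H15Site.Giraud
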