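import Groth.Agent.H15Site.GiraudFun
import Groth.Agent.H15Site.ToposFin.Epi
import Mathlib.CategoryTheory.Presentable.Presheaf
import Mathlib.CategoryTheory.Presentable.Type
import Mathlib.CategoryTheory.Limits.Comma

/-!
# The glued topos of a left exact accessible functor
-/

set_option autoImplicit false
set_option linter.style.haveILetI false
set_option linter.unusedSectionVars false
set_option backward.isDefEq.respectTransparency false

universe u

noncomputable section

open CategoryTheory CategoryTheory.Limits Opposite SGA4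

namespace Groth.Agent.H15Site.GiraudComma

variable {C D : Type u} [SmallCategory C] [SmallCategory D] (J : GrothendieckTopology C)
  (K : GrothendieckTopology D)

/-- The two base categories. -/
def Two (C D : Type u) : Bool → Type u
  | false => D
  | true => C

instance twoCat : ∀ b, SmallCategory (Two C D b)
  | false => inferInstanceAs (SmallCategory D)
  | true => inferInstanceAs (SmallCategory C)

/-- The two topologies. -/
def twoTop : ∀ b, GrothendieckTopology (Two C D b)
  | false => K
  | true => J

variable (ρ : Sheaf J (Type u) ⥤ Sheaf K (Type u)) [PreservesFiniteLimits ρ]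

/-- The two projections. -/
def twoF : ∀ b, Comma (𝟭 (Sheaf K (Type u))) ρ ⥤ Sheaf (twoTop J K b) (Type u)
  | false => Comma.fst _ _
  | true => Comma.snd _ _

instance preservesFiniteLimits_fst : PreservesFiniteLimits (Comma.fst (𝟭 (Sheaf K (Type u))) ρ) where
  preservesFiniteLimits _ _ _ := ⟨fun {_} => preservesLimit_of_preserves_limit_cone
    (Comma.coneOfPreservesIsLimit _ (limit.isLimit _) (limit.isLimit _)) (limit.isLimit _)⟩

instance preservesFiniteLimits_snd : PreservesFiniteLimits (Comma.snd (𝟭 (Sheaf K (Type u))) ρ) where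
  preservesFiniteLimits _ _ _ := ⟨fun {_} => preservesLimit_of_preserves_limit_cone
    (Comma.coneOfPreservesIsLimit _ (limit.isLimit _) (limit.isLimit _)) (limit.isLimit _)⟩

instance twoF_preservesFiniteLimits : ∀ b, PreservesFiniteLimits (twoF J K ρ b)
  | false => preservesFiniteLimits_fst J K ρ
  | true => preservesFiniteLimits_snd J K ρ

lemma colim_fst (T : Type*) [Category T] [HasColimitsOfShape T (Sheaf K (Type u))]
    [HasColimitsOfShape T (Sheaf J (Type u))] [PreservesColimitsOfShape T (𝟭 (Sheaf K (Type u)))] :
    PreservesColimitsOfShape T (Comma.fst (𝟭 (Sheaf K (Type u))) ρ) := inferInstance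

lemma colim_snd (T : Type*) [Category T] [HasColimitsOfShape T (Sheaf K (Type u))]
    [HasColimitsOfShape T (Sheaf J (Type u))] [PreservesColimitsOfShape T (𝟭 (Sheaf K (Type u)))] :
    PreservesColimitsOfShape T (Comma.snd (𝟭 (Sheaf K (Type u))) ρ) := inferInstance

lemma discrete_fst (T : Type u) :
    PreservesColimitsOfShape (Discrete T) (Comma.fst (𝟭 (Sheaf K (Type u))) ρ) := inferInstance

lemma discrete_snd (T : Type u) :
    PreservesColimitsOfShape (Discrete T) (Comma.snd (𝟭 (Sheaf K (Type u))) ρ) := inferInstance

lemma finite_fst : PreservesFiniteColimits (Comma.fst (𝟭 (Sheaf K (Type u))) ρ) :=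
  ⟨fun T _ _ => colim_fst J K ρ T⟩

lemma finite_snd : PreservesFiniteColimits (Comma.snd (𝟭 (Sheaf K (Type u))) ρ) :=
  ⟨fun T _ _ => colim_snd J K ρ T⟩

instance twoF_preservesColimitsOfShape (T : Type u) :
    ∀ b, PreservesColimitsOfShape (Discrete T) (twoF J K ρ b)
  | false => discrete_fst J K ρ T
  | true => discrete_snd J K ρ T

instance twoF_preservesFiniteColimits : ∀ b, PreservesFiniteColimits (twoF J K ρ b)
  | false => finite_fst J K ρ
  | true => finite_snd J K ρ

lemma isIso_of_twoF {X Y : Comma (𝟭 (Sheaf K (Type u))) ρ} (f : X ⟶ Y)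
    (h : ∀ b, IsIso ((twoF J K ρ b).map f)) : IsIso f := by
  haveI : IsIso f.left := h false
  haveI : IsIso f.right := h true
  exact ⟨{ left := inv f.left, right := inv f.right
           w := by
             simp only [Functor.id_map, Functor.map_inv, IsIso.eq_comp_inv]
             rw [Category.assoc, IsIso.inv_comp_eq]
             exact f.w.symm },
    by ext <;> simp, by ext <;> simp⟩

theorem isTopos [ρ.IsAccessible.{u}] : IsTopos.{u + 1, u} (Comma (𝟭 (Sheaf K (Type u))) ρ) := by
  obtain ⟨κ, hκ, hρ⟩ := Functor.IsAccessible.exists_cardinal (F := ρ)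
  haveI : IsCardinalLocallyPresentable (Cᵒᵖ ⥤ Type u) κ := inferInstance
  obtain ⟨P, hP, hgen⟩ := HasCardinalFilteredGenerator.exists_small_generator (Cᵒᵖ ⥤ Type u) κ
  let L := presheafToSheaf J (Type u)
  let T := fun s : Shrink.{u} (Subtype P) => L.obj ((equivShrink _).symm s).1
  haveI : ∀ ι : Type u, HasColimitsOfShape (Discrete ι) (Comma (𝟭 (Sheaf K (Type u))) ρ) :=
    fun _ => inferInstance
  refine Giraud.Axioms.isTopos
    ({ ι := (Σ V : D, Σ s : Shrink.{u} (Subtype P), (ρ.obj (T s)).obj.obj (op V)) ⊕ C
       G := fun i => match i with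
         | .inl p => { left := shRep K p.1, right := T p.2.1,
                       hom := (sheafifyYonedaHomEquiv K p.1 _).symm p.2.2 }
         | .inr c => { left := ⊥_ _, right := shRep J c, hom := initial.to _ }
       coprod := GiraudJoint.hasDisjointUniversalCoproducts (twoTop J K) (twoF J K ρ)
         (fun f => isIso_of_twoF J K ρ f)
       rel := GiraudJoint.isEffectiveUniversalEquivRel (twoTop J K) (twoF J K ρ)
         (fun f => isIso_of_twoF J K ρ f)
       detect := ?_ } : Giraud.Axioms (Comma (𝟭 (Sheaf K (Type u))) ρ))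
  intro X Y m hm h
  haveI : Mono m.left := inferInstanceAs (Mono ((Comma.fst _ ρ).map m))
  haveI : Mono m.right := inferInstanceAs (Mono ((Comma.snd _ ρ).map m))
  have h₂ : IsIso m.right := isIso_of_shRep_lifts m.right fun c g => by
    obtain ⟨a, ha⟩ := h (.inr c) { left := initial.to _, right := g, w := initialIsInitial.hom_ext _ _ }
    exact ⟨a.right, congrArg CommaMorphism.right ha⟩
  haveI : Sheaf.IsLocallySurjective m.left := ⟨fun {U} y => by
    obtain ⟨J', _, _, ⟨p⟩⟩ := hgen.exists_colimitsOfShape Y.right.obj
    haveI := ρ.preservesColimitsOfShape_of_isCardinalAccessible κ J'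
    let π : ∀ j, ρ.obj (L.obj (p.diag.obj j)) ⟶ ρ.obj Y.right := fun j =>
      ρ.map (L.map (p.ι.app j) ≫ (sheafificationAdjunction J (Type u)).counit.app Y.right)
    have hπ : TFin.JEpi π := by
      intro Z a b hab
      rw [← cancel_epi (ρ.map ((sheafificationAdjunction J (Type u)).counit.app Y.right))]
      refine (isColimitOfPreserves (L ⋙ ρ) p.isColimit).hom_ext fun j => ?_
      simpa [π, L, Functor.map_comp] using hab j
    refine K.superset_covering (fun V f hf => ?_) ((TFin.jEpi_iff π).1 hπ U (Y.hom.hom.app (op U) y))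
    obtain ⟨j, x, hx⟩ := hf
    let s : Shrink.{u} (Subtype P) := equivShrink _ ⟨_, p.prop_diag_obj j⟩
    let e : T s ⟶ L.obj (p.diag.obj j) := eqToHom (by simp [T, s])
    let x' : (ρ.obj (T s)).obj.obj (op V) := (ρ.map (inv e)).hom.app (op V) x
    obtain ⟨a, ha⟩ := h (.inl ⟨V, s, x'⟩)
      { left := (sheafifyYonedaHomEquiv K V _).symm (Y.left.obj.map f.op y)
        right := e ≫ L.map (p.ι.app j) ≫ (sheafificationAdjunction J (Type u)).counit.app Y.right
        w := by
          apply (sheafifyYonedaHomEquiv K V _).injective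
          refine (sheafifyYonedaHomEquiv_naturality_right K _ _).trans ?_
          refine Eq.trans ?_ (sheafifyYonedaHomEquiv_naturality_right K _ _).symm
          dsimp only [Functor.id_map, Functor.id_obj]
          rw [Equiv.apply_symm_apply]
          refine (TFin.app_map Y.hom f y).trans (hx.symm.trans ?_)
          simp only [π, x', Equiv.apply_symm_apply, ← ConcreteCategory.comp_apply, ← NatTrans.comp_app,
            ← ObjectProperty.FullSubcategory.comp_hom, ← Functor.map_comp, IsIso.inv_hom_id_assoc] }
    refine ⟨sheafifyYonedaHomEquiv K V _ a.left, ?_⟩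
    refine (sheafifyYonedaHomEquiv_naturality_right K _ _).symm.trans ?_
    refine (congrArg (fun t => sheafifyYonedaHomEquiv K V _ t) (congrArg CommaMorphism.left ha)).trans ?_
    exact Equiv.apply_symm_apply _ _⟩
  haveI : Epi m.left := (Sheaf.isLocallySurjective_iff_epi m.left).1 inferInstance
  have h₁ : IsIso m.left := isIso_of_mono_of_epi m.left
  exact isIso_of_twoF J K ρ m fun b => match b with
    | false => h₁
    | true => h₂

end Groth.Agent.H15Site.GiraudComma
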