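import Mathlib.CategoryTheory.EffectiveEpi.Basic
import Mathlib.CategoryTheory.MorphismProperty.Limits
import Mathlib.CategoryTheory.Limits.Shapes.Pullback.IsPullback.Basic

/-!
# Universally effective epimorphisms
-/

set_option autoImplicit false

namespace Groth.Agent.H15Site

open CategoryTheory CategoryTheory.Limits

universe v u

variable {C : Type u} [Category.{v} C]

/-- Universally effective epimorphisms (as spelled out in the statements). -/
abbrev univEffEpi : MorphismProperty C :=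
  MorphismProperty.universally (fun (A B : C) (p : A ⟶ B) => EffectiveEpi p)

theorem univEffEpi_effectiveEpi {X Y : C} {f : X ⟶ Y} (hf : univEffEpi f) : EffectiveEpi f :=
  MorphismProperty.universally_le _ f hf

theorem univEpi_of_univEffEpi {X Y : C} {f : X ⟶ Y} (hf : univEffEpi f) :
    MorphismProperty.universally (MorphismProperty.epimorphisms C) f := by
  intro X' Y' i₁ i₂ f' h
  haveI : EffectiveEpi f' := hf _ _ _ h
  exact inferInstanceAs (Epi f')

theorem univEffEpi_baseChange {X Y X' Y' : C} {f : X ⟶ Y} (hf : univEffEpi f) {i₁ : X' ⟶ X}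
    {i₂ : Y' ⟶ Y} {f' : X' ⟶ Y'} (h : IsPullback f' i₁ i₂ f) : univEffEpi f' :=
  MorphismProperty.of_isPullback (P := univEffEpi) h.flip hf

theorem univEffEpi_isIso {X Y : C} (f : X ⟶ Y) [IsIso f] : univEffEpi f := by
  intro X' Y' i₁ i₂ f' h
  haveI : IsIso f' := MorphismProperty.of_isPullback (P := MorphismProperty.isomorphisms C) h.flip
    (inferInstanceAs (IsIso f))
  exact ⟨⟨{ desc := fun e _ => inv f' ≫ e
            fac := fun e _ => by simp
            uniq := fun e _ m hm => by simp [← hm] }⟩⟩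

variable [HasPullbacks C]

/-- Two maps into the base of a universal epimorphism lift simultaneously after an epimorphic
change of source. -/
theorem exists_lift_pair {X Y W : C} {f : X ⟶ Y}
    (hf : MorphismProperty.universally (MorphismProperty.epimorphisms C) f) (a b : W ⟶ Y) :
    ∃ (W' : C) (p : W' ⟶ W) (a' b' : W' ⟶ X), Epi p ∧ a' ≫ f = p ≫ a ∧ b' ≫ f = p ≫ b := by
  have h₁ : Epi (pullback.fst a f) :=
    hf _ _ _ (IsPullback.of_hasPullback a f)
  have h₂ : Epi (pullback.fst (pullback.fst a f ≫ b) f) :=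
    hf _ _ _ (IsPullback.of_hasPullback _ f)
  refine ⟨_, pullback.fst (pullback.fst a f ≫ b) f ≫ pullback.fst a f,
    pullback.fst (pullback.fst a f ≫ b) f ≫ pullback.snd a f,
    pullback.snd (pullback.fst a f ≫ b) f, epi_comp _ _, ?_, ?_⟩
  · simp [pullback.condition]
  · simp [pullback.condition]

theorem effectiveEpi_comp_univEpi {U T S : C} (v : U ⟶ T) (u : T ⟶ S) [EffectiveEpi u]
    [EffectiveEpi v] (hv : MorphismProperty.universally (MorphismProperty.epimorphisms C) v) :
    EffectiveEpi (v ≫ u) := by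
  have key : ∀ {W : C} (e : U ⟶ W),
      (∀ {Z : C} (g₁ g₂ : Z ⟶ U), g₁ ≫ v ≫ u = g₂ ≫ v ≫ u → g₁ ≫ e = g₂ ≫ e) →
      ∃ d : S ⟶ W, (v ≫ u) ≫ d = e := by
    intro W e h
    let e' := EffectiveEpi.desc v e (fun g₁ g₂ hg => h g₁ g₂ (by simp [reassoc_of% hg]))
    have he' : v ≫ e' = e := EffectiveEpi.fac _ _ _
    refine ⟨EffectiveEpi.desc u e' (fun {Z} g₁ g₂ hg => ?_), ?_⟩
    · obtain ⟨Z', p, a, b, hp, ha, hb⟩ := exists_lift_pair hv g₁ g₂
      rw [← cancel_epi p, ← Category.assoc, ← Category.assoc, ← ha, ← hb, Category.assoc,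
        Category.assoc, he']
      apply h
      rw [← Category.assoc, ← Category.assoc, ha, hb, Category.assoc, Category.assoc, hg]
    · rw [Category.assoc, EffectiveEpi.fac, he']
  choose d hd using @key
  refine ⟨⟨{ desc := fun e h => d e (fun g₁ g₂ hg => h g₁ g₂ (by simpa using hg))
             fac := fun e h => hd _ _
             uniq := fun e h m hm => ?_ }⟩⟩
  rw [← cancel_epi (v ≫ u), hm, hd]

theorem univEffEpi_comp {U T S : C} {v : U ⟶ T} {u : T ⟶ S}
    (hu : univEffEpi u) (hv : univEffEpi v) : univEffEpi (v ≫ u) := by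
  intro X' Y' i₁ i₂ f' H
  have h₀ := IsPullback.of_hasPullback i₂ u
  obtain ⟨l, hl₁, hl₂⟩ := h₀.exists_lift f' (i₁ ≫ v) (by simpa using H.w)
  subst hl₁
  have hl : IsPullback l i₁ (pullback.snd i₂ u) v := H.of_right hl₂ h₀
  haveI := univEffEpi_effectiveEpi (univEffEpi_baseChange hu h₀)
  haveI := univEffEpi_effectiveEpi (univEffEpi_baseChange hv hl)
  exact effectiveEpi_comp_univEpi _ _ (univEpi_of_univEffEpi (univEffEpi_baseChange hv hl))

theorem effectiveEpi_of_comp_univEpi {U T S : C} (v : U ⟶ T) (u : T ⟶ S) [EffectiveEpi (v ≫ u)]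
    (h : MorphismProperty.universally (MorphismProperty.epimorphisms C) (v ≫ u)) :
    EffectiveEpi u := by
  have key : ∀ {W : C} (e : T ⟶ W),
      (∀ {Z : C} (g₁ g₂ : Z ⟶ T), g₁ ≫ u = g₂ ≫ u → g₁ ≫ e = g₂ ≫ e) →
      ∃ d : S ⟶ W, u ≫ d = e := by
    intro W e he
    let d := EffectiveEpi.desc (v ≫ u) (v ≫ e)
      (fun g₁ g₂ hg => by simpa using he (g₁ ≫ v) (g₂ ≫ v) (by simpa using hg))
    have hd : v ≫ u ≫ d = v ≫ e := (Category.assoc v u d).symm.trans <|
      EffectiveEpi.fac (v ≫ u) (v ≫ e)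
        (fun g₁ g₂ hg => by simpa using he (g₁ ≫ v) (g₂ ≫ v) (by simpa using hg))
    refine ⟨d, ?_⟩
    haveI : Epi (pullback.fst u (v ≫ u)) := h _ _ _ (IsPullback.of_hasPullback u (v ≫ u))
    have hc := he (pullback.fst u (v ≫ u)) (pullback.snd u (v ≫ u) ≫ v)
      (by simpa using pullback.condition)
    rw [← cancel_epi (pullback.fst u (v ≫ u)), pullback.condition_assoc, hc]
    simp [hd]
  haveI : Epi u := epi_of_epi v u
  choose d hd using @key
  exact ⟨⟨{ desc := fun e he => d e he
            fac := fun e he => hd _ _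
            uniq := fun e he m hm => by rw [← cancel_epi u, hm, hd] }⟩⟩

theorem univEffEpi_of_comp {U T S : C} {v : U ⟶ T} {u : T ⟶ S} (h : univEffEpi (v ≫ u)) :
    univEffEpi u := by
  intro X' Y' i₁ i₂ f' H
  have h₀ := IsPullback.of_hasPullback i₁ v
  have hbc : IsPullback (pullback.fst i₁ v ≫ f') (pullback.snd i₁ v) i₂ (v ≫ u) :=
    h₀.paste_horiz H
  haveI := univEffEpi_effectiveEpi (univEffEpi_baseChange h hbc)
  exact effectiveEpi_of_comp_univEpi _ _ (univEpi_of_univEffEpi (univEffEpi_baseChange h hbc))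

theorem univEffEpi_iff_baseChange {S' S T : C} (g : S' ⟶ S) (hg : univEffEpi g) (u : T ⟶ S) :
    univEffEpi u ↔ univEffEpi (pullback.snd u g) := by
  refine ⟨fun hu => univEffEpi_baseChange hu (IsPullback.of_hasPullback u g).flip, fun h => ?_⟩
  have h' := univEffEpi_comp hg h
  rw [← pullback.condition] at h'
  exact univEffEpi_of_comp h'

end Groth.Agent.H15Site
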