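import Groth.Agent.H15Site.Giraud
import Groth.Agent.S3081

/-!
# Giraud's axioms are reflected by jointly conservative exact families of functors to topoi
-/

set_option autoImplicit false
set_option linter.unusedSectionVars false
set_option linter.style.haveILetI false
set_option backward.isDefEq.respectTransparency false

universe v v' w u

noncomputable section

open CategoryTheory CategoryTheory.Limits Opposite SGA4

namespace Groth.Agent.H15Site.GiraudJoint

section

variable {E : Type v} [Category.{u} E] [HasFiniteLimits E]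
  {E' : Type v'} [Category.{u} E'] [HasFiniteLimits E'] (F : E ⥤ E') [PreservesFiniteLimits F]

/-- Left exact functors preserve equivalence relations. -/
lemma isEquivRel_map {R A : E} {p₁ p₂ : R ⟶ A} (h : IsEquivRel p₁ p₂) :
    IsEquivRel (F.map p₁) (F.map p₂) := by
  haveI : Mono (prod.lift p₁ p₂) := ⟨fun {T} a b hab => (h T).1 (Prod.ext
    (by simpa only [Category.assoc, prod.lift_fst] using congrArg (fun t => t ≫ prod.fst) hab)
    (by simpa only [Category.assoc, prod.lift_snd] using congrArg (fun t => t ≫ prod.snd) hab))⟩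
  obtain ⟨r, hr₁, hr₂⟩ := (h A).2.refl (𝟙 A)
  obtain ⟨s, hs₁, hs₂⟩ := (h R).2.symm ⟨𝟙 R, Category.id_comp p₁, Category.id_comp p₂⟩
  obtain ⟨t, ht₁, ht₂⟩ := (h (pullback p₂ p₁)).2.trans
    (show ∃ f, f ≫ p₁ = pullback.fst p₂ p₁ ≫ p₁ ∧ f ≫ p₂ = pullback.fst p₂ p₁ ≫ p₂ from ⟨_, rfl, rfl⟩)
    (show ∃ f, f ≫ p₁ = pullback.fst p₂ p₁ ≫ p₂ ∧ f ≫ p₂ = pullback.snd p₂ p₁ ≫ p₂ from
      ⟨_, pullback.condition.symm, rfl⟩)
  intro T
  refine ⟨fun a b hab => ?_, ⟨fun a => ⟨a ≫ F.map r, ?_, ?_⟩, ?_, ?_⟩⟩
  · rw [← cancel_mono (F.map (prod.lift p₁ p₂)), ← cancel_mono (PreservesLimitPair.iso F A A).hom]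
    apply Limits.prod.hom_ext
    · simpa [PreservesLimitPair.iso_hom, prodComparison_fst, ← Functor.map_comp] using congrArg Prod.fst hab
    · simpa [PreservesLimitPair.iso_hom, prodComparison_snd, ← Functor.map_comp] using congrArg Prod.snd hab
  · rw [Category.assoc, ← F.map_comp, hr₁, F.map_id, Category.comp_id]
  · rw [Category.assoc, ← F.map_comp, hr₂, F.map_id, Category.comp_id]
  · rintro a b ⟨f, rfl, rfl⟩
    exact ⟨f ≫ F.map s, by rw [Category.assoc, ← F.map_comp, hs₁],
      by rw [Category.assoc, ← F.map_comp, hs₂]⟩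
  · rintro a b c ⟨f, rfl, hf⟩ ⟨g, hg, rfl⟩
    obtain ⟨l, hl₁, hl₂⟩ := ((IsPullback.of_hasPullback p₂ p₁).map F).exists_lift f g
      (hf.trans hg.symm)
    refine ⟨l ≫ F.map t, ?_, ?_⟩
    · rw [Category.assoc, ← F.map_comp, ht₁, F.map_comp, ← Category.assoc, hl₁]
    · rw [Category.assoc, ← F.map_comp, ht₂, F.map_comp, ← Category.assoc, hl₂]

end

variable {E : Type v} [Category.{u} E] [HasFiniteLimits E]
  {κ : Type w} {Cs : κ → Type u} [∀ k, SmallCategory (Cs k)] (Js : ∀ k, GrothendieckTopology (Cs k))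
  (F : ∀ k, E ⥤ Sheaf (Js k) (Type u))
  [∀ k, PreservesFiniteLimits (F k)] [∀ k, PreservesFiniteColimits (F k)]
  (hiso : ∀ {X Y : E} (f : X ⟶ Y), (∀ k, IsIso ((F k).map f)) → IsIso f)

include hiso in
lemma hasDisjointUniversalCoproducts
    [∀ ι : Type u, HasColimitsOfShape (Discrete ι) E] [HasFiniteColimits E]
    [∀ (k) (ι : Type u), PreservesColimitsOfShape (Discrete ι) (F k)] :
    HasDisjointUniversalCoproducts.{v, u} E := by
  intro ι X
  refine ⟨colimit.cocone (Discrete.functor X), colimit.isColimit _, ⟨?_, ?_⟩, ?_⟩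
  · intro c hc i j hij s hs
    haveI : IsIso (initial.to s.pt) := hiso _ fun k => by
      obtain ⟨hI⟩ : Nonempty (IsInitial ((F k).obj s.pt)) := by
        have h := isPullback_initial_to_of_cofan_isVanKampen
          (CoprodVK.sheaf _ (isColimitOfPreserves (F k) hc)) ⟨i⟩ ⟨j⟩
          (fun h => hij (congrArg Discrete.as h))
        exact ⟨initialIsInitial.ofIso (h.isoIsPullback _ _ ((IsPullback.of_isLimit hs).map (F k)))⟩
      have h0 := initialIsInitial.isInitialObj (F k) _
      rw [h0.hom_ext ((F k).map (initial.to s.pt)) (h0.uniqueUpToIso hI).hom]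
      infer_instance
    exact ⟨initialIsInitial.ofIso (asIso (initial.to s.pt))⟩
  · intro c hc i
    haveI : IsIso (pullback.fst (c.inj i) (c.inj i)) := hiso _ fun k => by
      haveI : Mono ((F k).map (c.inj i)) :=
        mono_of_cofan_isVanKampen (CoprodVK.sheaf _ (isColimitOfPreserves (F k) hc)) ⟨i⟩
      exact IsKernelPair.isIso_of_mono ((IsPullback.of_hasPullback (c.inj i) (c.inj i)).map (F k))
    exact IsKernelPair.mono_of_isIso_fst (IsPullback.of_hasPullback (c.inj i) (c.inj i))
  · intro F' c' α f h hα hp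
    haveI : IsIso (colimit.desc F' c') := hiso _ fun k => by
      obtain ⟨hk⟩ := (CoprodVK.sheaf _ (isColimitOfPreserves (F k)
          (colimit.isColimit (Discrete.functor X)))).isUniversal ((F k).mapCocone c')
          (Functor.whiskerRight α (F k)) ((F k).map f)
        (by
          refine NatTrans.ext (funext fun j => ?_)
          have := congrArg (F k).map (NatTrans.congr_app h j)
          simpa [← Functor.map_comp] using this)
        (hα.whiskerRight (F k)) (fun j => (hp j).map (F k))
      have hk₀ := isColimitOfPreserves (F k) (colimit.isColimit F')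
      have : (F k).map (colimit.desc F' c') = (hk₀.coconePointUniqueUpToIso hk).hom := by
        refine hk₀.hom_ext fun j => ?_
        rw [IsColimit.comp_coconePointUniqueUpToIso_hom]
        simp [← Functor.map_comp]
      rw [this]
      infer_instance
    haveI : IsIso ((colimit.isColimit F').desc c') := ‹IsIso (colimit.desc F' c')›
    exact ⟨IsColimit.ofPointIso (colimit.isColimit F')⟩

lemma isPushout_of_effectiveEpi {C : Type*} [Category C] {K X Y : C} {q : X ⟶ Y} [EffectiveEpi q]
    {a b : K ⟶ X} (h : IsPullback a b q q) : IsPushout a b q q := by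
  obtain ⟨l, hl₁, hl₂⟩ := h.exists_lift (𝟙 X) (𝟙 X) rfl
  refine ⟨⟨h.w⟩, ⟨PushoutCocone.IsColimit.mk _
    (fun s => EffectiveEpi.desc q s.inl fun g₁ g₂ hg => ?_)
    (fun s => EffectiveEpi.fac q _ _) (fun s => ?_) fun s m hm _ => ?_⟩⟩
  · obtain ⟨m, rfl, rfl⟩ := h.exists_lift g₁ g₂ hg
    have e : s.inl = s.inr := by
      simpa [reassoc_of% hl₁, reassoc_of% hl₂] using congrArg (fun t => l ≫ t) s.condition
    rw [Category.assoc, Category.assoc, s.condition, e]
  · rw [EffectiveEpi.fac]
    simpa [reassoc_of% hl₁, reassoc_of% hl₂] using congrArg (fun t => l ≫ t) s.condition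
  · rw [← cancel_epi q, hm, EffectiveEpi.fac]

lemma effectiveEpi_of_isPushout {C : Type*} [Category C] {K X Y : C} {q : X ⟶ Y}
    {a b : K ⟶ X} (h : IsPushout a b q q) : EffectiveEpi q := by
  let r : RegularEpi q :=
    { W := K
      left := a
      right := b
      w := h.w
      isColimit := Cofork.IsColimit.mk _ (fun s => h.desc s.π s.π s.condition)
        (fun s => h.inl_desc _ _ _) fun s m hm => h.hom_ext (hm.trans (h.inl_desc _ _ _).symm)
          (hm.trans (h.inr_desc _ _ _).symm) }
  haveI : IsRegularEpi q := ⟨⟨r⟩⟩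
  infer_instance

include hiso in
lemma isEffectiveUniversalEquivRel [HasPushouts E] (R A : E) (p₁ p₂ : R ⟶ A) (h : IsEquivRel p₁ p₂) :
    IsEffectiveUniversalEquivRel p₁ p₂ := by
  obtain ⟨r, hr₁, hr₂⟩ := (h A).2.refl (𝟙 A)
  have hlr : pushout.inl p₁ p₂ = pushout.inr p₁ p₂ := by
    simpa [reassoc_of% hr₁, reassoc_of% hr₂] using
      congrArg (fun t => r ≫ t) (pushout.condition : p₁ ≫ pushout.inl p₁ p₂ = _)
  let π := pushout.inl p₁ p₂
  have hpo : IsPushout p₁ p₂ π π := by
    have := IsPushout.of_hasPushout p₁ p₂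
    rwa [← hlr] at this
  have hk : ∀ k, IsPullback ((F k).map p₁) ((F k).map p₂) ((F k).map π) ((F k).map π) ∧
      ∀ (B' : Sheaf (Js k) (Type u)) (g : B' ⟶ (F k).obj (pushout p₁ p₂)),
        EffectiveEpi (pullback.snd ((F k).map π) g) := by
    intro k
    obtain ⟨B, ρ, hpb, hpo', hu⟩ := (S3081.result (Js k)).2 _ _ _ _ (isEquivRel_map (F k) h)
    let e := hpo'.isoIsPushout _ _ (hpo.map (F k))
    have he : ρ ≫ e.hom = (F k).map π := hpo'.inl_isoIsPushout_hom _ _ _
    refine ⟨hpb.of_iso (Iso.refl _) (Iso.refl _) (Iso.refl _) e (by simp) (by simp)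
      (by simp [he]) (by simp [he]), fun B' g => ?_⟩
    haveI := hu B' (g ≫ e.inv)
    have hh : IsPullback (pullback.fst ρ (g ≫ e.inv)) (pullback.snd ρ (g ≫ e.inv)) ((F k).map π) g :=
      (IsPullback.of_hasPullback ρ (g ≫ e.inv)).of_iso (Iso.refl _) (Iso.refl _) (Iso.refl _) e
        (by simp) (by simp) (by simp [he]) (by simp)
    rw [← hh.isoPullback_inv_snd]
    infer_instance
  refine ⟨pushout p₁ p₂, π, ?_, hpo, fun B' g => ?_⟩
  · haveI : IsIso (pullback.lift p₁ p₂ hpo.w : R ⟶ pullback π π) := hiso _ fun k => by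
      have hP := (IsPullback.of_hasPullback π π).map (F k)
      have : (F k).map (pullback.lift p₁ p₂ hpo.w : R ⟶ pullback π π) =
          ((hk k).1.isoIsPullback _ _ hP).hom := by
        apply hP.hom_ext <;> simp [← Functor.map_comp]
      rw [this]
      infer_instance
    exact (IsPullback.of_hasPullback π π).of_iso
      (asIso (pullback.lift p₁ p₂ hpo.w : R ⟶ pullback π π)).symm (Iso.refl _) (Iso.refl _)
      (Iso.refl _) (by simp) (by simp) (by simp) (by simp)
  · let q := pullback.snd π g
    let a := pullback.fst q q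
    let b := pullback.snd q q
    haveI : IsIso (pushout.desc q q pullback.condition : pushout a b ⟶ B') := hiso _ fun k => by
      have hPq := (IsPullback.of_hasPullback π g).map (F k)
      haveI : EffectiveEpi ((F k).map q) := by
        haveI := (hk k).2 _ ((F k).map g)
        rw [← hPq.isoPullback_hom_snd]
        infer_instance
      have h₁ := isPushout_of_effectiveEpi ((IsPullback.of_hasPullback q q).map (F k))
      have h₂ := (IsPushout.of_hasPushout a b).map (F k)
      have : (F k).map (pushout.desc q q pullback.condition : pushout a b ⟶ B') =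
          (h₂.isoIsPushout _ _ h₁).hom := by
        apply h₂.hom_ext <;> simp [← Functor.map_comp]
      rw [this]
      infer_instance
    have hPO : IsPushout a b q q :=
      (IsPushout.of_hasPushout a b).of_iso (Iso.refl _) (Iso.refl _) (Iso.refl _)
        (asIso (pushout.desc q q pullback.condition : pushout a b ⟶ B'))
        (by simp [a]) (by simp [b]) (by simp) (by simp)
    exact effectiveEpi_of_isPushout hPO

end Groth.Agent.H15Site.GiraudJoint
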