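import Mathlib.CategoryTheory.Comma.Basic
import Mathlib.CategoryTheory.Adjunction.FullyFaithful
import Mathlib.CategoryTheory.Limits.Preserves.Shapes.Pullbacks
import Mathlib.CategoryTheory.Limits.Shapes.Pullback.IsPullback.Basic
import Mathlib.CategoryTheory.Limits.Preserves.Finite

/-!
# Recollement: a category glued from two reflective subcategories
-/

set_option autoImplicit false
set_option linter.unusedSectionVars false
set_option linter.style.haveILetI false
set_option backward.isDefEq.respectTransparency false

universe v₁ v₂ v₃ u₁ u₂ u₃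

noncomputable section

open CategoryTheory CategoryTheory.Limits

namespace Groth.Agent.H15Site.GlueEquiv

variable {E : Type u₁} [Category.{v₁} E] {F : Type u₂} [Category.{v₂} F] {V : Type u₃}
  [Category.{v₃} V] [HasPullbacks E]
  {L : E ⥤ F} {i : F ⥤ E} (adj : L ⊣ i) {j : E ⥤ V} {R : V ⥤ E} (adj' : j ⊣ R)

/-- The comparison functor `X ↦ (L X, j X, L (X ⟶ R j X))`. -/
@[simps]
def compare : E ⥤ Comma (𝟭 F) (R ⋙ L) where
  obj X := { left := L.obj X, right := j.obj X, hom := L.map (adj'.unit.app X) }
  map f :=
    { left := L.map f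
      right := j.map f
      w := by
        change L.map f ≫ L.map (adj'.unit.app _) = L.map (adj'.unit.app _) ≫ L.map (R.map (j.map f))
        rw [← L.map_comp, ← L.map_comp]; exact congrArg L.map (adj'.unit_naturality f).symm }

variable [i.Full] [i.Faithful] [R.Full] [R.Faithful] [PreservesLimitsOfShape WalkingCospan L]
  [PreservesLimitsOfShape WalkingCospan j] (hterm : ∀ Y, Nonempty (IsTerminal (j.obj (i.obj Y))))
  (hcons : ∀ ⦃X Y : E⦄ (m : X ⟶ Y), IsIso (j.map m) → IsIso (L.map m) → IsIso m)

lemma isIso_map_unit (X : E) : IsIso (L.map (adj.unit.app X)) := by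
  haveI : IsIso (L.map (adj.unit.app X) ≫ adj.counit.app (L.obj X)) := by
    erw [adj.left_triangle_components]; infer_instance
  exact IsIso.of_isIso_comp_right _ (adj.counit.app (L.obj X))

lemma isIso_map_unit' (X : E) : IsIso (j.map (adj'.unit.app X)) := by
  haveI : IsIso (j.map (adj'.unit.app X) ≫ adj'.counit.app (j.obj X)) := by
    erw [adj'.left_triangle_components]; infer_instance
  exact IsIso.of_isIso_comp_right _ (adj'.counit.app (j.obj X))

include hterm in
lemma isIso_map_i {Y Y' : F} (g : i.obj Y ⟶ i.obj Y') : IsIso (j.map g) := by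
  obtain ⟨h⟩ := hterm Y
  obtain ⟨h'⟩ := hterm Y'
  exact ⟨h.from _, h.hom_ext _ _, h'.hom_ext _ _⟩

lemma isIso_map_fst {Y Y' : F} {Z : E} (g : i.obj Y ⟶ i.obj Y') (f : Z ⟶ i.obj Y')
    [IsIso (L.map f)] : IsIso (L.map (pullback.fst g f)) :=
  ((IsPullback.of_hasPullback g f).map L).isIso_fst_of_isIso

include hterm in
lemma isIso_map_snd {Y Y' : F} {Z : E} (g : i.obj Y ⟶ i.obj Y') (f : Z ⟶ i.obj Y') :
    IsIso (j.map (pullback.snd g f)) := by
  haveI := isIso_map_i hterm g
  exact ((IsPullback.of_hasPullback g f).map j).isIso_snd_of_isIso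

include hterm hcons in
/-- The fundamental cartesian square. -/
lemma isPullback_square (X : E) :
    IsPullback (adj.unit.app X) (adj'.unit.app X) (i.map (L.map (adj'.unit.app X)))
      (adj.unit.app (R.obj (j.obj X))) := by
  have w : adj.unit.app X ≫ i.map (L.map (adj'.unit.app X)) =
      adj'.unit.app X ≫ adj.unit.app (R.obj (j.obj X)) := (adj.unit_naturality _)
  let g := i.map (L.map (adj'.unit.app X))
  let f := adj.unit.app (R.obj (j.obj X))
  let c : X ⟶ pullback g f := pullback.lift _ _ w
  haveI := isIso_map_unit adj (R.obj (j.obj X))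
  haveI := isIso_map_fst (L := L) (i := i) g f
  haveI := isIso_map_snd hterm g f
  haveI := isIso_map_unit adj X
  haveI := isIso_map_unit' adj' X
  have h₁ : IsIso (L.map c) := by
    haveI : IsIso (L.map c ≫ L.map (pullback.fst g f)) := by
      rw [← L.map_comp, pullback.lift_fst]; infer_instance
    exact IsIso.of_isIso_comp_right _ (L.map (pullback.fst g f))
  have h₂ : IsIso (j.map c) := by
    haveI : IsIso (j.map c ≫ j.map (pullback.snd g f)) := by
      rw [← j.map_comp, pullback.lift_snd]; infer_instance
    exact IsIso.of_isIso_comp_right _ (j.map (pullback.snd g f))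
  haveI := hcons c h₂ h₁
  exact (IsPullback.of_hasPullback g f).of_iso (asIso c).symm (Iso.refl _) (Iso.refl _) (Iso.refl _)
    (by simp [c]) (by simp [c]) (by simp [g]) (by simp [f])

include adj hterm hcons in
lemma compare_faithful : (compare adj' (L := L)).Faithful where
  map_injective {X X'} f₁ f₂ h := by
    refine (isPullback_square adj adj' hterm hcons X').hom_ext ?_ ?_
    · have e := congrArg CommaMorphism.left h
      simp only [compare_map_left] at e
      rw [← adj.unit_naturality f₁, ← adj.unit_naturality f₂, e]
    · have e := congrArg CommaMorphism.right h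
      simp only [compare_map_right] at e
      rw [← adj'.unit_naturality f₁, ← adj'.unit_naturality f₂, e]

include adj hterm hcons in
lemma compare_full : (compare adj' (L := L)).Full where
  map_surjective {X X'} g := by
    let a : L.obj X ⟶ L.obj X' := g.left
    let b : j.obj X ⟶ j.obj X' := g.right
    have hg : a ≫ L.map (adj'.unit.app X') = L.map (adj'.unit.app X) ≫ L.map (R.map b) := g.w
    have w : (adj.unit.app X ≫ i.map a) ≫ i.map (L.map (adj'.unit.app X')) =
        (adj'.unit.app X ≫ R.map b) ≫ adj.unit.app (R.obj (j.obj X')) := by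
      rw [Category.assoc, ← i.map_comp, hg, ← L.map_comp]; exact adj.unit_naturality _
    let f := (isPullback_square adj adj' hterm hcons X').lift _ _ w
    have e₁ : L.map f = a := by
      apply (adj.homEquiv _ _).injective
      rw [adj.homEquiv_unit, adj.homEquiv_unit, adj.unit_naturality]
      exact IsPullback.lift_fst _ _ _ _
    have e₂ : j.map f = b := by
      apply (adj'.homEquiv _ _).injective
      rw [adj'.homEquiv_unit, adj'.homEquiv_unit, adj'.unit_naturality]
      exact IsPullback.lift_snd _ _ _ _
    exact ⟨f, CommaMorphism.ext e₁ e₂⟩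

include adj hterm in
lemma compare_essSurj : (compare adj' (L := L)).EssSurj where
  mem_essImage T := by
    let φ : T.left ⟶ L.obj (R.obj T.right) := T.hom
    let g : i.obj T.left ⟶ i.obj (L.obj (R.obj T.right)) := i.map φ
    let f : R.obj T.right ⟶ i.obj (L.obj (R.obj T.right)) := adj.unit.app (R.obj T.right)
    let P := pullback g f
    haveI := isIso_map_unit adj (R.obj T.right)
    haveI := isIso_map_fst (L := L) (i := i) g f
    haveI := isIso_map_snd hterm g f
    let e₁ : L.obj P ≅ T.left := asIso (L.map (pullback.fst g f)) ≪≫ asIso (adj.counit.app T.left)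
    let e₂ : j.obj P ≅ T.right :=
      asIso (j.map (pullback.snd g f)) ≪≫ asIso (adj'.counit.app T.right)
    refine ⟨P, ⟨Comma.isoMk e₁ e₂ ?_⟩⟩
    change e₁.hom ≫ φ = L.map (adj'.unit.app P) ≫ L.map (R.map e₂.hom)
    have hr : adj'.unit.app P ≫ R.map e₂.hom = pullback.snd g f := by
      simp only [e₂, Iso.trans_hom, asIso_hom, R.map_comp]
      erw [adj'.unit_naturality_assoc, adj'.right_triangle_components, Category.comp_id]
    rw [← L.map_comp, hr]
    simp only [e₁, Iso.trans_hom, asIso_hom, Category.assoc]
    erw [← adj.counit_naturality φ, ← L.map_comp_assoc, pullback.condition, L.map_comp_assoc,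
      adj.left_triangle_components, Category.comp_id]

include adj hterm hcons in
/-- The category is equivalent to the glued one. -/
def equiv : E ≌ Comma (𝟭 F) (R ⋙ L) :=
  haveI := compare_faithful adj adj' hterm hcons
  haveI := compare_full adj adj' hterm hcons
  haveI := compare_essSurj adj adj' hterm
  haveI : (compare adj' (L := L)).IsEquivalence := {}
  (compare adj' (L := L)).asEquivalence

end Groth.Agent.H15Site.GlueEquiv
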