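import Groth.Agent.H15Site.SiteGenInst
import Groth.Prelude.Def_CohCx
import Mathlib.CategoryTheory.Sites.LocallyBijective

/-!
# Hypercohomology presheaves and cohomology sheaves
-/

set_option autoImplicit false
set_option linter.style.haveILetI false
set_option linter.unusedSectionVars false
set_option backward.isDefEq.respectTransparency false

universe w u

open CategoryTheory CategoryTheory.Limits Opposite DerivedCategory

namespace Groth.Agent.H15Site.HDUSheafify

attribute [local instance 10000] SiteInst.hasSheafifySite SiteInst.hasWeakSheafifySite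

open SiteGen SiteGenInst

variable {C : Type u} [SmallCategory C] {J : GrothendieckTopology C}
  [HasDerivedCategory.{u} (Sheaf J AddCommGrpCat.{u})]

/-- A class gives a section of the cohomology sheaf. -/
noncomputable def θHom (K : DerivedCategory (Sheaf J AddCommGrpCat.{u})) (q : ℤ) (U : C) :
    CohCx.HDU K q U →+ (CohCx.HD K q).obj.obj (op U) :=
  AddMonoidHom.mk' (fun y => CohFree.homEquivSect J U (CohCx.HD K q) (cls (m := q) y)) fun y y' => by
    refine Eq.trans ?_ (map_add _ _ _)
    refine congrArg _ ?_
    simp only [cls, Functor.map_add, Preadditive.add_comp, Preadditive.comp_add]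

/-- The comparison `HDUPresheaf ⟶ HD`. -/
noncomputable def θ (K : DerivedCategory (Sheaf J AddCommGrpCat.{u})) (q : ℤ) :
    CohCx.HDUPresheaf K q ⟶ (CohCx.HD K q).obj where
  app U := AddCommGrpCat.ofHom (θHom K q U.unop)
  naturality U V g := by
    ext y
    refine (congrArg (CohFree.homEquivSect J V.unop (CohCx.HD K q))
      (cls_precomp ((freeAbFunctor J).map g.unop) y)).trans ?_
    exact CohFree.evalGen_freeSheafMap_comp J g.unop _ (cls (m := q) y)

theorem isIso_sheafify_θ (K : DerivedCategory (Sheaf J AddCommGrpCat.{u})) (q : ℤ) :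
    IsIso ((presheafToSheaf J AddCommGrpCat.{u}).map (θ K q)) := by
  haveI : Presheaf.IsLocallyInjective J (θ K q) := by
    refine ⟨fun {U} x y h => ?_⟩
    have h' : cls (m := q) (x - y) = 0 := by
      apply (CohFree.homEquivSect J U.unop (CohCx.HD K q)).injective
      exact (map_sub (θHom K q U.unop) x y).trans ((sub_eq_zero.2 h).trans (map_zero _).symm)
    obtain ⟨S, hS, hS'⟩ := exists_local_zero (genAb J) _ h'
    refine J.superset_covering ?_ hS
    intro V g hg
    exact sub_eq_zero.1 (((Preadditive.comp_sub _ x y).symm).trans (hS' g hg))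
  haveI : Presheaf.IsLocallySurjective J (θ K q) := by
    refine ⟨fun {U} s => ?_⟩
    obtain ⟨S, hS, hS'⟩ := exists_local_lift (genAb J) (L := K) (m := q)
      ((CohFree.homEquivSect J U (CohCx.HD K q)).symm s)
    refine J.superset_covering ?_ hS
    intro V g hg
    obtain ⟨y, hy⟩ := hS' g hg
    refine ⟨y, (congrArg (CohFree.homEquivSect J V (CohCx.HD K q)) hy).trans ?_⟩
    refine Eq.trans (b := (CohCx.HD K q).obj.map g.op (CohFree.homEquivSect J U (CohCx.HD K q)
      ((CohFree.homEquivSect J U (CohCx.HD K q)).symm s))) ?_ ?_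
    · exact CohFree.evalGen_freeSheafMap_comp J g (CohCx.HD K q)
        ((CohFree.homEquivSect J U (CohCx.HD K q)).symm s)
    exact congrArg ((CohCx.HD K q).obj.map g.op)
      ((CohFree.homEquivSect J U (CohCx.HD K q)).apply_symm_apply s)
  have h : J.W (θ K q) := J.W_of_isLocallyBijective (θ K q)
  rwa [GrothendieckTopology.W_iff] at h

theorem nonempty_sheafify_iso (K : DerivedCategory (Sheaf J AddCommGrpCat.{u})) (q : ℤ) :
    Nonempty ((presheafToSheaf J AddCommGrpCat.{u}).obj (CohCx.HDUPresheaf K q) ≅ CohCx.HD K q) := by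
  haveI := isIso_sheafify_θ K q
  exact ⟨asIso ((presheafToSheaf J AddCommGrpCat.{u}).map (θ K q)) ≪≫
    (asIso (sheafificationAdjunction J AddCommGrpCat.{u}).counit).app (CohCx.HD K q)⟩

end Groth.Agent.H15Site.HDUSheafify
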