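import Groth.Agent.H15Site.PullPairing
import Mathlib.Algebra.Category.ModuleCat.Presheaf.Free
import Mathlib.LinearAlgebra.DirectSum.Finsupp

/-!
Universal pairs of free presheaves of modules, and their tensor products.
-/

universe u

open CategoryTheory CategoryTheory.Limits MonoidalCategory Opposite

namespace Groth.Agent.H15Site.PullTensor

open ModTensor

attribute [local instance 10000] SiteInst.hasSheafifySite SiteInst.hasWeakSheafifySite

variable {C D : Type u} [SmallCategory C] [SmallCategory D] {J : GrothendieckTopology C}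
  {K : GrothendieckTopology D} {O_C : Sheaf J CommRingCat.{u}} {O_D : Sheaf K CommRingCat.{u}}

/-- The free presheaf of modules. -/
noncomputable abbrev fr (O : Sheaf J CommRingCat.{u}) (P : Cᵒᵖ ⥤ Type u) : PMod O :=
  PresheafOfModules.freeObj P

/-- The basis element. -/
noncomputable abbrev dl (O : Sheaf J CommRingCat.{u}) {P : Cᵒᵖ ⥤ Type u} {X : Cᵒᵖ} (p : P.obj X) :
    (fr O P).obj X :=
  Finsupp.single p (1 : O.obj.obj X)

lemma rs_dl (O : Sheaf J CommRingCat.{u}) {P : Cᵒᵖ ⥤ Type u} {X Y : Cᵒᵖ} (g : X ⟶ Y)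
    (p : P.obj X) : rs (fr O P) g (dl O p) = dl O (P.map g p) :=
  ModuleCat.freeDesc_apply _ p

/-- `free (P × Q) ⟶ free P ⊗ free Q`. -/
noncomputable def lam (O : Sheaf J CommRingCat.{u}) (P Q : Cᵒᵖ ⥤ Type u) :
    fr O (FunctorToTypes.prod P Q) ⟶ fr O P ⊗ fr O Q :=
  PresheafOfModules.freeObjDesc
    { app := fun X => ↾fun pq => (dl O pq.1) ⊗ₜ[O.obj.obj X] (dl O pq.2)
      naturality := fun {X Y} g => by
        ext pq
        show dl O (P.map g pq.1) ⊗ₜ[O.obj.obj Y] dl O (Q.map g pq.2) =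
          rs (fr O P) g (dl O pq.1) ⊗ₜ[O.obj.obj Y] rs (fr O Q) g (dl O pq.2)
        rw [rs_dl, rs_dl] }

lemma lam_dl (O : Sheaf J CommRingCat.{u}) (P Q : Cᵒᵖ ⥤ Type u) {X : Cᵒᵖ}
    (pq : (FunctorToTypes.prod P Q).obj X) :
    ((lam O P Q).app X).hom (dl O pq) = dl O pq.1 ⊗ₜ[O.obj.obj X] dl O pq.2 :=
  ModuleCat.freeDesc_apply _ pq

theorem isIso_lam (O : Sheaf J CommRingCat.{u}) (P Q : Cᵒᵖ ⥤ Type u) : IsIso (lam O P Q) := by
  have : ∀ X, IsIso ((lam O P Q).app X) := fun X => by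
    let e := (finsuppTensorFinsupp' (O.obj.obj X) (P.obj X) (Q.obj X)).symm
    let e' : (P.obj X × Q.obj X →₀ O.obj.obj X) ≃ₗ[O.obj.obj X] _ := e
    have he : (lam O P Q).app X = ModuleCat.ofHom e'.toLinearMap := by
      refine ModuleCat.free_hom_ext fun pq => ?_
      refine (lam_dl O P Q pq).trans ?_
      show _ = e (Finsupp.single pq 1)
      rw [finsuppTensorFinsupp'_symm_single_eq_single_one_tmul]
      rfl
    rw [he]
    exact (ConcreteCategory.isIso_iff_bijective _).2 e'.bijective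
  exact (PresheafOfModules.isoMk (fun X => asIso ((lam O P Q).app X))
    (fun X Y g => (lam O P Q).naturality g)).isIso_hom

variable (f : ModSite.RMor O_C O_D)

/-- The underlying presheaf of sets of a presheaf of modules. -/
noncomputable abbrev uSet (O : Sheaf J CommRingCat.{u}) (M : PMod O) : Cᵒᵖ ⥤ Type u :=
  M.presheaf ⋙ forget _

/-- The map `free P ⟶ fn^* free Q` of `τ : P ⟶ fn^* Q`. -/
noncomputable def freeσ {P : Dᵒᵖ ⥤ Type u} {Q : Cᵒᵖ ⥤ Type u} (τ : P ⟶ f.fn.op ⋙ Q) :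
    fr O_D P ⟶ (pushP f).obj (fr O_C Q) :=
  PresheafOfModules.freeObjDesc (G := (pushP f).obj (fr O_C Q))
    (τ ≫ Functor.whiskerLeft f.fn.op
      (PresheafOfModules.freeAdjunctionUnit (O_C.obj ⋙ forget₂ CommRingCat.{u} RingCat.{u}) Q) :)

lemma freeσ_dl {P : Dᵒᵖ ⥤ Type u} {Q : Cᵒᵖ ⥤ Type u} (τ : P ⟶ f.fn.op ⋙ Q) {X : Dᵒᵖ}
    (p : P.obj X) : ev (freeσ f τ) (dl O_D p) = dl O_C (τ.app X p) :=
  ModuleCat.freeDesc_apply _ p

lemma freeHomEquiv_apply {O : Sheaf J CommRingCat.{u}} {P : Cᵒᵖ ⥤ Type u} {G : PMod O}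
    (g : fr O P ⟶ G) {X : Cᵒᵖ} (p : P.obj X) :
    (PresheafOfModules.freeHomEquiv g).app X p = (g.app X).hom (dl O p) := rfl

/-- The sheaf of sets underlying a sheaf of modules. -/
noncomputable abbrev setSh {O : Sheaf J CommRingCat.{u}} (L : ModSite.Mod O) : Sheaf J (Type u) :=
  (sheafCompose J (forget AddCommGrpCat.{u})).obj (ModSite.toAb L)

theorem univ_freeσ {P : Dᵒᵖ ⥤ Type u} {Q : Cᵒᵖ ⥤ Type u} {τ : P ⟶ f.fn.op ⋙ Q}
    (hτ : PullSets.Univ J f.fn τ) : Univ f (freeσ f τ) := fun L => by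
  have key : (fun g : fr O_C Q ⟶ (forg O_C).obj L =>
      PresheafOfModules.freeHomEquiv (freeσ f τ ≫ (pushP f).map g)) =
      (fun k : Q ⟶ (setSh L).obj => τ ≫ Functor.whiskerLeft f.fn.op k) ∘
        PresheafOfModules.freeHomEquiv := by
    funext g
    ext X p
    show (g.app _).hom (ev (freeσ f τ) (dl O_D p)) = _
    rw [freeσ_dl]
    rfl
  refine (Equiv.comp_bijective _ PresheafOfModules.freeHomEquiv).1 ?_
  show Function.Bijective (fun g : fr O_C Q ⟶ (forg O_C).obj L =>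
      PresheafOfModules.freeHomEquiv (freeσ f τ ≫ (pushP f).map g))
  rw [key]
  exact (hτ (setSh L)).comp PresheafOfModules.freeHomEquiv.bijective

theorem univ_tσ_freeσ {P₁ P₂ : Dᵒᵖ ⥤ Type u} {Q₁ Q₂ : Cᵒᵖ ⥤ Type u}
    {τ₁ : P₁ ⟶ f.fn.op ⋙ Q₁} {τ₂ : P₂ ⟶ f.fn.op ⋙ Q₂}
    (h₁ : PullSets.Univ J f.fn τ₁) (h₂ : PullSets.Univ J f.fn τ₂) :
    Univ f (tσ (freeσ f τ₁) (freeσ f τ₂)) := fun L => by
  have h := univ_freeσ f (PullSets.Univ.prod (K := K) h₁ h₂) L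
  have := isIso_lam O_C Q₁ Q₂
  have := isIso_lam O_D P₁ P₂
  have hsq : lam O_D P₁ P₂ ≫ tσ (freeσ f τ₁) (freeσ f τ₂) =
      freeσ f (PullSets.prodMap τ₁ τ₂) ≫ (pushP f).map (lam O_C Q₁ Q₂) := by
    refine PresheafOfModules.hom_ext (fun X => ModuleCat.free_hom_ext fun pq => ?_)
    show ((tσ (freeσ f τ₁) (freeσ f τ₂)).app X).hom
        (((lam O_D P₁ P₂).app X).hom (dl O_D pq)) =
      ((lam O_C Q₁ Q₂).app _).hom (ev (freeσ f (PullSets.prodMap τ₁ τ₂)) (dl O_D pq))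
    rw [lam_dl, freeσ_dl, lam_dl, tσ_tmul, freeσ_dl, freeσ_dl]
    rfl
  have key : (fun g : fr O_C Q₁ ⊗ fr O_C Q₂ ⟶ (forg O_C).obj L =>
      lam O_D P₁ P₂ ≫ tσ (freeσ f τ₁) (freeσ f τ₂) ≫ (pushP f).map g) =
      (fun g : fr O_C (FunctorToTypes.prod Q₁ Q₂) ⟶ (forg O_C).obj L =>
        freeσ f (PullSets.prodMap τ₁ τ₂) ≫ (pushP f).map g) ∘ fun g => lam O_C Q₁ Q₂ ≫ g := by
    funext g
    simp only [Function.comp_apply, Functor.map_comp]
    rw [← Category.assoc, hsq, Category.assoc]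
  refine (Function.Bijective.of_comp_iff' (f := fun g => lam O_D P₁ P₂ ≫ g)
    ⟨fun a b hab => (cancel_epi (lam O_D P₁ P₂)).1 hab,
      fun k => ⟨inv (lam O_D P₁ P₂) ≫ k, by simp⟩⟩ _).1 ?_
  show Function.Bijective (fun g : fr O_C Q₁ ⊗ fr O_C Q₂ ⟶ (forg O_C).obj L =>
      lam O_D P₁ P₂ ≫ tσ (freeσ f τ₁) (freeσ f τ₂) ≫ (pushP f).map g)
  rw [key]
  exact h.comp ⟨fun a b hab => (cancel_epi (lam O_C Q₁ Q₂)).1 hab,
    fun k => ⟨inv (lam O_C Q₁ Q₂) ≫ k, by simp⟩⟩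

end Groth.Agent.H15Site.PullTensor
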