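import Groth.Agent.H15Site.ModFlat
import Groth.Agent.H15Site.PullFree
import Groth.Agent.H15Site.SitePerfLift

/-!
# Sections of the internal Hom of modules on a ringed site

`Phi x : F|_V ⟶ G|_V` for a section `x` of `ℋom(F, G)` over `V`; it is bijective and compatible with
restriction and with maps of `G`.
-/

universe u

open CategoryTheory CategoryTheory.Limits MonoidalCategory Opposite TensorProduct

set_option linter.style.haveILetI false
set_option backward.isDefEq.respectTransparency false
set_option linter.unusedSectionVars false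

namespace Groth.Agent.H15Site.HomSect

open ModTensor ModRel PullTensor

attribute [local instance 10000] SiteInst.hasSheafifySite SiteInst.hasWeakSheafifySite

variable {C : Type u} [SmallCategory C] {J : GrothendieckTopology C} {O : Sheaf J CommRingCat.{u}}
  (F : ModSite.Mod O) [ModSite.HasSheafHom F]

/-- `ℋom(F, G)` as a presheaf of modules. -/
noncomputable abbrev ihom (G : ModSite.Mod O) : PMod O := (forg O).obj ((ModSite.sheafHom F).obj G)

/-- Evaluation. -/
noncomputable def ev0 (G : ModSite.Mod O) : ihom F G ⊗ (forg O).obj F ⟶ (forg O).obj G :=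
  (adj O).homEquiv _ _ ((ModSite.sheafHomAdj F).counit.app G)

lemma ev0_natural {G G' : ModSite.Mod O} (h : G ⟶ G') :
    ((forg O).map ((ModSite.sheafHom F).map h) ▷ (forg O).obj F) ≫ ev0 F G' =
      ev0 F G ≫ (forg O).map h := by
  rw [ev0, ev0, ← Adjunction.homEquiv_naturality_left, ← Adjunction.homEquiv_naturality_right]
  exact congrArg _ ((ModSite.sheafHomAdj F).counit.naturality h)

variable {F}

/-- The evaluation pairing. -/
noncomputable def pair {G : ModSite.Mod O} {X : Cᵒᵖ} (x : (ihom F G).obj X)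
    (m : ((forg O).obj F).obj X) : ((forg O).obj G).obj X :=
  bb (ev0 F G) x m

/-- The morphism given by a section of the internal Hom. -/
noncomputable def Phi {G : ModSite.Mod O} {V : C} (x : (ihom F G).obj (op V)) :
    (ModSite.restr O V).obj F ⟶ (ModSite.restr O V).obj G :=
  ⟨{ app := fun Z => ModuleCat.ofHom (X := ((ModSite.restr O V).obj F).val.obj Z)
        (Y := ((ModSite.restr O V).obj G).val.obj Z)
        { toFun := fun m => pair (rs (ihom F G) Z.unop.hom.op x) m
          map_add' := fun m m' => bb_add_right (ev0 F G) _ m m'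
          map_smul' := fun r m => bb_smul_right (ev0 F G) r _ m }
     naturality := fun {Z Z'} a => by
       refine ModuleCat.hom_ext (LinearMap.ext fun m => ?_)
       show pair (rs (ihom F G) Z'.unop.hom.op x) (rs ((forg O).obj F) a.unop.left.op m) =
         rs ((forg O).obj G) a.unop.left.op (pair (rs (ihom F G) Z.unop.hom.op x) m)
       rw [pair, pair, rs_bb, rs_rs, ← op_comp, Over.w] }⟩

lemma Phi_app {G : ModSite.Mod O} {V : C} (x : (ihom F G).obj (op V)) (Z : Over V)
    (m : ((forg O).obj F).obj (op Z.left)) :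
    ((Phi x).val.app (op Z)).hom m = pair (rs (ihom F G) Z.hom.op x) m := rfl

/-- Compatibility with restriction. -/
lemma tr_Phi {G : ModSite.Mod O} {V W : C} (g : W ⟶ V) (x : (ihom F G).obj (op V)) :
    SitePerfLift.tr g (Phi x) = Phi (rs (ihom F G) g.op x) := by
  ext Z m
  obtain ⟨Z⟩ := Z
  show pair (rs (ihom F G) (Z.hom ≫ g).op x) m = pair (rs (ihom F G) Z.hom.op (rs _ g.op x)) m
  rw [rs_rs, op_comp]

/-- Compatibility with maps of the target. -/
lemma Phi_map {G G' : ModSite.Mod O} (h : G ⟶ G') {V : C} (x : (ihom F G).obj (op V)) :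
    Phi ((((ModSite.sheafHom F).map h).val.app (op V)).hom x) =
      Phi x ≫ (ModSite.restr O V).map h := by
  ext Z m
  obtain ⟨Z⟩ := Z
  have e := ConcreteCategory.congr_hom (congrArg (fun k => PresheafOfModules.Hom.app k (op Z.left))
    (ev0_natural F h)) (rs (ihom F G) Z.hom.op x ⊗ₜ[O.obj.obj (op Z.left)] m)
  refine Eq.trans ?_ e
  show pair (rs (ihom F G') Z.hom.op _) m = _
  refine congrArg (fun t => pair t m) ?_
  exact (rs_app ((forg O).map ((ModSite.sheafHom F).map h)) Z.hom.op x).symm

variable (F) in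
/-- Maps into the internal Hom are pairings. -/
theorem bijective_curry (P : PMod O) (G : ModSite.Mod O) :
    Function.Bijective fun u : P ⟶ ihom F G => (u ▷ (forg O).obj F) ≫ ev0 F G := by
  haveI := (SheafOfModules.fullyFaithfulForget (ModSite.ringSh O)).full
  obtain ⟨hi, hs⟩ := (isIso_aSh_map_iff ((adj O).unit.app P)).1 inferInstance
  have h : (fun u : P ⟶ ihom F G => (u ▷ (forg O).obj F) ≫ ev0 F G) =
      (fun g : (forg O).obj ((aSh O).obj P) ⊗ (forg O).obj F ⟶ (forg O).obj G =>
        ((adj O).unit.app P ▷ (forg O).obj F) ≫ g) ∘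
      (fun k : (tR F).obj ((aSh O).obj P) ⟶ G => (adj O).homEquiv _ _ k) ∘
      ((ModSite.sheafHomAdj F).homEquiv _ _).symm ∘ ((adj O).homEquiv P _).symm := by
    funext u
    simp only [Function.comp_apply]
    generalize hv : ((adj O).homEquiv P ((ModSite.sheafHom F).obj G)).symm u = v
    have hu : u = (adj O).homEquiv P _ v := by rw [← hv, Equiv.apply_symm_apply]
    rw [hu, Adjunction.homEquiv_unit, comp_whiskerRight, Category.assoc]
    refine congrArg (_ ≫ ·) ?_
    rw [Adjunction.homEquiv_counit, ev0]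
    exact ((adj O).homEquiv_naturality_left _ _).symm
  rw [h]
  exact (bijective_whiskerRight_comp _ _ G).comp ((Equiv.bijective _).comp
    ((Equiv.bijective _).comp (Equiv.bijective _)))

/-- The section, as a map from the free module on `V`. -/
noncomputable def uMap {G : ModSite.Mod O} {V : C} (x : (ihom F G).obj (op V)) :
    fr O (yoneda.obj V) ⟶ ihom F G :=
  PresheafOfModules.freeObjDesc
    { app := fun X => ↾fun a => rs (ihom F G) (a : X.unop ⟶ V).op x
      naturality := fun X Y g => by
        ext a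
        exact (rs_rs (ihom F G) (a : X.unop ⟶ V).op g x).symm }

lemma uMap_dl {G : ModSite.Mod O} {V : C} (x : (ihom F G).obj (op V)) {X : Cᵒᵖ}
    (a : X.unop ⟶ V) :
    ((uMap x).app X).hom (dl O (P := yoneda.obj V) a) = rs (ihom F G) a.op x :=
  ModuleCat.freeDesc_apply _ _

/-- Maps out of `free(V) ⊗ F` are determined on generators. -/
theorem hom_ext_frTensor {V : C} {N : PMod O} (b b' : fr O (yoneda.obj V) ⊗ (forg O).obj F ⟶ N)
    (h : ∀ (X : Cᵒᵖ) (a : X.unop ⟶ V) (m : ((forg O).obj F).obj X),
      (b.app X).hom (dl O (P := yoneda.obj V) a ⊗ₜ[O.obj.obj X] m) =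
        (b'.app X).hom (dl O (P := yoneda.obj V) a ⊗ₜ[O.obj.obj X] m)) : b = b' := by
  refine PresheafOfModules.hom_ext fun X => ModuleCat.MonoidalCategory.tensor_ext fun z m => ?_
  induction z using Finsupp.induction_linear with
  | zero => rw [TensorProduct.zero_tmul, map_zero, map_zero]
  | add z z' hz hz' =>
    refine (congrArg _ (TensorProduct.add_tmul z z' m)).trans ?_
    refine ((map_add _ _ _).trans ?_).trans (congrArg _ (TensorProduct.add_tmul z z' m)).symm
    exact (congrArg₂ (· + ·) hz hz').trans (map_add _ _ _).symm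
  | single a r =>
    have e : (Finsupp.single a r : (fr O (yoneda.obj V)).obj X) =
        r • dl O (P := yoneda.obj V) a := (Finsupp.smul_single_one a r).symm
    rw [e, ← TensorProduct.smul_tmul']
    exact ((b.app X).hom.map_smul r _).trans ((congrArg (r • ·) (h X a m)).trans
      ((b'.app X).hom.map_smul r _).symm)

section BMap

variable {G : ModSite.Mod O} {V : C} (ψ : (ModSite.restr O V).obj F ⟶ (ModSite.restr O V).obj G)

/-- A component of `ψ` on sections. -/
noncomputable def sec {X : Cᵒᵖ} (a : X.unop ⟶ V) (m : ((forg O).obj F).obj X) :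
    ((forg O).obj G).obj X :=
  (ψ.val.app (op (Over.mk a))).hom m

lemma sec_add {X : Cᵒᵖ} (a : X.unop ⟶ V) (m m' : ((forg O).obj F).obj X) :
    sec ψ a (m + m') = sec ψ a m + sec ψ a m' :=
  map_add (ψ.val.app (op (Over.mk a))).hom m m'

lemma sec_smul {X : Cᵒᵖ} (a : X.unop ⟶ V) (r : O.obj.obj X) (m : ((forg O).obj F).obj X) :
    sec ψ a (r • m : ((forg O).obj F).obj X) = r • sec ψ a m :=
  (ψ.val.app (op (Over.mk a))).hom.map_smul r m

lemma sec_rs {X Y : Cᵒᵖ} (g : X ⟶ Y) (a : X.unop ⟶ V) (m : ((forg O).obj F).obj X) :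
    sec ψ (g.unop ≫ a) (rs ((forg O).obj F) g m) = rs ((forg O).obj G) g (sec ψ a m) :=
  PresheafOfModules.naturality_apply ψ.val (Over.homMk (U := Over.mk (g.unop ≫ a))
    (V := Over.mk a) g.unop rfl).op m

/-- The component of the pairing of `ψ`. -/
noncomputable def bVal {X : Cᵒᵖ} (z : (X.unop ⟶ V) →₀ O.obj.obj X)
    (m : ((forg O).obj F).obj X) : ((forg O).obj G).obj X :=
  z.sum fun a r => r • sec ψ a m

lemma bVal_single {X : Cᵒᵖ} (a : X.unop ⟶ V) (r : O.obj.obj X) (m : ((forg O).obj F).obj X) :
    bVal ψ (Finsupp.single a r) m = r • sec ψ a m :=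
  Finsupp.sum_single_index (h := fun b t => t • sec ψ b m) (zero_smul _ _)

lemma bVal_add {X : Cᵒᵖ} (z z' : (X.unop ⟶ V) →₀ O.obj.obj X) (m : ((forg O).obj F).obj X) :
    bVal ψ (z + z') m = bVal ψ z m + bVal ψ z' m :=
  Finsupp.sum_add_index' (h := fun b t => t • sec ψ b m) (fun _ => zero_smul _ _)
    (fun _ _ _ => add_smul _ _ _)

lemma bVal_zero {X : Cᵒᵖ} (m : ((forg O).obj F).obj X) :
    bVal ψ (0 : (X.unop ⟶ V) →₀ O.obj.obj X) m = 0 :=
  Finsupp.sum_zero_index

lemma bVal_smul {X : Cᵒᵖ} (c : O.obj.obj X) (z : (X.unop ⟶ V) →₀ O.obj.obj X)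
    (m : ((forg O).obj F).obj X) : bVal ψ (c • z) m = c • bVal ψ z m := by
  induction z using Finsupp.induction_linear with
  | zero => rw [smul_zero, bVal_zero, smul_zero]
  | add z z' hz hz' => rw [smul_add, bVal_add, bVal_add, hz, hz', smul_add]
  | single a r => rw [Finsupp.smul_single', bVal_single, bVal_single, mul_smul]

lemma bVal_add_right {X : Cᵒᵖ} (z : (X.unop ⟶ V) →₀ O.obj.obj X)
    (m m' : ((forg O).obj F).obj X) : bVal ψ z (m + m') = bVal ψ z m + bVal ψ z m' := by
  induction z using Finsupp.induction_linear with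
  | zero => simp only [bVal_zero, add_zero]
  | add z z' hz hz' => simp only [bVal_add, hz, hz']; abel
  | single a r => simp only [bVal_single, sec_add, smul_add]

lemma bVal_smul_right {X : Cᵒᵖ} (c : O.obj.obj X) (z : (X.unop ⟶ V) →₀ O.obj.obj X)
    (m : ((forg O).obj F).obj X) :
    bVal ψ z (c • m : ((forg O).obj F).obj X) = c • bVal ψ z m := by
  induction z using Finsupp.induction_linear with
  | zero => rw [bVal_zero, bVal_zero, smul_zero]
  | add z z' hz hz' => rw [bVal_add, bVal_add, hz, hz', smul_add]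
  | single a r => rw [bVal_single, bVal_single, sec_smul, smul_smul, smul_smul, mul_comm]

lemma bVal_rs {X Y : Cᵒᵖ} (g : X ⟶ Y) (z : (fr O (yoneda.obj V)).obj X)
    (m : ((forg O).obj F).obj X) :
    bVal ψ (rs (fr O (yoneda.obj V)) g z) (rs ((forg O).obj F) g m) =
      rs ((forg O).obj G) g (bVal ψ z m) := by
  induction z using Finsupp.induction_linear with
  | zero =>
    refine (congrArg (fun t => bVal ψ t _) (rs_zero _ g)).trans ((bVal_zero ψ _).trans ?_)
    exact ((congrArg (rs _ g) (bVal_zero ψ m)).trans (rs_zero _ g)).symm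
  | add z z' hz hz' =>
    refine (congrArg (fun t => bVal ψ t _) (rs_add (fr O (yoneda.obj V)) g z z')).trans ?_
    refine (bVal_add ψ _ _ _).trans ((congrArg₂ (· + ·) hz hz').trans ?_)
    exact (rs_add _ g _ _).symm.trans (congrArg _ (bVal_add ψ z z' m).symm)
  | single a r =>
    have e : (Finsupp.single a r : (fr O (yoneda.obj V)).obj X) =
        r • dl O (P := yoneda.obj V) a := (Finsupp.smul_single_one a r).symm
    refine (congrArg (fun t => bVal ψ t _) (((congrArg (rs _ g) e).trans (rs_smul' _ g r _)).trans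
      (congrArg (rr O g r • ·) (rs_dl O (P := yoneda.obj V) g a)))).trans ?_
    refine ((bVal_smul ψ _ _ _).trans (congrArg (rr O g r • ·)
      ((bVal_single ψ _ _ _).trans (one_smul _ _)))).trans ?_
    refine Eq.trans ?_ (congrArg (rs _ g) (bVal_single ψ a r m)).symm
    refine Eq.trans ?_ (rs_smul' _ g r _).symm
    exact congrArg (rr O g r • ·) (sec_rs ψ g a m)

/-- The pairing of a morphism `F|_V ⟶ G|_V`. -/
noncomputable def bMap : fr O (yoneda.obj V) ⊗ (forg O).obj F ⟶ (forg O).obj G where
  app X := ModuleCat.MonoidalCategory.tensorLift (fun z m => bVal ψ z m)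
    (fun z z' m => bVal_add ψ z z' m) (fun r z m => bVal_smul ψ r z m)
    (fun z m m' => bVal_add_right ψ z m m') (fun r z m => bVal_smul_right ψ r z m)
  naturality {X Y} g := ModuleCat.MonoidalCategory.tensor_ext fun z m => bVal_rs ψ g z m

lemma bMap_dl {X : Cᵒᵖ} (a : X.unop ⟶ V) (m : ((forg O).obj F).obj X) :
    ((bMap ψ).app X).hom (dl O (P := yoneda.obj V) a ⊗ₜ[O.obj.obj X] m) =
      (ψ.val.app (op (Over.mk a))).hom m :=
  (bVal_single ψ a 1 m).trans (one_smul _ _)

end BMap

lemma curry_uMap_dl {G : ModSite.Mod O} {V : C} (x : (ihom F G).obj (op V)) {X : Cᵒᵖ}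
    (a : X.unop ⟶ V) (m : ((forg O).obj F).obj X) :
    ((uMap x ▷ (forg O).obj F ≫ ev0 F G).app X).hom
        (dl O (P := yoneda.obj V) a ⊗ₜ[O.obj.obj X] m) =
      ((Phi x).val.app (op (Over.mk a))).hom m :=
  congrArg (fun t => pair t m) (uMap_dl x a)

/-- Sections of the internal Hom are morphisms of restrictions. -/
theorem bijective_Phi (G : ModSite.Mod O) (V : C) :
    Function.Bijective (Phi : (ihom F G).obj (op V) → _) := by
  constructor
  · intro x y h
    have hu : uMap x = uMap y := (bijective_curry F _ G).1 (hom_ext_frTensor _ _ fun X a m => by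
      rw [curry_uMap_dl, curry_uMap_dl, h])
    have := congrArg (fun k => (PresheafOfModules.Hom.app k (op V)).hom
      (dl O (P := yoneda.obj V) (𝟙 V))) hu
    simp only [uMap_dl] at this
    simpa [rs_id] using this
  · intro ψ
    obtain ⟨u, hu⟩ := (bijective_curry F _ G).2 (bMap ψ)
    let x := (u.app (op V)).hom (dl O (P := yoneda.obj V) (𝟙 V))
    have hx : u = uMap x := PresheafOfModules.hom_ext fun X => ModuleCat.free_hom_ext fun a => by
      show (u.app X).hom (dl O (P := yoneda.obj V) a) =
        ((uMap x).app X).hom (dl O (P := yoneda.obj V) a)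
      rw [uMap_dl, ← rs_app]
      refine congrArg (u.app X).hom ?_
      refine Eq.trans ?_ (rs_dl O (P := yoneda.obj V) _ _).symm
      exact congrArg _ (Category.comp_id (show X.unop ⟶ V from a)).symm
    refine ⟨x, ?_⟩
    ext Z m
    obtain ⟨Z⟩ := Z
    have hu' : uMap x ▷ (forg O).obj F ≫ ev0 F G = bMap ψ := by
      rw [← hx]; exact hu
    exact (curry_uMap_dl x (X := op Z.left) Z.hom m).symm.trans
      ((ConcreteCategory.congr_hom
        (congrArg (fun k => PresheafOfModules.Hom.app k (op Z.left)) hu') _).trans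
          (bMap_dl ψ (X := op Z.left) Z.hom m))

end Groth.Agent.H15Site.HomSect
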