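import Groth.Agent.H15Site.LocHom
import Groth.Agent.H15Site.HomSect

/-!
# Internal Hom out of a finitely presented module commutes with filtered colimits
-/

universe u

open CategoryTheory CategoryTheory.Limits Opposite

set_option linter.style.haveILetI false
set_option backward.isDefEq.respectTransparency false
set_option linter.unusedSectionVars false

namespace Groth.Agent.H15Site.HomColim

open ModTensor ModRel LocGen LocPres HomSect

attribute [local instance 10000] SiteInst.hasSheafifySite SiteInst.hasWeakSheafifySite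

variable {C : Type u} [SmallCategory C] {J : GrothendieckTopology C} {O : Sheaf J CommRingCat.{u}}
  (F : ModSite.Mod O) [ModSite.HasSheafHom F]
  [SheafOfModules.IsFinitePresentation (R := ModSite.ringSh O) F]
  {Λ : Type u} [SmallCategory Λ] [IsFiltered Λ] (D : Λ ⥤ ModSite.Mod O)

theorem preservesColimit_sheafHom : PreservesColimit D (ModSite.sheafHom F) := by
  haveI : HasColimitsOfShape Λ (ModSite.Mod O) := inferInstance
  let c := colimit.cocone D
  have hc : IsColimit c := colimit.isColimit D
  let ℋ := ModSite.sheafHom F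
  let c' := colimit.cocone (D ⋙ ℋ)
  have hc' : IsColimit c' := colimit.isColimit _
  let θ : c'.pt ⟶ ℋ.obj c.pt := hc'.desc (ℋ.mapCocone c)
  have hθ : ∀ (i : Λ) (V : C) (y : ((forg O).obj (ℋ.obj (D.obj i))).obj (op V)),
      (θ.val.app (op V)).hom (((c'.ι.app i).val.app (op V)).hom y) =
        ((ℋ.map (c.ι.app i)).val.app (op V)).hom y := fun i V y =>
    congrArg (fun t : ℋ.obj (D.obj i) ⟶ ℋ.obj c.pt => (t.val.app (op V)).hom y)
      (hc'.fac (ℋ.mapCocone c) i)
  have hinj : ∀ V : C, Function.Injective (θ.val.app (op V)).hom := fun V => by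
    refine (injective_iff_map_eq_zero _).2 fun x hx => ?_
    obtain ⟨S, hS, hS'⟩ := ColimSect.exists_local_rep hc' x
    refine separated_forg c'.pt (X := op V) S hS _ _ fun W h hh => ?_
    obtain ⟨i, y, hy⟩ := hS' h hh
    rw [rs_zero]
    refine hy.symm.trans ?_
    have h0 : ((ℋ.map (c.ι.app i)).val.app (op W)).hom y = 0 :=
      (hθ i W y).symm.trans ((congrArg _ hy).trans
        ((app_rs θ h.op x).trans ((congrArg _ hx).trans (rs_zero _ _))))
    have heq : Phi (F := F) y ≫ (ModSite.restr O W).map (c.ι.app i) =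
        Phi (F := F) (0 : (ihom F (D.obj i)).obj (op W)) ≫ (ModSite.restr O W).map (c.ι.app i) := by
      rw [← Phi_map, ← Phi_map]
      exact congrArg Phi (h0.trans (map_zero _).symm)
    obtain ⟨T, hT, hT'⟩ := LocHom.exists_local_eq hc _ _ heq
    refine separated_forg c'.pt (X := op W) T hT _ _ fun Z a ha => ?_
    obtain ⟨k, f, hf⟩ := hT' a ha
    rw [tr_Phi, tr_Phi, ← Phi_map, ← Phi_map] at hf
    have e := (bijective_Phi (D.obj k) Z).1 hf
    rw [rs_zero, map_zero] at e
    refine (app_rs (c'.ι.app i) a.op y).symm.trans ?_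
    rw [rs_zero]
    refine (congrArg (fun t : ℋ.obj (D.obj i) ⟶ c'.pt =>
      (t.val.app (op Z)).hom (rs ((forg O).obj (ℋ.obj (D.obj i))) a.op y)) (c'.w f)).symm.trans ?_
    exact (congrArg ((c'.ι.app k).val.app (op Z)).hom e).trans (map_zero _)
  haveI : Mono θ := by
    haveI := (SheafOfModules.fullyFaithfulForget (ModSite.ringSh O)).faithful
    refine (forg O).mono_of_mono_map (f := θ) ?_
    exact ⟨fun {Z} a b h => PresheafOfModules.hom_ext fun X => ModuleCat.hom_ext (LinearMap.ext
      fun z => hinj X.unop (congrArg (fun k => (PresheafOfModules.Hom.app k X).hom z) h))⟩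
  haveI : Epi θ := by
    refine (epi_iff_locSurj θ).2 fun V t => ?_
    obtain ⟨S, hS, hS'⟩ := LocHom.exists_local_lift hc (Phi (F := F) t)
    refine ⟨S, hS, fun W a ha => ?_⟩
    obtain ⟨i, ψ, hψ⟩ := hS' a ha
    obtain ⟨y, rfl⟩ := (bijective_Phi (D.obj i) W).2 ψ
    refine ⟨((c'.ι.app i).val.app (op W)).hom y, (hθ i W y).trans ((bijective_Phi c.pt W).1 ?_)⟩
    exact (Phi_map (c.ι.app i) y).trans (hψ.trans (tr_Phi a t))
  haveI : IsIso θ := isIso_of_mono_of_epi θ
  exact preservesColimit_of_preserves_colimit_cocone hc (hc'.ofPointIso (i := ‹IsIso θ›))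

end Groth.Agent.H15Site.HomColim
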