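import Groth.Agent.H15Site.CofanSheafify
import Groth.Agent.H15Site.ToposFin.Colim
import Groth.Agent.H15Site.SiteInst
import Groth.Prelude.Def_CohCx
import Mathlib.CategoryTheory.Sites.LocallySurjective

/-!
# Global sections of filtered colimits of sheaves of sets

If some `K` covering the final object, mapping into a given covering sheaf, has quasi-compact
`K × K`, then global sections commute with filtered colimits.
-/

universe u

open CategoryTheory CategoryTheory.Limits Opposite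

set_option linter.style.haveILetI false
set_option backward.isDefEq.respectTransparency false
set_option linter.unusedSectionVars false

namespace Groth.Agent.H15Site.QcSheafColim

variable {C : Type u} [SmallCategory C] {J : GrothendieckTopology C}

/-- Restriction of sections. -/
noncomputable abbrev res (K : Sheaf J (Type u)) {U V : C} (g : V ⟶ U) (x : K.obj.obj (op U)) :
    K.obj.obj (op V) :=
  K.obj.map g.op x

lemma res_res (K : Sheaf J (Type u)) {U V W : C} (g : V ⟶ U) (h : W ⟶ V) (x : K.obj.obj (op U)) :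
    res K h (res K g x) = res K (h ≫ g) x := by
  simp [res]

lemma res_app {K L : Sheaf J (Type u)} (φ : K ⟶ L) {U V : C} (g : V ⟶ U) (x : K.obj.obj (op U)) :
    φ.hom.app (op V) (res K g x) = res L g (φ.hom.app (op U) x) :=
  NatTrans.naturality_apply φ.hom g.op x

lemma ext_res (K : Sheaf J (Type u)) {U : C} {S : Sieve U} (hS : S ∈ J U) {x y : K.obj.obj (op U)}
    (h : ∀ ⦃V : C⦄ (g : V ⟶ U), S g → res K g x = res K g y) : x = y :=
  (((isSheaf_iff_isSheaf_of_type _ _).1 K.2).isSeparated S hS).ext fun _ g hg => h g hg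

/-- The map of a sheafified representable given by a section, on the elements. -/
lemma symm_app {K : Sheaf J (Type u)} {V W : C} (s : K.obj.obj (op V)) (a : W ⟶ V) :
    ((sheafifyYonedaHomEquiv J V K).symm s).hom.app (op W)
      ((CategoryTheory.toSheafify J (yoneda.obj V)).app (op W) a) = res K a s := by
  have h := (sheafifyYonedaHomEquiv J V K).apply_symm_apply s
  conv_rhs => rw [← h]
  have e : (CategoryTheory.toSheafify J (yoneda.obj V)).app (op W) a =
      res ((presheafToSheaf J (Type u)).obj (yoneda.obj V)) a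
        ((CategoryTheory.toSheafify J (yoneda.obj V)).app (op V) (𝟙 V)) :=
    (congrArg _ (Category.comp_id a).symm).trans
      (NatTrans.naturality_apply (CategoryTheory.toSheafify J (yoneda.obj V)) a.op (𝟙 V))
  rw [e, res_app]
  rfl

/-- A quasi-compact sheaf is generated by finitely many sections with a given local property. -/
theorem exists_finite_sections {L : Sheaf J (Type u)} (hL : CohCx.IsQcObject L)
    (P : ∀ V : C, L.obj.obj (op V) → Prop)
    (hloc : ∀ (U : C) (x : L.obj.obj (op U)), ∃ S ∈ J U, ∀ ⦃V : C⦄ (g : V ⟶ U), S g →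
      P V (res L g x)) :
    ∃ (κ : Type u) (_ : Finite κ) (V : κ → C) (s : ∀ a, L.obj.obj (op (V a))),
      (∀ a, P (V a) (s a)) ∧ ∀ (U : C) (x : L.obj.obj (op U)), ∃ S ∈ J U, ∀ ⦃W : C⦄ (g : W ⟶ U),
        S g → ∃ (a : κ) (b : W ⟶ V a), res L g x = res L b (s a) := by
  let T := Σ V : C, { s : L.obj.obj (op V) // P V s }
  let fam : ∀ k : T, (presheafToSheaf J (Type u)).obj (yoneda.obj k.1) ⟶ L :=
    fun k => (sheafifyYonedaHomEquiv J k.1 L).symm k.2.1
  have hjs : CohCx.JointlySurjective fam := fun U x => by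
    obtain ⟨S, hS, hS'⟩ := hloc U x
    exact ⟨S, hS, fun V g hg => ⟨⟨V, res L g x, hS' g hg⟩,
      (CategoryTheory.toSheafify J (yoneda.obj V)).app (op V) (𝟙 V),
      (symm_app (res L g x) (𝟙 V)).trans (by simp [res])⟩⟩
  obtain ⟨t, ht⟩ := hL T _ fam hjs
  refine ⟨{k // k ∈ t}, inferInstance, fun k => k.1.1, fun k => k.1.2.1, fun k => k.1.2.2,
    fun U x => ?_⟩
  obtain ⟨S, hS, hS'⟩ := ht U x
  choose k z hz using fun (W : C) (g : W ⟶ U) (hg : S g) => hS' W g hg
  refine ⟨_, J.bind_covering hS (S := S) (R := fun W g hg => Presheaf.imageSieve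
    (CategoryTheory.toSheafify J (yoneda.obj (k W g hg).1.1)) (z W g hg))
    (fun W g hg => Presheaf.imageSieve_mem J _ _), ?_⟩
  rintro W' _ ⟨W, b, g, hg, ⟨a, ha⟩, rfl⟩
  refine ⟨k W g hg, a, ?_⟩
  rw [← res_res, ← symm_app (k W g hg).1.2.1 a]
  change _ = (fam (k W g hg).1).hom.app (op W') _
  rw [ha]
  exact (congrArg (res L b) (hz W g hg)).symm.trans (res_app (fam (k W g hg).1) b (z W g hg)).symm

/-- Pairs of sections. -/
theorem exists_pair {K : Sheaf J (Type u)} {V : C} (k k' : K.obj.obj (op V)) :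
    ∃ s : (K ⨯ K).obj.obj (op V), (prod.fst : K ⨯ K ⟶ K).hom.app (op V) s = k ∧
      (prod.snd : K ⨯ K ⟶ K).hom.app (op V) s = k' := by
  let e := fun L => sheafifyYonedaHomEquiv J V L
  refine ⟨e _ (prod.lift ((e K).symm k) ((e K).symm k')), ?_, ?_⟩
  · rw [← sheafifyYonedaHomEquiv_naturality_right, prod.lift_fst, Equiv.apply_symm_apply]
  · rw [← sheafifyYonedaHomEquiv_naturality_right, prod.lift_snd, Equiv.apply_symm_apply]

lemma subsingleton_terminal {V : C} (t t' : (⊤_ (Sheaf J (Type u))).obj.obj (op V)) : t = t' :=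
  (sheafifyYonedaHomEquiv J V _).symm.injective (terminal.hom_ext _ _)

/-- An epimorphism to the final sheaf: sections exist locally. -/
theorem locally_nonempty {K : Sheaf J (Type u)} (hK : Epi (terminal.from K)) (U : C) :
    ∃ S ∈ J U, ∀ ⦃V : C⦄ (g : V ⟶ U), S g → Nonempty (K.obj.obj (op V)) := by
  haveI : Sheaf.IsLocallySurjective (terminal.from K) :=
    (Sheaf.isLocallySurjective_iff_epi _).2 hK
  let t : (⊤_ (Sheaf J (Type u))).obj.obj (op U) :=
    sheafifyYonedaHomEquiv J U _ (terminal.from _)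
  exact ⟨_, Presheaf.imageSieve_mem J (terminal.from K).hom t, fun V g hg => ⟨hg.choose⟩⟩

theorem epi_terminal_from {K : Sheaf J (Type u)}
    (h : ∀ U : C, ∃ S ∈ J U, ∀ ⦃V : C⦄ (g : V ⟶ U), S g → Nonempty (K.obj.obj (op V))) :
    Epi (terminal.from K) := by
  rw [← Sheaf.isLocallySurjective_iff_epi]
  refine ⟨fun {U} t => ?_⟩
  obtain ⟨S, hS, hS'⟩ := h U
  exact J.superset_covering (fun V g hg => ⟨(hS' g hg).some, subsingleton_terminal _ _⟩) hS

/-- If `K × K` is quasi-compact and `K` covers, `K` has the finiteness property. -/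
theorem exists_finite_sections' {K : Sheaf J (Type u)} (hK : Epi (terminal.from K))
    (hKK : CohCx.IsQcObject (K ⨯ K)) (P : ∀ V : C, K.obj.obj (op V) → Prop)
    (hloc : ∀ (U : C) (x : K.obj.obj (op U)), ∃ S ∈ J U, ∀ ⦃V : C⦄ (g : V ⟶ U), S g →
      P V (res K g x)) :
    ∃ (κ : Type u) (_ : Finite κ) (V : κ → C) (s : ∀ a, K.obj.obj (op (V a))),
      (∀ a, P (V a) (s a)) ∧ ∀ (U : C) (x : K.obj.obj (op U)), ∃ S ∈ J U, ∀ ⦃W : C⦄ (g : W ⟶ U),
        S g → ∃ (a : κ) (b : W ⟶ V a), res K g x = res K b (s a) := by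
  let p : K ⨯ K ⟶ K := prod.fst
  obtain ⟨κ, hκ, V, s, hs, hgen⟩ := exists_finite_sections hKK
    (fun V s => P V (p.hom.app (op V) s)) fun U x => by
      obtain ⟨S, hS, hS'⟩ := hloc U (p.hom.app (op U) x)
      exact ⟨S, hS, fun V g hg => by rw [res_app]; exact hS' g hg⟩
  refine ⟨κ, hκ, V, fun a => p.hom.app (op (V a)) (s a), hs, fun U x => ?_⟩
  obtain ⟨S, hS, hS'⟩ := locally_nonempty hK U
  choose s₂ hs₂ _ using fun (W : C) (g : W ⟶ U) (hg : S g) =>
    exists_pair (res K g x) (hS' g hg).some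
  choose R hR hR' using fun (W : C) (g : W ⟶ U) (hg : S g) => hgen W (s₂ W g hg)
  refine ⟨_, J.bind_covering hS hR, ?_⟩
  rintro W' _ ⟨W, b, g, hg, hb, rfl⟩
  obtain ⟨a, c, hac⟩ := hR' W g hg b hb
  refine ⟨a, c, ?_⟩
  rw [← res_res, ← hs₂ W g hg, ← res_app, hac]
  exact res_app p c (s a)

variable {Λ : Type u} [SmallCategory Λ] [IsFiltered Λ] {H : Λ ⥤ Sheaf J (Type u)} {c : Cocone H}

/-- A global section of the colimit comes from a stage. -/
theorem exists_global_lift
    (S : Set (Sheaf J (Type u)))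
    (hSa : ∀ F : Sheaf J (Type u), Epi (terminal.from F) →
      ∃ K ∈ S, Epi (terminal.from K) ∧ Nonempty (K ⟶ F))
    (hSb : ∀ K ∈ S, CohCx.IsQcObject (K ⨯ K))
    (hrep : ∀ (U : C) (x : c.pt.obj.obj (op U)), ∃ R ∈ J U, ∀ ⦃V : C⦄ (g : V ⟶ U), R g →
      ∃ (i : Λ) (y : (H.obj i).obj.obj (op V)), (c.ι.app i).hom.app (op V) y = res c.pt g x)
    (heq : ∀ (i : Λ) (U : C) (y y' : (H.obj i).obj.obj (op U)),
      (c.ι.app i).hom.app (op U) y = (c.ι.app i).hom.app (op U) y' →
        ∃ R ∈ J U, ∀ ⦃V : C⦄ (g : V ⟶ U), R g → ∃ (k : Λ) (f : i ⟶ k),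
          (H.map f).hom.app (op V) (res (H.obj i) g y) = (H.map f).hom.app (op V) (res (H.obj i) g y'))
    (φ : c.pt.obj.sections) :
    ∃ (m : Λ) (t : (H.obj m).obj.sections), ∀ U : C, (c.ι.app m).hom.app (op U) (t.1 (op U)) = φ.1 (op U) := by
  classical
  have hφ : ∀ {U V : C} (g : V ⟶ U), res c.pt g (φ.1 (op U)) = φ.1 (op V) := fun g => φ.2 g.op
  let P : Cᵒᵖ ⥤ Type u :=
    { obj := fun V => Σ i : Λ, { y : (H.obj i).obj.obj V // (c.ι.app i).hom.app V y = φ.1 V }
      map := fun {V W} g => ↾fun p => ⟨p.1, (H.obj p.1).obj.map g p.2.1,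
        (NatTrans.naturality_apply (c.ι.app p.1).hom g p.2.1).trans
          ((congrArg _ p.2.2).trans (φ.2 g))⟩
      map_id := fun V => by
        refine ConcreteCategory.hom_ext _ _ fun p => ?_
        obtain ⟨i, y, hy⟩ := p
        simp
      map_comp := fun g h => by
        refine ConcreteCategory.hom_ext _ _ fun p => ?_
        obtain ⟨i, y, hy⟩ := p
        simp }
  let F' := (presheafToSheaf J (Type u)).obj P
  let η : P ⟶ F'.obj := CategoryTheory.toSheafify J P
  have hF' : Epi (terminal.from F') := epi_terminal_from fun U => by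
    obtain ⟨R, hR, hR'⟩ := hrep U (φ.1 (op U))
    refine ⟨R, hR, fun V g hg => ?_⟩
    obtain ⟨i, y, hy⟩ := hR' g hg
    exact ⟨η.app (op V) ⟨i, y, hy.trans (hφ g)⟩⟩
  obtain ⟨K, hKS, hK, ⟨q⟩⟩ := hSa F' hF'
  obtain ⟨κ, _, Va, ka, hka, hgen⟩ := exists_finite_sections' hK (hSb K hKS)
    (fun V k => ∃ p : P.obj (op V), η.app (op V) p = q.hom.app (op V) k) fun U x =>
      ⟨_, Presheaf.imageSieve_mem J η (q.hom.app (op U) x), fun V g hg =>
        ⟨hg.choose, hg.choose_spec.trans (res_app q g x).symm⟩⟩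
  choose p hp using hka
  haveI := Fintype.ofFinite κ
  let A := Finset.univ.image fun a => (p a).1
  obtain ⟨j, hj⟩ := IsFiltered.sup_objs_exists A
  let gA : ∀ {V : Cᵒᵖ} (p : P.obj V), p.1 ∈ A → (H.obj j).obj.obj V := fun p h =>
    (H.map (hj h).some).hom.app _ p.2.1
  have hgA : ∀ {V : Cᵒᵖ} (p p' : P.obj V) (h : p.1 ∈ A) (h' : p'.1 ∈ A), p = p' →
      gA p h = gA p' h' := by
    rintro V p p' h h' rfl
    rfl
  have hA : ∀ a, (p a).1 ∈ A := fun a => Finset.mem_image.2 ⟨a, Finset.mem_univ _, rfl⟩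
  let z : ∀ {W : C} (a : κ) (_ : W ⟶ Va a), (H.obj j).obj.obj (op W) := fun a b =>
    gA (P.map b.op (p a)) (hA a)
  have hz_res : ∀ {W W' : C} (a : κ) (b : W ⟶ Va a) (h : W' ⟶ W),
      res (H.obj j) h (z a b) = z a (h ≫ b) := fun a b h => by
    refine (res_app (H.map (hj (hA a)).some) h _).symm.trans ?_
    refine congrArg _ ?_
    exact (res_res (H.obj (p a).1) b h (p a).2.1)
  have hz_ι : ∀ {W : C} (a : κ) (b : W ⟶ Va a),
      (c.ι.app j).hom.app (op W) (z a b) = φ.1 (op W) := fun {W} a b =>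
    (congrArg (fun ψ : H.obj (p a).1 ⟶ c.pt => ψ.hom.app (op W) (P.map b.op (p a)).2.1)
      (c.w (hj (hA a)).some)).trans (P.map b.op (p a)).2.2
  have hwd : ∀ {W : C} (a a' : κ) (b : W ⟶ Va a) (b' : W ⟶ Va a'),
      res K b (ka a) = res K b' (ka a') → z a b = z a' b' := by
    intro W a a' b b' h
    have e : η.app (op W) (P.map b.op (p a)) = η.app (op W) (P.map b'.op (p a')) := by
      refine (NatTrans.naturality_apply η b.op (p a)).trans ((congrArg _ (hp a)).trans ?_)
      refine ((res_app q b (ka a)).symm.trans ((congrArg _ h).trans (res_app q b' (ka a')))).trans ?_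
      exact (congrArg _ (hp a').symm).trans (NatTrans.naturality_apply η b'.op (p a')).symm
    refine ext_res (H.obj j) (Presheaf.equalizerSieve_mem J η (X := op W) _ _ e) fun V g hg => ?_
    rw [hz_res, hz_res]
    refine hgA (P.map (g ≫ b).op (p a)) (P.map (g ≫ b').op (p a')) (hA a) (hA a') ?_
    change P.map g.op (P.map b.op (p a)) = P.map g.op (P.map b'.op (p a')) at hg
    simpa only [op_comp, Functor.map_comp, ConcreteCategory.comp_apply] using hg
  choose R hR hR' using hgen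
  have hY : ∀ (U : C) (k : K.obj.obj (op U)), ∃ y : (H.obj j).obj.obj (op U),
      ∀ ⦃W : C⦄ (g : W ⟶ U) (a : κ) (b : W ⟶ Va a), res K g k = res K b (ka a) →
        res (H.obj j) g y = z a b := by
    intro U k
    choose aa bb hab using fun (W : C) (g : W ⟶ U) (hg : R U k g) => hR' U k g hg
    let x : Presieve.FamilyOfElements (H.obj j).obj (R U k).arrows := fun W g hg =>
      z (aa W g hg) (bb W g hg)
    have hx : x.Compatible := (Presieve.compatible_iff_sieveCompatible _).2 fun W W' g h hg => by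
      refine (hwd _ _ _ (h ≫ bb W g hg) ?_).trans (hz_res (aa W g hg) (bb W g hg) h).symm
      rw [← hab, ← res_res K g h, hab W g hg, res_res]
    refine ⟨((isSheaf_iff_isSheaf_of_type _ _).1 (H.obj j).2 _ (hR U k)).amalgamate x hx,
      fun W g a b h => ?_⟩
    refine ext_res (H.obj j) (J.pullback_stable g (hR U k)) fun V e he => ?_
    rw [res_res, hz_res]
    refine (Presieve.IsSheafFor.valid_glue _ hx (e ≫ g) he).trans (hwd _ _ _ _ ?_)
    rw [← hab V (e ≫ g) he, ← res_res K g e, h, res_res]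
  choose Y hY using hY
  have hYnat : ∀ {U V : C} (g : V ⟶ U) (k : K.obj.obj (op U)),
      Y V (res K g k) = res (H.obj j) g (Y U k) := fun {U V} g k => by
    refine ext_res (H.obj j) (hR V (res K g k)) fun W e he => ?_
    obtain ⟨a, b, hab⟩ := hR' V (res K g k) e he
    rw [hY V _ e a b hab, res_res, hY U k (e ≫ g) a b ((res_res K g e k).symm.trans hab)]
  have hYι : ∀ (U : C) (k : K.obj.obj (op U)),
      (c.ι.app j).hom.app (op U) (Y U k) = φ.1 (op U) := fun U k => by
    refine ext_res c.pt (hR U k) fun W g hg => ?_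
    obtain ⟨a, b, hab⟩ := hR' U k g hg
    rw [hφ g]
    exact (res_app (c.ι.app j) g (Y U k)).symm.trans ((congrArg _ (hY U k g a b hab)).trans (hz_ι a b))
  let p₁ : K ⨯ K ⟶ K := prod.fst
  let p₂ : K ⨯ K ⟶ K := prod.snd
  obtain ⟨κ₂, _, Vs, ss, hss, hgen₂⟩ := exists_finite_sections (hSb K hKS)
    (fun V s => ∃ (l : Λ) (f : j ⟶ l), (H.map f).hom.app (op V) (Y V (p₁.hom.app (op V) s)) =
      (H.map f).hom.app (op V) (Y V (p₂.hom.app (op V) s))) fun U s => by
      obtain ⟨Q, hQ, hQ'⟩ := heq j U (Y U (p₁.hom.app (op U) s)) (Y U (p₂.hom.app (op U) s))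
        ((hYι U _).trans (hYι U _).symm)
      refine ⟨Q, hQ, fun V g hg => ?_⟩
      obtain ⟨l, f, hf⟩ := hQ' g hg
      exact ⟨l, f, by rw [res_app p₁, res_app p₂, hYnat, hYnat]; exact hf⟩
  obtain ⟨m, g, hg⟩ := TFin.exists_common (fun (a : κ₂) l (f : j ⟶ l) =>
      (H.map f).hom.app (op (Vs a)) (Y _ (p₁.hom.app _ (ss a))) =
        (H.map f).hom.app (op (Vs a)) (Y _ (p₂.hom.app _ (ss a)))) hss
    (fun a k l f f' h => by
      have e := congrArg ((H.map f').hom.app (op (Vs a))) h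
      rw [H.map_comp]
      exact e)
  have huni : ∀ (U : C) (k k' : K.obj.obj (op U)),
      (H.map g).hom.app (op U) (Y U k) = (H.map g).hom.app (op U) (Y U k') := fun U k k' => by
    obtain ⟨s, rfl, rfl⟩ := exists_pair k k'
    obtain ⟨Q, hQ, hQ'⟩ := hgen₂ U s
    refine ext_res (H.obj m) hQ fun W e he => ?_
    obtain ⟨a, b, hab⟩ := hQ' e he
    rw [← res_app, ← res_app, ← hYnat, ← hYnat, ← res_app p₁, ← res_app p₂, hab, res_app p₁,
      res_app p₂, hYnat, hYnat, res_app (H.map g), res_app (H.map g)]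
    exact congrArg (res (H.obj m) b) (hg a)
  choose N hN hN' using locally_nonempty hK
  have ht : ∀ U : C, ∃ t : (H.obj m).obj.obj (op U), ∀ ⦃W : C⦄ (e : W ⟶ U)
      (k : K.obj.obj (op W)), res (H.obj m) e t = (H.map g).hom.app (op W) (Y W k) := by
    intro U
    let x : Presieve.FamilyOfElements (H.obj m).obj (N U).arrows := fun W e he =>
      (H.map g).hom.app (op W) (Y W (hN' U e he).some)
    have hx : x.Compatible := (Presieve.compatible_iff_sieveCompatible _).2 fun W W' e h he => by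
      show (H.map g).hom.app (op W') _ = res (H.obj m) h ((H.map g).hom.app (op W) _)
      rw [← res_app, ← hYnat]
      exact huni W' _ _
    refine ⟨((isSheaf_iff_isSheaf_of_type _ _).1 (H.obj m).2 _ (hN U)).amalgamate x hx,
      fun W e k => ?_⟩
    refine ext_res (H.obj m) (J.pullback_stable e (hN U)) fun V h hh => ?_
    rw [res_res]
    refine (Presieve.IsSheafFor.valid_glue _ hx (h ≫ e) hh).trans ?_
    rw [← res_app, ← hYnat]
    exact huni V _ _
  choose t ht using ht
  refine ⟨m, ⟨fun V => t V.unop, fun {V W} e => ?_⟩, fun U => ?_⟩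
  · show res (H.obj m) e.unop (t V.unop) = t W.unop
    refine ext_res (H.obj m) (hN W.unop) fun Z h hh => ?_
    rw [res_res, ht V.unop (h ≫ e.unop) (hN' _ h hh).some, ht W.unop h (hN' _ h hh).some]
  · refine ext_res c.pt (hN U) fun Z h hh => ?_
    rw [hφ h]
    refine (res_app (c.ι.app m) h (t U)).symm.trans ((congrArg _ (ht U h (hN' _ h hh).some)).trans ?_)
    exact (congrArg (fun ψ : H.obj j ⟶ c.pt => ψ.hom.app (op Z) (Y Z (hN' _ h hh).some)) (c.w g)).trans
      (hYι Z _)

/-- Two global sections equal in the colimit are equal at a stage. -/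
theorem exists_global_eq {K : Sheaf J (Type u)} (hK : Epi (terminal.from K))
    (hKK : CohCx.IsQcObject (K ⨯ K))
    (heq : ∀ (i : Λ) (U : C) (y y' : (H.obj i).obj.obj (op U)),
      (c.ι.app i).hom.app (op U) y = (c.ι.app i).hom.app (op U) y' →
        ∃ R ∈ J U, ∀ ⦃V : C⦄ (g : V ⟶ U), R g → ∃ (k : Λ) (f : i ⟶ k),
          (H.map f).hom.app (op V) (res (H.obj i) g y) = (H.map f).hom.app (op V) (res (H.obj i) g y'))
    {i : Λ} (φ ψ : (H.obj i).obj.sections)
    (h : ∀ U : C, (c.ι.app i).hom.app (op U) (φ.1 (op U)) = (c.ι.app i).hom.app (op U) (ψ.1 (op U))) :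
    ∃ (m : Λ) (f : i ⟶ m), ∀ U : C,
      (H.map f).hom.app (op U) (φ.1 (op U)) = (H.map f).hom.app (op U) (ψ.1 (op U)) := by
  obtain ⟨κ, _, V, s, hs, hgen⟩ := exists_finite_sections' hK hKK
    (fun V _ => ∃ (l : Λ) (f : i ⟶ l),
      (H.map f).hom.app (op V) (φ.1 (op V)) = (H.map f).hom.app (op V) (ψ.1 (op V))) fun U _ => by
      obtain ⟨R, hR, hR'⟩ := heq i U _ _ (h U)
      refine ⟨R, hR, fun V g hg => ?_⟩
      obtain ⟨k, f, hf⟩ := hR' g hg
      refine ⟨k, f, ?_⟩
      rw [← φ.2 g.op, ← ψ.2 g.op]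
      exact hf
  obtain ⟨m, f, hf⟩ := TFin.exists_common (fun (a : κ) l (f : i ⟶ l) =>
      (H.map f).hom.app (op (V a)) (φ.1 _) = (H.map f).hom.app (op (V a)) (ψ.1 _)) hs
    (fun a k l f f' h => by
      have e := congrArg ((H.map f').hom.app (op (V a))) h
      rw [H.map_comp]
      exact e)
  refine ⟨m, f, fun U => ?_⟩
  obtain ⟨N, hN, hN'⟩ := locally_nonempty hK U
  refine ext_res (H.obj m) hN fun W g hg => ?_
  obtain ⟨R, hR, hR'⟩ := hgen W (hN' g hg).some
  refine ext_res (H.obj m) hR fun Z e he => ?_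
  obtain ⟨a, b, -⟩ := hR' e he
  rw [res_res, res_res, ← res_app, ← res_app]
  have e1 := congrArg (res (H.obj m) b) (hf a)
  rw [← res_app, ← res_app] at e1
  rw [show res (H.obj i) (e ≫ g) (φ.1 (op U)) = φ.1 (op Z) from φ.2 (e ≫ g).op,
    show res (H.obj i) (e ≫ g) (ψ.1 (op U)) = ψ.1 (op Z) from ψ.2 (e ≫ g).op]
  rw [show res (H.obj i) b (φ.1 (op (V a))) = φ.1 (op Z) from φ.2 b.op,
    show res (H.obj i) b (ψ.1 (op (V a))) = ψ.1 (op Z) from ψ.2 b.op] at e1
  exact e1

end Groth.Agent.H15Site.QcSheafColim
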