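import Groth.Agent.H15Site.HomGlue
import Groth.Agent.H15Site.QcSheafColim
import Mathlib.CategoryTheory.Limits.Types.Filtered

/-!
# `Hom(F, -)` of a finitely presented module commutes with filtered colimits on a ringed site with
quasi-compactness conditions
-/

universe u

open CategoryTheory CategoryTheory.Limits Opposite

set_option linter.style.haveILetI false
set_option backward.isDefEq.respectTransparency false
set_option linter.unusedSectionVars false

namespace Groth.Agent.H15Site.HomColimGlobal

open ModTensor LocPres HomGlue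

attribute [local instance 10000] SiteInst.hasSheafifySite SiteInst.hasWeakSheafifySite

variable {C : Type u} [SmallCategory C] {J : GrothendieckTopology C} {O : Sheaf J CommRingCat.{u}}
  (F : ModSite.Mod O)

/-- `G ↦ homSh F G`. -/
noncomputable def homShFunctor : ModSite.Mod O ⥤ Sheaf J (Type u) where
  obj G := homSh F G
  map h := homShMap h
  map_id G := by
    refine CategoryTheory.Sheaf.hom_ext (NatTrans.ext (funext fun V => ConcreteCategory.hom_ext _ _ fun φ => ?_))
    show φ ≫ (ModSite.restr O V.unop).map (𝟙 G) = φ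
    rw [CategoryTheory.Functor.map_id, Category.comp_id]
  map_comp {G G' G''} h h' := by
    refine CategoryTheory.Sheaf.hom_ext (NatTrans.ext (funext fun V => ConcreteCategory.hom_ext _ _ fun φ => ?_))
    show φ ≫ (ModSite.restr O V.unop).map (h ≫ h') =
      (φ ≫ (ModSite.restr O V.unop).map h) ≫ (ModSite.restr O V.unop).map h'
    rw [Functor.map_comp, Category.assoc]

variable {F} [SheafOfModules.IsFinitePresentation (R := ModSite.ringSh O) F]
  {Λ : Type u} [SmallCategory Λ] [IsFiltered Λ] {D : Λ ⥤ ModSite.Mod O} {c : Cocone D}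

/-- The global section of a morphism. -/
noncomputable def sec {G : ModSite.Mod O} (φ : F ⟶ G) :
    ((homShFunctor F).obj G).obj.sections :=
  ⟨fun V => (ModSite.restr O V.unop).map φ, fun {V W} g => SitePerfLift.tr_map g.unop φ⟩

theorem preservesColimit_hom
    (S : Set (Sheaf J (Type u)))
    (hSa : ∀ K : Sheaf J (Type u), Epi (terminal.from K) →
      ∃ K' ∈ S, Epi (terminal.from K') ∧ Nonempty (K' ⟶ K))
    (hSb : ∀ K ∈ S, CohCx.IsQcObject (K ⨯ K)) :
    PreservesColimit D (coyoneda.obj (op F)) := by
  refine ⟨fun {c} hc => ⟨?_⟩⟩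
  have hrep : ∀ (U : C) (x : ((homShFunctor F).mapCocone c).pt.obj.obj (op U)),
      ∃ R ∈ J U, ∀ ⦃V : C⦄ (g : V ⟶ U), R g →
        ∃ (i : Λ) (y : ((D ⋙ homShFunctor F).obj i).obj.obj (op V)),
          (((homShFunctor F).mapCocone c).ι.app i).hom.app (op V) y =
            QcSheafColim.res ((homShFunctor F).mapCocone c).pt g x := fun U x =>
    LocHom.exists_local_lift hc x
  have heq : ∀ (i : Λ) (U : C) (y y' : ((D ⋙ homShFunctor F).obj i).obj.obj (op U)),
      (((homShFunctor F).mapCocone c).ι.app i).hom.app (op U) y =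
        (((homShFunctor F).mapCocone c).ι.app i).hom.app (op U) y' →
        ∃ R ∈ J U, ∀ ⦃V : C⦄ (g : V ⟶ U), R g → ∃ (k : Λ) (f : i ⟶ k),
          ((D ⋙ homShFunctor F).map f).hom.app (op V)
              (QcSheafColim.res ((D ⋙ homShFunctor F).obj i) g y) =
            ((D ⋙ homShFunctor F).map f).hom.app (op V)
              (QcSheafColim.res ((D ⋙ homShFunctor F).obj i) g y') := fun i U y y' h =>
    LocHom.exists_local_eq hc y y' h
  refine Types.FilteredColimit.isColimitOf' _ _ (fun φ => ?_) (fun i φ ψ h => ?_)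
  · change F ⟶ c.pt at φ
    obtain ⟨m, t, ht⟩ := QcSheafColim.exists_global_lift (c := (homShFunctor F).mapCocone c)
      S hSa hSb hrep heq (sec φ)
    obtain ⟨χ, hχ⟩ := exists_global (fun V => t.1 (op V)) fun a => t.2 a.op
    refine ⟨m, χ, hom_ext_restr fun V => ?_⟩
    show (ModSite.restr O V).map φ = (ModSite.restr O V).map (χ ≫ c.ι.app m)
    rw [Functor.map_comp, hχ]
    exact (ht V).symm
  · change F ⟶ D.obj i at φ ψ
    have hT : Epi (terminal.from (⊤_ (Sheaf J (Type u)))) := by
      rw [Subsingleton.elim (terminal.from (⊤_ (Sheaf J (Type u)))) (𝟙 _)]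
      infer_instance
    obtain ⟨K, hKS, hK, -⟩ := hSa _ hT
    obtain ⟨m, f, hf⟩ := QcSheafColim.exists_global_eq (c := (homShFunctor F).mapCocone c)
      hK (hSb K hKS) heq (sec φ) (sec ψ) fun V => by
        show (ModSite.restr O V).map φ ≫ (ModSite.restr O V).map (c.ι.app i) =
          (ModSite.restr O V).map ψ ≫ (ModSite.restr O V).map (c.ι.app i)
        rw [← Functor.map_comp, ← Functor.map_comp]
        exact congrArg _ h
    refine ⟨m, f, hom_ext_restr fun V => ?_⟩
    show (ModSite.restr O V).map (φ ≫ D.map f) = (ModSite.restr O V).map (ψ ≫ D.map f)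
    rw [Functor.map_comp, Functor.map_comp]
    exact hf V

end Groth.Agent.H15Site.HomColimGlobal
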