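import Groth.Agent.H15Site.LocHom
import Groth.Agent.H15Site.PullFree

/-!
# The sheaf of local morphisms of modules

`homSh G H` is the sheaf of sets `V ↦ Hom(G|_V, H|_V)`; its compatible families of values over all
objects are the morphisms `G ⟶ H`.
-/

universe u

open CategoryTheory CategoryTheory.Limits Opposite

set_option linter.style.haveILetI false
set_option backward.isDefEq.respectTransparency false
set_option linter.unusedSectionVars false

namespace Groth.Agent.H15Site.HomGlue

open ModTensor ModRel LocGen LocPres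

attribute [local instance 10000] SiteInst.hasSheafifySite SiteInst.hasWeakSheafifySite

variable {C : Type u} [SmallCategory C] {J : GrothendieckTopology C} {O : Sheaf J CommRingCat.{u}}
  {G H H' : ModSite.Mod O}

/-- Evaluation of a local morphism at an arrow. -/
noncomputable def ap {V W : C} (φ : (ModSite.restr O V).obj G ⟶ (ModSite.restr O V).obj H)
    (a : W ⟶ V) (m : ((forg O).obj G).obj (op W)) : ((forg O).obj H).obj (op W) :=
  (φ.val.app (op (Over.mk a))).hom m

lemma ap_rs {V W W' : C} (φ : (ModSite.restr O V).obj G ⟶ (ModSite.restr O V).obj H) (a : W ⟶ V)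
    (b : W' ⟶ W) (m : ((forg O).obj G).obj (op W)) :
    ap φ (b ≫ a) (rs ((forg O).obj G) b.op m) = rs ((forg O).obj H) b.op (ap φ a m) :=
  LocHom.app_restrict φ a b m

lemma ap_add {V W : C} (φ : (ModSite.restr O V).obj G ⟶ (ModSite.restr O V).obj H) (a : W ⟶ V)
    (m m' : ((forg O).obj G).obj (op W)) : ap φ a (m + m') = ap φ a m + ap φ a m' :=
  map_add (φ.val.app (op (Over.mk a))).hom m m'

lemma ap_smul {V W : C} (φ : (ModSite.restr O V).obj G ⟶ (ModSite.restr O V).obj H) (a : W ⟶ V)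
    (r : O.obj.obj (op W)) (m : ((forg O).obj G).obj (op W)) :
    ap φ a (r • m : ((forg O).obj G).obj (op W)) = r • ap φ a m :=
  (φ.val.app (op (Over.mk a))).hom.map_smul r m

lemma ap_tr {V V' W : C} (g : V' ⟶ V) (φ : (ModSite.restr O V).obj G ⟶ (ModSite.restr O V).obj H)
    (a : W ⟶ V') (m : ((forg O).obj G).obj (op W)) :
    ap (SitePerfLift.tr g φ) a m = ap φ (a ≫ g) m := rfl

theorem hom_ext_ap {V : C} {φ ψ : (ModSite.restr O V).obj G ⟶ (ModSite.restr O V).obj H}
    (h : ∀ (W : C) (a : W ⟶ V) (m : ((forg O).obj G).obj (op W)), ap φ a m = ap ψ a m) : φ = ψ := by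
  ext Z m
  obtain ⟨Z⟩ := Z
  exact h Z.left Z.hom m

variable (G H) in
/-- The presheaf of local morphisms. -/
noncomputable def homP : Cᵒᵖ ⥤ Type u where
  obj V := (ModSite.restr O V.unop).obj G ⟶ (ModSite.restr O V.unop).obj H
  map g := ↾fun φ => SitePerfLift.tr g.unop φ
  map_id V := by
    ext φ : 3
    refine hom_ext_ap fun W a m => ?_
    show ap φ (a ≫ 𝟙 _) m = ap φ a m
    rw [Category.comp_id]
  map_comp {V₁ V₂ V₃} g g' := by
    ext φ : 3
    refine hom_ext_ap fun W a m => ?_
    show ap φ (a ≫ g'.unop ≫ g.unop) m = ap φ ((a ≫ g'.unop) ≫ g.unop) m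
    rw [Category.assoc]

theorem isSeparated_homP {V : C} {S : Sieve V} (hS : S ∈ J V)
    (φ ψ : (ModSite.restr O V).obj G ⟶ (ModSite.restr O V).obj H)
    (h : ∀ ⦃W : C⦄ (a : W ⟶ V), S a → SitePerfLift.tr a φ = SitePerfLift.tr a ψ) : φ = ψ := by
  refine hom_ext_ap fun W a m => ?_
  refine separated_forg H (X := op W) (S.pullback a) (J.pullback_stable a hS) _ _ fun Z b hb => ?_
  rw [← ap_rs, ← ap_rs]
  have e := congrArg (fun χ => ap χ (𝟙 Z) (rs ((forg O).obj G) b.op m)) (h (b ≫ a) hb)
  simpa only [ap_tr, Category.id_comp] using e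

theorem isSheaf_homP : Presheaf.IsSheaf J (homP G H) := by
  rw [isSheaf_iff_isSheaf_of_type]
  intro V S hS x hx
  suffices hex : ∃ t : (homP G H).obj (op V), x.IsAmalgamation t by
    obtain ⟨t, ht⟩ := hex
    refine ⟨t, ht, fun t' ht' => isSeparated_homP hS t' t fun W a ha => ?_⟩
    exact (ht' a ha).trans (ht a ha).symm
  have hx' : ∀ {W W' : C} (g : W ⟶ V) (hg : S g) (b : W' ⟶ W),
      SitePerfLift.tr b (x g hg) = x (b ≫ g) (S.downward_closed hg b) := fun g hg b =>
    ((Presieve.compatible_iff_sieveCompatible x).1 hx g b hg).symm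
  have hsh : Presieve.IsSheaf J (PullTensor.uSet O ((forg O).obj H)) :=
    (isSheaf_iff_isSheaf_of_type _ _).1 (PullTensor.setSh H).2
  let fam : ∀ {W : C} (a : W ⟶ V) (m : ((forg O).obj G).obj (op W)),
      Presieve.FamilyOfElements (PullTensor.uSet O ((forg O).obj H)) (S.pullback a).arrows :=
    fun {W} a m Z b hb => ap (x (b ≫ a) hb) (𝟙 Z) (rs ((forg O).obj G) b.op m)
  have hfam : ∀ {W : C} (a : W ⟶ V) (m : ((forg O).obj G).obj (op W)), (fam a m).Compatible := by
    intro W a m
    refine (Presieve.compatible_iff_sieveCompatible _).2 fun Z Z' b c hb => ?_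
    show ap (x ((c ≫ b) ≫ a) _) (𝟙 Z') (rs _ (c ≫ b).op m) =
      rs ((forg O).obj H) c.op (ap (x (b ≫ a) hb) (𝟙 Z) (rs _ b.op m))
    rw [← ap_rs, rs_rs, ← op_comp]
    have e : ∀ {g g' : Z' ⟶ V} (hg : S g) (hg' : S g') (_ : g = g') n,
        ap (x g hg) (𝟙 Z') n = ap (x g' hg') (𝟙 Z') n := by
      rintro g g' _ _ rfl n; rfl
    rw [e _ (S.downward_closed hb c) (Category.assoc c b a), ← hx' (b ≫ a) hb c, ap_tr]
    simp
  let val : ∀ {W : C} (a : W ⟶ V) (m : ((forg O).obj G).obj (op W)), ((forg O).obj H).obj (op W) :=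
    fun {W} a m => (hsh _ (J.pullback_stable a hS)).amalgamate (fam a m) (hfam a m)
  have hval : ∀ {W Z : C} (a : W ⟶ V) (m : ((forg O).obj G).obj (op W)) (b : Z ⟶ W) (hb : S (b ≫ a)),
      rs ((forg O).obj H) b.op (val a m) =
        ap (x (b ≫ a) hb) (𝟙 Z) (rs ((forg O).obj G) b.op m) := fun a m b hb =>
    Presieve.IsSheafFor.valid_glue _ (hfam a m) b hb
  have sep : ∀ {W : C} (a : W ⟶ V) (y y' : ((forg O).obj H).obj (op W)),
      (∀ (Z : C) (b : Z ⟶ W), S (b ≫ a) → rs _ b.op y = rs _ b.op y') → y = y' := fun {W} a y y' h =>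
    separated_forg H (X := op W) (S.pullback a) (J.pullback_stable a hS) y y' h
  have hadd : ∀ {W : C} (a : W ⟶ V) (m m' : ((forg O).obj G).obj (op W)),
      val a (m + m') = val a m + val a m' := fun a m m' => sep a _ _ fun T b hb => by
    rw [rs_add, hval _ _ b hb, hval _ _ b hb, hval _ _ b hb, rs_add, ap_add]
  have hsmul : ∀ {W : C} (a : W ⟶ V) (r : O.obj.obj (op W)) (m : ((forg O).obj G).obj (op W)),
      val a (r • m : ((forg O).obj G).obj (op W)) = r • val a m := fun a r m =>
    sep a _ _ fun T b hb => by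
      rw [hval _ _ b hb, rs_smul', rs_smul', hval _ _ b hb]
      exact ap_smul _ _ _ _
  have hnat : ∀ {W W' : C} (a : W ⟶ V) (c : W' ⟶ W) (m : ((forg O).obj G).obj (op W)),
      val (c ≫ a) (rs ((forg O).obj G) c.op m) = rs ((forg O).obj H) c.op (val a m) :=
    fun a c m => sep (c ≫ a) _ _ fun T b hb => by
      have e : ∀ {g g' : T ⟶ V} (hg : S g) (hg' : S g') (_ : g = g') n,
          ap (x g hg) (𝟙 T) n = ap (x g' hg') (𝟙 T) n := by
        rintro g g' _ _ rfl n; rfl
      rw [rs_rs, ← op_comp, hval _ _ b hb, hval _ _ (b ≫ c) (by rwa [Category.assoc]), rs_rs,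
        ← op_comp]
      exact e _ _ (Category.assoc _ _ _).symm _
  refine ⟨⟨{
      app := fun Z => ModuleCat.ofHom (X := ((ModSite.restr O V).obj G).val.obj Z)
        (Y := ((ModSite.restr O V).obj H).val.obj Z)
        { toFun := fun m => val Z.unop.hom m
          map_add' := fun m m' => hadd Z.unop.hom m m'
          map_smul' := fun r m => hsmul Z.unop.hom r m },
      naturality := fun {Z Z'} c => by
        refine ModuleCat.hom_ext (LinearMap.ext fun m => ?_)
        refine Eq.trans ?_ (hnat Z.unop.hom c.unop.left m)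
        exact congrArg (fun t => val t (rs ((forg O).obj G) c.unop.left.op m))
          (Over.w c.unop).symm }⟩, fun W g hg => ?_⟩
  refine hom_ext_ap fun T a m => sep (a ≫ g) _ _ fun T' b hb => ?_
  show rs _ b.op (val (a ≫ g) m) = rs _ b.op (ap (x g hg) a m)
  rw [hval _ _ b hb, ← ap_rs]
  have e : ∀ {g₁ g₂ : T' ⟶ V} (h₁ : S g₁) (h₂ : S g₂) (_ : g₁ = g₂) n,
      ap (x g₁ h₁) (𝟙 T') n = ap (x g₂ h₂) (𝟙 T') n := by
    rintro g₁ g₂ _ _ rfl n; rfl
  rw [e hb (S.downward_closed hg (b ≫ a)) (Category.assoc b a g).symm, ← hx' g hg (b ≫ a), ap_tr,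
    Category.id_comp]

variable (G H) in
/-- The sheaf of local morphisms. -/
noncomputable def homSh : Sheaf J (Type u) := ⟨homP G H, isSheaf_homP⟩

/-- Local morphisms compose with maps of the target. -/
noncomputable def homShMap (h : H ⟶ H') : homSh G H ⟶ homSh G H' :=
  ⟨{ app := fun V => ↾fun φ => (φ : (ModSite.restr O V.unop).obj G ⟶ _) ≫
      (ModSite.restr O V.unop).map h
     naturality := fun V W g => by
       refine ConcreteCategory.hom_ext _ _ fun φ => ?_
       exact (SitePerfLift.tr_comp g.unop φ ((ModSite.restr O V.unop).map h)).symm }⟩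

/-- Compatible families of local morphisms give global ones. -/
theorem exists_global (t : ∀ V : C, (ModSite.restr O V).obj G ⟶ (ModSite.restr O V).obj H)
    (ht : ∀ {V W : C} (a : W ⟶ V), SitePerfLift.tr a (t V) = t W) :
    ∃ φ : G ⟶ H, ∀ V, (ModSite.restr O V).map φ = t V := by
  have key : ∀ {V W : C} (a : W ⟶ V) (m : ((forg O).obj G).obj (op W)),
      ap (t V) a m = ap (t W) (𝟙 W) m := fun a m => by
    rw [← ht a, ap_tr, Category.id_comp]
  refine ⟨⟨{
      app := fun V => ModuleCat.ofHom (X := G.val.obj V) (Y := H.val.obj V)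
        { toFun := fun m => ap (t V.unop) (𝟙 V.unop) m
          map_add' := fun m m' => ap_add _ _ m m'
          map_smul' := fun r m => ap_smul _ _ r m },
      naturality := fun {V W} g => by
        refine ModuleCat.hom_ext (LinearMap.ext fun m => ?_)
        show ap (t W.unop) (𝟙 W.unop) (rs ((forg O).obj G) g.unop.op m) =
          rs ((forg O).obj H) g.unop.op (ap (t V.unop) (𝟙 V.unop) m)
        rw [← ap_rs, Category.comp_id, key g.unop] }⟩, fun V => ?_⟩
  exact hom_ext_ap fun W a m => (key a m).symm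

theorem hom_ext_restr {φ ψ : G ⟶ H}
    (h : ∀ V : C, (ModSite.restr O V).map φ = (ModSite.restr O V).map ψ) : φ = ψ := by
  ext V m
  obtain ⟨V⟩ := V
  exact congrArg (fun χ => ap χ (𝟙 V) m) (h V)

/-- Morphisms agreeing on a covering of the final object agree. -/
theorem hom_ext_coversTop {ι : Type*} {X : ι → C} (hX : J.CoversTop X) {φ ψ : G ⟶ H}
    (h : ∀ k, (ModSite.restr O (X k)).map φ = (ModSite.restr O (X k)).map ψ) : φ = ψ := by
  refine hom_ext_restr fun V => isSeparated_homP (hX V) _ _ fun W a ha => ?_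
  obtain ⟨k, ⟨b⟩⟩ := (Sieve.mem_ofObjects_iff ..).1 ha
  rw [SitePerfLift.tr_map, SitePerfLift.tr_map, ← SitePerfLift.tr_map b φ, ← SitePerfLift.tr_map b ψ,
    h k]

/-- Compatible local morphisms on a covering of the final object glue. -/
theorem exists_hom_coversTop {ι : Type*} {X : ι → C} (hX : J.CoversTop X)
    (t : ∀ k, (ModSite.restr O (X k)).obj G ⟶ (ModSite.restr O (X k)).obj H)
    (ht : ∀ (W : C) (k l : ι) (p : W ⟶ X k) (q : W ⟶ X l),
      SitePerfLift.tr p (t k) = SitePerfLift.tr q (t l)) :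
    ∃ φ : G ⟶ H, ∀ k, (ModSite.restr O (X k)).map φ = t k := by
  let x : Presheaf.FamilyOfElementsOnObjects (homP G H) X := t
  have hx : x.IsCompatible := ht
  let s := hx.section_ hX isSheaf_homP
  obtain ⟨φ, hφ⟩ := exists_global (fun V => s.1 (op V)) fun a => s.2 a.op
  exact ⟨φ, fun k => (hφ _).trans (hx.section_apply hX isSheaf_homP k)⟩

end Groth.Agent.H15Site.HomGlue
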