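import Groth.Agent.H15Site.HyperSite

/-!
# Hypercoverings of an object, on the localized site
-/

set_option autoImplicit false
set_option linter.style.haveILetI false
set_option linter.unusedSectionVars false
set_option backward.isDefEq.respectTransparency false

universe u

open CategoryTheory CategoryTheory.Limits Opposite SimplexCategory
open scoped Simplicial

namespace Groth.Agent.H15Site.HyperOver

open HyperFill HyperSite

variable {D : Type u} [SmallCategory D] {J : GrothendieckTopology D}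

/-- Coverings of semi-representable objects are locally surjective. -/
theorem isLocallySurjective_homP_of_isSRCovering {L M : FormalCoproduct.{u} D} (φ : L ⟶ M)
    (h : Hyper.IsSRCovering J φ) : Presheaf.IsLocallySurjective J ((homP D).map φ) := ⟨fun {U} e => by
  have hc := J.pullback_stable (e.φ PUnit.unit) (h (e.f PUnit.unit))
  refine J.superset_covering ?_ hc
  intro V v hv
  obtain ⟨W, b, c, hc', hfac⟩ := hv
  obtain ⟨i⟩ := hc'
  refine ⟨FormalCoproduct.Hom.fromIncl i.1 b, ?_⟩
  refine homP_hom_ext _ _ ?_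
  change (⟨φ.f i.1, b ≫ φ.φ i.1⟩ : Σ j, V ⟶ M.obj j) = ⟨e.f PUnit.unit, v ≫ e.φ PUnit.unit⟩
  obtain ⟨i, hi⟩ := i
  have : b ≫ φ.φ i ≫ eqToHom (congrArg M.obj hi) = v ≫ e.φ PUnit.unit := hfac
  rw [← this]
  refine Sigma.ext hi ?_
  rw [← Category.assoc]
  exact (comp_eqToHom_heq _ _).symm⟩

theorem isLocallySurjective_yoneda_of_isSRCovering {L M : FormalCoproduct.{u} D} (φ : L ⟶ M)
    (h : Hyper.IsSRCovering J φ) :
    Presheaf.IsLocallySurjective J ((FormalCoproduct.yoneda (C := D)).map φ) := by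
  haveI := isLocallySurjective_homP_of_isSRCovering φ h
  have e : (FormalCoproduct.yoneda (C := D)).map φ = yonedaIso.hom.app L ≫
      (homP D).map φ ≫ yonedaIso.inv.app M := by
    rw [← Category.assoc, ← yonedaIso.hom.naturality, Category.assoc, Iso.hom_inv_id_app,
      Category.comp_id]
  rw [e]
  infer_instance

variable (K : SimplicialObject (FormalCoproduct.{u} D))
  [∀ (n : ℕ) (F : (SimplexCategory.Truncated n)ᵒᵖ ⥤ FormalCoproduct.{u} D),
      (SimplexCategory.Truncated.inclusion n).op.HasRightKanExtension F]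

/-- The segment constant at `U`. -/
def segObj (U : D) : SimplicialObject (FormalCoproduct.{u} D) where
  obj Δ := ⟨ULift.{u} (Δ.unop ⟶ ⦋1⦌), fun _ => U⟩
  map g := ⟨fun f => ⟨g.unop ≫ f.down⟩, fun _ => 𝟙 U⟩
  map_id Δ := by
    refine FormalCoproduct.hom_ext (funext fun f => by simp) fun f => ?_
    simp
  map_comp g g' := by
    refine FormalCoproduct.hom_ext (funext fun f => by simp) fun f => ?_
    simp

/-- The element of the segment at a simplex. -/
def segInj {U : D} {Δ : SimplexCategoryᵒᵖ} (f : Δ.unop ⟶ ⦋1⦌) :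
    (FormalCoproduct.incl D).obj U ⟶ (segObj U).obj Δ :=
  FormalCoproduct.Hom.fromIncl (Y := (segObj U).obj Δ) ⟨f⟩ (𝟙 U)

theorem zero_of_cosk
    (h : Presheaf.IsLocallySurjective J
      ((homP D).map (((SimplicialObject.coskAdj 0).unit.app K).app (op ⦋1⦌))))
    (U : D) (x₀ x₁ : sx (XK K) 0 U) :
    ∃ R ∈ J U, ∀ ⦃V : D⦄ (v : V ⟶ U), R v →
      ∃ y : sx (XK K) 1 V, dd 0 y = rs v x₀ ∧ dd 1 y = rs v x₁ := by
  let η := (SimplicialObject.coskAdj 0).unit.app K
  let T := (SimplicialObject.truncation 0).obj K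
  let ε := (SimplicialObject.coskAdj 0).counit.app T
  -- the two end points
  let xs : Fin 2 → sx (XK K) 0 U := fun i => if i = 0 then x₁ else x₀
  have hzero : ∀ Δ : SimplexCategory.Truncated 0, Δ.obj = ⦋0⦌ := fun Δ =>
    SimplexCategory.ext (Nat.le_zero.1 Δ.2)
  let val : ∀ Δ : SimplexCategory.Truncated 0, (Δ.obj ⟶ ⦋1⦌) →
      ((FormalCoproduct.incl D).obj U ⟶ K.obj (op Δ.obj)) := fun Δ f =>
    (show (FormalCoproduct.incl D).obj U ⟶ K.obj (op ⦋0⦌) from xs ((eqToHom (hzero Δ).symm ≫ f).toOrderHom 0)) ≫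
      K.map (eqToHom (hzero Δ)).op
  let τ : (SimplicialObject.truncation 0).obj (segObj U) ⟶ T :=
    { app := fun Δ => ⟨fun f => (val Δ.unop f.down).f PUnit.unit,
        fun f => (val Δ.unop f.down).φ PUnit.unit⟩
      naturality := fun Δ Δ' g => by
        obtain rfl : Δ = Δ' := by
          induction Δ using Opposite.rec with | op a
          induction Δ' using Opposite.rec with | op b
          exact congrArg op (ObjectProperty.FullSubcategory.ext ((hzero a).trans (hzero b).symm))
        have hg : g = 𝟙 Δ := by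
          apply Quiver.Hom.unop_inj
          apply ObjectProperty.hom_ext
          have : Subsingleton (Δ.unop.obj ⟶ Δ.unop.obj) := by
            rw [hzero Δ.unop]
            exact ⟨fun a b => SimplexCategory.Hom.ext _ _ (OrderHom.ext _ _ (funext fun i =>
              Subsingleton.elim (α := Fin 1) _ _))⟩
          exact Subsingleton.elim _ _
        subst hg
        rw [CategoryTheory.Functor.map_id, CategoryTheory.Functor.map_id, Category.id_comp,
          Category.comp_id] }
  let σ : segObj U ⟶ (SimplicialObject.Truncated.cosk 0).obj T :=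
    ((SimplicialObject.coskAdj 0).homEquiv _ _) τ
  have hσ : ∀ Δ, σ.app ((SimplexCategory.Truncated.inclusion 0).op.obj Δ) ≫ ε.app Δ = τ.app Δ :=
    fun Δ => congr_app (((SimplicialObject.coskAdj 0).homEquiv_counit _ _ σ).symm.trans
      (Equiv.symm_apply_apply _ τ)) Δ
  have hη : ∀ Δ, η.app ((SimplexCategory.Truncated.inclusion 0).op.obj Δ) ≫ ε.app Δ = 𝟙 _ :=
    fun Δ => congr_app ((SimplicialObject.coskAdj 0).left_triangle_components K) Δ
  haveI := h
  let e : (FormalCoproduct.incl D).obj U ⟶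
      ((SimplicialObject.Truncated.cosk 0).obj T).obj (op ⦋1⦌) :=
    segInj (𝟙 _) ≫ σ.app (op ⦋1⦌)
  refine ⟨_, Presheaf.imageSieve_mem J ((homP D).map (η.app (op ⦋1⦌))) (U := op U) e,
    fun V v hv => ?_⟩
  obtain ⟨y, hy⟩ := hv
  change y ≫ η.app (op ⦋1⦌) = (FormalCoproduct.incl D).map v ≫ e at hy
  let Δ : (SimplexCategory.Truncated 0)ᵒᵖ := op ⟨⦋0⦌, le_refl 0⟩
  have key : ∀ (i : Fin 2) (z : sx (XK K) 0 U), xs ((δ i).toOrderHom 0) = z →
      y ≫ K.map (δ i).op = (FormalCoproduct.incl D).map v ≫ z := by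
    intro i z hz
    have h1 : y ≫ K.map (δ i).op = (y ≫ η.app (op ⦋1⦌)) ≫
        ((SimplicialObject.Truncated.cosk 0).obj T).map (δ i).op ≫ ε.app Δ := by
      rw [Category.assoc, ← Category.assoc (η.app (op ⦋1⦌))]
      refine Eq.trans ?_ (congrArg (fun t => y ≫ t ≫ ε.app Δ) (η.naturality (δ i).op))
      rw [Category.assoc]
      exact (congrArg (fun t => y ≫ K.map (δ i).op ≫ t) (hη Δ)).trans
        (congrArg (y ≫ ·) (Category.comp_id _)) |>.symm
    rw [h1, hy, Category.assoc]
    refine congrArg ((FormalCoproduct.incl D).map v ≫ ·) ?_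
    refine (Category.assoc _ _ _).trans ?_
    refine (congrArg (segInj (𝟙 _) ≫ ·) ((Category.assoc _ _ _).symm.trans
      (congrArg (fun t => t ≫ ε.app Δ) (σ.naturality (δ i).op).symm))).trans ?_
    refine (congrArg (segInj (𝟙 _) ≫ ·) ((Category.assoc _ _ _).trans
      (congrArg (_ ≫ ·) (hσ Δ)))).trans ?_
    refine (Category.assoc _ _ _).symm.trans ?_
    have h2 : segInj (U := U) (Δ := op ⦋1⦌) (𝟙 _) ≫ (segObj U).map (δ i).op =
        segInj (Δ := op ⦋0⦌) (δ i) := by
      refine homP_hom_ext _ _ ?_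
      exact Sigma.ext (ULift.ext _ _ (Category.comp_id _)) (heq_of_eq (Category.id_comp _))
    refine (congrArg (fun t => t ≫ τ.app Δ) h2).trans ?_
    refine (homP_hom_ext (segInj (δ i) ≫ τ.app Δ) (val Δ.unop (δ i))
      (Sigma.ext rfl (heq_of_eq (Category.id_comp _)))).trans ?_
    show xs ((eqToHom _ ≫ δ i).toOrderHom 0) ≫ K.map (eqToHom _).op = z
    simp only [eqToHom_refl, Category.id_comp, op_id, CategoryTheory.Functor.map_id,
      Category.comp_id]
    exact hz
  exact ⟨y, key 0 x₀ rfl, key 1 x₁ rfl⟩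

section Over

variable {C : Type u} [SmallCategory C] (J : GrothendieckTopology C) (X : C)
  (L : SimplicialObject (FormalCoproduct.{u} (Over X)))
  [∀ (n : ℕ) (F : (SimplexCategory.Truncated n)ᵒᵖ ⥤ FormalCoproduct.{u} (Over X)),
      (SimplexCategory.Truncated.inclusion n).op.HasRightKanExtension F]

/-- A hypercovering of `X` is locally fillable over `C/X`. -/
theorem locFill (hL : Hyper.IsHypercovering J X L) : LocFill (J.over X) (XK L) where
  nonempty U := by
    refine ⟨Sieve.overEquiv U |>.symm (Sieve.pullback U.hom (Sieve.ofArrows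
      (fun i => ((L.obj (op ⦋0⦌)).obj i).left) (fun i => ((L.obj (op ⦋0⦌)).obj i).hom))),
      J.overEquiv_symm_mem_over _ _ (J.pullback_stable _ hL.1), fun V v hv => ?_⟩
    rw [Sieve.overEquiv_symm_iff] at hv
    obtain ⟨W, b, c, hc, hfac⟩ := hv
    obtain ⟨i⟩ := hc
    exact ⟨FormalCoproduct.Hom.fromIncl i (Over.homMk b (hfac.trans (Over.w v)))⟩
  zero U x₀ x₁ :=
    zero_of_cosk L (isLocallySurjective_homP_of_isSRCovering _ (hL.2 0)) U x₀ x₁
  succ p U x hx :=
    HyperSite.succ_of_cosk L p (isLocallySurjective_yoneda_of_isSRCovering _ (hL.2 (p + 1))) U x hx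

/-- A hypercovering of `X` is a hypercovering of the final object of the localized topos. -/
theorem isHypercoveringSite (hL : Hyper.IsHypercovering J X L) :
    Hyper.IsHypercoveringSite (J.over X) L := by
  have hF := locFill J X L hL
  refine ⟨⟨fun {U} s => ?_⟩, ⟨fun {U} s => ?_⟩, fun n hn =>
    isLocallySurjective_yoneda_of_isSRCovering _ (hL.2 n)⟩
  · obtain ⟨R, hR, hR'⟩ := hF.nonempty U
    refine (J.over X).superset_covering (fun V v hv => ?_) hR
    obtain ⟨b⟩ := hR' v hv
    exact ⟨(yonedaIso.inv.app _).app (op V) b, by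
      haveI : Subsingleton ((⊤_ (Over X)ᵒᵖ ⥤ Type u).obj (op V)) :=
        ⟨fun a b => yonedaEquiv.symm.injective (terminal.hom_ext _ _)⟩
      exact Subsingleton.elim _ _⟩
  · obtain ⟨R, hR, hR'⟩ := hF.zero U
      ((yonedaIso.hom.app _).app (op U) (prod.snd (X := (FormalCoproduct.yoneda (C := Over X)).obj (L.obj (op ⦋0⦌))).app (op U) s))
      ((yonedaIso.hom.app _).app (op U) (prod.fst (Y := (FormalCoproduct.yoneda (C := Over X)).obj (L.obj (op ⦋0⦌))).app (op U) s))
    refine (J.over X).superset_covering (fun V v hv => ?_) hR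
    obtain ⟨y, h0, h1⟩ := hR' v hv
    refine ⟨(yonedaIso.inv.app _).app (op V) y, ?_⟩
    let Y := (FormalCoproduct.yoneda (C := Over X)).obj (L.obj (op ⦋0⦌))
    have key : ∀ (π : Y ⨯ Y ⟶ Y) (i : Fin 2),
        prod.lift ((FormalCoproduct.yoneda (C := Over X)).map (L.δ (1 : Fin 2)))
          ((FormalCoproduct.yoneda (C := Over X)).map (L.δ (0 : Fin 2))) ≫ π =
            (FormalCoproduct.yoneda (C := Over X)).map (L.δ i) →
        dd i y = rs v ((yonedaIso.hom.app _).app (op U) (π.app (op U) s)) →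
        π.app (op V) ((prod.lift ((FormalCoproduct.yoneda (C := Over X)).map (L.δ (1 : Fin 2)))
          ((FormalCoproduct.yoneda (C := Over X)).map (L.δ (0 : Fin 2)))).app (op V)
            ((yonedaIso.inv.app _).app (op V) y)) = π.app (op V) ((Y ⨯ Y).map v.op s) := by
      intro π i hi hy
      refine (ConcreteCategory.congr_hom (congr_app hi (op V)) _).trans ?_
      refine Eq.trans ?_ (ConcreteCategory.congr_hom (π.naturality v.op) s).symm
      have hb : Function.Injective ((yonedaIso.hom.app (L.obj (op ⦋0⦌))).app (op V)) :=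
        ((isIso_iff_bijective _).1 inferInstance).1
      apply hb
      refine (ConcreteCategory.congr_hom (congr_app (yonedaIso.hom.naturality (L.δ i)) (op V)) _).trans ?_
      refine Eq.trans ?_ (ConcreteCategory.congr_hom
        ((yonedaIso.hom.app (L.obj (op ⦋0⦌))).naturality v.op) (π.app (op U) s)).symm
      refine Eq.trans ?_ hy
      exact congrArg (fun z : sx (XK L) 1 V => dd i z) (show
        (yonedaIso.hom.app (L.obj (op ⦋1⦌))).app (op V)
          ((yonedaIso.inv.app (L.obj (op ⦋1⦌))).app (op V) y) = y from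
        ConcreteCategory.congr_hom (congr_app (yonedaIso.inv_hom_id_app (L.obj (op ⦋1⦌))) (op V)) y)
    apply yonedaEquiv.symm.injective
    refine prod.hom_ext ?_ ?_
    · apply yonedaEquiv.injective
      rw [yonedaEquiv_comp, yonedaEquiv_comp, Equiv.apply_symm_apply, Equiv.apply_symm_apply]
      exact key prod.fst 1 (prod.lift_fst _ _) h1
    · apply yonedaEquiv.injective
      rw [yonedaEquiv_comp, yonedaEquiv_comp, Equiv.apply_symm_apply, Equiv.apply_symm_apply]
      exact key prod.snd 0 (prod.lift_snd _ _) h0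

end Over

end Groth.Agent.H15Site.HyperOver
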