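import Groth.Agent.H15Site.HyperCech
import Groth.Agent.H15Site.HyperOver
import Groth.Agent.H15Site.OverInj
import Groth.Agent.H15Site.SieveAcyclic
import Groth.Agent.H15Site.HigherDirectSite

/-!
# Čech cohomology of hypercoverings with values in acyclic sheaves
-/

set_option autoImplicit false
set_option linter.style.haveILetI false
set_option linter.unusedSectionVars false
set_option backward.isDefEq.respectTransparency false

universe u

open CategoryTheory CategoryTheory.Limits Opposite CategoryTheory.Abelian
open scoped Simplicial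

namespace Groth.Agent.H15Site.HyperAcyclic

open HyperSite HyperCech

attribute [local instance 10000] SiteInst.hasSheafifySite SiteInst.hasWeakSheafifySite
  SiteInst.hasExtSite SiteInst.enoughInjSite

variable {C : Type u} [SmallCategory C] {J : GrothendieckTopology C}

/-- Lifting maps out of free sheaves along sectionwise surjections. -/
theorem exists_lift {I G : Sheaf J AddCommGrpCat.{u}} (g : I ⟶ G)
    (hg : ∀ U, Function.Surjective (g.hom.app U)) (L : FormalCoproduct.{u} C)
    (t : (frF J).obj L ⟶ G) : ∃ s : (frF J).obj L ⟶ I, s ≫ g = t := by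
  choose x hx using fun i => hg (op (L.obj i)) ((toPre G t).app (op (L.obj i)) (gen L i))
  obtain ⟨s, hs⟩ := (evGen_bijective I L).2
    (Pi.lift (fun i => AddCommGrpCat.ofHom
      (FreeAbelianGroup.lift fun _ : PUnit.{u + 1} => x i)) (FreeAbelianGroup.of PUnit.unit))
  refine ⟨s, (evGen_bijective G L).1 ?_⟩
  refine Concrete.limit_ext (C := AddCommGrpCat.{u})
    (Discrete.functor fun i => G.obj.obj (op (L.obj i))) _ _ fun ⟨i⟩ => ?_
  refine (evGen_π G L i _).trans (Eq.trans ?_ (evGen_π G L i t).symm)
  have h1 : (toPre I s).app (op (L.obj i)) (gen L i) = x i := by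
    rw [← evGen_π I L i s, hs]
    exact (ConcreteCategory.congr_hom (Pi.lift_π (C := AddCommGrpCat.{u})
      (f := fun i => I.obj.obj (op (L.obj i))) (fun i => AddCommGrpCat.ofHom
      (FreeAbelianGroup.lift fun _ : PUnit.{u + 1} => x i)) i) _).trans
      (FreeAbelianGroup.lift_apply_of _ _)
  have h2 : toPre G (s ≫ g) = toPre I s ≫ g.hom :=
    (sheafificationAdjunction J AddCommGrpCat.{u}).homEquiv_naturality_right s g
  refine (ConcreteCategory.congr_hom (congr_app h2 (op (L.obj i))) (gen L i)).trans ?_
  exact (congrArg (g.hom.app (op (L.obj i))) h1).trans (hx i)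

theorem subsingleton_ext_injective (I : Sheaf J AddCommGrpCat.{u}) [Injective I]
    (M : Sheaf J AddCommGrpCat.{u}) (q : ℕ) : Subsingleton (Ext M I (q + 1)) :=
  subsingleton_of_forall_eq 0 fun x => Ext.eq_zero_of_injective x

variable {D : Type u} [SmallCategory D] {K : GrothendieckTopology D} (r : D ⥤ C)
  [r.IsContinuous K J]

theorem shortExact_push (F : Sheaf J AddCommGrpCat.{u})
    (h : ∀ U : C, Subsingleton (CohSite.HU F 1 U)) :
    ((Edge.injSeq F).map (CohSite.push J K r)).ShortExact := by
  have hsurj := SieveAcyclic.surjective_of_HU_one F h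
  haveI := HigherDirectSite.push_preservesFiniteLimits (J := J) (K := K) r
  have hS := Edge.injSeq_shortExact F
  exact
    { exact := hS.exact.map_of_mono_of_preservesKernel (CohSite.push J K r) hS.mono_f inferInstance
      mono_f := by
        haveI := hS.mono_f
        exact inferInstanceAs (Mono ((CohSite.push J K r).map (Edge.injSeq F).f))
      epi_g := by
        haveI : ∀ X, Epi (((Edge.injSeq F).map (CohSite.push J K r)).g.hom.app X) := fun X =>
          (AddCommGrpCat.epi_iff_surjective _).2 (hsurj (op (r.obj X.unop)))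
        haveI : Epi ((Edge.injSeq F).map (CohSite.push J K r)).g.hom := NatTrans.epi_of_epi_app _
        exact (sheafToPresheaf K AddCommGrpCat.{u}).epi_of_epi_map
          (inferInstanceAs (Epi ((Edge.injSeq F).map (CohSite.push J K r)).g.hom)) }

/-- Free sheaves on semi-representables have no higher extensions into acyclic sheaves. -/
theorem subsingleton_ext_push
    (hr : ∀ I : Sheaf J AddCommGrpCat.{u}, Injective I → Injective ((CohSite.push J K r).obj I))
    (q : ℕ) (F : Sheaf J AddCommGrpCat.{u})
    (hF : ∀ (U : C) (q : ℕ), Subsingleton (CohSite.HU F (q + 1) U)) (L : FormalCoproduct.{u} D) :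
    Subsingleton (Ext ((frF K).obj L) ((CohSite.push J K r).obj F) (q + 1)) := by
  induction q generalizing F with
  | zero =>
    have hsurj := SieveAcyclic.surjective_of_HU_one F fun U => hF U 0
    have hS' := shortExact_push (K := K) r F fun U => hF U 0
    haveI : Injective ((Edge.injSeq F).map (CohSite.push J K r)).X₂ :=
      hr (Edge.injSeq F).X₂ inferInstance
    refine subsingleton_of_forall_eq 0 fun x => ?_
    obtain ⟨x₃, rfl⟩ := Ext.covariant_sequence_exact₁ _ hS' x (Ext.eq_zero_of_injective _) rfl
    obtain ⟨t, rfl⟩ := (Ext.mk₀_bijective _ _).2 x₃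
    obtain ⟨s, rfl⟩ := exists_lift ((Edge.injSeq F).map (CohSite.push J K r)).g
      (fun X => hsurj (op (r.obj X.unop))) L t
    rw [← Ext.mk₀_comp_mk₀, Ext.comp_assoc _ _ _ (zero_add 0) (zero_add 1) rfl]
    exact (congrArg (fun e => (Ext.mk₀ s).comp e (zero_add 1)) hS'.comp_extClass).trans
      ((Ext.mk₀ s).comp_zero _ 1 1 (zero_add 1))
  | succ q ih =>
    have hS' := shortExact_push (K := K) r F fun U => hF U 0
    haveI : Injective ((Edge.injSeq F).map (CohSite.push J K r)).X₂ :=
      hr (Edge.injSeq F).X₂ inferInstance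
    refine subsingleton_of_forall_eq 0 fun x => ?_
    obtain ⟨x₃, rfl⟩ := Ext.covariant_sequence_exact₁ _ hS' x (Ext.eq_zero_of_injective _) rfl
    exact (congrArg (fun e => Ext.comp e hS'.extClass rfl)
      ((ih (Edge.injSeq F).X₃ (SieveAcyclic.HU_X₃ F hF)).elim x₃ 0)).trans (Ext.zero_comp ..)

/-- The constant sheaf is free on the terminal object. -/
noncomputable def cstIso {T : D} (hT : IsTerminal T) :
    (frF K).obj ((FormalCoproduct.incl D).obj T) ≅ Z K :=
  (presheafToSheaf K AddCommGrpCat.{u}).mapIso (NatIso.ofComponents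
    (fun U =>
      haveI : Unique ((FormalCoproduct.incl D).obj U.unop ⟶ (FormalCoproduct.incl D).obj T) :=
        { default := (FormalCoproduct.incl D).map (hT.from U.unop)
          uniq := fun g => homP_hom_ext _ _ (Sigma.ext rfl (heq_of_eq (hT.hom_ext _ _))) }
      AddCommGrpCat.free.{u}.mapIso (Equiv.ofUnique
        ((FormalCoproduct.incl D).obj U.unop ⟶ (FormalCoproduct.incl D).obj T) PUnit.{u + 1}).toIso)
    fun {U V} k => by
      refine AddCommGrpCat.hom_ext (FreeAbelianGroup.lift_ext _ _ fun g => ?_)
      rfl)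

theorem subsingleton_ext_cst
    (hr : ∀ I : Sheaf J AddCommGrpCat.{u}, Injective I → Injective ((CohSite.push J K r).obj I))
    {T : D} (hT : IsTerminal T) (q : ℕ) (F : Sheaf J AddCommGrpCat.{u})
    (hF : ∀ (U : C) (q : ℕ), Subsingleton (CohSite.HU F (q + 1) U)) :
    Subsingleton (Ext (Z K) ((CohSite.push J K r).obj F) (q + 1)) := by
  refine subsingleton_of_forall_eq 0 fun x => ?_
  rw [← x.mk₀_id_comp, ← (cstIso (K := K) hT).inv_hom_id, ← Ext.mk₀_comp_mk₀,
    Ext.comp_assoc _ _ _ (zero_add 0) (zero_add (q + 1)) (by omega),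
    (subsingleton_ext_push r hr q F hF _).elim
      ((Ext.mk₀ (cstIso (K := K) hT).hom).comp x (zero_add _)) 0, Ext.comp_zero]

variable (J) in
/-- Acyclic sheaves have no higher Čech cohomology on hypercoverings of an object. -/
theorem isZero_cechH [HasPullbacks C] (X : C) (L : SimplicialObject (FormalCoproduct.{u} (Over X)))
    [∀ (n : ℕ) (F : (SimplexCategory.Truncated n)ᵒᵖ ⥤ FormalCoproduct.{u} (Over X)),
      (SimplexCategory.Truncated.inclusion n).op.HasRightKanExtension F]
    (hL : Hyper.IsHypercovering J X L) (F : Sheaf J AddCommGrpCat.{u})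
    (hF : ∀ (U : C) (q : ℕ), Subsingleton (CohSite.HU F (q + 1) U)) (p : ℕ) :
    IsZero (Hyper.cechH X L F.obj (p + 1)) :=
  HyperCech.isZero_cech ((CohSite.push J (J.over X) (Over.forget X)).obj F) L
    (HyperOver.locFill J X L hL)
    (fun q => subsingleton_ext_cst (Over.forget X) (fun I _ => OverInj.injective_over X I)
      Over.mkIdTerminal q F hF)
    (fun M q => subsingleton_ext_push (Over.forget X) (fun I _ => OverInj.injective_over X I) q F hF M)
    p

variable (J) in
theorem nonempty_cechH_zero [HasPullbacks C] (X : C)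
    (L : SimplicialObject (FormalCoproduct.{u} (Over X)))
    [∀ (n : ℕ) (F : (SimplexCategory.Truncated n)ᵒᵖ ⥤ FormalCoproduct.{u} (Over X)),
      (SimplexCategory.Truncated.inclusion n).op.HasRightKanExtension F]
    (hL : Hyper.IsHypercovering J X L) (F : Sheaf J AddCommGrpCat.{u}) :
    Nonempty (Hyper.cechH X L F.obj 0 ≅ F.obj.obj (op X)) := by
  let F' := (CohSite.push J (J.over X) (Over.forget X)).obj F
  obtain ⟨e⟩ := HyperCech.nonempty_cech_zero F' L (HyperOver.locFill J X L hL)
  obtain ⟨e'⟩ := HyperCech.nonempty_homZ_iso F'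
  exact ⟨e ≪≫ e' ≪≫ (limit.isLimit F'.obj).conePointUniqueUpToIso
    (limitOfDiagramInitial (initialOpOfTerminal (Over.mkIdTerminal (X := X))) F'.obj)⟩

end Groth.Agent.H15Site.HyperAcyclic
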