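import Groth.Agent.H15Site.HyperSite
import Groth.Agent.H15Site.ExactResolution
import Groth.Agent.H15Site.HUBasic

/-!
# Čech complexes of locally fillable simplicial semi-representable objects
-/

set_option autoImplicit false
set_option linter.style.haveILetI false
set_option linter.unusedSectionVars false
set_option backward.isDefEq.respectTransparency false

universe u

open CategoryTheory CategoryTheory.Limits Opposite CategoryTheory.Abelian AlgebraicTopology
open scoped Simplicial

namespace Groth.Agent.H15Site.HyperCech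

open HyperSite HyperFill HyperExact

attribute [local instance 10000] SiteInst.hasSheafifySite SiteInst.hasWeakSheafifySite
  SiteInst.hasExtSite SiteInst.enoughInjSite

variable {C : Type u} [SmallCategory C] {J : GrothendieckTopology C}

variable (J) in
/-- The free sheaf on a formal coproduct. -/
noncomputable abbrev frF : FormalCoproduct.{u} C ⥤ Sheaf J AddCommGrpCat.{u} :=
  homP C ⋙ CechFree.freeP C ⋙ presheafToSheaf J AddCommGrpCat.{u}

/-- The generators. -/
noncomputable def gen (L : FormalCoproduct.{u} C) (i : L.I) :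
    (((CechFree.freeP C).obj ((homP C).obj L)).obj (op (L.obj i))) :=
  FreeAbelianGroup.of
    (FormalCoproduct.Hom.fromIncl i (𝟙 (L.obj i)) : (FormalCoproduct.incl C).obj (L.obj i) ⟶ L)

variable (F : Sheaf J AddCommGrpCat.{u})

theorem homEquiv_add (P : Cᵒᵖ ⥤ AddCommGrpCat.{u})
    (φ ψ : (presheafToSheaf J AddCommGrpCat.{u}).obj P ⟶ F) :
    (sheafificationAdjunction J AddCommGrpCat.{u}).homEquiv _ _ (φ + ψ) =
      (sheafificationAdjunction J AddCommGrpCat.{u}).homEquiv _ _ φ +
        (sheafificationAdjunction J AddCommGrpCat.{u}).homEquiv _ _ ψ := by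
  rw [Adjunction.homEquiv_unit, Adjunction.homEquiv_unit, Adjunction.homEquiv_unit]
  exact Preadditive.comp_add _ _ _ _ φ.hom ψ.hom

theorem homEquiv_zero (P : Cᵒᵖ ⥤ AddCommGrpCat.{u}) :
    (sheafificationAdjunction J AddCommGrpCat.{u}).homEquiv P F 0 = 0 := by
  rw [Adjunction.homEquiv_unit]
  exact comp_zero

/-- Maps out of the free sheaf as sections of the presheaf level. -/
noncomputable abbrev toPre {L : FormalCoproduct.{u} C} (φ : (frF J).obj L ⟶ F) :
    (CechFree.freeP C).obj ((homP C).obj L) ⟶ F.obj :=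
  (sheafificationAdjunction J AddCommGrpCat.{u}).homEquiv _ _ φ

/-- Evaluation at the generators. -/
noncomputable def evGen (L : FormalCoproduct.{u} C) :
    ((frF J).op ⋙ preadditiveYoneda.obj F).obj (op L) ⟶
      ((FormalCoproduct.evalOp.{u} C AddCommGrpCat.{u}).obj F.obj).obj (op L) :=
  Pi.lift fun i => AddCommGrpCat.ofHom
    (AddMonoidHom.mk' (fun φ : (frF J).obj L ⟶ F => (toPre F φ).app (op (L.obj i)) (gen L i))
      (fun φ ψ => by
        show ((sheafificationAdjunction J AddCommGrpCat.{u}).homEquiv _ _ (φ + ψ)).app _ _ = _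
        rw [homEquiv_add]
        rfl))

lemma evGen_π (L : FormalCoproduct.{u} C) (i : L.I) (φ : (frF J).obj L ⟶ F) :
    Pi.π (fun i => F.obj.obj (op (L.obj i))) i (evGen F L φ) =
      (toPre F φ).app (op (L.obj i)) (gen L i) :=
  ConcreteCategory.congr_hom (Pi.lift_π (C := AddCommGrpCat.{u}) (f := fun i => F.obj.obj (op (L.obj i)))
    (fun i => AddCommGrpCat.ofHom
    (AddMonoidHom.mk' (fun φ : (frF J).obj L ⟶ F => (toPre F φ).app (op (L.obj i)) (gen L i)) _)) i) φ

lemma apply_of (L : FormalCoproduct.{u} C)
    (ψ : (CechFree.freeP C).obj ((homP C).obj L) ⟶ F.obj) (U : C)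
    (g : (FormalCoproduct.incl C).obj U ⟶ L) :
    ψ.app (op U) (FreeAbelianGroup.of g) =
      F.obj.map (g.φ PUnit.unit).op (ψ.app (op (L.obj (g.f PUnit.unit))) (gen L (g.f PUnit.unit))) := by
  refine Eq.trans ?_ (ConcreteCategory.congr_hom (ψ.naturality (g.φ PUnit.unit).op) _)
  refine congrArg (ψ.app (op U)) ?_
  refine (congrArg FreeAbelianGroup.of (homP_hom_ext g ((FormalCoproduct.incl C).map (g.φ PUnit.unit) ≫
    FormalCoproduct.Hom.fromIncl (g.f PUnit.unit) (𝟙 (L.obj (g.f PUnit.unit))))
    (Sigma.ext rfl (heq_of_eq (Category.comp_id _).symm)))).trans ?_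
  exact (FreeAbelianGroup.map_of_apply _).symm

theorem evGen_bijective (L : FormalCoproduct.{u} C) : Function.Bijective (evGen F L) := by
  constructor
  · refine (injective_iff_map_eq_zero (evGen F L).hom).2 fun φ hφ => ?_
    have h0 : ∀ i, (toPre F φ).app (op (L.obj i)) (gen L i) = 0 := fun i =>
      (evGen_π F L i φ).symm.trans ((congrArg (Pi.π (fun i => F.obj.obj (op (L.obj i))) i) hφ).trans
        (map_zero _))
    refine ((sheafificationAdjunction J AddCommGrpCat.{u}).homEquiv _ _).injective ?_
    refine Eq.trans ?_ (homEquiv_zero F _).symm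
    refine NatTrans.ext (funext fun U => AddCommGrpCat.hom_ext (FreeAbelianGroup.lift_ext _ _ fun g => ?_))
    show (toPre F φ).app U (FreeAbelianGroup.of g) = 0
    refine (apply_of F L (toPre F φ) U.unop g).trans ?_
    rw [h0, map_zero]
  · intro e
    let ψ : (CechFree.freeP C).obj ((homP C).obj L) ⟶ F.obj :=
      { app := fun U => AddCommGrpCat.ofHom (FreeAbelianGroup.lift
          fun g : (FormalCoproduct.incl C).obj U.unop ⟶ L =>
            F.obj.map (g.φ PUnit.unit).op
              (Pi.π (fun i => F.obj.obj (op (L.obj i))) (g.f PUnit.unit) e))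
        naturality := fun U V k => by
          refine AddCommGrpCat.hom_ext (FreeAbelianGroup.lift_ext _ _ fun g => ?_)
          show FreeAbelianGroup.lift _ (FreeAbelianGroup.map _ (FreeAbelianGroup.of g)) =
            F.obj.map k (FreeAbelianGroup.lift _ (FreeAbelianGroup.of g))
          rw [FreeAbelianGroup.map_of_apply, FreeAbelianGroup.lift_apply_of,
            FreeAbelianGroup.lift_apply_of]
          exact ConcreteCategory.congr_hom
            (F.obj.map_comp (g.φ PUnit.unit).op k) _ }
    refine ⟨((sheafificationAdjunction J AddCommGrpCat.{u}).homEquiv _ _).symm ψ, ?_⟩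
    refine Concrete.limit_ext (C := AddCommGrpCat.{u})
      (Discrete.functor fun i => F.obj.obj (op (L.obj i))) _ _ fun ⟨i⟩ => ?_
    refine (evGen_π F L i _).trans ?_
    rw [toPre, Equiv.apply_symm_apply]
    refine (FreeAbelianGroup.lift_apply_of _ _).trans ?_
    exact ConcreteCategory.congr_hom (F.obj.map_id _) _

/-- Maps out of free sheaves on formal coproducts are products of sections. -/
noncomputable def homIso :
    (frF J).op ⋙ preadditiveYoneda.obj F ≅
      (FormalCoproduct.evalOp.{u} C AddCommGrpCat.{u}).obj F.obj :=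
  NatIso.ofComponents
    (fun L =>
      haveI : IsIso (evGen F L.unop) :=
        (ConcreteCategory.isIso_iff_bijective _).2 (evGen_bijective F L.unop)
      asIso (evGen F L.unop))
    fun {L M} f => by
      ext φ
      refine Concrete.limit_ext (C := AddCommGrpCat.{u})
        (Discrete.functor fun i => F.obj.obj (op (M.unop.obj i))) _ _ fun ⟨i⟩ => ?_
      refine (evGen_π F M.unop i _).trans ?_
      refine Eq.trans ?_ (ConcreteCategory.congr_hom
        (Pi.lift_π (C := AddCommGrpCat.{u}) (f := fun i => F.obj.obj (op (M.unop.obj i)))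
          (fun i => Pi.π (fun i => F.obj.obj (op (L.unop.obj i))) (f.unop.f i) ≫ F.obj.map (f.unop.φ i).op) i)
        (evGen F L.unop φ)).symm
      refine Eq.trans ?_ (congrArg (F.obj.map (f.unop.φ i).op) (evGen_π F L.unop (f.unop.f i) φ)).symm
      have h : toPre F ((frF J).map f.unop ≫ φ) = (CechFree.freeP C).map ((homP C).map f.unop) ≫ toPre F φ :=
        Adjunction.homEquiv_naturality_left _ _ _
      refine (ConcreteCategory.congr_hom (congr_app h (op (M.unop.obj i))) (gen M.unop i)).trans ?_
      refine Eq.trans ?_ ((apply_of F L.unop (toPre F φ) (M.unop.obj i)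
        ((FormalCoproduct.incl C).map (f.unop.φ i) ≫
          FormalCoproduct.Hom.fromIncl (f.unop.f i) (𝟙 _))).trans ?_)
      · refine congrArg ((toPre F φ).app (op (M.unop.obj i))) ?_
        refine (FreeAbelianGroup.map_of_apply _).trans (congrArg FreeAbelianGroup.of ?_)
        refine homP_hom_ext _ _ (Sigma.ext rfl (heq_of_eq ?_))
        exact (Category.id_comp _).trans (Category.comp_id _).symm
      · refine congrArg (fun t => F.obj.map t ((toPre F φ).app _ (gen L.unop (f.unop.f i)))) ?_
        exact congrArg Quiver.Hom.op (Category.comp_id _)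

variable (K : SimplicialObject (FormalCoproduct.{u} C))

/-- The free simplicial sheaf. -/
noncomputable abbrev SX (J : GrothendieckTopology C) : SimplicialObject (Sheaf J AddCommGrpCat.{u}) :=
  HyperExact.FX (XK K) ⋙ presheafToSheaf J AddCommGrpCat.{u}

/-- Its complex. -/
noncomputable abbrev cplx (J : GrothendieckTopology C) : ChainComplex (Sheaf J AddCommGrpCat.{u}) ℕ :=
  AlternatingFaceMapComplex.obj (SX K J)

/-- Cochains as maps out of it. -/
noncomputable abbrev hCx : CochainComplex AddCommGrpCat.{u} ℕ :=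
  (alternatingCofaceMapComplex AddCommGrpCat.{u}).obj ((SX K J).rightOp ⋙ preadditiveYoneda.obj F)

/-- The Čech complex as maps out of the free complex. -/
noncomputable def cechIso : hCx F K ≅ Hyper.cechCxSite K F.obj :=
  (alternatingCofaceMapComplex AddCommGrpCat.{u}).mapIso
    (Functor.isoWhiskerLeft K.rightOp (homIso F))

theorem altCoface_d (Y : CosimplicialObject AddCommGrpCat.{u}) (n : ℕ) :
    ((alternatingCofaceMapComplex AddCommGrpCat.{u}).obj Y).d n (n + 1) =
      AlternatingCofaceMapComplex.objD Y n := by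
  exact CochainComplex.of_d (V := AddCommGrpCat.{u}) (fun n => Y.obj (SimplexCategory.mk n))
    (AlternatingCofaceMapComplex.objD Y) n

/-- A cochain. -/
noncomputable abbrev toHom {n : ℕ} (x : (hCx F K).X n) : (cplx K J).X n ⟶ F := x

theorem d_eq (n : ℕ) (x : (hCx F K).X n) :
    toHom F K ((hCx F K).d n (n + 1) x) = (cplx K J).d (n + 1) n ≫ toHom F K x := by
  let E : ((hCx F K).X n ⟶ (hCx F K).X (n + 1)) →+ (hCx F K).X (n + 1) :=
    { toFun := fun g => g x
      map_zero' := rfl
      map_add' := fun _ _ => rfl }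
  show toHom F K (E _) = _
  rw [altCoface_d, AlternatingFaceMapComplex.obj_d_eq, Preadditive.sum_comp]
  refine (map_sum E _ _).trans ?_
  refine Finset.sum_congr rfl fun i _ => ?_
  refine (map_zsmul E _ _).trans ?_
  rw [Preadditive.zsmul_comp]
  rfl

theorem cplx_d (n : ℕ) : (cplx K J).d (n + 1) n =
    (presheafToSheaf J AddCommGrpCat.{u}).map ((AlternatingFaceMapComplex.obj (FX (XK K))).d (n + 1) n) := by
  rw [AlternatingFaceMapComplex.obj_d_eq, AlternatingFaceMapComplex.obj_d_eq, Functor.map_sum]
  refine Finset.sum_congr rfl fun i _ => ?_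
  rw [Functor.map_zsmul]
  rfl

variable (hK : LocFill J (XK K))

variable (J) in
/-- The constant sheaf. -/
noncomputable abbrev Z : Sheaf J AddCommGrpCat.{u} :=
  (presheafToSheaf J AddCommGrpCat.{u}).obj (cst C)

/-- The augmentation. -/
noncomputable def augS : cplx K J ⟶ (ChainComplex.single₀ _).obj (Z J) :=
  (ChainComplex.toSingle₀Equiv _ _).symm
    ⟨(presheafToSheaf J AddCommGrpCat.{u}).map (aug (XK K)), by
      have h := (presheafToSheaf J AddCommGrpCat.{u}).congr_map (d_aug (XK K))
      rw [Functor.map_comp, Functor.map_zero] at h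
      refine Eq.trans ?_ h
      exact congrArg (fun t => t ≫ (presheafToSheaf J AddCommGrpCat.{u}).map (aug (XK K))) (cplx_d K 0)⟩

lemma augS_f_zero : (augS (J := J) K).f 0 = (presheafToSheaf J AddCommGrpCat.{u}).map (aug (XK K)) :=
  ChainComplex.toSingle₀Equiv_symm_apply_f_zero _ _

include hK in
theorem quasiIso_augS : QuasiIso (augS (J := J) K) := by
  rw [quasiIso_iff]
  intro i
  cases i with
  | zero =>
    rw [ChainComplex.quasiIsoAt₀_iff]
    refine (ShortComplex.quasiIso_iff_of_zeros'
      ((HomologicalComplex.shortComplexFunctor' _ (ComplexShape.down ℕ) 1 0 0).map (augS K))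
      (by simp) (by simp) (by simp)).2 ?_
    obtain ⟨hex, hepi⟩ := exact_and_epi_zero hK
    refine ⟨ShortComplex.exact_of_iso ?_ hex, ?_⟩
    · refine ShortComplex.isoMk (Iso.refl _) (Iso.refl _) (Iso.refl _) ?_ ?_
      · exact (Category.id_comp _).trans ((cplx_d K 0).trans (Category.comp_id _).symm)
      · exact (Category.id_comp _).trans ((augS_f_zero K).trans (Category.comp_id _).symm)
    · show Epi ((augS K).f 0)
      rw [augS_f_zero]
      exact hepi
  | succ n =>
    rw [quasiIsoAt_iff_exactAt' (augS K) (n + 1)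
      (HomologicalComplex.exactAt_single_obj _ _ _ _ (by simp)),
      HomologicalComplex.exactAt_iff_isZero_homology]
    exact HyperExact.isZero_homology hK n

include hK in
/-- Čech cohomology vanishes for sheaves without higher extensions from the terms. -/
theorem isZero_cech (hZ : ∀ q, Subsingleton (Ext (Z J) F (q + 1)))
    (hP : ∀ (L : FormalCoproduct.{u} C) q, Subsingleton (Ext ((frF J).obj L) F (q + 1))) (p : ℕ) :
    IsZero ((Hyper.cechCxSite K F.obj).homology (p + 1)) := by
  refine IsZero.of_iso ?_ (HomologicalComplex.homologyMapIso (cechIso F K) (p + 1)).symm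
  rw [← HomologicalComplex.exactAt_iff_isZero_homology,
    HomologicalComplex.exactAt_iff' _ p (p + 1) (p + 1 + 1) (by simp) (by simp),
    ShortComplex.ab_exact_iff]
  intro x hx
  haveI := quasiIso_augS K hK
  obtain ⟨y, hy⟩ := ExactResolution.exists_factor (augS K) hZ (fun n q => hP _ q) p (toHom F K x)
    ((d_eq F K (p + 1) x).symm.trans hx)
  exact ⟨y, (d_eq F K p y).trans hy⟩

include hK in
/-- Degree zero Čech cohomology is maps out of the constant sheaf. -/
theorem nonempty_cech_zero :
    Nonempty ((Hyper.cechCxSite K F.obj).homology 0 ≅ (preadditiveYoneda.obj F).obj (op (Z J))) := by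
  haveI := quasiIso_augS K hK
  haveI := (ExactResolution.exact_zero (augS (J := J) K)).2
  let a : (preadditiveYoneda.obj F).obj (op (Z J)) ⟶ (hCx F K).X 0 :=
    (preadditiveYoneda.obj F).map ((augS K).f 0).op
  have ha : a ≫ (hCx F K).d 0 (0 + 1) = 0 := by
    ext y
    refine (d_eq F K 0 (a y)).trans ?_
    show (cplx K J).d 1 0 ≫ (augS K).f 0 ≫ y = 0
    rw [← Category.assoc, ← (augS K).comm]
    simp
  have hm : Mono a := by
    rw [AddCommGrpCat.mono_iff_injective]
    intro y y' h
    exact (cancel_epi ((augS K).f 0)).1 h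
  have hex : (ShortComplex.mk a _ ha).Exact := by
    rw [ShortComplex.ab_exact_iff]
    intro x hx
    obtain ⟨y, hy⟩ := ExactResolution.exists_factor_zero (augS K) (toHom F K x)
      ((d_eq F K 0 x).symm.trans hx)
    exact ⟨y, hy⟩
  haveI := hm
  exact ⟨HomologicalComplex.homologyMapIso (cechIso F K).symm 0 ≪≫
    (CochainComplex.isoHomologyπ₀ (hCx F K)).symm ≪≫
    ((hCx F K).cyclesIsKernel 0 1 (by simp)).conePointUniqueUpToIso hex.fIsKernel⟩

/-- Maps out of the constant sheaf are sections over the whole site. -/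
theorem nonempty_homZ_iso :
    Nonempty ((preadditiveYoneda.obj F).obj (op (Z J)) ≅ limit F.obj) := by
  let cone : ((cst C) ⟶ F.obj) → Cone F.obj := fun φ => ⟨_, φ⟩
  have hπ : ∀ (φ : cst C ⟶ F.obj) (U : Cᵒᵖ),
      limit.π F.obj U (limit.lift F.obj (cone φ) (FreeAbelianGroup.of PUnit.unit)) =
        φ.app U (FreeAbelianGroup.of PUnit.unit) := fun φ U =>
    ConcreteCategory.congr_hom (limit.lift_π (cone φ) U) _
  let e : (Z J ⟶ F) →+ (limit F.obj : AddCommGrpCat.{u}) := AddMonoidHom.mk'
    (fun φ => limit.lift F.obj (cone ((sheafificationAdjunction J AddCommGrpCat.{u}).homEquiv _ _ φ))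
      (FreeAbelianGroup.of PUnit.unit))
    (fun φ ψ => by
      refine Concrete.limit_ext (C := AddCommGrpCat.{u}) F.obj _ _ fun U => ?_
      refine (hπ _ U).trans (Eq.trans ?_ (map_add (limit.π F.obj U).hom _ _).symm)
      refine Eq.trans ?_ (congrArg₂ (· + ·) (hπ _ U) (hπ _ U)).symm
      rw [homEquiv_add]
      rfl)
  refine ⟨(AddEquiv.ofBijective e ⟨fun φ ψ h => ?_, fun y => ?_⟩).toAddCommGrpIso⟩
  · refine ((sheafificationAdjunction J AddCommGrpCat.{u}).homEquiv _ _).injective ?_
    refine NatTrans.ext (funext fun U => AddCommGrpCat.hom_ext (FreeAbelianGroup.lift_ext _ _ fun p => ?_))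
    exact ((hπ _ U).symm.trans (congrArg (limit.π F.obj U) h)).trans (hπ _ U)
  · let ψ : cst C ⟶ F.obj :=
      { app := fun U => AddCommGrpCat.ofHom (FreeAbelianGroup.lift
          fun _ : PUnit.{u + 1} => limit.π F.obj U y)
        naturality := fun U V k => by
          refine AddCommGrpCat.hom_ext (FreeAbelianGroup.lift_ext _ _ fun p => ?_)
          show FreeAbelianGroup.lift _ (FreeAbelianGroup.of p) =
            F.obj.map k (FreeAbelianGroup.lift _ (FreeAbelianGroup.of p))
          rw [FreeAbelianGroup.lift_apply_of, FreeAbelianGroup.lift_apply_of]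
          exact (ConcreteCategory.congr_hom (limit.w F.obj k) y).symm }
    refine ⟨((sheafificationAdjunction J AddCommGrpCat.{u}).homEquiv _ _).symm ψ, ?_⟩
    refine Concrete.limit_ext (C := AddCommGrpCat.{u}) F.obj _ _ fun U => ?_
    refine (hπ _ U).trans ?_
    show ((sheafificationAdjunction J AddCommGrpCat.{u}).homEquiv _ _
      (((sheafificationAdjunction J AddCommGrpCat.{u}).homEquiv _ _).symm ψ)).app U _ = _
    rw [Equiv.apply_symm_apply]
    exact FreeAbelianGroup.lift_apply_of _ _

end Groth.Agent.H15Site.HyperCech
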