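import Groth.Prelude.Def_Hyper
import Mathlib.CategoryTheory.Limits.FormalCoproducts.Basic

/-!
# Covering morphisms of semi-representable objects
-/

set_option autoImplicit false
set_option linter.style.haveILetI false

universe u

open CategoryTheory CategoryTheory.Limits

namespace Groth.Agent.H15Site.SRCover

variable {C : Type u} [SmallCategory C] {J : GrothendieckTopology C}

/-- The sieve of a morphism at an index. -/
abbrev sieve {K L : FormalCoproduct.{u} C} (f : K ⟶ L) (j : L.I) : Sieve (L.obj j) :=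
  Sieve.ofArrows (fun i : {i : K.I // f.f i = j} => K.obj i.1)
    (fun i => f.φ i.1 ≫ eqToHom (congrArg L.obj i.2))

theorem sieve_arrow {K L : FormalCoproduct.{u} C} (f : K ⟶ L) {j : L.I} (i : K.I) (h : f.f i = j)
    {V : C} (b : V ⟶ K.obj i) : sieve f j (b ≫ f.φ i ≫ eqToHom (congrArg L.obj h)) :=
  (sieve f j).downward_closed (Sieve.ofArrows_mk _ _ (⟨i, h⟩ : {i : K.I // f.f i = j})) b

theorem comp {K L M : FormalCoproduct.{u} C} (f : K ⟶ L) (g : L ⟶ M)
    (hf : Hyper.IsSRCovering J f) (hg : Hyper.IsSRCovering J g) : Hyper.IsSRCovering J (f ≫ g) := by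
  intro j
  refine J.transitive (hg j) _ fun V h hh => ?_
  obtain ⟨W, b, c, hc, rfl⟩ := hh
  obtain ⟨k, hk⟩ := hc
  refine J.superset_covering ?_ (J.pullback_stable b (hf k))
  intro Z a ha
  obtain ⟨W', b', c', hc', e⟩ := ha
  obtain ⟨i, hi⟩ := hc'
  change sieve (f ≫ g) j (a ≫ b ≫ g.φ k ≫ eqToHom _)
  rw [← Category.assoc a b, ← e]
  subst hi
  have := sieve_arrow (f ≫ g) i (j := j) hk b'
  simpa using this

variable [HasPullbacks C] {K L L' : FormalCoproduct.{u} C} (f : K ⟶ L) (g : L' ⟶ L)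

/-- The pullback cones over the components. -/
noncomputable def pb (i : Function.Pullback g.f f.f) :
    PullbackCone (g.φ i.1.1 ≫ eqToHom (by rw [i.2])) (f.φ i.1.2) :=
  pullback.cone _ _

theorem hasPullback : HasPullback g f :=
  FormalCoproduct.hasPullback_of_pullbackCone g f (pb f g) (fun _ => pullback.isLimit _ _)

theorem fst_base_change (hf : Hyper.IsSRCovering J f) :
    Hyper.IsSRCovering J (FormalCoproduct.pullbackCone g f (pb f g)).fst := by
  intro j
  refine J.superset_covering ?_ (J.pullback_stable (g.φ j) (hf (g.f j)))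
  intro V a ha
  obtain ⟨W', b', c', hc', e⟩ := ha
  obtain ⟨i, hi⟩ := hc'
  change sieve (FormalCoproduct.pullbackCone g f (pb f g)).fst j a
  let q : Function.Pullback g.f f.f := ⟨(j, i), hi.symm⟩
  have e' : (a ≫ g.φ j) ≫ eqToHom (congrArg L.obj hi.symm) = b' ≫ f.φ i := by
    rw [← e]; simp
  have h := sieve_arrow (FormalCoproduct.pullbackCone g f (pb f g)).fst q (j := j) rfl
    (pullback.lift a b' ((Category.assoc _ _ _).symm.trans e') : V ⟶ (pb f g q).pt)
  have h' : (pullback.lift a b' ((Category.assoc _ _ _).symm.trans e') : V ⟶ (pb f g q).pt) ≫ (pb f g q).fst = a :=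
    pullback.lift_fst _ _ _
  refine (congrArg (fun t => sieve (FormalCoproduct.pullbackCone g f (pb f g)).fst j t) ?_).mp h
  exact (congrArg (_ ≫ ·) (Category.comp_id _)).trans h'

theorem isSRCovering_of_iso {K' : FormalCoproduct.{u} C} (e : K' ⟶ K) (e' : K ⟶ K') (h : e' ≫ e = 𝟙 _)
    {f' : K' ⟶ L} (w : e' ≫ f' = f) (hf : Hyper.IsSRCovering J f) : Hyper.IsSRCovering J f' := by
  intro j
  refine J.superset_covering ?_ (hf j)
  intro V a ha
  obtain ⟨W', b', c', hc', rfl⟩ := ha
  obtain ⟨i, hi⟩ := hc'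
  subst w
  have := sieve_arrow f' (e'.f i) (j := j) hi (b' ≫ e'.φ i)
  simpa using this

end Groth.Agent.H15Site.SRCover
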