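import Mathlib.Algebra.Homology.SpectralObject.Basic
import Mathlib.CategoryTheory.Triangulated.SpectralObject
import Mathlib.CategoryTheory.Triangulated.HomologicalFunctor

/-!
# A homological functor applied to a triangulated spectral object gives a spectral object
-/

set_option linter.style.haveILetI false
set_option linter.unusedSectionVars false
set_option backward.isDefEq.respectTransparency false

open CategoryTheory CategoryTheory.Limits CategoryTheory.Pretriangulated
  CategoryTheory.ComposableArrows

namespace Groth.Agent.H15Site.SpHomological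

variable {D A ι : Type*} [Category* D] [Category* ι] [HasZeroObject D] [HasShift D ℤ]
  [Preadditive D] [∀ (n : ℤ), (shiftFunctor D n).Additive] [Pretriangulated D]
  [Category* A] [Abelian A]
  (X : Triangulated.SpectralObject D ι) (F : D ⥤ A) [F.IsHomological] [F.ShiftSequence ℤ]

/-- The spectral object `H^n(f) = (F.shift n) (ω₁ f)`. -/
noncomputable def mk : Abelian.SpectralObject A ι where
  H n := X.ω₁ ⋙ F.shift n
  δ' n₀ n₁ h :=
    { app := fun D => F.homologySequenceδ (X.ω₂.obj D) n₀ n₁ h
      naturality := fun D D' φ => F.homologySequenceδ_naturality _ _ (X.ω₂.map φ) n₀ n₁ h }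
  exact₁' n₀ n₁ h D :=
    (F.homologySequence_exact₁ _ (X.ω₂_obj_distinguished D) n₀ n₁ h).exact_toComposableArrows
  exact₂' n D :=
    (F.homologySequence_exact₂ _ (X.ω₂_obj_distinguished D) n).exact_toComposableArrows
  exact₃' n₀ n₁ h D :=
    (F.homologySequence_exact₃ _ (X.ω₂_obj_distinguished D) n₀ n₁ h).exact_toComposableArrows

lemma mk_H (n : ℤ) : (mk X F).H n = X.ω₁ ⋙ F.shift n := rfl

end Groth.Agent.H15Site.SpHomological
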