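import Mathlib.Algebra.Homology.DerivedCategory.RightDerivedFunctorPlus
import Groth.Agent.H16Derived.GrothSS

/-!
# `R(S ∘ T) ≅ RS ∘ RT` on bounded below derived categories, when `T` preserves injectives
-/

set_option linter.style.haveILetI false
set_option backward.isDefEq.respectTransparency false

universe w w' w'' v v' v'' u u' u''

open CategoryTheory CategoryTheory.Limits

namespace Groth.Agent.H15Site.RDerPlusComp

variable {A : Type u} [Category.{v} A] [Abelian A] [EnoughInjectives A] [HasDerivedCategory.{w} A]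
  {B : Type u} [Category.{v} B] [Abelian B] [EnoughInjectives B] [HasDerivedCategory.{w'} B]
  {C : Type u''} [Category.{v''} C] [Abelian C] [HasDerivedCategory.{w''} C]

/-- The derived functor on complexes of injectives. -/
noncomputable def onInjectives (S : A ⥤ C) [S.Additive] :
    H16Derived.GrothSS.J A ⋙ S.rightDerivedFunctorPlus ≅
      (InjectiveObject.ι A).mapHomotopyCategoryPlus ⋙ S.mapHomotopyCategoryPlus ⋙
        DerivedCategory.Plus.Qh :=
  haveI : ∀ X, IsIso ((Functor.whiskerLeft (InjectiveObject.ι A).mapHomotopyCategoryPlus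
      S.rightDerivedFunctorPlusUnit).app X) := fun X =>
    inferInstanceAs (IsIso (S.rightDerivedFunctorPlusUnit.app _))
  haveI := NatIso.isIso_of_isIso_app (Functor.whiskerLeft (InjectiveObject.ι A).mapHomotopyCategoryPlus
      S.rightDerivedFunctorPlusUnit)
  (Functor.associator _ _ _) ≪≫ (asIso (Functor.whiskerLeft
    (InjectiveObject.ι A).mapHomotopyCategoryPlus S.rightDerivedFunctorPlusUnit)).symm

theorem nonempty_comp_iso (T : A ⥤ B) [T.Additive] (S : B ⥤ C) [S.Additive]
    (hT : ∀ I : A, Injective I → Injective (T.obj I)) :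
    Nonempty (T.rightDerivedFunctorPlus ⋙ S.rightDerivedFunctorPlus ≅
      (T ⋙ S).rightDerivedFunctorPlus) := by
  let T' : InjectiveObject A ⥤ InjectiveObject B :=
    ObjectProperty.lift _ (InjectiveObject.ι A ⋙ T) fun X => hT _ X.property
  haveI : T'.Additive := { map_add := by intros; ext; exact T.map_add }
  let eT : (InjectiveObject.ι A).mapHomotopyCategoryPlus ⋙ T.mapHomotopyCategoryPlus ≅
      T'.mapHomotopyCategoryPlus ⋙ (InjectiveObject.ι B).mapHomotopyCategoryPlus :=
    Functor.mapHomotopyCategoryPlusCompIso (H := InjectiveObject.ι A ⋙ T) (Iso.refl _) ≪≫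
      (Functor.mapHomotopyCategoryPlusCompIso (F := T') (G := InjectiveObject.ι B)
        (H := InjectiveObject.ι A ⋙ T) (Iso.refl _)).symm
  let eTS : T.mapHomotopyCategoryPlus ⋙ S.mapHomotopyCategoryPlus ≅ (T ⋙ S).mapHomotopyCategoryPlus :=
    Functor.mapHomotopyCategoryPlusCompIso (Iso.refl _)
  let e : H16Derived.GrothSS.J A ⋙ T.rightDerivedFunctorPlus ⋙ S.rightDerivedFunctorPlus ≅
      H16Derived.GrothSS.J A ⋙ (T ⋙ S).rightDerivedFunctorPlus :=
    (Functor.associator _ _ _).symm ≪≫ Functor.isoWhiskerRight (onInjectives T) _ ≪≫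
      Functor.isoWhiskerRight ((Functor.associator _ _ _).symm ≪≫ Functor.isoWhiskerRight eT _ ≪≫
        Functor.associator _ _ _) _ ≪≫
      Functor.associator _ _ _ ≪≫
      Functor.isoWhiskerLeft T'.mapHomotopyCategoryPlus (onInjectives S) ≪≫
      (Functor.associator _ _ _).symm ≪≫
      Functor.isoWhiskerRight eT.symm _ ≪≫
      Functor.associator _ _ _ ≪≫
      Functor.isoWhiskerLeft (InjectiveObject.ι A).mapHomotopyCategoryPlus
        ((Functor.associator _ _ _).symm ≪≫ Functor.isoWhiskerRight eTS _) ≪≫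
      (onInjectives (T ⋙ S)).symm
  let E := (H16Derived.GrothSS.J A).asEquivalence
  exact ⟨(Functor.leftUnitor _).symm ≪≫ Functor.isoWhiskerRight E.counitIso.symm _ ≪≫
    Functor.associator _ _ _ ≪≫ Functor.isoWhiskerLeft E.inverse e ≪≫
    (Functor.associator _ _ _).symm ≪≫ Functor.isoWhiskerRight E.counitIso _ ≪≫
    Functor.leftUnitor _⟩

end Groth.Agent.H15Site.RDerPlusComp
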