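import Groth.Agent.H15Site.HDUNeg
import Groth.Agent.H15Site.RDerPlus
import Groth.Agent.H15Site.RDerPlusComp

/-!
# Cohomology sheaves of the derived direct image as sheafified hypercohomology
-/

set_option autoImplicit false
set_option linter.style.haveILetI false
set_option linter.unusedSectionVars false
set_option backward.isDefEq.respectTransparency false
set_option backward.isDefEq.respectTransparency.types false

universe u

open CategoryTheory CategoryTheory.Limits Opposite DerivedCategory TopologicalSpace

namespace Groth.Agent.H15Site.HyperDirect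

open SiteGen SiteGenInst FlatAdjD H16Derived

attribute [local instance 10000] SiteInst.hasSheafifySite SiteInst.hasWeakSheafifySite

variable {X Y : TopCat.{u}} (f : X ⟶ Y)
  [HasDerivedCategory.{u} (CohTop.Ab X)] [HasDerivedCategory.{u} (CohTop.Ab Y)]

set_option maxHeartbeats 1000000 in
theorem nonempty_iso (K : CochainComplex.Plus (CohTop.Ab X)) (p : ℤ) :
    Nonempty ((DerivedCategory.Plus.homologyFunctor (CohTop.Ab Y) p).obj
        ((CohTop.push f).rightDerivedFunctorPlus.obj
          (DerivedCategory.Plus.Qh.obj ((HomotopyCategory.Plus.quotient (CohTop.Ab X)).obj K))) ≅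
      (presheafToSheaf (Opens.grothendieckTopology Y) AddCommGrpCat.{u}).obj
        ((Opens.map f).op ⋙ CohCx.HDUPresheaf (DerivedCategory.Q.obj K.obj) p)) := by
  obtain ⟨n, hn⟩ := K.property
  haveI := hn
  let X₀ := DerivedCategory.Plus.Qh.obj ((HomotopyCategory.Plus.quotient (CohTop.Ab X)).obj K)
  obtain ⟨M, i, hi, hge, ⟨eM⟩⟩ := GrothSS.exists_resolution (X := X₀) n
    ((DerivedCategory.quotientCompQhIso _).app K.obj)
  let I : CochainComplex (CohTop.Ab X) ℤ :=
    ((InjectiveObject.ι (CohTop.Ab X)).mapHomologicalComplex (ComplexShape.up ℤ)).obj M.obj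
  haveI := hge
  haveI : ∀ k, Injective (I.X k) := fun k => (M.obj.X k).property
  haveI : I.IsKInjective := CochainComplex.isKInjective_of_injective I n
  haveI := hi
  haveI : IsIso (DerivedCategory.Q.map i) := (DerivedCategory.isIso_Q_map_iff_quasiIso _ i).2 hi
  -- the derived adjunction
  haveI : PreservesFiniteLimits (CohTop.pull f) := ClosedPushAb.pull_preservesFiniteLimits f
  let adj : CohTop.pull f ⊣ CohTop.push f :=
    TopCat.Sheaf.pullbackPushforwardAdjunction AddCommGrpCat.{u} f
  haveI := adj.leftAdjoint_preservesColimits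
  haveI : (CohTop.pull f).Additive := Functor.additive_of_preserves_binary_products _
  haveI : (toD (CohTop.push f)).HasPointwiseRightDerivedFunctor
      (HomotopyCategory.quasiIso (CohTop.Ab X) (ComplexShape.up ℤ)) :=
    RDerived.hasPointwiseRightDerivedFunctor_of_resolutions DerivedCategory.Qh _ _ fun M => by
      obtain ⟨I, hI, s, hs⟩ := exists_local M
      exact ⟨_, s, hs, fun K => CochainComplex.IsKInjective.Qh_map_bijective K I⟩
  obtain ⟨adjD⟩ := nonempty_adjunction adj
  let R := (toD (CohTop.push f)).totalRightDerived DerivedCategory.Qh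
    (HomotopyCategory.quasiIso (CohTop.Ab X) (ComplexShape.up ℤ))
  letI := adjD.rightAdjointCommShift ℤ
  obtain ⟨eR⟩ := RDerPlus.nonempty_obj_iso (CohTop.push f) I
  obtain ⟨a⟩ := HDUNeg.pull_free_iso f
  let β : (freeAbFunctor (Opens.grothendieckTopology Y) ⋙ singleFunctor _ 0) ⋙
      (CohTop.pull f).mapDerivedCategory ≅
      (Opens.map f ⋙ freeAbFunctor (Opens.grothendieckTopology X)) ⋙ singleFunctor _ 0 :=
    Functor.associator _ _ _ ≪≫
      Functor.isoWhiskerLeft _ ((CohTop.pull f).mapDerivedCategorySingleFunctor (0 : ℤ)) ≪≫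
      (Functor.associator _ _ _).symm ≪≫ Functor.isoWhiskerRight a _
  let L := R.obj (DerivedCategory.Q.obj K.obj)
  let Φ : ∀ (V : Opens Y), CohCx.HDU (DerivedCategory.Q.obj K.obj) p ((Opens.map f).obj V) ≃
      CohCx.HDU L p V :=
    fun V => ((β.app V).symm.homFromEquiv).trans ((adjD.homEquiv _ _).trans
      ((R.commShiftIso p).app _).homToEquiv)
  let e : (Opens.map f).op ⋙ CohCx.HDUPresheaf (DerivedCategory.Q.obj K.obj) p ⟶ CohCx.HDUPresheaf L p :=
    { app := fun V => AddCommGrpCat.ofHom (AddMonoidHom.mk' (fun y => Φ V.unop y) fun y y' => by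
        haveI := adjD.right_adjoint_additive
        change (adjD.homAddEquiv _ _) ((β.app V.unop).hom ≫ (y + y')) ≫ _ = _
        exact (congrArg (· ≫ _) ((congrArg (adjD.homAddEquiv _ _)
          (Preadditive.comp_add _ _ _ (β.app V.unop).hom y y')).trans (map_add _ _ _))).trans
            (Preadditive.add_comp _ _ _ _ _ _))
      naturality := fun V W g => by
        ext y
        refine Eq.trans ?_ ((congrArg (fun z => z ≫ ((R.commShiftIso p).app _).hom)
          (adjD.homEquiv_naturality_left
            ((freeAbFunctor (Opens.grothendieckTopology Y) ⋙ singleFunctor _ 0).map g.unop)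
            ((β.app V.unop).hom ≫ y))).trans (Category.assoc _ _ _))
        refine congrArg (fun z => (adjD.homEquiv _ _) z ≫ ((R.commShiftIso p).app _).hom) ?_
        exact ((Category.assoc _ _ _).symm.trans
          (congrArg (· ≫ y) (β.hom.naturality g.unop).symm)).trans (Category.assoc _ _ _) }
  haveI : IsIso e := by
    haveI : ∀ V, IsIso (e.app V) := fun V => by
      rw [ConcreteCategory.isIso_iff_bijective]
      exact (Φ V.unop).bijective
    exact NatIso.isIso_of_isIso_app _
  obtain ⟨eS⟩ := HDUSheafify.nonempty_sheafify_iso L p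
  refine ⟨?_ ≪≫ eS.symm ≪≫ ((presheafToSheaf _ AddCommGrpCat.{u}).mapIso (asIso e)).symm⟩
  refine (DerivedCategory.Plus.homologyFunctor _ p).mapIso
    ((CohTop.push f).rightDerivedFunctorPlus.mapIso eM.symm ≪≫
      (RDerPlusComp.onInjectives (CohTop.push f)).app ((HomotopyCategory.Plus.quotient _).obj M)) ≪≫
    (DerivedCategory.homologyFunctor _ p).mapIso (?_ ≪≫ eR.symm ≪≫
      R.mapIso (asIso (DerivedCategory.Q.map i)).symm)
  exact (DerivedCategory.quotientCompQhIso (CohTop.Ab Y)).app _

end Groth.Agent.H15Site.HyperDirect
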