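import Groth.Agent.H15Site.HyperFill
import Groth.Agent.H15Site.AugQuasiIso
import Groth.Agent.H15Site.CechFree
import Mathlib.Algebra.Homology.ShortComplex.HomologicalComplex
import Mathlib.Algebra.Homology.ShortComplex.PreservesHomology
import Mathlib.CategoryTheory.Sites.ConstantSheaf

/-!
# The free complex of a locally fillable simplicial presheaf resolves the constant sheaf
-/

set_option autoImplicit false
set_option linter.style.haveILetI false
set_option linter.unusedSectionVars false
set_option backward.isDefEq.respectTransparency false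

universe u

open CategoryTheory CategoryTheory.Limits Opposite AlgebraicTopology
open scoped Simplicial

namespace Groth.Agent.H15Site.HyperExact

open HyperFill

attribute [local instance 10000] SiteInst.hasSheafifySite SiteInst.hasWeakSheafifySite

variable {C : Type u} [SmallCategory C] (J : GrothendieckTopology C)

/-- Locally exact short complexes of presheaves become exact after sheafifying. -/
theorem exact_sheafify (S : ShortComplex (Cᵒᵖ ⥤ AddCommGrpCat.{u}))
    (h : ∀ (U : C) (x : S.X₂.obj (op U)), S.g.app (op U) x = 0 →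
      ∃ R ∈ J U, ∀ ⦃V : C⦄ (v : V ⟶ U), R v →
        ∃ w, S.f.app (op V) w = S.X₂.map v.op x) :
    (S.map (presheafToSheaf J AddCommGrpCat.{u})).Exact := by
  haveI : PreservesFiniteLimits (presheafToSheaf J AddCommGrpCat.{u}) := HasSheafify.isLeftExact
  haveI : Presheaf.IsLocallySurjective J (kernel.lift S.g S.f S.zero) := ⟨fun {U} y => by
    have hy : S.g.app (op U) ((kernel.ι S.g).app (op U) y) = 0 :=
      ConcreteCategory.congr_hom (congr_app (kernel.condition S.g) (op U)) y
    obtain ⟨R, hR, hR'⟩ := h U _ hy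
    refine J.superset_covering (fun V v hv => ?_) hR
    obtain ⟨w, hw⟩ := hR' v hv
    refine ⟨w, (AddCommGrpCat.mono_iff_injective ((kernel.ι S.g).app (op V))).1 inferInstance ?_⟩
    refine (ConcreteCategory.congr_hom (congr_app (kernel.lift_ι S.g S.f S.zero) (op V)) w).trans ?_
    exact hw.trans (ConcreteCategory.congr_hom ((kernel.ι S.g).naturality v.op) y).symm⟩
  haveI : Sheaf.IsLocallySurjective
      ((presheafToSheaf J AddCommGrpCat.{u}).map (kernel.lift S.g S.f S.zero)) :=
    (Presheaf.isLocallySurjective_presheafToSheaf_map_iff J _).2 inferInstance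
  haveI hepi : Epi ((presheafToSheaf J AddCommGrpCat.{u}).map (kernel.lift S.g S.f S.zero)) :=
    (Sheaf.isLocallySurjective_iff_epi' _ _).1 inferInstance
  rw [ShortComplex.exact_iff_epi_kernel_lift]
  haveI := hepi
  haveI := epi_comp ((presheafToSheaf J AddCommGrpCat.{u}).map (kernel.lift S.g S.f S.zero))
    (PreservesKernel.iso (presheafToSheaf J AddCommGrpCat.{u}) S.g).hom
  convert! this using 1
  rw [← cancel_mono (kernel.ι _)]
  exact (kernel.lift_ι _ _ _).trans (by
    refine Eq.trans ?_ (congrArg _ (kernelComparison_comp_ι S.g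
      (presheafToSheaf J AddCommGrpCat.{u})).symm |>.trans (Category.assoc _ _ _).symm)
    exact (congrArg (presheafToSheaf J AddCommGrpCat.{u}).map (kernel.lift_ι _ _ _)).symm.trans
      (Functor.map_comp _ _ _))

variable (X : SimplicialObject (Cᵒᵖ ⥤ Type u))

/-- The free simplicial presheaf of abelian groups. -/
noncomputable abbrev FX : SimplicialObject (Cᵒᵖ ⥤ AddCommGrpCat.{u}) := X ⋙ CechFree.freeP C

theorem d_app (n : ℕ) (U : C) (z : FreeAbelianGroup (sx X (n + 1) U)) :
    ((AlternatingFaceMapComplex.obj (FX X)).d (n + 1) n).app (op U) z = bd X n U z := by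
  let E : ((FX X).obj (op ⦋n + 1⦌) ⟶ (FX X).obj (op ⦋n⦌)) →+
      FreeAbelianGroup (sx X n U) :=
    { toFun := fun g => g.app (op U) z
      map_zero' := rfl
      map_add' := fun _ _ => rfl }
  show E _ = _
  rw [AlternatingFaceMapComplex.obj_d_eq]
  refine (map_sum E _ _).trans ?_
  simp only [bd, AddMonoidHom.coe_finsetSum, Finset.sum_apply]
  refine Finset.sum_congr rfl fun i _ => ?_
  exact map_zsmul E _ _

/-- The augmentation target. -/
noncomputable abbrev cst (C : Type u) [SmallCategory C] : Cᵒᵖ ⥤ AddCommGrpCat.{u} :=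
  (Functor.const Cᵒᵖ).obj (AddCommGrpCat.free.{u}.obj PUnit.{u + 1})

/-- The augmentation. -/
noncomputable def aug : (FX X).obj (op ⦋0⦌) ⟶ cst C where
  app U := AddCommGrpCat.free.{u}.map (↾fun _ => PUnit.unit)
  naturality U V f := by
    refine ((AddCommGrpCat.free.{u}.map_comp _ _).symm.trans ?_).trans (Category.comp_id _).symm
    rfl

theorem d_aug : (AlternatingFaceMapComplex.obj (FX X)).d 1 0 ≫ aug X = 0 := by
  refine NatTrans.ext (funext fun U => ?_)
  ext z
  refine (congrArg ((aug X).app U) (d_app X 0 U.unop z)).trans ?_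
  show FreeAbelianGroup.map (fun _ => PUnit.unit) (bd X 0 U.unop z) = 0
  suffices h : (FreeAbelianGroup.map (fun _ => PUnit.unit.{u + 1})).comp (bd X 0 U.unop) = 0 from
    DFunLike.congr_fun h z
  refine FreeAbelianGroup.lift_ext _ _ fun σ => ?_
  show FreeAbelianGroup.map _ (bd X 0 U.unop (FreeAbelianGroup.of σ)) = 0
  rw [bd_of, Fin.sum_univ_two, map_add, map_zsmul, map_zsmul, FreeAbelianGroup.map_of_apply,
    FreeAbelianGroup.map_of_apply]
  simp

variable {X J} (hX : LocFill J X)
include hX

theorem isZero_homology (n : ℕ) :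
    IsZero (((alternatingFaceMapComplex (Sheaf J AddCommGrpCat.{u})).obj
      (FX X ⋙ presheafToSheaf J AddCommGrpCat.{u})).homology (n + 1)) := by
  haveI : PreservesFiniteLimits (presheafToSheaf J AddCommGrpCat.{u}) := HasSheafify.isLeftExact
  rw [← HomologicalComplex.exactAt_iff_isZero_homology]
  refine HomologicalComplex.ExactAt.of_iso ?_
    (AugQuasiIso.altIso (presheafToSheaf J AddCommGrpCat.{u}) (FX X))
  rw [HomologicalComplex.exactAt_iff' _ (n + 1 + 1) (n + 1) n (by simp) (by simp)]
  refine exact_sheafify J ((AlternatingFaceMapComplex.obj (FX X)).sc' (n + 1 + 1) (n + 1) n)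
    fun U z hz => ?_
  obtain ⟨R, hR, hR'⟩ := exists_boundary hX n U z ((d_app X n U z).symm.trans hz)
  refine ⟨R, hR, fun V v hv => ?_⟩
  obtain ⟨w, hw⟩ := hR' v hv
  exact ⟨w, (d_app X (n + 1) V w).trans hw⟩

theorem exact_and_epi_zero :
    (ShortComplex.mk ((presheafToSheaf J AddCommGrpCat.{u}).map
        ((AlternatingFaceMapComplex.obj (FX X)).d 1 0))
      ((presheafToSheaf J AddCommGrpCat.{u}).map (aug X))
      (by rw [← Functor.map_comp, d_aug, Functor.map_zero])).Exact ∧
    Epi ((presheafToSheaf J AddCommGrpCat.{u}).map (aug X)) := by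
  haveI : PreservesFiniteLimits (presheafToSheaf J AddCommGrpCat.{u}) := HasSheafify.isLeftExact
  constructor
  · refine exact_sheafify J (ShortComplex.mk _ _ (d_aug X)) fun U z hz => ?_
    have hz' : FreeAbelianGroup.lift (fun _ => (1 : ℤ)) z = 0 := by
      have h : (FreeAbelianGroup.lift (fun _ : PUnit.{u + 1} => (1 : ℤ))).comp
          (FreeAbelianGroup.map fun _ : sx X 0 U => PUnit.unit) =
          FreeAbelianGroup.lift fun _ => (1 : ℤ) :=
        FreeAbelianGroup.lift_ext _ _ fun σ => by
          show FreeAbelianGroup.lift _ (FreeAbelianGroup.map _ (FreeAbelianGroup.of σ)) = _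
          rw [FreeAbelianGroup.map_of_apply, FreeAbelianGroup.lift_apply_of,
            FreeAbelianGroup.lift_apply_of]
      rw [← h]
      exact (congrArg (FreeAbelianGroup.lift (fun _ : PUnit.{u + 1} => (1 : ℤ))) hz).trans (map_zero _)
    obtain ⟨R, hR, hR'⟩ := exists_boundary_zero hX U z hz'
    refine ⟨R, hR, fun V v hv => ?_⟩
    obtain ⟨w, hw⟩ := hR' v hv
    exact ⟨w, (d_app X 0 V w).trans hw⟩
  · haveI : Presheaf.IsLocallySurjective J (aug X) := ⟨fun {U} y => by
      obtain ⟨R, hR, hR'⟩ := hX.nonempty U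
      refine J.superset_covering (fun V v hv => ?_) hR
      obtain ⟨b⟩ := hR' v hv
      refine ⟨FreeAbelianGroup.lift (fun _ : PUnit.{u + 1} => FreeAbelianGroup.of b) y, ?_⟩
      have h : (FreeAbelianGroup.map fun _ : sx X 0 V => PUnit.unit.{u + 1}).comp
          (FreeAbelianGroup.lift fun _ : PUnit.{u + 1} => FreeAbelianGroup.of b) =
          AddMonoidHom.id _ := by
        refine FreeAbelianGroup.lift_ext _ _ fun p => ?_
        show FreeAbelianGroup.map _ (FreeAbelianGroup.lift _ (FreeAbelianGroup.of p)) = _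
        rw [FreeAbelianGroup.lift_apply_of, FreeAbelianGroup.map_of_apply]
        rfl
      exact DFunLike.congr_fun h y⟩
    haveI : Sheaf.IsLocallySurjective ((presheafToSheaf J AddCommGrpCat.{u}).map (aug X)) :=
      (Presheaf.isLocallySurjective_presheafToSheaf_map_iff J _).2 inferInstance
    exact (Sheaf.isLocallySurjective_iff_epi' _ _).1 inferInstance

theorem nonempty_homology_zero_iso :
    Nonempty (((alternatingFaceMapComplex (Sheaf J AddCommGrpCat.{u})).obj
      (FX X ⋙ presheafToSheaf J AddCommGrpCat.{u})).homology 0 ≅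
      (presheafToSheaf J AddCommGrpCat.{u}).obj (cst C)) := by
  obtain ⟨hex, hepi⟩ := exact_and_epi_zero hX
  let P := ((presheafToSheaf J AddCommGrpCat.{u}).mapHomologicalComplex (ComplexShape.down ℕ)).obj
    (AlternatingFaceMapComplex.obj (FX X))
  haveI := hepi
  exact ⟨HomologicalComplex.homologyMapIso
    (AugQuasiIso.altIso (presheafToSheaf J AddCommGrpCat.{u}) (FX X)).symm 0 ≪≫
    ChainComplex.isoHomologyι₀ P ≪≫
    (P.opcyclesIsCokernel 1 0 (by simp)).coconePointUniqueUpToIso hex.gIsCokernel⟩

/-- Target in the form of the constant sheaf on `ℤ`. -/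
theorem nonempty_homology_zero_iso_int :
    Nonempty (((alternatingFaceMapComplex (Sheaf J AddCommGrpCat.{u})).obj
      (FX X ⋙ presheafToSheaf J AddCommGrpCat.{u})).homology 0 ≅
      (constantSheaf J AddCommGrpCat.{u}).obj (AddCommGrpCat.of (ULift.{u} ℤ))) := by
  obtain ⟨e⟩ := nonempty_homology_zero_iso hX
  exact ⟨e ≪≫ (constantSheaf J AddCommGrpCat.{u}).mapIso
    ((FreeAbelianGroup.uniqueEquiv PUnit.{u + 1}).trans AddEquiv.ulift.symm).toAddCommGrpIso⟩

end Groth.Agent.H15Site.HyperExact
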