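import Mathlib.AlgebraicTopology.SimplicialObject.Basic
import Mathlib.CategoryTheory.Sites.Grothendieck
import Mathlib.GroupTheory.FreeAbelianGroup
import Mathlib.Algebra.BigOperators.Fin
import Mathlib.Tactic.Abel
import Mathlib.Algebra.BigOperators.GroupWithZero.Action

/-!
# Locally fillable simplicial presheaves of sets: cycles are locally boundaries
-/

set_option autoImplicit false
set_option linter.style.haveILetI false
set_option linter.unusedSectionVars false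
set_option backward.isDefEq.respectTransparency false

universe u

open CategoryTheory Opposite
open scoped Simplicial

namespace Groth.Agent.H15Site.HyperFill

open scoped Classical

variable {C : Type u} [SmallCategory C] {J : GrothendieckTopology C}
  (X : SimplicialObject (Cᵒᵖ ⥤ Type u))

/-- Simplices over an object. -/
abbrev sx (n : ℕ) (U : C) : Type u := (X.obj (op ⦋n⦌)).obj (op U)

variable {X}

/-- Restriction. -/
abbrev rs {n : ℕ} {U V : C} (v : V ⟶ U) (x : sx X n U) : sx X n V := (X.obj (op ⦋n⦌)).map v.op x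

/-- Faces. -/
abbrev dd {n : ℕ} {U : C} (i : Fin (n + 2)) (x : sx X (n + 1) U) : sx X n U :=
  (X.δ i).app (op U) x

lemma rs_rs {n : ℕ} {U V W : C} (v : V ⟶ U) (w : W ⟶ V) (x : sx X n U) :
    rs w (rs v x) = rs (w ≫ v) x := by
  simp [rs]

lemma dd_rs {n : ℕ} {U V : C} (v : V ⟶ U) (i : Fin (n + 2)) (x : sx X (n + 1) U) :
    dd i (rs v x) = rs v (dd i x) :=
  ConcreteCategory.congr_hom ((X.δ i).naturality v.op) x

lemma dd_dd {n : ℕ} {U : C} {i j : Fin (n + 2)} (h : i ≤ j) (x : sx X (n + 1 + 1) U) :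
    dd i (dd j.succ x) = dd j (dd i.castSucc x) :=
  ConcreteCategory.congr_hom (congr_app (X.δ_comp_δ h) (op U)) x

variable (J X) in
/-- Every sphere locally has a filler. -/
structure LocFill : Prop where
  nonempty : ∀ U : C, ∃ R ∈ J U, ∀ ⦃V : C⦄ (v : V ⟶ U), R v → Nonempty (sx X 0 V)
  zero : ∀ (U : C) (x₀ x₁ : sx X 0 U), ∃ R ∈ J U, ∀ ⦃V : C⦄ (v : V ⟶ U), R v →
    ∃ y : sx X 1 V, dd 0 y = rs v x₀ ∧ dd 1 y = rs v x₁
  succ : ∀ (p : ℕ) (U : C) (x : Fin (p + 3) → sx X (p + 1) U),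
    (∀ i j : Fin (p + 2), i ≤ j → dd i (x j.succ) = dd j (x i.castSucc)) →
    ∃ R ∈ J U, ∀ ⦃V : C⦄ (v : V ⟶ U), R v →
      ∃ y : sx X (p + 1 + 1) V, ∀ i, dd i y = rs v (x i)

lemma exists_cover_finset {α : Type*} {U : C} (S : Finset α) (R : α → Sieve U)
    (hR : ∀ a ∈ S, R a ∈ J U) : ∃ T ∈ J U, ∀ ⦃V : C⦄ (v : V ⟶ U), T v → ∀ a ∈ S, R a v := by
  induction S using Finset.induction_on with
  | empty => exact ⟨⊤, J.top_mem U, fun _ _ _ a ha => absurd ha (Finset.notMem_empty a)⟩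
  | insert a S haS ih =>
    obtain ⟨T, hT, hT'⟩ := ih fun b hb => hR b (Finset.mem_insert_of_mem hb)
    refine ⟨R a ⊓ T, J.intersection_covering (hR a (Finset.mem_insert_self a S)) hT,
      fun V v hv b hb => ?_⟩
    rcases Finset.mem_insert.1 hb with rfl | hb
    · exact hv.1
    · exact hT' v hv.2 b hb

/-- The faces of a finite set of simplices. -/
noncomputable def faces {n : ℕ} {U : C} (S : Finset (sx X (n + 1) U)) : Finset (sx X n U) :=
  S.biUnion fun σ => Finset.univ.image fun i => dd i σ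

lemma dd_mem_faces {n : ℕ} {U : C} {S : Finset (sx X (n + 1) U)} {σ : sx X (n + 1) U} (h : σ ∈ S)
    (i : Fin (n + 2)) : dd i σ ∈ faces S :=
  Finset.mem_biUnion.2 ⟨σ, h, Finset.mem_image_of_mem _ (Finset.mem_univ i)⟩

/-- A cone on a finite set of simplices, after restriction along `v`. -/
def ConeOn {U V : C} (v : V ⟶ U) : (m : ℕ) → Finset (sx X m U) → (sx X m U → sx X (m + 1) V) → Prop
  | 0, S, c => ∃ b : sx X 0 V, ∀ σ ∈ S, dd 0 (c σ) = rs v σ ∧ dd 1 (c σ) = b
  | m + 1, S, c => ∃ c', ConeOn v m (faces S) c' ∧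
      ∀ σ ∈ S, dd 0 (c σ) = rs v σ ∧ ∀ i : Fin (m + 2), dd i.succ (c σ) = c' (dd i σ)

lemma ConeOn.dd_zero {U V : C} {v : V ⟶ U} : ∀ {m : ℕ} {S : Finset (sx X m U)}
    {c : sx X m U → sx X (m + 1) V}, ConeOn v m S c → ∀ σ ∈ S, dd 0 (c σ) = rs v σ
  | 0, _, _, ⟨_, h⟩ => fun σ hσ => (h σ hσ).1
  | _ + 1, _, _, ⟨_, _, h⟩ => fun σ hσ => (h σ hσ).1

lemma ConeOn.restrict {U V W : C} {v : V ⟶ U} (w : W ⟶ V) : ∀ {m : ℕ} {S : Finset (sx X m U)}
    {c : sx X m U → sx X (m + 1) V}, ConeOn v m S c →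
      ConeOn (w ≫ v) m S (fun σ => rs w (c σ))
  | 0, _, _, ⟨b, h⟩ => ⟨rs w b, fun σ hσ => ⟨by rw [dd_rs, (h σ hσ).1, rs_rs],
      by rw [dd_rs, (h σ hσ).2]⟩⟩
  | _ + 1, _, _, ⟨c', hc', h⟩ => ⟨fun τ => rs w (c' τ), hc'.restrict w,
      fun σ hσ => ⟨by rw [dd_rs, (h σ hσ).1, rs_rs], fun i => by rw [dd_rs, (h σ hσ).2 i]⟩⟩

variable (hX : LocFill J X)
include hX

/-- Finite sets of simplices locally have cones. -/
theorem exists_cone (m : ℕ) (U : C) (S : Finset (sx X m U)) :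
    ∃ R ∈ J U, ∀ ⦃V : C⦄ (v : V ⟶ U), R v → ∃ c, ConeOn v m S c := by
  induction m with
  | zero =>
    obtain ⟨R, hR, hR'⟩ := hX.nonempty U
    have key : ∀ ⦃V : C⦄ (v : V ⟶ U), R v → ∃ T ∈ J V, ∀ ⦃W : C⦄ (w : W ⟶ V), T w →
        ∃ c, ConeOn (w ≫ v) 0 S c := by
      intro V v hv
      obtain ⟨b⟩ := hR' v hv
      choose T hT hT' using fun σ : sx X 0 U => hX.zero V (rs v σ) b
      obtain ⟨T₀, hT₀, hT₀'⟩ := exists_cover_finset S T (fun σ _ => hT σ)
      refine ⟨T₀, hT₀, fun W w hw => ⟨fun σ => if h : σ ∈ S then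
          (hT' σ w (hT₀' w hw σ h)).choose else (X.σ (0 : Fin 1)).app (op W) (rs w b),
        rs w b, fun σ hσ => ?_⟩⟩
      simp only [dif_pos hσ]
      have := (hT' σ w (hT₀' w hw σ hσ)).choose_spec
      exact ⟨this.1.trans (rs_rs v w σ), this.2⟩
    choose T hT hT' using key
    refine ⟨Sieve.bind R.arrows T, J.bind_covering hR hT, fun W t ht => ?_⟩
    obtain ⟨V, w, v, hv, hw, rfl⟩ := ht
    exact hT' v hv w hw
  | succ m ih =>
    obtain ⟨R, hR, hR'⟩ := ih (faces S)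
    have key : ∀ ⦃V : C⦄ (v : V ⟶ U), R v → ∃ T ∈ J V, ∀ ⦃W : C⦄ (w : W ⟶ V), T w →
        ∃ c, ConeOn (w ≫ v) (m + 1) S c := by
      intro V v hv
      obtain ⟨c', hc'⟩ := hR' v hv
      let x : sx X (m + 1) U → Fin (m + 3) → sx X (m + 1) V := fun σ =>
        Fin.cons (rs v σ) (fun i => c' (dd i σ))
      have hx : ∀ σ ∈ S, ∀ i j : Fin (m + 2), i ≤ j →
          dd i (x σ j.succ) = dd j (x σ i.castSucc) := by
        intro σ hσ i j hij
        simp only [x, Fin.cons_succ]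
        rcases Fin.eq_zero_or_eq_succ i with rfl | ⟨i', rfl⟩
        · rw [Fin.castSucc_zero', Fin.cons_zero, hc'.dd_zero _ (dd_mem_faces hσ j), dd_rs]
        · obtain ⟨j', rfl⟩ : ∃ j', j = Fin.succ j' :=
            (Fin.eq_zero_or_eq_succ j).resolve_left fun h => by
              subst h
              exact absurd hij (not_le.2 (Fin.succ_pos i'))
          rw [Fin.castSucc_succ, Fin.cons_succ]
          cases m with
          | zero =>
            obtain ⟨b, hb⟩ := hc'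
            obtain rfl : i' = 0 := Fin.fin_one_eq_zero i'
            obtain rfl : j' = 0 := Fin.fin_one_eq_zero j'
            exact ((hb _ (dd_mem_faces hσ _)).2).trans ((hb _ (dd_mem_faces hσ _)).2).symm
          | succ p =>
            obtain ⟨c'', -, hc''⟩ := hc'
            rw [(hc'' _ (dd_mem_faces hσ _)).2, (hc'' _ (dd_mem_faces hσ _)).2,
              dd_dd (Fin.succ_le_succ_iff.1 hij)]
      choose T hT hT' using fun σ : {σ // σ ∈ S} => hX.succ m V (x σ.1) (hx σ.1 σ.2)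
      obtain ⟨T₀, hT₀, hT₀'⟩ := exists_cover_finset S.attach T (fun σ _ => hT σ)
      refine ⟨T₀, hT₀, fun W w hw => ⟨fun σ => if h : σ ∈ S then
          (hT' ⟨σ, h⟩ w (hT₀' w hw _ (Finset.mem_attach _ _))).choose else
          (X.σ (0 : Fin (m + 2))).app (op W) (rs w (c' (dd 0 σ))),
        fun τ => rs w (c' τ), hc'.restrict w, fun σ hσ => ?_⟩⟩
      simp only [dif_pos hσ]
      have h := (hT' ⟨σ, hσ⟩ w (hT₀' w hw _ (Finset.mem_attach _ _))).choose_spec
      refine ⟨(h 0).trans ?_, fun i => (h i.succ).trans ?_⟩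
      · simp only [x, Fin.cons_zero, rs_rs]
      · simp only [x, Fin.cons_succ]
    choose T hT hT' using key
    refine ⟨Sieve.bind R.arrows T, J.bind_covering hR hT, fun W t ht => ?_⟩
    obtain ⟨V, w, v, hv, hw, rfl⟩ := ht
    exact hT' v hv w hw

omit hX

/-- The alternating boundary of formal sums. -/
noncomputable def bd (X : SimplicialObject (Cᵒᵖ ⥤ Type u)) (n : ℕ) (U : C) :
    FreeAbelianGroup (sx X (n + 1) U) →+ FreeAbelianGroup (sx X n U) :=
  ∑ i : Fin (n + 2), ((-1 : ℤ) ^ (i : ℕ)) • FreeAbelianGroup.map (dd i)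

lemma bd_of {n : ℕ} {U : C} (σ : sx X (n + 1) U) :
    bd X n U (FreeAbelianGroup.of σ) =
      ∑ i : Fin (n + 2), ((-1 : ℤ) ^ (i : ℕ)) • FreeAbelianGroup.of (dd i σ) := by
  simp only [bd, AddMonoidHom.coe_finsetSum, Finset.sum_apply]
  refine Finset.sum_congr rfl fun i _ => ?_
  show ((-1 : ℤ) ^ (i : ℕ)) • (FreeAbelianGroup.map (dd i) (FreeAbelianGroup.of σ)) = _
  rw [FreeAbelianGroup.map_of_apply]

lemma exists_support {α : Type u} (z : FreeAbelianGroup α) :
    ∃ S : Finset α, z ∈ AddSubgroup.closure (FreeAbelianGroup.of '' (S : Set α)) := by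
  induction z using FreeAbelianGroup.induction_on with
  | zero => exact ⟨∅, zero_mem _⟩
  | of x => exact ⟨{x}, AddSubgroup.subset_closure ⟨x, by simp, rfl⟩⟩
  | neg x h =>
    obtain ⟨S, hS⟩ := h
    exact ⟨S, neg_mem hS⟩
  | add x y hx hy =>
    obtain ⟨S, hS⟩ := hx
    obtain ⟨T, hT⟩ := hy
    exact ⟨S ∪ T, add_mem
      (AddSubgroup.closure_mono (Set.image_mono (by simp)) hS)
      (AddSubgroup.closure_mono (Set.image_mono (by simp)) hT)⟩

lemma bd_cone {m : ℕ} {U V : C} {v : V ⟶ U} {S : Finset (sx X (m + 1) U)}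
    {c : sx X (m + 1) U → sx X (m + 1 + 1) V} {c' : sx X m U → sx X (m + 1) V}
    (h : ∀ σ ∈ S, dd 0 (c σ) = rs v σ ∧ ∀ i : Fin (m + 2), dd i.succ (c σ) = c' (dd i σ))
    (z : FreeAbelianGroup (sx X (m + 1) U))
    (hz : z ∈ AddSubgroup.closure (FreeAbelianGroup.of '' (S : Set (sx X (m + 1) U)))) :
    bd X (m + 1) V (FreeAbelianGroup.map c z) =
      FreeAbelianGroup.map (rs v) z - FreeAbelianGroup.map c' (bd X m U z) := by
  induction hz using AddSubgroup.closure_induction with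
  | mem x hx =>
    obtain ⟨σ, hσ, rfl⟩ := hx
    rw [FreeAbelianGroup.map_of_apply, bd_of, FreeAbelianGroup.map_of_apply, bd_of, map_sum,
      Fin.sum_univ_succ, (h σ hσ).1, sub_eq_add_neg, ← Finset.sum_neg_distrib]
    refine congrArg₂ (· + ·) (by simp) (Finset.sum_congr rfl fun i _ => ?_)
    rw [map_zsmul, FreeAbelianGroup.map_of_apply, (h σ hσ).2 i, ← neg_smul, Fin.val_succ, pow_succ,
      mul_neg_one]
  | zero => simp
  | add x y _ _ hx hy => simp only [map_add, hx, hy]; abel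
  | neg x _ hx => simp only [map_neg, hx]; abel

include hX

/-- Cycles of positive degree are locally boundaries. -/
theorem exists_boundary (n : ℕ) (U : C) (z : FreeAbelianGroup (sx X (n + 1) U))
    (hz : bd X n U z = 0) : ∃ R ∈ J U, ∀ ⦃V : C⦄ (v : V ⟶ U), R v →
      ∃ w, bd X (n + 1) V w = FreeAbelianGroup.map (rs v) z := by
  obtain ⟨S, hS⟩ := exists_support z
  obtain ⟨R, hR, hR'⟩ := exists_cone hX (n + 1) U S
  refine ⟨R, hR, fun V v hv => ?_⟩
  obtain ⟨c, c', -, hc⟩ := hR' v hv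
  refine ⟨FreeAbelianGroup.map c z, ?_⟩
  rw [bd_cone hc z hS, hz, map_zero, sub_zero]

omit hX

lemma bd_cone_zero {U V : C} {v : V ⟶ U} {S : Finset (sx X 0 U)}
    {c : sx X 0 U → sx X 1 V} {b : sx X 0 V}
    (h : ∀ σ ∈ S, dd 0 (c σ) = rs v σ ∧ dd 1 (c σ) = b) (z : FreeAbelianGroup (sx X 0 U))
    (hz : z ∈ AddSubgroup.closure (FreeAbelianGroup.of '' (S : Set (sx X 0 U)))) :
    bd X 0 V (FreeAbelianGroup.map c z) =
      FreeAbelianGroup.map (rs v) z -
        FreeAbelianGroup.lift (fun _ => (1 : ℤ)) z • FreeAbelianGroup.of b := by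
  induction hz using AddSubgroup.closure_induction with
  | mem x hx =>
    obtain ⟨σ, hσ, rfl⟩ := hx
    rw [FreeAbelianGroup.map_of_apply, bd_of, FreeAbelianGroup.map_of_apply,
      FreeAbelianGroup.lift_apply_of, Fin.sum_univ_two, (h σ hσ).1, (h σ hσ).2]
    simp [sub_eq_add_neg]
  | zero => simp
  | add x y _ _ hx hy => simp only [map_add, hx, hy, add_smul]; abel
  | neg x _ hx => simp only [map_neg, hx, neg_smul]; abel

include hX

/-- A degree zero sum with vanishing total is locally a boundary. -/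
theorem exists_boundary_zero (U : C) (z : FreeAbelianGroup (sx X 0 U))
    (hz : FreeAbelianGroup.lift (fun _ => (1 : ℤ)) z = 0) :
    ∃ R ∈ J U, ∀ ⦃V : C⦄ (v : V ⟶ U), R v →
      ∃ w, bd X 0 V w = FreeAbelianGroup.map (rs v) z := by
  obtain ⟨S, hS⟩ := exists_support z
  obtain ⟨R, hR, hR'⟩ := exists_cone hX 0 U S
  refine ⟨R, hR, fun V v hv => ?_⟩
  obtain ⟨c, b, hc⟩ := hR' v hv
  refine ⟨FreeAbelianGroup.map c z, ?_⟩
  rw [bd_cone_zero hc z hS, hz, zero_smul, sub_zero]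

end Groth.Agent.H15Site.HyperFill
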