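import Groth.Agent.H15Site.HyperExact
import Groth.Prelude.Def_Hyper
import Mathlib.AlgebraicTopology.SimplexCategory.Basic

/-!
# Hypercoverings in Verdier's sense are locally fillable
-/

set_option autoImplicit false
set_option linter.style.haveILetI false
set_option linter.unusedSectionVars false
set_option backward.isDefEq.respectTransparency false

universe u

open CategoryTheory CategoryTheory.Limits Opposite SimplexCategory
open scoped Simplicial

namespace Groth.Agent.H15Site.HyperSite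

open HyperFill

variable {C : Type u} [SmallCategory C] {J : GrothendieckTopology C}

/-- A formal coproduct as the presheaf of maps into it. -/
noncomputable abbrev homP (C : Type u) [SmallCategory C] :
    FormalCoproduct.{u} C ⥤ Cᵒᵖ ⥤ Type u :=
  CategoryTheory.yoneda ⋙ (Functor.whiskeringLeft _ _ _).obj (FormalCoproduct.incl C).op

lemma homP_hom_ext {U : C} {L : FormalCoproduct.{u} C}
    (g g' : (FormalCoproduct.incl C).obj U ⟶ L)
    (h : g.asSigma = g'.asSigma) : g = g' := by
  rw [← g.fromIncl_asSigma, ← g'.fromIncl_asSigma, h]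

/-- One component. -/
def homPι (L : FormalCoproduct.{u} C) (i : L.I) : CategoryTheory.yoneda.obj (L.obj i) ⟶ (homP C).obj L where
  app U := ↾fun a => FormalCoproduct.Hom.fromIncl i a
  naturality U V k := by
    ext a
    exact homP_hom_ext _ _ rfl

/-- The comparison. -/
noncomputable def toHomP (L : FormalCoproduct.{u} C) :
    (FormalCoproduct.yoneda (C := C)).obj L ⟶ (homP C).obj L :=
  Sigma.desc fun i => homPι L i

/-- Its inverse. -/
noncomputable def ofHomP (L : FormalCoproduct.{u} C) :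
    (homP C).obj L ⟶ (FormalCoproduct.yoneda (C := C)).obj L where
  app U := ↾fun g => (Sigma.ι (fun i => CategoryTheory.yoneda.obj (L.obj i)) (g.f PUnit.unit)).app U
    (g.φ PUnit.unit)
  naturality U V k := by
    ext g
    exact ConcreteCategory.congr_hom
      ((Sigma.ι (fun i => CategoryTheory.yoneda.obj (L.obj i)) (g.f PUnit.unit)).naturality k)
      (g.φ PUnit.unit)

/-- Coproducts of representables are presheaves of maps. -/
noncomputable def yonedaIso : FormalCoproduct.yoneda (C := C) ≅ homP C :=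
  NatIso.ofComponents
    (fun L =>
      { hom := toHomP L
        inv := ofHomP L
        hom_inv_id := by
          refine Sigma.hom_ext _ _ fun i => ?_
          rw [toHomP, Sigma.ι_desc_assoc]
          refine Eq.trans ?_ (Category.comp_id _).symm
          rfl
        inv_hom_id := by
          refine NatTrans.ext (funext fun U => ?_)
          ext g
          refine (ConcreteCategory.congr_hom (congr_app (Sigma.ι_desc (fun i => homPι L i)
            (g.f PUnit.unit)) U) (g.φ PUnit.unit)).trans ?_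
          exact homP_hom_ext _ _ rfl })
    fun {L M} φ => by
      refine Sigma.hom_ext _ _ fun i => ?_
      refine (Category.assoc _ _ _).symm.trans ((congrArg (fun t => t ≫ toHomP M)
        (Sigma.ι_desc _ i)).trans ?_)
      rw [Category.assoc, toHomP]
      refine (congrArg _ (Sigma.ι_desc _ _)).trans ?_
      refine Eq.trans ?_ ((congrArg (fun t => t ≫ (homP C).map φ) (Sigma.ι_desc (fun i => homPι L i) i)).symm.trans
        (Category.assoc _ _ _))
      refine NatTrans.ext (funext fun U => ?_)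
      ext a
      exact homP_hom_ext _ _ rfl

variable (K : SimplicialObject (FormalCoproduct.{u} C))

/-- The simplicial presheaf of sets of a simplicial formal coproduct. -/
noncomputable abbrev XK : SimplicialObject (Cᵒᵖ ⥤ Type u) := K ⋙ homP C

theorem isLocallySurjective_homP {L M : FormalCoproduct.{u} C} (φ : L ⟶ M)
    [Presheaf.IsLocallySurjective J ((FormalCoproduct.yoneda (C := C)).map φ)] :
    Presheaf.IsLocallySurjective J ((homP C).map φ) := by
  have h : (homP C).map φ = yonedaIso.inv.app L ≫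
      (FormalCoproduct.yoneda (C := C)).map φ ≫ yonedaIso.hom.app M := by
    rw [yonedaIso.hom.naturality, ← Category.assoc, Iso.inv_hom_id_app, Category.id_comp]
  rw [h]
  infer_instance

section Sphere

variable {p : ℕ}

/-- The simplices of `Δ[p + 2]`, constant at `U`. -/
def simplexObj (p : ℕ) (U : C) : SimplicialObject (FormalCoproduct.{u} C) where
  obj Δ := ⟨ULift.{u} (Δ.unop ⟶ ⦋p + 1 + 1⦌), fun _ => U⟩
  map g := ⟨fun f => ⟨g.unop ≫ f.down⟩, fun _ => 𝟙 U⟩
  map_id Δ := by
    refine FormalCoproduct.hom_ext (funext fun f => by simp) fun f => ?_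
    simp
  map_comp g g' := by
    refine FormalCoproduct.hom_ext (funext fun f => by simp) fun f => ?_
    simp

/-- The element at a simplex. -/
def simplexInj {U : C} {Δ : SimplexCategoryᵒᵖ} (f : Δ.unop ⟶ ⦋p + 1 + 1⦌) :
    (FormalCoproduct.incl C).obj U ⟶ (simplexObj p U).obj Δ :=
  FormalCoproduct.Hom.fromIncl (Y := (simplexObj p U).obj Δ) ⟨f⟩ (𝟙 U)

lemma simplexInj_map {U : C} {Δ Δ' : SimplexCategoryᵒᵖ} (g : Δ ⟶ Δ') (f : Δ.unop ⟶ ⦋p + 1 + 1⦌) :
    simplexInj (U := U) f ≫ (simplexObj p U).map g = simplexInj (g.unop ≫ f) := by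
  refine homP_hom_ext _ _ (Sigma.ext rfl (heq_of_eq ?_))
  exact Category.comp_id _

lemma simplexObj_hom_ext {U : C} {Δ : SimplexCategoryᵒᵖ} {L : FormalCoproduct.{u} C}
    (a b : (simplexObj p U).obj Δ ⟶ L)
    (h : ∀ f : Δ.unop ⟶ ⦋p + 1 + 1⦌, simplexInj f ≫ a = simplexInj f ≫ b) : a = b := by
  have h1 : ∀ f : ULift.{u} (Δ.unop ⟶ ⦋p + 1 + 1⦌), (⟨a.f f, a.φ f⟩ : Σ i, U ⟶ L.obj i) =
      ⟨b.f f, b.φ f⟩ := fun f => by
    have := congrArg FormalCoproduct.Hom.asSigma (h f.down)
    simp only [simplexInj, FormalCoproduct.Hom.asSigma] at this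
    simp only [FormalCoproduct.Hom.fromIncl, FormalCoproduct.category_comp_f,
      FormalCoproduct.category_comp_φ] at this
    obtain ⟨e1, e2⟩ := Sigma.mk.inj_iff.1 this
    refine Sigma.ext e1 ?_
    exact (heq_of_eq (Category.id_comp _).symm).trans (e2.trans (heq_of_eq (Category.id_comp _)))
  refine FormalCoproduct.hom_ext (funext fun f => (Sigma.mk.inj_iff.1 (h1 f)).1) fun f => ?_
  have := (Sigma.mk.inj_iff.1 (h1 f)).2
  rw [← heq_iff_eq]
  exact (heq_of_eq_of_heq rfl (comp_eqToHom_heq _ _)).trans this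

variable {U : C} (x : Fin (p + 3) → sx (XK K) (p + 1) U)
  (hx : ∀ i j : Fin (p + 2), i ≤ j → dd i (x j.succ) = dd j (x i.castSucc))

/-- The value of the sphere at a simplex missing `i`. -/
noncomputable def faceVal {Δ : SimplexCategory} (ψ : Δ ⟶ ⦋p + 1⦌) (i : Fin (p + 3)) :
    ((XK K).obj (op Δ)).obj (op U) :=
  ((XK K).map ψ.op).app (op U) (x i)

lemma faceVal_comp {Δ Δ' : SimplexCategory} (g : Δ' ⟶ Δ) (ψ : Δ ⟶ ⦋p + 1⦌) (i : Fin (p + 3)) :
    ((XK K).map g.op).app (op U) (faceVal K x ψ i) = faceVal K x (g ≫ ψ) i := by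
  rw [faceVal, faceVal, op_comp, Functor.map_comp]
  rfl

include hx in
lemma faceVal_eq {Δ : SimplexCategory} (ψ ψ' : Δ ⟶ ⦋p + 1⦌) {i j : Fin (p + 3)}
    (h : ψ ≫ δ i = ψ' ≫ δ j) : faceVal K x ψ i = faceVal K x ψ' j := by
  wlog hij : i ≤ j generalizing i j ψ ψ'
  · exact (this ψ' ψ h.symm (le_of_not_ge hij)).symm
  rcases hij.eq_or_lt with rfl | hlt
  · rw [(cancel_mono (δ i)).1 h]
  obtain ⟨j, rfl⟩ : ∃ j' : Fin (p + 2), j = j'.succ :=
    (Fin.eq_zero_or_eq_succ j).resolve_left fun h0 => by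
      subst h0
      exact absurd hlt (Fin.not_lt_zero i)
  obtain ⟨i, rfl⟩ : ∃ i' : Fin (p + 2), i = i'.castSucc :=
    ⟨i.castPred (Fin.ne_last_of_lt hlt), (Fin.castSucc_castPred _ _).symm⟩
  have hle : i ≤ j := Fin.castSucc_lt_succ_iff.1 hlt
  obtain ⟨χ, rfl⟩ : ∃ χ, ψ' = χ ≫ δ i := by
    refine eq_comp_δ_of_not_surjective' ψ' i fun a ha => ?_
    have h2 := congrArg (fun t => t.toOrderHom a) h.symm
    simp only [SimplexCategory.comp_toOrderHom, OrderHom.comp_coe, Function.comp_apply, ha] at h2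
    change j.succ.succAbove i = i.castSucc.succAbove (ψ.toOrderHom a) at h2
    rw [Fin.succAbove_of_castSucc_lt _ _ hlt] at h2
    exact Fin.succAbove_ne i.castSucc _ h2.symm
  obtain rfl : ψ = χ ≫ δ j := by
    rw [← cancel_mono (δ i.castSucc), h, Category.assoc, Category.assoc, δ_comp_δ hle]
  rw [← faceVal_comp, ← faceVal_comp]
  exact congrArg (((XK K).map χ.op).app (op U)) (hx i j hle).symm

lemma exists_face {Δ : SimplexCategory.Truncated (p + 1)} (f : Δ.obj ⟶ ⦋p + 1 + 1⦌) :
    ∃ (i : Fin (p + 3)) (ψ : Δ.obj ⟶ ⦋p + 1⦌), f = ψ ≫ δ i := by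
  refine eq_comp_δ_of_not_surjective f fun hs => ?_
  have := Fintype.card_le_of_surjective _ hs
  have h2 := Δ.2
  simp only [Fintype.card_fin, SimplexCategory.len_mk] at this
  omega

/-- The sphere on all small simplices. -/
noncomputable def sphereVal (Δ : SimplexCategory.Truncated (p + 1)) (f : Δ.obj ⟶ ⦋p + 1 + 1⦌) :
    (FormalCoproduct.incl C).obj U ⟶ K.obj (op Δ.obj) :=
  faceVal K x (exists_face f).choose_spec.choose (exists_face f).choose

include hx in
lemma sphereVal_eq {Δ : SimplexCategory.Truncated (p + 1)} (f : Δ.obj ⟶ ⦋p + 1 + 1⦌)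
    (ψ : Δ.obj ⟶ ⦋p + 1⦌) (i : Fin (p + 3)) (h : f = ψ ≫ δ i) :
    sphereVal K x Δ f = faceVal K x ψ i :=
  faceVal_eq K x hx _ _ ((exists_face f).choose_spec.choose_spec.symm.trans h)

include hx in
lemma sphereVal_comp {Δ Δ' : SimplexCategory.Truncated (p + 1)} (g : Δ' ⟶ Δ)
    (f : Δ.obj ⟶ ⦋p + 1 + 1⦌) :
    sphereVal K x Δ f ≫ K.map g.hom.op = sphereVal K x Δ' (g.hom ≫ f) := by
  obtain ⟨i, ψ, rfl⟩ := exists_face f
  rw [sphereVal_eq K x hx _ ψ i rfl, sphereVal_eq K x hx _ (g.hom ≫ ψ) i (Category.assoc _ _ _).symm,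
    ← faceVal_comp]
  rfl

variable (p U) in
/-- The truncated `Δ[p + 2]`. -/
abbrev simplexTrunc : SimplicialObject.Truncated (FormalCoproduct.{u} C) (p + 1) :=
  (SimplicialObject.truncation (p + 1)).obj (simplexObj p U)

/-- The sphere as a map of truncated objects. -/
noncomputable def sphereHom :
    simplexTrunc p U ⟶ (SimplicialObject.truncation (p + 1)).obj K where
  app Δ := ⟨fun f => (sphereVal K x Δ.unop f.down).f PUnit.unit,
    fun f => (sphereVal K x Δ.unop f.down).φ PUnit.unit⟩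
  naturality Δ Δ' g := by
    refine simplexObj_hom_ext _ _ fun f => ?_
    have h1 : ∀ (E : (SimplexCategory.Truncated (p + 1))ᵒᵖ) (e : E.unop.obj ⟶ ⦋p + 1 + 1⦌),
        simplexInj (U := U) (Δ := op E.unop.obj) e ≫
          (⟨fun f => (sphereVal K x E.unop f.down).f PUnit.unit,
            fun f => (sphereVal K x E.unop f.down).φ PUnit.unit⟩ :
              (simplexObj p U).obj (op E.unop.obj) ⟶ K.obj (op E.unop.obj)) =
          sphereVal K x E.unop e := fun E e =>
      homP_hom_ext _ _ (Sigma.ext rfl (heq_of_eq (Category.id_comp _)))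
    refine (Category.assoc _ _ _).symm.trans ?_
    refine (congrArg (fun t => t ≫ _) (simplexInj_map g.unop.hom.op f)).trans ?_
    refine (h1 Δ' _).trans ?_
    refine Eq.trans ?_ (Category.assoc _ _ _)
    refine Eq.trans ?_ (congrArg (fun t => t ≫ _) (h1 Δ f)).symm
    exact (sphereVal_comp K x hx g.unop f).symm

end Sphere

variable [∀ (n : ℕ) (F : (SimplexCategory.Truncated n)ᵒᵖ ⥤ FormalCoproduct.{u} C),
      (SimplexCategory.Truncated.inclusion n).op.HasRightKanExtension F]

theorem succ_of_cosk (p : ℕ)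
    (h : Presheaf.IsLocallySurjective J ((FormalCoproduct.yoneda (C := C)).map
      (((SimplicialObject.coskAdj (p + 1)).unit.app K).app (op ⦋p + 1 + 1⦌))))
    (U : C) (x : Fin (p + 3) → sx (XK K) (p + 1) U)
    (hx : ∀ i j : Fin (p + 2), i ≤ j → dd i (x j.succ) = dd j (x i.castSucc)) :
    ∃ R ∈ J U, ∀ ⦃V : C⦄ (v : V ⟶ U), R v →
      ∃ y : sx (XK K) (p + 1 + 1) V, ∀ i, dd i y = rs v (x i) := by
  let η := (SimplicialObject.coskAdj (p + 1)).unit.app K
  let T := (SimplicialObject.truncation (p + 1)).obj K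
  let ε := (SimplicialObject.coskAdj (p + 1)).counit.app T
  let τ := sphereHom K x hx
  let σ : simplexObj p U ⟶ (SimplicialObject.Truncated.cosk (p + 1)).obj T :=
    ((SimplicialObject.coskAdj (p + 1)).homEquiv _ _) τ
  have hσ : ∀ Δ, σ.app ((SimplexCategory.Truncated.inclusion (p + 1)).op.obj Δ) ≫ ε.app Δ =
      τ.app Δ := fun Δ =>
    congr_app (((SimplicialObject.coskAdj (p + 1)).homEquiv_counit _ _ σ).symm.trans
      (Equiv.symm_apply_apply _ τ)) Δ
  have hη : ∀ Δ, η.app ((SimplexCategory.Truncated.inclusion (p + 1)).op.obj Δ) ≫ ε.app Δ = 𝟙 _ :=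
    fun Δ => congr_app ((SimplicialObject.coskAdj (p + 1)).left_triangle_components K) Δ
  haveI := h
  haveI := isLocallySurjective_homP (J := J) (η.app (op ⦋p + 1 + 1⦌))
  let e : (FormalCoproduct.incl C).obj U ⟶
      ((SimplicialObject.Truncated.cosk (p + 1)).obj T).obj (op ⦋p + 1 + 1⦌) :=
    simplexInj (𝟙 _) ≫ σ.app (op ⦋p + 1 + 1⦌)
  refine ⟨_, Presheaf.imageSieve_mem J ((homP C).map (η.app (op ⦋p + 1 + 1⦌))) (U := op U) e,
    fun V v hv => ?_⟩
  obtain ⟨y, hy⟩ := hv
  change y ≫ η.app (op ⦋p + 1 + 1⦌) = (FormalCoproduct.incl C).map v ≫ e at hy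
  refine ⟨y, fun i => ?_⟩
  show y ≫ K.map (δ i).op = (FormalCoproduct.incl C).map v ≫ x i
  let Δ : (SimplexCategory.Truncated (p + 1))ᵒᵖ := op ⟨⦋p + 1⦌, le_refl (p + 1)⟩
  have h1 : y ≫ K.map (δ i).op = (y ≫ η.app (op ⦋p + 1 + 1⦌)) ≫
      ((SimplicialObject.Truncated.cosk (p + 1)).obj T).map (δ i).op ≫ ε.app Δ := by
    rw [Category.assoc, ← Category.assoc (η.app (op ⦋p + 1 + 1⦌))]
    refine Eq.trans ?_ (congrArg (fun t => y ≫ t ≫ ε.app Δ) (η.naturality (δ i).op))
    rw [Category.assoc]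
    exact (congrArg (fun t => y ≫ K.map (δ i).op ≫ t) (hη Δ)).trans
      (congrArg (y ≫ ·) (Category.comp_id _)) |>.symm
  rw [h1, hy, Category.assoc]
  refine congrArg ((FormalCoproduct.incl C).map v ≫ ·) ?_
  refine (Category.assoc _ _ _).trans ?_
  refine (congrArg (simplexInj (𝟙 _) ≫ ·) ((Category.assoc _ _ _).symm.trans
    (congrArg (fun t => t ≫ ε.app Δ) (σ.naturality (δ i).op).symm))).trans ?_
  refine (congrArg (simplexInj (𝟙 _) ≫ ·) ((Category.assoc _ _ _).trans
    (congrArg (_ ≫ ·) (hσ Δ)))).trans ?_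
  refine (Category.assoc _ _ _).symm.trans ?_
  refine (congrArg (fun t => t ≫ τ.app Δ) (simplexInj_map (δ i).op (𝟙 _))).trans ?_
  refine (homP_hom_ext (simplexInj ((δ i).op.unop ≫ 𝟙 _) ≫ τ.app Δ)
    (sphereVal K x Δ.unop ((δ i).op.unop ≫ 𝟙 _))
    (Sigma.ext rfl (heq_of_eq (Category.id_comp _)))).trans ?_
  refine (sphereVal_eq K x hx _ (𝟙 _) i (by simp)).trans ?_
  show ((XK K).map (𝟙 ⦋p + 1⦌).op).app (op U) (x i) = x i
  rw [op_id, CategoryTheory.Functor.map_id]
  rfl

/-- A hypercovering of the final object is locally fillable. -/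
theorem locFill (hK : Hyper.IsHypercoveringSite J K) : LocFill J (XK K) where
  nonempty U := by
    haveI := hK.1
    refine ⟨_, Presheaf.imageSieve_mem J
      (terminal.from ((FormalCoproduct.yoneda (C := C)).obj (K.obj (op ⦋0⦌)))) (U := op U)
      ((terminal.from (CategoryTheory.yoneda.obj U)).app (op U) (𝟙 U)), fun V v hv => ?_⟩
    obtain ⟨t, -⟩ := hv
    exact ⟨(yonedaIso.hom.app _).app (op V) t⟩
  zero U x₀ x₁ := by
    haveI := hK.2.1
    let Y := (FormalCoproduct.yoneda (C := C)).obj (K.obj (op ⦋0⦌))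
    let a : ∀ z : sx (XK K) 0 U, CategoryTheory.yoneda.obj U ⟶ Y := fun z =>
      yonedaEquiv.symm ((yonedaIso.inv.app _).app (op U) z)
    have ha : ∀ (z : sx (XK K) 0 U) {V : C} (v : V ⟶ U), (a z).app (op V) v =
        (yonedaIso.inv.app _).app (op V) (rs v z) := fun z V v => by
      refine Eq.trans ?_
        (ConcreteCategory.congr_hom ((yonedaIso.inv.app (K.obj (op ⦋0⦌))).naturality v.op) z).symm
      exact yonedaEquiv_symm_app_apply _ _ v
    refine ⟨_, Presheaf.imageSieve_mem J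
      (prod.lift ((FormalCoproduct.yoneda (C := C)).map (K.δ (1 : Fin 2)))
        ((FormalCoproduct.yoneda (C := C)).map (K.δ (0 : Fin 2)))) (U := op U)
      ((prod.lift (a x₁) (a x₀)).app (op U) (𝟙 U)), fun V v hv => ?_⟩
    obtain ⟨t, ht⟩ := hv
    have hnat : (Y ⨯ Y).map v.op ((prod.lift (a x₁) (a x₀)).app (op U) (𝟙 U)) =
        (prod.lift (a x₁) (a x₀)).app (op V) v :=
      (ConcreteCategory.congr_hom ((prod.lift (a x₁) (a x₀)).naturality v.op) (𝟙 U)).symm.trans
        (congrArg ((prod.lift (a x₁) (a x₀)).app (op V))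
          (show (CategoryTheory.yoneda.obj U).map v.op (𝟙 U) = v from Category.comp_id v))
    have key : ∀ (π : Y ⨯ Y ⟶ Y) (z : sx (XK K) 0 U) (i : Fin 2),
        prod.lift ((FormalCoproduct.yoneda (C := C)).map (K.δ (1 : Fin 2)))
          ((FormalCoproduct.yoneda (C := C)).map (K.δ (0 : Fin 2))) ≫ π =
            (FormalCoproduct.yoneda (C := C)).map (K.δ i) →
        prod.lift (a x₁) (a x₀) ≫ π = a z →
        dd i ((yonedaIso.hom.app _).app (op V) t) = rs v z := by
      intro π z i hi hz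
      have h1 := congrArg (π.app (op V)) (ht.trans hnat)
      have h2 : ((FormalCoproduct.yoneda (C := C)).map (K.δ i)).app (op V) t = (a z).app (op V) v :=
        (ConcreteCategory.congr_hom (congr_app hi (op V)) t).symm.trans
          (h1.trans (ConcreteCategory.congr_hom (congr_app hz (op V)) v))
      refine (ConcreteCategory.congr_hom (congr_app (yonedaIso.hom.naturality (K.δ i)) (op V)) t).symm.trans ?_
      refine (congrArg ((yonedaIso.hom.app _).app (op V)) (h2.trans (ha z v))).trans ?_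
      exact ConcreteCategory.congr_hom (congr_app (yonedaIso.inv_hom_id_app _) (op V)) (rs v z)
    exact ⟨(yonedaIso.hom.app _).app (op V) t,
      key prod.snd x₀ 0 (prod.lift_snd _ _) (prod.lift_snd _ _),
      key prod.fst x₁ 1 (prod.lift_fst _ _) (prod.lift_fst _ _)⟩
  succ p U x hx := succ_of_cosk K p (hK.2.2 (p + 1) (Nat.succ_le_succ (Nat.zero_le p))) U x hx

/-- The free simplicial sheaves agree. -/
noncomputable def freeIso (J : GrothendieckTopology C)
    (K : SimplicialObject (FormalCoproduct.{u} C)) :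
    Hyper.freeSimplicialSheaf J K ≅
      HyperExact.FX (XK K) ⋙ presheafToSheaf J AddCommGrpCat.{u} :=
  Functor.isoWhiskerRight (Functor.isoWhiskerRight (Functor.isoWhiskerLeft K yonedaIso)
    ((Functor.whiskeringRight _ _ _).obj AddCommGrpCat.free.{u}))
    (presheafToSheaf J AddCommGrpCat.{u})

theorem isZero_homology_of_locFill (h : LocFill J (XK K)) (n : ℕ) :
    IsZero ((Hyper.freeChainCx J K).homology (n + 1)) :=
  (HyperExact.isZero_homology h n).of_iso (HomologicalComplex.homologyMapIso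
    ((AlgebraicTopology.alternatingFaceMapComplex _).mapIso (freeIso J K)) (n + 1))

theorem nonempty_homology_zero_of_locFill (h : LocFill J (XK K)) :
    Nonempty ((Hyper.freeChainCx J K).homology 0 ≅
      (presheafToSheaf J AddCommGrpCat.{u}).obj
        ((Functor.const Cᵒᵖ).obj (AddCommGrpCat.free.{u}.obj PUnit.{u + 1}))) := by
  obtain ⟨e⟩ := HyperExact.nonempty_homology_zero_iso h
  exact ⟨HomologicalComplex.homologyMapIso
    ((AlgebraicTopology.alternatingFaceMapComplex _).mapIso (freeIso J K)) 0 ≪≫ e⟩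

end Groth.Agent.H15Site.HyperSite
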