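import Mathlib
set_option linter.style.haveILetI false
open CategoryTheory CategoryTheory.Limits Opposite
universe u v

namespace Groth.Agent.H15Site.IndUnit

variable {C : Type u} [SmallCategory C] {C' : Type u} [SmallCategory C'] (u : C ⥤ C')

/-- The unit of `lan ⊣ restriction`. -/
noncomputable abbrev η := (u.op.lanAdjunction (Type u)).unit

lemma unit_yoneda (Y : C) : ∃ e : (u.op.lan.obj (yoneda.obj Y) : C'ᵒᵖ ⥤ Type u) ≅ yoneda.obj (u.obj Y),
    ∀ (X : C) (f : X ⟶ Y), e.hom.app (op (u.obj X)) (((η u).app (yoneda.obj Y)).app (op X) f) = u.map f := by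
  let adj := u.op.lanAdjunction (Type u)
  let m : yoneda.obj Y ⟶ u.op ⋙ yoneda.obj (u.obj Y) :=
    { app := fun Z => ↾fun (f : Z.unop ⟶ Y) => u.map f
      naturality := fun Z Z' g => by ext f; exact u.map_comp _ _ }
  let e₀ := ((η u).app (yoneda.obj Y)).app (op Y) (𝟙 Y)
  let θ : yoneda.obj (u.obj Y) ⟶ u.op.lan.obj (yoneda.obj Y) := yonedaEquiv.symm e₀
  let ψ := (adj.homEquiv _ _).symm m
  have hψ : (η u).app (yoneda.obj Y) ≫ Functor.whiskerLeft u.op ψ = m :=
    ((adj.homEquiv_unit _ _ ψ).symm.trans (Equiv.apply_symm_apply _ _))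
  have e2 : θ.app (op (u.obj Y)) (𝟙 _) = e₀ :=
    (yonedaEquiv_apply θ).symm.trans
      ((yonedaEquiv (X := u.obj Y) (F := u.op.lan.obj (yoneda.obj Y))).apply_symm_apply e₀)
  have h1 : θ ≫ ψ = 𝟙 _ := by
    apply yonedaEquiv.injective
    refine (congrArg (ψ.app (op (u.obj Y))) e2).trans ?_
    exact (ConcreteCategory.congr_hom (NatTrans.congr_app hψ (op Y)) (𝟙 Y)).trans (u.map_id Y)
  have h2 : ψ ≫ θ = 𝟙 _ := by
    apply (adj.homEquiv _ _).injective
    rw [Adjunction.homEquiv_unit, Adjunction.homEquiv_unit]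
    apply yonedaEquiv.injective
    refine (congrArg (θ.app (op (u.obj Y)))
      ((ConcreteCategory.congr_hom (NatTrans.congr_app hψ (op Y)) (𝟙 Y)).trans (u.map_id Y))).trans ?_
    exact e2.trans rfl
  refine ⟨⟨ψ, θ, h2, h1⟩, fun X f => ?_⟩
  exact ConcreteCategory.congr_hom (NatTrans.congr_app hψ (op X)) f

lemma unit_indObject {G : Cᵒᵖ ⥤ Type u} (hG : IsIndObject G) (X : C) :
    (u.Faithful → Function.Injective (((η u).app G).app (op X))) ∧
    (u.Full → Function.Surjective (((η u).app G).app (op X))) := by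
  obtain ⟨P⟩ := hG.nonempty_presentation
  let evX := (evaluation Cᵒᵖ (Type u)).obj (op X)
  let evuX := (evaluation C'ᵒᵖ (Type u)).obj (op (u.obj X))
  have := (u.op.lanAdjunction (Type u)).leftAdjoint_preservesColimits.{u, u}
  have h1 := isColimitOfPreserves evX P.isColimit
  have h2 := isColimitOfPreserves evuX
    (isColimitOfPreserves (u.op.lan : (Cᵒᵖ ⥤ Type u) ⥤ (C'ᵒᵖ ⥤ Type u)) P.isColimit)
  have nat : ∀ (j : P.I) (f : X ⟶ P.F.obj j),
      (((η u).app G).app (op X)) ((P.ι.app j).app (op X) f) =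
        ((u.op.lan.map (P.ι.app j) : _ ⟶ _)).app (op (u.obj X))
          (((η u).app (yoneda.obj (P.F.obj j))).app (op X) f) := fun j f =>
    ConcreteCategory.congr_hom (NatTrans.congr_app ((η u).naturality (P.ι.app j)) (op X)) f
  constructor
  · intro _ a b hab
    obtain ⟨i, a, rfl⟩ := Types.jointly_surjective _ h1 a
    obtain ⟨j, b, rfl⟩ := Types.jointly_surjective _ h1 b
    refine (Types.FilteredColimit.isColimit_eq_iff _ h1).2 ?_
    have := hab
    change ((η u).app G).app (op X) ((P.ι.app i).app (op X) a) =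
      ((η u).app G).app (op X) ((P.ι.app j).app (op X) b) at this
    rw [nat, nat] at this
    obtain ⟨k, f, g, hk⟩ := (Types.FilteredColimit.isColimit_eq_iff _ h2).1 this
    refine ⟨k, f, g, ?_⟩
    obtain ⟨e, he⟩ := unit_yoneda u (P.F.obj k)
    have n1 := ConcreteCategory.congr_hom
      (NatTrans.congr_app ((η u).naturality (yoneda.map (P.F.map f))) (op X)) a
    have n2 := ConcreteCategory.congr_hom
      (NatTrans.congr_app ((η u).naturality (yoneda.map (P.F.map g))) (op X)) b
    have h3 := congrArg (e.hom.app (op (u.obj X))) ((n1.trans hk).trans n2.symm)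
    exact u.map_injective ((he X _).symm.trans (h3.trans (he X _)))
  · intro _ c
    obtain ⟨j, c, rfl⟩ := Types.jointly_surjective _ h2 c
    obtain ⟨e, he⟩ := unit_yoneda u (P.F.obj j)
    obtain ⟨f, hf⟩ := u.map_surjective (e.hom.app (op (u.obj X)) c)
    refine ⟨(P.ι.app j).app (op X) f, (nat j f).trans (congrArg _ ?_)⟩
    exact ((isIso_iff_bijective _).1 (inferInstance : IsIso (e.hom.app (op (u.obj X))))).1
      ((he X f).trans hf)

end Groth.Agent.H15Site.IndUnit
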