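import Mathlib.LinearAlgebra.TensorProduct.RightExactness
import Mathlib.LinearAlgebra.DirectSum.Finsupp
import Mathlib.LinearAlgebra.TensorProduct.Finiteness
import Mathlib.Algebra.BigOperators.Fin
import Mathlib.RingTheory.TensorProduct.Basic

/-!
Description of the vanishing of `∑ gᵢ ⊗ mᵢ` without generation hypotheses.
-/

open TensorProduct

namespace Groth.Agent.H15Site.TensorRel

universe u

variable {R : Type u} [CommRing R] {G : Type u} [AddCommGroup G] [Module R G]
  {M : Type u} [AddCommGroup M] [Module R M]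

theorem exists_preimage {F : Type u} [AddCommGroup F] [Module R F] (π : F →ₗ[R] G)
    (hπ : Function.Surjective π) (z : F ⊗[R] M) (hz : LinearMap.rTensor M π z = 0) :
    ∃ y : LinearMap.ker π ⊗[R] M, LinearMap.rTensor M (LinearMap.ker π).subtype y = z :=
  (rTensor_exact M (LinearMap.exact_subtype_ker_map π) hπ z).1 hz

theorem exists_rel {ι : Type} [Fintype ι] (g : ι → G) (m : ι → M)
    (h : ∑ i, g i ⊗ₜ[R] m i = 0) :
    ∃ (k l : ℕ) (g' : Fin k → G) (a : ι → Fin l → R) (a' : Fin k → Fin l → R) (n : Fin l → M),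
      (∀ i, m i = ∑ j, a i j • n j) ∧ (∀ t, ∑ j, a' t j • n j = 0) ∧
        ∀ j, ∑ i, a i j • g i + ∑ t, a' t j • g' t = 0 := by
  classical
  let π : (ι ⊕ G →₀ R) →ₗ[R] G := Finsupp.linearCombination R (Sum.elim g id)
  have hπ : Function.Surjective π := fun x => ⟨Finsupp.single (Sum.inr x) 1, by simp [π]⟩
  let z : (ι ⊕ G →₀ R) ⊗[R] M := ∑ i, Finsupp.single (Sum.inl i) 1 ⊗ₜ[R] m i
  have hz : LinearMap.rTensor M π z = 0 := by
    rw [map_sum]
    refine Eq.trans (Finset.sum_congr rfl fun i _ => ?_) h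
    simp [π]
  obtain ⟨y, hy⟩ := exists_preimage π hπ z hz
  obtain ⟨S, hS⟩ := TensorProduct.exists_finset y
  let e := S.equivFin
  let l := S.card
  let ρ : Fin l → (ι ⊕ G →₀ R) := fun j => ((e.symm j).1.1 : LinearMap.ker π)
  let n : Fin l → M := fun j => (e.symm j).1.2
  have hy2 : z = ∑ j, ρ j ⊗ₜ[R] n j := by
    rw [← hy, hS, map_sum, ← Finset.sum_coe_sort S]
    exact (e.symm.sum_comp (fun p : S =>
      LinearMap.rTensor M (LinearMap.ker π).subtype (p.1.1 ⊗ₜ[R] p.1.2))).symm
  have hco : ∀ t : ι ⊕ G, (∑ i, if t = Sum.inl i then m i else 0) = ∑ j, ρ j t • n j := by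
    intro t
    have := congrArg (fun w => TensorProduct.lid R M (LinearMap.rTensor M (Finsupp.lapply t) w)) hy2
    simp only [z, map_sum, LinearMap.rTensor_tmul, TensorProduct.lid_tmul, Finsupp.lapply_apply]
      at this
    rw [← this]
    refine Finset.sum_congr rfl fun i _ => ?_
    by_cases hi : t = Sum.inl i <;> simp [Finsupp.single_apply, hi, eq_comm]
  let T : Finset G := Finset.univ.biUnion fun j => (ρ j).support.toRight
  let e' := T.equivFin
  refine ⟨T.card, l, fun t => (e'.symm t).1, fun i j => ρ j (Sum.inl i),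
    fun t j => ρ j (Sum.inr (e'.symm t).1), n, fun i => ?_, fun t => ?_, fun j => ?_⟩
  · rw [← hco]
    simp
  · rw [← hco]
    simp
  · have hker : π (ρ j) = 0 := ((e.symm j).1.1).2
    rw [← hker]
    have hsub : (ρ j).support ⊆ (Finset.univ : Finset ι).disjSum T := fun t ht => by
      rcases t with i | x
      · simp
      · simp only [Finset.inr_mem_disjSum, T, Finset.mem_biUnion, Finset.mem_toRight]
        exact ⟨j, Finset.mem_univ _, ht⟩
    rw [Finsupp.linearCombination_apply, Finsupp.sum_of_support_subset _ hsub _ (by simp),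
      Finset.sum_disjSum]
    simp only [Sum.elim_inl, Sum.elim_inr, id_eq]
    congr 1
    rw [← Finset.sum_coe_sort T]
    exact e'.symm.sum_comp (fun x : T => ρ j (Sum.inr x.1) • x.1)

end Groth.Agent.H15Site.TensorRel
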