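import Groth.Agent.H15Site.ModFlat
import Groth.Agent.H15Site.TensorRel

/-!
The equational criterion of flatness for sheaves of modules on a ringed site.
-/

universe u

open CategoryTheory CategoryTheory.Limits MonoidalCategory Opposite TensorProduct

namespace Groth.Agent.H15Site.ModRel

open ModTensor

attribute [local instance 10000] SiteInst.hasSheafifySite SiteInst.hasWeakSheafifySite

variable {C : Type u} [SmallCategory C] {J : GrothendieckTopology C} {O : Sheaf J CommRingCat.{u}}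

/-- Restriction of functions. -/
noncomputable abbrev rr (O : Sheaf J CommRingCat.{u}) {X Y : Cᵒᵖ} (g : X ⟶ Y)
    (r : O.obj.obj X) : O.obj.obj Y := (O.obj.map g).hom r

lemma rr_rr {X Y Z : Cᵒᵖ} (g : X ⟶ Y) (h : Y ⟶ Z) (r : O.obj.obj X) :
    rr O h (rr O g r) = rr O (g ≫ h) r := by
  simp [rr]

lemma rr_id {X : Cᵒᵖ} (r : O.obj.obj X) : rr O (𝟙 X) r = r := by
  simp [rr]

lemma rs_smul' (M : PMod O) {X Y : Cᵒᵖ} (g : X ⟶ Y) (r : O.obj.obj X) (m : M.obj X) :
    rs M g (r • m : M.obj X) = rr O g r • rs M g m :=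
  rs_smul M g r m

lemma rs_sum (M : PMod O) {X Y : Cᵒᵖ} (g : X ⟶ Y) {ι : Type*} (s : Finset ι) (m : ι → M.obj X) :
    rs M g (∑ i ∈ s, m i) = ∑ i ∈ s, rs M g (m i) :=
  map_sum (M.presheaf.map g).hom m s

lemma rs_zero (M : PMod O) {X Y : Cᵒᵖ} (g : X ⟶ Y) : rs M g (0 : M.obj X) = 0 :=
  map_zero (M.presheaf.map g).hom

/-- `∑ gᵢ ⊗ mᵢ = 0` if the `mᵢ` are combinations with coefficients killing the `gᵢ`. -/
lemma sum_tmul_eq_zero {R : Type u} [CommRing R] {N M : Type u} [AddCommGroup N] [Module R N]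
    [AddCommGroup M] [Module R M] {ι κ : Type} [Fintype ι] [Fintype κ] (g : ι → N) (m : ι → M)
    (a : ι → κ → R) (p : κ → M) (hm : ∀ i, m i = ∑ l, a i l • p l)
    (hg : ∀ l, ∑ i, a i l • g i = 0) : ∑ i, g i ⊗ₜ[R] m i = 0 := by
  simp_rw [hm, tmul_sum, tmul_smul, smul_tmul']
  rw [Finset.sum_comm]
  refine Finset.sum_eq_zero fun l _ => ?_
  simp_rw [← sum_tmul]
  rw [show (∑ i, a i l • g i) = 0 from hg l, zero_tmul]

/-- Linear relations between sections of `F` are locally trivial. -/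
def LocTriv (F : ModSite.Mod O) : Prop :=
  ∀ (U : C) (n : ℕ) (f : Fin n → O.obj.obj (op U)) (s : Fin n → ((forg O).obj F).obj (op U)),
    ∑ j, f j • s j = 0 →
    ∃ S ∈ J U, ∀ ⦃V : C⦄ (g : V ⟶ U), S g →
      ∃ (l : ℕ) (t : Fin l → ((forg O).obj F).obj (op V)) (a : Fin n → Fin l → O.obj.obj (op V)),
        (∀ j, rs ((forg O).obj F) g.op (s j) = ∑ k, a j k • t k) ∧
        (∀ k, ∑ j, a j k * rr O g.op (f j) = 0)

theorem LocTriv.multi_fin {F : ModSite.Mod O} (hF : LocTriv F) : ∀ (m : ℕ) (U : C) (n : ℕ)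
    (f : Fin m → Fin n → O.obj.obj (op U)) (s : Fin n → ((forg O).obj F).obj (op U)),
    (∀ i, ∑ j, f i j • s j = 0) →
    ∃ S ∈ J U, ∀ ⦃V : C⦄ (g : V ⟶ U), S g →
      ∃ (l : ℕ) (t : Fin l → ((forg O).obj F).obj (op V)) (a : Fin n → Fin l → O.obj.obj (op V)),
        (∀ j, rs ((forg O).obj F) g.op (s j) = ∑ k, a j k • t k) ∧
        (∀ i k, ∑ j, a j k * rr O g.op (f i j) = 0) := by
  intro m
  induction m with
  | zero =>
    intro U n f s _
    refine ⟨⊤, J.top_mem U, fun V g _ => ⟨n, fun k => rs ((forg O).obj F) g.op (s k),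
      fun j k => if j = k then 1 else 0, fun j => ?_, fun i => i.elim0⟩⟩
    simp [ite_smul]
  | succ m ih =>
    intro U n f s hs
    obtain ⟨S, hS, hS'⟩ := hF U n (f 0) s (hs 0)
    have key : ∀ ⦃V : C⦄ (g : V ⟶ U), S g → ∃ T ∈ J V, ∀ ⦃W : C⦄ (h : W ⟶ V), T h →
        ∃ (l : ℕ) (t : Fin l → ((forg O).obj F).obj (op W)) (a : Fin n → Fin l → O.obj.obj (op W)),
          (∀ j, rs ((forg O).obj F) (h ≫ g).op (s j) = ∑ k, a j k • t k) ∧
          (∀ i k, ∑ j, a j k * rr O (h ≫ g).op (f i j) = 0) := by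
      intro V g hg
      obtain ⟨l, t, a, hst, ha⟩ := hS' g hg
      obtain ⟨T, hT, hT'⟩ := ih V l (fun i k => ∑ j, a j k * rr O g.op (f i.succ j)) t (fun i => by
        have h0 := congrArg (rs ((forg O).obj F) g.op) (hs i.succ)
        rw [rs_sum, rs_zero] at h0
        simp_rw [rs_smul', hst, Finset.smul_sum, smul_smul] at h0
        rw [Finset.sum_comm] at h0
        refine Eq.trans (Finset.sum_congr rfl fun k _ => ?_) h0
        rw [Finset.sum_smul]
        exact Finset.sum_congr rfl fun j _ => by rw [mul_comm])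
      refine ⟨T, hT, fun W h hh => ?_⟩
      obtain ⟨l', t', b, htt, hb⟩ := hT' h hh
      refine ⟨l', t', fun j q => ∑ k, rr O h.op (a j k) * b k q, fun j => ?_, fun i q => ?_⟩
      · rw [op_comp, ← rs_rs, hst, rs_sum]
        simp_rw [rs_smul', htt, Finset.smul_sum, smul_smul, Finset.sum_smul]
        exact Finset.sum_comm
      · simp_rw [op_comp, ← rr_rr g.op h.op, Finset.sum_mul]
        rw [Finset.sum_comm]
        refine Fin.cases ?_ (fun i' => ?_) i
        · refine Finset.sum_eq_zero fun k _ => ?_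
          have := congrArg (rr O h.op) (ha k)
          simp only [rr, map_sum, map_zero, map_mul] at this
          calc ∑ j, rr O h.op (a j k) * b k q * rr O h.op (rr O g.op (f 0 j))
              = b k q * ∑ j, rr O h.op (a j k) * rr O h.op (rr O g.op (f 0 j)) := by
                rw [Finset.mul_sum]
                exact Finset.sum_congr rfl fun j _ => by ring
            _ = 0 := by rw [this, mul_zero]
        · refine Eq.trans (Finset.sum_congr rfl fun k _ => ?_) (hb i' q)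
          simp only [rr, map_sum, map_mul, Finset.mul_sum]
          exact Finset.sum_congr rfl fun j _ => by ring
    choose T hT hT' using key
    refine ⟨Sieve.bind S.arrows T, J.bind_covering hS hT, fun W g hg => ?_⟩
    obtain ⟨V, h, g₁, hg₁, hh, rfl⟩ := hg
    exact hT' g₁ hg₁ h hh

theorem LocTriv.multi {F : ModSite.Mod O} (hF : LocTriv F) {ι : Type} [Fintype ι] (U : C) (n : ℕ)
    (f : ι → Fin n → O.obj.obj (op U)) (s : Fin n → ((forg O).obj F).obj (op U))
    (hs : ∀ i, ∑ j, f i j • s j = 0) :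
    ∃ S ∈ J U, ∀ ⦃V : C⦄ (g : V ⟶ U), S g →
      ∃ (l : ℕ) (t : Fin l → ((forg O).obj F).obj (op V)) (a : Fin n → Fin l → O.obj.obj (op V)),
        (∀ j, rs ((forg O).obj F) g.op (s j) = ∑ k, a j k • t k) ∧
        (∀ i k, ∑ j, a j k * rr O g.op (f i j) = 0) := by
  let e := Fintype.equivFin ι
  obtain ⟨S, hS, h⟩ := hF.multi_fin _ U n (fun i => f (e.symm i)) s (fun i => hs _)
  refine ⟨S, hS, fun V g hg => ?_⟩
  obtain ⟨l, t, a, h1, h2⟩ := h g hg
  exact ⟨l, t, a, h1, fun i k => by simpa using h2 (e i) k⟩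

end Groth.Agent.H15Site.ModRel
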