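import Groth.Agent.H15Site.ModRel
import Groth.Agent.H15Site.PullFree
import Groth.Agent.H15Site.ModOver
import Mathlib.Algebra.Category.ModuleCat.Presheaf.Abelian
import Mathlib.Algebra.Homology.ShortComplex.ModuleCat

/-!
Flatness is equivalent to local triviality of relations.
-/

universe u

open CategoryTheory CategoryTheory.Limits MonoidalCategory Opposite TensorProduct

namespace Groth.Agent.H15Site.ModRel

open ModTensor

open PullTensor (fr dl rs_dl)

attribute [local instance 10000] SiteInst.hasSheafifySite SiteInst.hasWeakSheafifySite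

variable {C : Type u} [SmallCategory C] {J : GrothendieckTopology C} {O : Sheaf J CommRingCat.{u}}

/-- Elementwise consequence of `a u` being a monomorphism. -/
theorem exists_cover_eq_zero {P Q : PMod O} (u : P ⟶ Q) [hm : Mono ((aSh O).map u)] {U : C}
    (z : P.obj (op U)) (hz : (u.app (op U)).hom z = 0) :
    ∃ S ∈ J U, ∀ ⦃V : C⦄ (g : V ⟶ U), S g → rs P g.op z = 0 := by
  have := ModOver.preservesMonomorphisms_forg (O := O)
  have hinj : Function.Injective
      ((((forg O).map ((aSh O).map u)).app (op U)).hom) := by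
    have : Mono ((forg O).map ((aSh O).map u)) := inferInstance
    exact PresheafOfModules.injective_of_mono ((forg O).map ((aSh O).map u)) (op U)
  have h0 : (((adj O).unit.app P).app (op U)).hom z = 0 := by
    apply hinj
    rw [map_zero]
    have e := ConcreteCategory.congr_hom
      (congrArg (fun k => PresheafOfModules.Hom.app k (op U)) ((adj O).unit.naturality u)) z
    refine e.symm.trans ?_
    show (((adj O).unit.app Q).app (op U)).hom ((u.app (op U)).hom z) = 0
    rw [hz, map_zero]
  have hli := ((isIso_aSh_map_iff ((adj O).unit.app P)).1 inferInstance).1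
  refine ⟨_, Presheaf.equalizerSieve_mem J ((PresheafOfModules.toPresheaf _).map
    ((adj O).unit.app P)) (X := op U) z 0 (by rw [map_zero]; exact h0), fun V g hg => ?_⟩
  have : rs P g.op z = rs P g.op 0 := hg
  rw [this, rs_zero]

/-- Elementwise criterion for `a u` to be a monomorphism. -/
theorem mono_aSh_map {P Q : PMod O} (u : P ⟶ Q)
    (h : ∀ (U : C) (z : P.obj (op U)), (u.app (op U)).hom z = 0 →
      ∃ S ∈ J U, ∀ ⦃V : C⦄ (g : V ⟶ U), S g → rs P g.op z = 0) :
    Mono ((aSh O).map u) := by
  have hK : ∀ {L : ModSite.Mod O} (k : kernel u ⟶ (forg O).obj L), k = 0 := by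
    intro L k
    refine PresheafOfModules.hom_ext fun X => ModuleCat.hom_ext (LinearMap.ext fun z => ?_)
    obtain ⟨S, hS, hS'⟩ := h X.unop (((kernel.ι u).app X).hom z)
      (ConcreteCategory.congr_hom (congrArg (fun k => PresheafOfModules.Hom.app k X)
        (kernel.condition u)) z)
    refine separated_forg L S hS _ _ fun V g hg => ?_
    rw [← rs_app k g.op z]
    show _ = rs _ g.op 0
    rw [rs_zero]
    have hzero : rs (kernel u) g.op z = 0 := by
      have hinj := PresheafOfModules.injective_of_mono (kernel.ι u) (op V)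
      apply hinj
      rw [map_zero]
      show ((kernel.ι u).app (op V)).hom (rs (kernel u) g.op z) = 0
      rw [rs_app]
      exact hS' g hg
    rw [hzero, map_zero]
  have hzero : IsZero ((aSh O).obj (kernel u)) := by
    rw [IsZero.iff_id_eq_zero]
    apply ((adj O).homEquiv _ _).injective
    rw [hK ((adj O).homEquiv _ _ (𝟙 _)), hK ((adj O).homEquiv _ _ 0)]
  have := ModTensor.additive_of_preservesFiniteColimits (aSh O)
  refine Preadditive.mono_of_kernel_zero ?_
  rw [← cancel_epi (PreservesKernel.iso (aSh O) u).hom]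
  exact hzero.eq_of_src _ _

variable (O)

/-- Index of the relation module: `n` generators on each arrow to `U`. -/
abbrev relIdx (U : C) (n : ℕ) : Cᵒᵖ ⥤ Type u :=
  FunctorToTypes.prod (yoneda.obj U) ((Functor.const Cᵒᵖ).obj (ULift.{u} (Fin n)))

variable {O}

/-- The relation map. -/
noncomputable def relMap {U : C} {n : ℕ} (f : Fin n → O.obj.obj (op U)) :
    fr O (relIdx U n) ⟶ fr O (yoneda.obj U) :=
  PresheafOfModules.freeObjDesc
    { app := fun X => ↾fun p =>
        rr O (show op U ⟶ X from p.1.op) (f p.2.down) • dl O p.1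
      naturality := fun {X Y} g => by
        ext p
        show rr O ((g.unop ≫ p.1).op) (f p.2.down) • dl O (P := yoneda.obj U) (g.unop ≫ p.1) =
          rs (fr O (yoneda.obj U)) g (rr O (show op U ⟶ X from p.1.op) (f p.2.down) • dl O p.1)
        rw [rs_smul', rs_dl, rr_rr]
        rfl }

lemma relMap_dl {U : C} {n : ℕ} (f : Fin n → O.obj.obj (op U)) {X : Cᵒᵖ}
    (p : (relIdx U n).obj X) :
    ((relMap f).app X).hom (dl O p) = rr O (show op U ⟶ X from p.1.op) (f p.2.down) • dl O p.1 :=
  ModuleCat.freeDesc_apply _ p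

theorem LocTriv.of_isFlat {F : ModSite.Mod O} (hF : ModSite.IsFlat F) : LocTriv F := by
  classical
  intro U n f s hs
  let φ := relMap f
  have : Mono (Abelian.factorThruCoimage φ) := inferInstance
  have hmono : Mono ((aSh O).map (Abelian.factorThruCoimage φ ▷ (forg O).obj F)) := by
    have := (isFlat_iff F).1 hF
    have h2 : Mono ((tR F).map ((aSh O).map (Abelian.factorThruCoimage φ))) := inferInstance
    exact (((MorphismProperty.monomorphisms (ModSite.Mod O)).arrow_mk_iso_iff
      (Arrow.isoMk ((aShTR F).app _) ((aShTR F).app _)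
        ((aShTR F).hom.naturality (Abelian.factorThruCoimage φ)).symm)).1 h2)
  let z : (fr O (relIdx U n) ⊗ (forg O).obj F).obj (op U) :=
    ∑ j, dl O (P := relIdx U n) (𝟙 U, ULift.up j) ⊗ₜ[O.obj.obj (op U)] s j
  let π := Abelian.coimage.π φ
  have hz : (((π ▷ (forg O).obj F) ≫ (Abelian.factorThruCoimage φ ▷ (forg O).obj F)).app
      (op U)).hom z = 0 := by
    rw [← comp_whiskerRight, Abelian.coimage.fac]
    refine (map_sum _ _ _).trans ?_
    have e : ∀ j, ((φ.app (op U)).hom (dl O (P := relIdx U n) (𝟙 U, ULift.up j))) ⊗ₜ[O.obj.obj (op U)]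
        s j = dl O (P := yoneda.obj U) (𝟙 U) ⊗ₜ[O.obj.obj (op U)] (f j • s j) := fun j => by
      rw [relMap_dl, show rr O (show op U ⟶ op U from (𝟙 U).op) (f j) = f j from rr_id (f j)]
      exact smul_tmul _ _ _
    refine (Finset.sum_congr rfl fun j _ => e j).trans ?_
    rw [← tmul_sum, hs, tmul_zero]
    rfl
  obtain ⟨S, hS, hS'⟩ := exists_cover_eq_zero (Abelian.factorThruCoimage φ ▷ (forg O).obj F)
    (((π ▷ (forg O).obj F).app (op U)).hom z) hz
  refine ⟨S, hS, fun V g hg => ?_⟩
  let SC := ShortComplex.mk (kernel.ι φ) π (cokernel.condition (kernel.ι φ))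
  have hSC : SC.Exact := ShortComplex.exact_of_g_is_cokernel _ (cokernelIsCokernel (kernel.ι φ))
  let G := tensorRight ((forg O).obj F)
  have : PreservesFiniteColimits G := PreTensor.preservesFiniteColimits_tensorRight _
  have := ModTensor.additive_of_preservesFiniteColimits G
  have : Epi SC.g := inferInstanceAs (Epi (cokernel.π (kernel.ι φ)))
  have hex := (hSC.map_of_epi_of_preservesCokernel G this inferInstance).map
    (PresheafOfModules.evaluation _ (op V))
  rw [ShortComplex.moduleCat_exact_iff] at hex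
  obtain ⟨y, hy⟩ := hex (rs _ g.op z) ((rs_app (π ▷ (forg O).obj F) g.op z).trans (hS' g hg))
  obtain ⟨T, hT⟩ := TensorProduct.exists_finset (R := O.obj.obj (op V))
    (M := (kernel φ).obj (op V)) (N := ((forg O).obj F).obj (op V)) y
  let e := T.equivFin
  let k : Fin T.card → ((relIdx U n).obj (op V) →₀ O.obj.obj (op V)) :=
    fun l => ((kernel.ι φ).app (op V)).hom (e.symm l).1.1
  let t : Fin T.card → ((forg O).obj F).obj (op V) := fun l => (e.symm l).1.2
  let idx : Fin n → (relIdx U n).obj (op V) := fun j => (g, ULift.up j)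
  refine ⟨T.card, t, fun j l => k l (idx j),
    fun j => ?_, fun l => ?_⟩
  · have hz' : rs (fr O (relIdx U n) ⊗ (forg O).obj F) g.op z =
        ∑ j', dl O (idx j') ⊗ₜ[O.obj.obj (op V)] rs ((forg O).obj F) g.op (s j') := by
      refine (rs_sum _ g.op _ _).trans (Finset.sum_congr rfl fun j' _ => ?_)
      show rs (fr O (relIdx U n)) g.op (dl O (P := relIdx U n) (𝟙 U, ULift.up j'))
        ⊗ₜ[O.obj.obj (op V)] rs ((forg O).obj F) g.op (s j') = _
      rw [rs_dl]
      have : (relIdx U n).map g.op (𝟙 U, ULift.up j') = idx j' :=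
        Prod.ext (Category.comp_id g) rfl
      rw [this]
    have hy2 : ∑ l, k l ⊗ₜ[O.obj.obj (op V)] t l =
        ∑ j', (Finsupp.single (idx j') (1 : O.obj.obj (op V))) ⊗ₜ[O.obj.obj (op V)]
          rs ((forg O).obj F) g.op (s j') := by
      refine Eq.trans ?_ (hy.trans hz')
      rw [hT, ← Finset.sum_coe_sort T]
      refine Eq.trans ?_ (map_sum _ _ _).symm
      exact e.symm.sum_comp (fun p : T => ((kernel.ι φ).app (op V)).hom p.1.1
        ⊗ₜ[O.obj.obj (op V)] p.1.2)
    have hco := congrArg (fun w => TensorProduct.lid (O.obj.obj (op V)) _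
      (LinearMap.rTensor (((forg O).obj F).obj (op V))
        (Finsupp.lapply (R := O.obj.obj (op V)) (idx j)) w)) hy2
    simp only [map_sum, LinearMap.rTensor_tmul, TensorProduct.lid_tmul, Finsupp.lapply_apply]
      at hco
    refine Eq.trans ?_ hco.symm
    rw [Finset.sum_eq_single j]
    · simp
    · intro b _ hb
      rw [Finsupp.single_eq_of_ne, zero_smul]
      intro h
      exact hb (congrArg (fun p : (relIdx U n).obj (op V) => p.2.down) h).symm
    · simp
  · have hk : (φ.app (op V)).hom (k l) = 0 := ConcreteCategory.congr_hom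
      (congrArg (fun k => PresheafOfModules.Hom.app k (op V)) (kernel.condition φ)) _
    let L₁ : ((relIdx U n).obj (op V) →₀ O.obj.obj (op V)) →ₗ[O.obj.obj (op V)] O.obj.obj (op V) :=
      (Finsupp.lapply (M := O.obj.obj (op V))
        (show (yoneda.obj U).obj (op V) from g)).comp (φ.app (op V)).hom
    let L₂ : ((relIdx U n).obj (op V) →₀ O.obj.obj (op V)) →ₗ[O.obj.obj (op V)] O.obj.obj (op V) :=
      ∑ j, rr O g.op (f j) • Finsupp.lapply (idx j)
    have hL : L₁ = L₂ := by
      refine Finsupp.lhom_ext' fun p => LinearMap.ext_ring ?_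
      show (show (yoneda.obj U).obj (op V) →₀ O.obj.obj (op V) from
        (φ.app (op V)).hom (dl O p)) g = L₂ (Finsupp.single p 1)
      rw [relMap_dl]
      obtain ⟨p₁, ⟨p₂⟩⟩ := p
      show (rr O (show op U ⟶ op V from p₁.op) (f p₂) •
        Finsupp.single (show (yoneda.obj U).obj (op V) from p₁) (1 : O.obj.obj (op V))) g = _
      rw [Finsupp.smul_apply, smul_eq_mul]
      simp only [L₂, LinearMap.sum_apply, LinearMap.smul_apply, Finsupp.lapply_apply,
        Finsupp.smul_apply, smul_eq_mul]
      by_cases h : p₁ = g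
      · subst h
        rw [Finset.sum_eq_single p₂]
        · simp [idx]
        · intro b _ hb
          rw [Finsupp.single_eq_of_ne, mul_zero]
          intro h'
          exact hb (congrArg (fun p : (relIdx U n).obj (op V) => p.2.down) h')
        · simp
      · rw [Finsupp.single_eq_of_ne (Ne.symm h), mul_zero]
        refine (Finset.sum_eq_zero fun b _ => ?_).symm
        rw [Finsupp.single_eq_of_ne, mul_zero]
        intro h'
        exact h (congrArg Prod.fst h').symm
    have := LinearMap.congr_fun hL (k l)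
    refine Eq.trans ?_ (this.symm.trans ?_)
    · simp only [L₂, LinearMap.sum_apply, LinearMap.smul_apply, Finsupp.lapply_apply, smul_eq_mul]
      exact Finset.sum_congr rfl fun j _ => mul_comm _ _
    · show (show (yoneda.obj U).obj (op V) →₀ O.obj.obj (op V) from
        (φ.app (op V)).hom (k l)) g = 0
      rw [hk]
      rfl

theorem LocTriv.isFlat {F : ModSite.Mod O} (hF : LocTriv F) : ModSite.IsFlat F := by
  classical
  rw [isFlat_iff]
  refine ⟨fun {G' G} u' _ => mono_aSh_map ((forg O).map u' ▷ (forg O).obj F) fun U z hz => ?_⟩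
  obtain ⟨T, hT⟩ := TensorProduct.exists_finset (R := O.obj.obj (op U))
    (M := ((forg O).obj G').obj (op U)) (N := ((forg O).obj F).obj (op U)) z
  let g : T → ((forg O).obj G').obj (op U) := fun p => p.1.1
  let e := T.equivFin
  let m : Fin T.card → ((forg O).obj F).obj (op U) := fun i => (e.symm i).1.2
  let g₀ : Fin T.card → ((forg O).obj G').obj (op U) := fun i => (e.symm i).1.1
  have hz' : z = ∑ i, g₀ i ⊗ₜ[O.obj.obj (op U)] m i := by
    rw [hT, ← Finset.sum_coe_sort T]
    exact (e.symm.sum_comp (fun p : T => p.1.1 ⊗ₜ[O.obj.obj (op U)] p.1.2)).symm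
  have hzero : ∑ i, (((forg O).map u').app (op U)).hom (g₀ i) ⊗ₜ[O.obj.obj (op U)] m i = 0 := by
    refine Eq.trans ?_ hz
    rw [hz']
    refine Eq.trans ?_ (map_sum (((forg O).map u' ▷ (forg O).obj F).app (op U)).hom
      (fun i => g₀ i ⊗ₜ[O.obj.obj (op U)] m i) Finset.univ).symm
    exact Finset.sum_congr rfl fun i _ => rfl
  obtain ⟨k, l, g₂, a, a', nn, hm, h0, hg⟩ := TensorRel.exists_rel _ m hzero
  obtain ⟨S, hS, hS'⟩ := hF.multi U l a' nn h0
  refine ⟨S, hS, fun V v hv => ?_⟩
  obtain ⟨q, t, b, ht, hb⟩ := hS' v hv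
  have := ModOver.preservesMonomorphisms_forg (O := O)
  have hinj : Function.Injective ((((forg O).map u').app (op V)).hom) := by
    have : Mono ((forg O).map u') := inferInstance
    exact PresheafOfModules.injective_of_mono ((forg O).map u') (op V)
  rw [hz']
  refine (rs_sum _ v.op _ _).trans ?_
  refine sum_tmul_eq_zero (fun p => rs ((forg O).obj G') v.op (g₀ p))
    (fun p => rs ((forg O).obj F) v.op (m p))
    (fun p r => ∑ j, rr O v.op (a p j) * b j r) t (fun p => ?_) (fun r => ?_)
  · rw [hm p, rs_sum]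
    simp_rw [rs_smul', ht, Finset.smul_sum, smul_smul, Finset.sum_smul]
    exact Finset.sum_comm
  · apply hinj
    rw [map_sum, map_zero]
    simp_rw [map_smul, rs_app, Finset.sum_smul]
    rw [Finset.sum_comm]
    have h3 : ∀ j, ∑ p, rr O v.op (a p j) •
        rs ((forg O).obj G) v.op ((((forg O).map u').app (op U)).hom (g₀ p)) +
        ∑ s, rr O v.op (a' s j) • rs ((forg O).obj G) v.op (g₂ s) = 0 := by
      intro j
      have := congrArg (rs ((forg O).obj G) v.op) (hg j)
      rw [rs_add, rs_sum, rs_sum, rs_zero] at this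
      simpa only [rs_smul'] using this
    have h4 : ∀ j, ∑ p, (rr O v.op (a p j) * b j r) •
        rs ((forg O).obj G) v.op ((((forg O).map u').app (op U)).hom (g₀ p)) =
        -∑ s, (b j r * rr O v.op (a' s j)) • rs ((forg O).obj G) v.op (g₂ s) := fun j => by
      simp_rw [mul_comm (rr O v.op (a _ j)) (b j r), ← smul_smul, ← Finset.smul_sum]
      rw [eq_neg_of_add_eq_zero_left (h3 j), smul_neg]
    rw [Finset.sum_congr rfl fun j _ => h4 j, Finset.sum_neg_distrib, Finset.sum_comm]
    simp_rw [← Finset.sum_smul, hb, zero_smul]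
    simp

theorem isFlat_iff_locTriv (F : ModSite.Mod O) : ModSite.IsFlat F ↔ LocTriv F :=
  ⟨LocTriv.of_isFlat, LocTriv.isFlat⟩

end Groth.Agent.H15Site.ModRel
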