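import Groth.Agent.H15Site.PullEv
import Groth.Agent.H15Site.ModOver
import Groth.Agent.H15Site.ModRelFlat

/-!
Inverse image of flat modules is flat; inverse image is exact on sequences with flat cokernel.
-/

universe u

open CategoryTheory CategoryTheory.Limits MonoidalCategory Opposite TensorProduct
open scoped Classical

namespace Groth.Agent.H15Site.PullTensor

open ModTensor ModRel

attribute [local instance 10000] SiteInst.hasSheafifySite SiteInst.hasWeakSheafifySite

variable {C D : Type u} [SmallCategory C] [SmallCategory D] {J : GrothendieckTopology C}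
  {K : GrothendieckTopology D} {O_C : Sheaf J CommRingCat.{u}} {O_D : Sheaf K CommRingCat.{u}}
  {f : ModSite.RMor O_C O_D} {M : PMod O_D} {G : PMod O_C}

/-- Compatibility of `rho` with a refinement. -/
lemma rho_lift {c c' : C} {e e' : D} (b : c ⟶ f.fn.obj e) (v : c' ⟶ c) (g : e' ⟶ e)
    (b' : c' ⟶ f.fn.obj e') (w : b' ≫ f.fn.map g = v ≫ b) (r : O_D.obj.obj (op e)) :
    rho (StructuredArrow.mk b') (rr O_D g.op r) =
      rr O_C v.op (rho (StructuredArrow.mk b) r) := by
  refine (congrArg (fun t => rr O_C b'.op t) (NatTrans.naturality_apply f.sharp.hom g.op r)).trans ?_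
  show rr O_C b'.op (rr O_C (f.fn.map g).op _) = rr O_C v.op (rr O_C b.op _)
  rw [rr_rr, rr_rr, ← op_comp, ← op_comp, w]
  rfl

lemma rs_smul_lift {c c' : C} {e e' : D} (b : c ⟶ f.fn.obj e) (v : c' ⟶ c) (g : e' ⟶ e)
    (b' : c' ⟶ f.fn.obj e') (w : b' ≫ f.fn.map g = v ≫ b) (r : O_D.obj.obj (op e))
    (x : G.obj (op c)) :
    rr O_D g.op r • toRs f b' G (rs G v.op x) =
      toRs f b' G (rs G v.op ((toRs f b G).symm (r • toRs f b G x))) := by
  rw [smul_toRs, smul_toRs, AddEquiv.symm_apply_apply, rs_smul']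
  congr 2
  exact rho_lift b v g b' w r

/-- Restriction of a combination. -/
lemma rs_lin_comb {c c' : C} {e e' : D} (b : c ⟶ f.fn.obj e) (v : c' ⟶ c) (g : e' ⟶ e)
    (b' : c' ⟶ f.fn.obj e') (w : b' ≫ f.fn.map g = v ≫ b) {ι : Type} [Fintype ι]
    (r : ι → O_D.obj.obj (op e)) (x : ι → G.obj (op c)) :
    ∑ i, rr O_D g.op (r i) • toRs f b' G (rs G v.op (x i)) =
      toRs f b' G (rs G v.op ((toRs f b G).symm (∑ i, r i • toRs f b G (x i)))) := by
  rw [map_sum, rs_sum, map_sum]
  exact Finset.sum_congr rfl fun i _ => rs_smul_lift b v g b' w (r i) (x i)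

/-- Restriction of the class of a tensor on a cone. -/
lemma rs_psiC_sum {c c' : C} {e e' : D} (b : c ⟶ f.fn.obj e) (v : c' ⟶ c) (g : e' ⟶ e)
    (b' : c' ⟶ f.fn.obj e') (w : b' ≫ f.fn.map g = v ≫ b) {ι : Type} [Fintype ι]
    (x : ι → G.obj (op c)) (m : ι → M.obj (op e)) :
    rs (G ⊗ expl f M) v.op (psiC b (∑ i, toRs f b G (x i) ⊗ₜ[O_D.obj.obj (op e)] m i)) =
      psiC b' (∑ i, toRs f b' G (rs G v.op (x i)) ⊗ₜ[O_D.obj.obj (op e')] rs M g.op (m i)) := by
  rw [map_sum, map_sum, ModRel.rs_sum]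
  refine Finset.sum_congr rfl fun i _ => ?_
  rw [psiC_tmul, psiC_tmul]
  show rs G v.op (x i) ⊗ₜ[O_C.obj.obj (op c')] rs (expl f M) v.op (cl f M (StructuredArrow.mk b) (m i)) = _
  rw [rs_cl]
  congr 1
  exact (cl_res f M (X := StructuredArrow.mk b') (Y := mv f v (StructuredArrow.mk b))
    (StructuredArrow.homMk g w) (m i)).symm

/-- Elements of `Rs ⊗ M` as finite sums. -/
lemma exists_sum_toRs {c : C} {e : D} (b : c ⟶ f.fn.obj e)
    (w : Rs f b G ⊗[O_D.obj.obj (op e)] M.obj (op e)) :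
    ∃ (n : ℕ) (x : Fin n → G.obj (op c)) (m : Fin n → M.obj (op e)),
      w = ∑ i, toRs f b G (x i) ⊗ₜ[O_D.obj.obj (op e)] m i := by
  obtain ⟨T, hT⟩ := TensorProduct.exists_finset w
  refine ⟨T.card, fun i => (toRs f b G).symm (T.equivFin.symm i).1.1,
    fun i => (T.equivFin.symm i).1.2, ?_⟩
  rw [hT, ← Finset.sum_coe_sort T]
  refine (T.equivFin.symm.sum_comp (fun p : T => p.1.1 ⊗ₜ[O_D.obj.obj (op e)] p.1.2)).symm.trans
    (Finset.sum_congr rfl fun i _ => ?_)
  rw [AddEquiv.apply_symm_apply]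

section MapG

variable {G' : PMod O_C} (u : G' ⟶ G)

/-- `u` on the modules `Rs`. -/
noncomputable def mapRs {c : C} {e : D} (b : c ⟶ f.fn.obj e) :
    Rs f b G' →ₗ[O_D.obj.obj (op e)] Rs f b G where
  toFun x := toRs f b G ((u.app (op c)).hom ((toRs f b G').symm x))
  map_add' x y := by rw [map_add, map_add, map_add]
  map_smul' r x := by
    obtain ⟨x, rfl⟩ := (toRs f b G').surjective x
    rw [RingHom.id_apply, smul_toRs, AddEquiv.symm_apply_apply, AddEquiv.symm_apply_apply,
      smul_toRs]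
    exact congrArg _ ((u.app (op c)).hom.map_smul _ x)

/-- `u` on coordinates. -/
noncomputable def mapZ {c : C} :
    (Idx f M c →₀ G'.obj (op c)) →+ (Idx f M c →₀ G.obj (op c)) :=
  Finsupp.mapRange.addMonoidHom (u.app (op c)).hom.toAddMonoidHom

lemma mapZ_single {c : C} (i : Idx f M c) (x : G'.obj (op c)) :
    mapZ u (Finsupp.single i x) = Finsupp.single i ((u.app (op c)).hom x) :=
  Finsupp.mapRange_single (hf := map_zero _)

lemma cls_mapZ {c : C} (z : Idx f M c →₀ G'.obj (op c)) :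
    cls f M G (mapZ u z) = ((u ▷ expl f M).app (op c)).hom (cls f M G' z) := by
  induction z using Finsupp.induction_linear with
  | zero => simp only [map_zero]
  | add z₁ z₂ h₁ h₂ => simp only [map_add, h₁, h₂]
  | single i x => rw [mapZ_single, cls_single, cls_single]; rfl

lemma evc_mapZ {c c' : C} {v : c' ⟶ c} {S : Finset (StructuredArrow c f.fn)}
    {T : Finset (PullSets.Arr f.fn c)} (κ : PullSets.DCone f.fn v S T)
    (z : Idx f M c →₀ G'.obj (op c)) (hz : ∀ i ∈ z.support, i.X ∈ S) :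
    evc κ (mapZ u z) = LinearMap.rTensor _ (mapRs u κ.b) (evc κ z) := by
  conv_lhs => rw [← Finsupp.sum_single z]
  conv_rhs => rw [← Finsupp.sum_single z]
  rw [Finsupp.sum, map_sum, map_sum, map_sum, map_sum]
  refine Finset.sum_congr rfl fun i hi => ?_
  rw [mapZ_single, evc_single κ i (hz i hi), evc_single κ i (hz i hi), LinearMap.rTensor_tmul]
  congr 1
  show toRs f κ.b G (rs G v.op _) = toRs f κ.b G ((u.app _).hom (rs G' v.op (z i)))
  rw [rs_app]

end MapG

section Flat

variable {F : ModSite.Mod O_D} (hF : LocTriv F) {G' : PMod O_C} (u : G' ⟶ G)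
  (hu : ∀ X, Function.Injective ((u.app X).hom))

include hF hu in
lemma kill_flat {c : C} {e : D} (b : c ⟶ f.fn.obj e)
    (w : Rs f b G' ⊗[O_D.obj.obj (op e)] ((forg O_D).obj F).obj (op e))
    (hw : LinearMap.rTensor _ (mapRs u b) w = 0) :
    ∃ S ∈ K e, ∀ ⦃e' : D⦄ (g : e' ⟶ e), S g → ∀ ⦃c' : C⦄ (v : c' ⟶ c)
      (b' : c' ⟶ f.fn.obj e'), b' ≫ f.fn.map g = v ≫ b →
        rs (G' ⊗ expl f ((forg O_D).obj F)) v.op (psiC b w) = 0 := by
  obtain ⟨n, x, m, rfl⟩ := exists_sum_toRs b w
  rw [map_sum] at hw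
  simp only [LinearMap.rTensor_tmul] at hw
  obtain ⟨k, l, g₂, a, a', nn, hm, h0, hg⟩ :=
    TensorRel.exists_rel (fun i => mapRs u b (toRs f b G' (x i))) m hw
  obtain ⟨S, hS, hS'⟩ := hF.multi e l a' nn h0
  refine ⟨S, hS, fun e' g hg' c' v b' hb => ?_⟩
  obtain ⟨q, t, β, ht, hβ⟩ := hS' g hg'
  rw [rs_psiC_sum b v g b' hb]
  refine Eq.trans ?_ (map_zero (psiC b'))
  congr 1
  refine sum_tmul_eq_zero _ _ (fun p r => ∑ j, rr O_D g.op (a p j) * β j r) t (fun p => ?_)
    (fun r => ?_)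
  · rw [hm p, ModRel.rs_sum]
    simp_rw [rs_smul', ht, Finset.smul_sum, smul_smul, Finset.sum_smul]
    exact Finset.sum_comm
  · have hinj : Function.Injective (mapRs u b' : Rs f b' G' → Rs f b' G) := fun y y' h => hu _ h
    apply hinj
    rw [map_sum, map_zero]
    simp_rw [map_smul, Finset.sum_smul]
    rw [Finset.sum_comm]
    have hx : ∀ p, mapRs u b' (toRs f b' G' (rs G' v.op (x p))) =
        toRs f b' G (rs G v.op ((toRs f b G).symm (mapRs u b (toRs f b G' (x p))))) := fun p => by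
      show toRs f b' G ((u.app _).hom (rs G' v.op (x p))) = _
      rw [rs_app]
      rfl
    have hall : ∀ (y : Rs f b G) (z : O_D.obj.obj (op e)),
        rr O_D g.op z • toRs f b' G (rs G v.op ((toRs f b G).symm y)) =
          toRs f b' G (rs G v.op ((toRs f b G).symm (z • y))) := fun y z => by
      obtain ⟨y, rfl⟩ := (toRs f b G).surjective y
      exact (congrArg (fun t => rr O_D g.op z • toRs f b' G (rs G v.op t))
        ((toRs f b G).symm_apply_apply y)).trans (rs_smul_lift b v g b' hb z y)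
    let P : Rs f b G →+ Rs f b' G :=
      { toFun := fun y => toRs f b' G (rs G v.op ((toRs f b G).symm y))
        map_zero' := by rw [map_zero, ModRel.rs_zero, map_zero]
        map_add' := fun y y' => by rw [map_add, rs_add, map_add] }
    have h3 : ∀ j, ∑ p, rr O_D g.op (a p j) • P (mapRs u b (toRs f b G' (x p))) +
        ∑ s, rr O_D g.op (a' s j) • P (g₂ s) = 0 := by
      intro j
      have := congrArg P (hg j)
      rw [map_add, map_sum, map_sum, map_zero] at this
      simp only [P, AddMonoidHom.coe_mk, ZeroHom.coe_mk, ← hall] at this ⊢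
      exact this
    have h4 : ∀ j, ∑ p, (rr O_D g.op (a p j) * β j r) •
        mapRs u b' (toRs f b' G' (rs G' v.op (x p))) =
        -∑ s, (β j r * rr O_D g.op (a' s j)) • P (g₂ s) := fun j => by
      simp_rw [hx, mul_comm (rr O_D g.op (a _ j)) (β j r), ← smul_smul, ← Finset.smul_sum]
      rw [← smul_neg]
      exact congrArg _ (eq_neg_of_add_eq_zero_left (h3 j))
    rw [Finset.sum_congr rfl fun j _ => h4 j, Finset.sum_neg_distrib, Finset.sum_comm]
    simp_rw [← Finset.sum_smul, hβ, zero_smul]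
    simp

include hF hu in
theorem mono_aSh_whiskerRight_expl :
    Mono ((aSh O_C).map (u ▷ expl f ((forg O_D).obj F))) := by
  refine mono_aSh_map _ fun c ζ hζ => ?_
  obtain ⟨z, rfl⟩ := cls_surjective f ((forg O_D).obj F) G' ζ
  rw [← cls_mapZ] at hζ
  obtain ⟨S, T, hgood⟩ := good_of_cls_eq_zero _ hζ
  let S₁ := S ∪ z.support.image Idx.X
  rcases S₁.eq_empty_or_nonempty with h | h
  · have : z = 0 := by
      rw [← Finsupp.support_eq_empty]
      simp only [S₁, Finset.union_eq_empty, Finset.image_eq_empty] at h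
      exact h.2
    refine ⟨⊤, J.top_mem c, fun c' v _ => ?_⟩
    rw [this, map_zero, ModRel.rs_zero]
  obtain ⟨U, hU, hU'⟩ := PullSets.locally_cone (K := K) (J := J) f.fn S₁ h T
  have key : ∀ ⦃c' : C⦄ (v : c' ⟶ c), U v → ∃ W ∈ J c', ∀ ⦃c'' : C⦄ (t : c'' ⟶ c'), W t →
      rs (G' ⊗ expl f ((forg O_D).obj F)) (t ≫ v).op (cls f ((forg O_D).obj F) G' z) = 0 := by
    intro c' v hv
    obtain ⟨κ⟩ := hU' v hv
    have hsupp : ∀ i ∈ z.support, i.X ∈ S₁ := fun i hi =>
      Finset.mem_union_right _ (Finset.mem_image_of_mem _ hi)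
    have hzero := hgood S₁ T Finset.subset_union_left (Finset.Subset.refl T) c' v κ
    rw [evc_mapZ u κ z hsupp] at hzero
    obtain ⟨Se, hSe, hkill⟩ := kill_flat hF u hu κ.b (evc κ z) hzero
    obtain ⟨W, hW, hW'⟩ := PullSets.locally_lift (K := K) (J := J) f.fn κ.b Se hSe
    refine ⟨W, hW, fun c'' t ht => ?_⟩
    obtain ⟨e', g, b', hg, hb⟩ := hW' t ht
    rw [op_comp, ← rs_rs, ← psiC_evc κ z hsupp]
    exact hkill g hg t b' hb
  choose W hW hW' using key
  refine ⟨Sieve.bind U.arrows W, J.bind_covering hU hW, fun c'' w hw => ?_⟩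
  obtain ⟨c', t, v, hv, ht, rfl⟩ := hw
  exact hW' v hv t ht

end Flat

variable (f)

/-- `f^* M` is the sheafification of the explicit presheaf. -/
noncomputable def explIso (F : ModSite.Mod O_D) :
    (aSh O_C).obj (expl f ((forg O_D).obj F)) ≅ f.pull.obj F :=
  haveI := (univ_iff_isIso _).1 (univ_explσ f ((forg O_D).obj F))
  haveI := ModOver.counit_isIso (O := O_D)
  (asIso (psi (explσ f ((forg O_D).obj F)))).symm ≪≫ f.pull.mapIso (asIso ((adj O_D).counit.app F))

theorem isFlat_pull (F : ModSite.Mod O_D) (hF : ModSite.IsFlat F) :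
    ModSite.IsFlat (f.pull.obj F) := by
  refine isFlat_of_iso (explIso f F) ((isFlat_iff _).2 ⟨fun {G' G} u _ => ?_⟩)
  have := ModOver.preservesMonomorphisms_forg (O := O_C)
  have hu : ∀ X, Function.Injective ((((forg O_C).map u).app X).hom) := fun X => by
    have : Mono ((forg O_C).map u) := inferInstance
    exact PresheafOfModules.injective_of_mono ((forg O_C).map u) X
  have h2 := mono_aSh_whiskerRight_expl (f := f) (LocTriv.of_isFlat hF) ((forg O_C).map u) hu
  exact (((MorphismProperty.monomorphisms (ModSite.Mod O_C)).arrow_mk_iso_iff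
    (Arrow.isoMk ((tRaSh (expl f ((forg O_D).obj F))).app _)
      ((tRaSh (expl f ((forg O_D).obj F))).app _)
      ((tRaSh (expl f ((forg O_D).obj F))).hom.naturality u).symm)).2 h2)

end Groth.Agent.H15Site.PullTensor
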