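import Groth.Agent.H15Site.LocPres
import Groth.Agent.H15Site.PullFlat
import Groth.Agent.H15Site.PullUnit

/-!
# Inverse image along a morphism of ringed sites of finite type / finitely presented modules
-/

universe u

open CategoryTheory CategoryTheory.Limits MonoidalCategory Opposite TensorProduct

set_option linter.style.haveILetI false
set_option backward.isDefEq.respectTransparency false
set_option linter.unusedSectionVars false

namespace Groth.Agent.H15Site.PullLocPres

open ModTensor ModRel LocGen LocPres PullTensor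

attribute [local instance 10000] SiteInst.hasSheafifySite SiteInst.hasWeakSheafifySite

variable {C D : Type u} [SmallCategory C] [SmallCategory D] {J : GrothendieckTopology C}
  {K : GrothendieckTopology D} {O_C : Sheaf J CommRingCat.{u}} {O_D : Sheaf K CommRingCat.{u}}
  (f : ModSite.RMor O_C O_D)

section Iso

variable {O : Sheaf J CommRingCat.{u}} {M N : ModSite.Mod O}

lemma hom_inv_app (e : M ≅ N) {X : Cᵒᵖ} (x : ((forg O).obj N).obj X) :
    (e.hom.val.app X).hom ((e.inv.val.app X).hom x) = x :=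
  congrArg (fun k : N ⟶ N => (k.val.app X).hom x) e.inv_hom_id

lemma gen_of_iso (e : M ≅ N) {U : C} {I : Type u} [Fintype I]
    {s : I → ((forg O).obj M).obj (op U)} (hs : Gen s) :
    Gen (fun i => (e.hom.val.app (op U)).hom (s i)) := fun V g t => by
  have h : LSpan s g ((e.inv.val.app (op V)).hom t) := hs g _
  have h2 := LSpan.map h e.hom
  rwa [hom_inv_app] at h2

theorem FG.of_iso (e : M ≅ N) {U : C} : FG M U → FG N U := fun ⟨I, hI, _, hs⟩ =>
  ⟨I, hI, _, gen_of_iso e hs⟩

theorem FP.of_iso (e : M ≅ N) {U : C} : FP M U → FP N U := by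
  rintro ⟨I, K, hI, hK, s, r, hs, hr⟩
  refine ⟨I, K, hI, hK, _, r, gen_of_iso e hs, ⟨fun k => ?_, fun V g c hc => ?_⟩⟩
  · exact (app_sum_smul e.hom _ _ _).symm.trans ((congrArg _ (hr.zero k)).trans (map_zero _))
  · refine hr.complete g c ?_
    apply injective_app e.hom
    rw [map_zero]
    refine (app_sum_smul e.hom _ _ _).trans (Eq.trans (Finset.sum_congr rfl fun i _ => ?_) hc)
    exact congrArg (c i • ·) (app_rs e.hom _ _)

end Iso

/-- Existence of charts locally. -/
theorem exists_chart (c : C) :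
    ∃ S ∈ J c, ∀ ⦃W : C⦄ (g : W ⟶ c), S g → Nonempty (StructuredArrow W f.fn) := by
  refine ⟨_, (PullUnit.univ_pt (J := J) (K := K) f.fn).locally_image (c := c) PUnit.unit,
    fun W g ⟨d, b, _⟩ => ⟨StructuredArrow.mk b⟩⟩

/-- A property holding locally on `D` holds locally on the charts. -/
theorem lh_chart {P : D → Prop} (hP : LH K P) :
    LH J fun W => ∃ X : StructuredArrow W f.fn, P X.right :=
  lh_bind (P := fun W => Nonempty (StructuredArrow W f.fn)) (exists_chart f) fun W ⟨X⟩ => by
    obtain ⟨S, hS, hS'⟩ := hP X.right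
    obtain ⟨T, hT, hT'⟩ := PullSets.locally_lift (K := K) (J := J) f.fn X.hom S hS
    refine ⟨T, hT, fun V v hv => ?_⟩
    obtain ⟨e, g, b', hg, -⟩ := hT' v hv
    exact ⟨StructuredArrow.mk b', hS' g hg⟩

variable (F : ModSite.Mod O_D)

/-- The comparison with the sheafification. -/
noncomputable def eta :
    expl f ((forg O_D).obj F) ⟶ (forg O_C).obj ((aSh O_C).obj (expl f ((forg O_D).obj F))) :=
  (adj O_C).unit.app _

theorem isIso_map_eta : IsIso ((aSh O_C).map (eta f F)) := by
  haveI := ModOver.counit_isIso (O := O_C)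
  have h := (adj O_C).left_triangle_components (expl f ((forg O_D).obj F))
  exact IsIso.of_isIso_fac_right h

/-- A section of the inverse image given by a chart. -/
noncomputable def cls' {c : C} (X : StructuredArrow c f.fn)
    (m : ((forg O_D).obj F).obj (op X.right)) :
    ((forg O_C).obj ((aSh O_C).obj (expl f ((forg O_D).obj F)))).obj (op c) :=
  ((eta f F).app (op c)).hom (cl f _ X m)

lemma rs_cls' {c c' : C} (v : c' ⟶ c) (X : StructuredArrow c f.fn)
    (m : ((forg O_D).obj F).obj (op X.right)) :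
    rs _ v.op (cls' f F X m) = cls' f F (mv f v X) m := by
  rw [cls', ← rs_app, rs_cl]
  rfl

lemma cls'_res {c : C} {X Y : StructuredArrow c f.fn} (g : X ⟶ Y)
    (m : ((forg O_D).obj F).obj (op Y.right)) :
    cls' f F X (rs _ g.right.op m) = cls' f F Y m := by
  rw [cls', cls', cl_res]

/-- A chart as an additive map. -/
noncomputable def clsHom {c : C} (X : StructuredArrow c f.fn) :
    ((forg O_D).obj F).obj (op X.right) →+
      ((forg O_C).obj ((aSh O_C).obj (expl f ((forg O_D).obj F)))).obj (op c) :=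
  AddMonoidHom.mk' (cls' f F X) fun m m' => by
    show ((eta f F).app (op c)).hom _ = _
    rw [cl_add, map_add]
    rfl

lemma cls'_sum_smul {c : C} (X : StructuredArrow c f.fn) {I : Type*} (A : Finset I)
    (r : I → O_D.obj.obj (op X.right)) (m : I → ((forg O_D).obj F).obj (op X.right)) :
    cls' f F X (∑ i ∈ A, r i • m i) = ∑ i ∈ A, rho X (r i) • cls' f F X (m i) := by
  refine (map_sum (clsHom f F X) _ _).trans (Finset.sum_congr rfl fun i _ => ?_)
  show ((eta f F).app (op c)).hom (cl f _ X (r i • m i)) = _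
  rw [cl_smul]
  exact ((eta f F).app (op c)).hom.map_smul _ _

/-- Sections of the inverse image are locally combinations of charts. -/
theorem exists_combination {c : C}
    (t : ((forg O_C).obj ((aSh O_C).obj (expl f ((forg O_D).obj F)))).obj (op c)) :
    ∃ S ∈ J c, ∀ ⦃c' : C⦄ (v : c' ⟶ c), S v →
      ∃ z : Idx f ((forg O_D).obj F) c' →₀ O_C.obj.obj (op c'),
        rs _ v.op t = z.sum fun i a => a • cls' f F i.X i.m := by
  obtain ⟨-, hs⟩ := (isIso_aSh_map_iff (eta f F)).1 (isIso_map_eta f F)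
  refine ⟨liftSieve (eta f F) (X := op c) t, liftSieve_mem (eta f F) t, fun c' v hv => ?_⟩
  obtain ⟨m, hm⟩ := exists_lift (eta f F) (X := op c) hv
  obtain ⟨z, hz⟩ : ∃ z : Idx f ((forg O_D).obj F) c' →₀ O_C.obj.obj (op c'),
      projC f ((forg O_D).obj F) c' z = m :=
    PresheafOfModules.surjective_of_epi (explπ f ((forg O_D).obj F)) (op c') m
  refine ⟨z, hm.symm.trans ?_⟩
  rw [← hz]
  conv_lhs => rw [← Finsupp.sum_single z]
  rw [Finsupp.sum, map_sum, map_sum]
  refine Finset.sum_congr rfl fun i _ => ?_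
  rw [← Finsupp.smul_single_one, map_smul]
  exact ((eta f F).app (op c')).hom.map_smul _ _

/-- Charts of generators generate. -/
theorem gen_cls' {c : C} (X : StructuredArrow c f.fn) {I : Type u} [Fintype I]
    {s : I → ((forg O_D).obj F).obj (op X.right)} (hs : Gen s) :
    Gen (fun i => cls' f F X (s i)) := by
  intro V g t
  obtain ⟨S, hS, hS'⟩ := exists_combination f F t
  refine LSpan.of_cover hS fun W a ha => ?_
  obtain ⟨z, hz⟩ := hS' a ha
  rw [hz, Finsupp.sum]
  refine LSpan.sum _ fun i _ => LSpan.smul _ ?_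
  obtain ⟨Y, m⟩ := i
  obtain ⟨T, hT, hT'⟩ := PullSets.locally_pair (K := K) (J := J) f.fn Y (mv f (a ≫ g) X)
  refine LSpan.of_cover hT fun W' b hb => ?_
  obtain ⟨e, b', p, q, hp, hq⟩ := hT' b hb
  obtain ⟨E, hE, hE'⟩ := hs q (rs _ p.op m)
  obtain ⟨T', hT₁, hT₁'⟩ := PullSets.locally_lift (K := K) (J := J) f.fn b' E hE
  refine LSpan.of_cover hT₁ fun W'' b₂ hb₂ => ?_
  obtain ⟨e', h, b'', hh, hw⟩ := hT₁' b₂ hb₂
  obtain ⟨r, hr⟩ := hE' h hh
  rw [rs_rs, ← op_comp, rs_cls',
    ← cls'_res f F (X := StructuredArrow.mk b'') (Y := mv f (b₂ ≫ b) Y)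
      (StructuredArrow.homMk (h ≫ p) (by
        show b'' ≫ f.fn.map (h ≫ p) = (b₂ ≫ b) ≫ Y.hom
        rw [Functor.map_comp, reassoc_of% hw, hp, Category.assoc]))]
  rw [show rs ((forg O_D).obj F) (StructuredArrow.homMk (f := StructuredArrow.mk b'') (f' := mv f (b₂ ≫ b) Y)
    (h ≫ p) _).right.op m = rs ((forg O_D).obj F) h.op (rs ((forg O_D).obj F) p.op m) from (rs_rs _ _ _ _).symm, hr]
  erw [cls'_sum_smul f F (StructuredArrow.mk b'') Finset.univ r
    (fun i => rs ((forg O_D).obj F) (h ≫ q).op (s i))]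
  refine LSpan.sum _ fun i _ => LSpan.smul _ ?_
  have e1 : cls' f F (StructuredArrow.mk b'') (rs ((forg O_D).obj F) (h ≫ q).op (s i)) =
      rs _ (b₂ ≫ b ≫ a ≫ g).op (cls' f F X (s i)) := by
    rw [rs_cls']
    exact cls'_res f F (X := StructuredArrow.mk b'') (Y := mv f (b₂ ≫ b ≫ a ≫ g) X)
      (StructuredArrow.homMk (h ≫ q) (by
        show b'' ≫ f.fn.map (h ≫ q) = (b₂ ≫ b ≫ a ≫ g) ≫ X.hom
        rw [Functor.map_comp, reassoc_of% hw, hq]
        simp [mv])) (s i)
  rw [e1]
  exact LSpan.single (s := fun i => cls' f F X (s i)) i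

/-- Inverse image preserves finite type. -/
theorem isFiniteType_pull [SheafOfModules.IsFiniteType (R := ModSite.ringSh O_D) F] :
    SheafOfModules.IsFiniteType (R := ModSite.ringSh O_C) (f.pull.obj F) := by
  refine isFiniteType_of_lh (lh_mono (lh_chart f (lh_fg F)) ?_)
  rintro W ⟨X, I, hI, s, hs⟩
  exact FG.of_iso (explIso f F) ⟨I, hI, _, gen_cls' f F X hs⟩

/-- The free `O_C`-module of rank one, as the unit for the tensor product. -/
noncomputable abbrev oneP : PMod O_C := (forg O_C).obj (ModSite.unit O_C)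

/-- Charts of complete relations are complete. -/
theorem rel_cls' {c : C} (X : StructuredArrow c f.fn) {I L : Type u} [Fintype I] [Fintype L]
    {s : I → ((forg O_D).obj F).obj (op X.right)} {r : L → I → O_D.obj.obj (op X.right)}
    (hs : Gen s) (hr : LocFP.Rel s r) :
    LocFP.Rel (fun i => cls' f F X (s i)) (fun l i => rho X (r l i)) := by
  classical
  refine ⟨fun l => ?_, fun V g co hco => ?_⟩
  · rw [← cls'_sum_smul, hr.zero]
    exact map_zero (clsHom f F X)
  obtain ⟨hinj, -⟩ := (isIso_aSh_map_iff (eta f F)).1 (isIso_map_eta f F)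
  let Y := mv f g X
  let z : Idx f ((forg O_D).obj F) V →₀ O_C.obj.obj (op V) :=
    ∑ i, Finsupp.single (⟨Y, s i⟩ : Idx f ((forg O_D).obj F) V) (co i)
  let x : (expl f ((forg O_D).obj F)).obj (op V) := ∑ i, co i • cl f _ Y (s i)
  have hx : ((eta f F).app (op V)).hom x = 0 := by
    refine (map_sum _ _ _).trans (Eq.trans (Finset.sum_congr rfl fun i _ => ?_) hco)
    refine (((eta f F).app (op V)).hom.map_smul _ _).trans (congrArg (co i • ·) ?_)
    exact (rs_cls' f F g X (s i)).symm
  have hzero : Presheaf.equalizerSieve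
      (F := (PresheafOfModules.toPresheaf _).obj (expl f ((forg O_D).obj F))) (X := op V)
      x 0 ∈ J V := by
    refine Presheaf.equalizerSieve_mem J
      ((PresheafOfModules.toPresheaf _).map (eta f F)) (X := op V) _ _ ?_
    exact hx.trans (map_zero _).symm
  have key : ∀ ⦃W : C⦄ (a : W ⟶ V), Presheaf.equalizerSieve
      (F := (PresheafOfModules.toPresheaf _).obj (expl f ((forg O_D).obj F))) (X := op V)
      x 0 a → ∃ S ∈ J W, ∀ ⦃Z : C⦄ (h : Z ⟶ W), S h →
        ∃ d : L → O_C.obj.obj (op Z),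
          ∀ i, rr O_C (h ≫ a).op (co i) =
            ∑ l, d l * rr O_C ((h ≫ a) ≫ g).op (rho X (r l i)) := by
    intro W a ha
    have ha' : rs (expl f ((forg O_D).obj F)) a.op x = 0 := ha.trans (map_zero _)
    let Y' := mv f a Y
    let z' : Idx f ((forg O_D).obj F) W →₀ (oneP (O_C := O_C)).obj (op W) :=
      ∑ i, Finsupp.single (⟨Y', s i⟩ : Idx f ((forg O_D).obj F) W) (rr O_C a.op (co i))
    have hz' : cls f ((forg O_D).obj F) oneP z' = 0 := by
      refine (map_sum _ _ _).trans ?_
      simp only [cls_single]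
      apply (TensorProduct.lid (O_C.obj.obj (op W))
        ((expl f ((forg O_D).obj F)).obj (op W))).injective
      erw [map_sum, map_zero]
      refine Eq.trans (Finset.sum_congr rfl fun i _ => ?_) ((rs_sum _ _ _ _).symm.trans ha')
      rw [rs_smul', rs_cl]
      exact TensorProduct.lid_tmul _ _
    obtain ⟨S₀, T₀, hgood⟩ := good_of_cls_eq_zero _ hz'
    obtain ⟨U, hU, hU'⟩ := PullSets.locally_cone (K := K) (J := J) f.fn (insert Y' S₀)
      (Finset.insert_nonempty _ _) T₀
    have inner : ∀ ⦃W' : C⦄ (v : W' ⟶ W), U v → ∃ S ∈ J W', ∀ ⦃Z : C⦄ (h : Z ⟶ W'), S h →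
        ∃ d : L → O_C.obj.obj (op Z),
          ∀ i, rr O_C (h ≫ v ≫ a).op (co i) =
            ∑ l, d l * rr O_C ((h ≫ v ≫ a) ≫ g).op (rho X (r l i)) := by
      intro W' v hv
      obtain ⟨κ⟩ := hU' v hv
      have hY : Y' ∈ insert Y' S₀ := Finset.mem_insert_self _ _
      have h0 := hgood _ _ (Finset.subset_insert _ _) (Finset.Subset.refl _) W' v κ
      rw [map_sum] at h0
      simp only [evc_single κ (⟨Y', s _⟩ : Idx f ((forg O_D).obj F) W) hY] at h0
      let q : κ.e ⟶ X.right := κ.h Y' hY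
      let en := (Fintype.equivFin I).symm
      have h1 : ∑ j, rs ((forg O_D).obj F) q.op (s (en j)) ⊗ₜ[O_D.obj.obj (op κ.e)]
          toRs f κ.b oneP (rr O_C (v ≫ a).op (co (en j))) = 0 := by
        have e := congrArg (TensorProduct.comm (O_D.obj.obj (op κ.e)) _ _) h0
        rw [map_sum, map_zero] at e
        refine Eq.trans ?_ e
        rw [← en.sum_comp]
        refine Finset.sum_congr rfl fun j _ => ?_
        rw [TensorProduct.comm_tmul, op_comp, ← rr_rr]
        rfl
      obtain ⟨kk, ll, g', α, α', zz, hc, h0', hg'⟩ := TensorRel.exists_rel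
        (fun j => rs ((forg O_D).obj F) q.op (s (en j))) _ h1
      choose E hE hE' using fun t => hs q (g' t)
      obtain ⟨E₀, hE₀, hle⟩ := exists_common E hE
      have step : ∀ ⦃e' : D⦄ (h : e' ⟶ κ.e), E₀ h → ∃ S ∈ K e', ∀ ⦃e'' : D⦄ (h' : e'' ⟶ e'),
          S h' → ∃ (ρ : Fin kk → I → O_D.obj.obj (op e'')) (δ : Fin ll → L → O_D.obj.obj (op e'')),
            ∀ i j, rr O_D (h' ≫ h).op (α (en.symm i) j) +
                ∑ t, rr O_D (h' ≫ h).op (α' t j) * ρ t i =
              ∑ l, δ j l * rr O_D (h' ≫ h ≫ q).op (r l i) := by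
        intro e' h hh
        choose ρ hρ using fun t => hE' t h (hle t _ hh)
        let cc : Fin ll → I → O_D.obj.obj (op e') := fun j i =>
          rr O_D h.op (α (en.symm i) j) + ∑ t, rr O_D h.op (α' t j) * ρ t i
        have hcc : ∀ j, ∑ i, cc j i • rs ((forg O_D).obj F) (h ≫ q).op (s i) = 0 := by
          intro j
          have e1 := congrArg (rs ((forg O_D).obj F) h.op) (hg' j)
          rw [rs_add, rs_sum, rs_sum, rs_zero] at e1
          simp only [rs_smul', rs_rs, ← op_comp, hρ, Finset.smul_sum, smul_smul] at e1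
          simp only [cc, add_smul, Finset.sum_add_distrib, Finset.sum_smul]
          conv_lhs => arg 2; rw [Finset.sum_comm]
          rw [← en.sum_comp]
          simpa only [Equiv.symm_apply_apply] using e1
        choose S hS hS' using fun j => hr.complete (h ≫ q) (cc j) (hcc j)
        obtain ⟨S₁, hS₁, hle₁⟩ := exists_common S hS
        refine ⟨S₁, hS₁, fun e'' h' hh' => ?_⟩
        choose δ hδ using fun j => hS' j h' (hle₁ j _ hh')
        refine ⟨fun t i => rr O_D h'.op (ρ t i), δ, fun i j => ?_⟩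
        have := hδ j i
        simp only [cc, map_add, map_sum, map_mul, rr_rr, ← op_comp, Category.assoc] at this ⊢
        exact this
      choose S hS hS' using step
      obtain ⟨T, hT, hT'⟩ := PullSets.locally_lift (K := K) (J := J) f.fn κ.b
        (Sieve.bind E₀.arrows fun e' h hh => S h hh) (K.bind_covering hE₀ hS)
      refine ⟨T, hT, fun Z w hw => ?_⟩
      obtain ⟨e'', h'', b'', hh'', hb''⟩ := hT' w hw
      obtain ⟨e', h', h, hh, hh', rfl⟩ := hh''
      obtain ⟨ρ, δ, hρδ⟩ := hS' h hh h' hh'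
      let R₀ : O_D.obj.obj (op e'') →+* O_C.obj.obj (op Z) := rho (StructuredArrow.mk b'')
      let Zz : Fin ll → O_C.obj.obj (op Z) := fun j => rr O_C w.op ((toRs f κ.b oneP).symm (zz j))
      have hR : ∀ x, R₀ (rr O_D (h' ≫ h).op x) = rr O_C w.op (rho (StructuredArrow.mk κ.b) x) :=
        fun x => rho_lift κ.b w (h' ≫ h) b'' hb'' x
      refine ⟨fun l => ∑ j, R₀ (δ j l) * Zz j, fun i => ?_⟩
      have hci : rr O_C (w ≫ v ≫ a).op (co i) =
          ∑ j, R₀ (rr O_D (h' ≫ h).op (α (en.symm i) j)) * Zz j := by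
        have e := congrArg (fun y => rr O_C w.op ((toRs f κ.b oneP).symm y)) (hc (en.symm i))
        simp only [Equiv.apply_symm_apply, AddEquiv.symm_apply_apply, rr_rr, map_sum,
          ← op_comp] at e
        refine e.trans (Finset.sum_congr rfl fun j _ => ?_)
        rw [hR]
        exact map_mul (O_C.obj.map w.op).hom _ _
      have hz0 : ∀ t, ∑ j, R₀ (rr O_D (h' ≫ h).op (α' t j)) * Zz j = 0 := fun t => by
        have e := congrArg (fun y => rr O_C w.op ((toRs f κ.b oneP).symm y)) (h0' t)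
        simp only [map_sum, map_zero] at e
        refine Eq.trans (Finset.sum_congr rfl fun j _ => ?_) e
        rw [hR]
        exact (map_mul (O_C.obj.map w.op).hom _ _).symm
      have hX : ∀ l, R₀ (rr O_D (h' ≫ h ≫ q).op (r l i)) =
          rr O_C ((w ≫ v ≫ a) ≫ g).op (rho X (r l i)) := fun l => by
        refine (rho_lift X.hom ((w ≫ v ≫ a) ≫ g) (h' ≫ h ≫ q) b'' ?_ (r l i))
        have hkw : κ.b ≫ f.fn.map q = v ≫ a ≫ g ≫ X.hom := κ.w Y' hY
        simp only [Functor.map_comp] at hb'' ⊢
        rw [reassoc_of% hb'', hkw]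
        simp
      rw [hci]
      have e2 : ∑ j, R₀ (rr O_D (h' ≫ h).op (α (en.symm i) j)) * Zz j =
          ∑ j, R₀ (∑ l, δ j l * rr O_D (h' ≫ h ≫ q).op (r l i)) * Zz j := by
        simp only [← hρδ i, map_add, map_sum, map_mul, add_mul, Finset.sum_add_distrib,
          Finset.sum_mul]
        conv_rhs => arg 2; rw [Finset.sum_comm]
        simp only [mul_right_comm _ (R₀ (ρ _ i)) _, ← Finset.sum_mul, hz0, zero_mul,
          Finset.sum_const_zero, add_zero]
      rw [e2]
      simp only [map_sum, map_mul, hX, Finset.sum_mul]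
      rw [Finset.sum_comm]
      refine Finset.sum_congr rfl fun l _ => Finset.sum_congr rfl fun j _ => ?_
      ring
    choose S hS hS' using inner
    refine ⟨Sieve.bind U.arrows (fun W' v hv => S v hv), J.bind_covering hU hS, ?_⟩
    rintro Z _ ⟨W', h, v, hv, hh, rfl⟩
    simpa only [Category.assoc] using hS' v hv h hh
  choose S hS hS' using key
  refine ⟨_, J.bind_covering hzero hS, ?_⟩
  rintro Z _ ⟨W, h, a, ha, hh, rfl⟩
  exact hS' a ha h hh

/-- Inverse image preserves finite presentation. -/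
theorem isFinitePresentation_pull
    [SheafOfModules.IsFinitePresentation (R := ModSite.ringSh O_D) F] :
    SheafOfModules.IsFinitePresentation (R := ModSite.ringSh O_C) (f.pull.obj F) := by
  refine isFinitePresentation_of_lh (lh_mono (lh_chart f (lh_fp F)) ?_)
  rintro W ⟨X, I, L, hI, hL, s, r, hs, hr⟩
  exact FP.of_iso (explIso f F) ⟨I, L, hI, hL, _, _, gen_cls' f F X hs, rel_cls' f F X hs hr⟩

end Groth.Agent.H15Site.PullLocPres
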