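import Groth.Agent.H15Site.PullExpl
import Groth.Agent.H15Site.PullLocPres
import Groth.Agent.H15Site.CoverFlat
import Groth.Agent.H15Site.ModRel
import Groth.Prelude.Def_ModSite2
import Mathlib.Algebra.MvPolynomial.Eval
import Mathlib.Algebra.Category.Ring.FilteredColimits
import Mathlib.Algebra.Category.Ring.Limits
import Mathlib.RingTheory.Ideal.Quotient.Operations

/-!
# The inverse image sheaf of rings through charts

`χ X r` is the section of `f⁻¹O_D` over `c` given by `X : c ⟶ fn d` and `r ∈ O_D d`; locally every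
section has this form (`exists_chart_rep`), and `χ X r = 0` forces `r` to vanish locally
(`χ_eq_zero`).
-/

universe u

open CategoryTheory CategoryTheory.Limits Opposite

set_option linter.style.haveILetI false
set_option backward.isDefEq.respectTransparency false
set_option linter.unusedSectionVars false

namespace Groth.Agent.H15Site.InvRingChart

open ModRel
open scoped Classical

variable {C D : Type u} [SmallCategory C] [SmallCategory D] {J : GrothendieckTopology C}
  {K : GrothendieckTopology D} {O_C : Sheaf J CommRingCat.{u}} {O_D : Sheaf K CommRingCat.{u}}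
  (f : ModSite.RMor O_C O_D)

/-- The unit `O_D ⟶ f_* f⁻¹ O_D`. -/
noncomputable abbrev unitI : O_D.obj ⟶ f.fn.op ⋙ f.invRing.obj :=
  ((f.fn.sheafAdjunctionContinuous CommRingCat.{u} K J).unit.app O_D).hom

/-- The section of `f⁻¹ O_D` given by a chart. -/
noncomputable def χ {c : C} (X : StructuredArrow c f.fn) :
    O_D.obj.obj (op X.right) →+* f.invRing.obj.obj (op c) :=
  (f.invRing.obj.map X.hom.op).hom.comp ((unitI f).app (op X.right)).hom

lemma rr_χ {c c' : C} (v : c' ⟶ c) (X : StructuredArrow c f.fn) (r : O_D.obj.obj (op X.right)) :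
    rr f.invRing v.op (χ f X r) = χ f (StructuredArrow.mk (v ≫ X.hom)) r :=
  rr_rr (O := f.invRing) X.hom.op v.op _

lemma χ_rr {c : C} {e e' : D} (b : c ⟶ f.fn.obj e') (g : e' ⟶ e) (r : O_D.obj.obj (op e)) :
    χ f (StructuredArrow.mk b) (rr O_D g.op r) = χ f (StructuredArrow.mk (b ≫ f.fn.map g)) r := by
  refine (congrArg (f.invRing.obj.map b.op).hom
    (ConcreteCategory.congr_hom ((unitI f).naturality g.op) r)).trans ?_
  exact rr_rr (O := f.invRing) (f.fn.map g).op b.op _

lemma χ_lift {c c' : C} {e e' : D} (b : c ⟶ f.fn.obj e) (v : c' ⟶ c) (g : e' ⟶ e)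
    (b' : c' ⟶ f.fn.obj e') (w : b' ≫ f.fn.map g = v ≫ b) (r : O_D.obj.obj (op e)) :
    rr f.invRing v.op (χ f (StructuredArrow.mk b) r) = χ f (StructuredArrow.mk b') (rr O_D g.op r) :=
  ((rr_χ f v (StructuredArrow.mk b) r).trans (congrArg (fun t => χ f (StructuredArrow.mk t) r) w.symm)).trans
    (χ_rr f b' g r).symm

theorem invSharp_χ {c : C} (X : StructuredArrow c f.fn) (r : O_D.obj.obj (op X.right)) :
    (f.invSharp.hom.app (op c)).hom (χ f X r) = PullTensor.rho X r := by
  have h : (f.fn.sheafAdjunctionContinuous CommRingCat.{u} K J).unit.app O_D ≫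
      (f.fn.sheafPushforwardContinuous CommRingCat.{u} K J).map f.invSharp = f.sharp :=
    ((f.fn.sheafAdjunctionContinuous CommRingCat.{u} K J).homEquiv_unit _ _ _).symm.trans
      (Equiv.apply_symm_apply _ _)
  refine (ConcreteCategory.congr_hom (f.invSharp.hom.naturality X.hom.op) _).trans ?_
  refine congrArg (O_C.obj.map X.hom.op).hom ?_
  exact ConcreteCategory.congr_hom
    (congrArg (fun φ : O_D ⟶ _ => φ.hom.app (op X.right)) h) r

/-! ### Every section is locally a chart -/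

/-- A section is locally a chart. -/
def IsLocChart {c : C} (a : f.invRing.obj.obj (op c)) : Prop :=
  ∃ S ∈ J c, ∀ ⦃c' : C⦄ (v : c' ⟶ c), S v →
    ∃ (X : StructuredArrow c' f.fn) (r : O_D.obj.obj (op X.right)), rr f.invRing v.op a = χ f X r

theorem IsLocChart.combine {c : C} {a a' : f.invRing.obj.obj (op c)} (h : IsLocChart f a)
    (h' : IsLocChart f a') :
    ∃ S ∈ J c, ∀ ⦃c' : C⦄ (v : c' ⟶ c), S v → ∃ (e : D) (b : c' ⟶ f.fn.obj e)
      (r r' : O_D.obj.obj (op e)), rr f.invRing v.op a = χ f (StructuredArrow.mk b) r ∧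
        rr f.invRing v.op a' = χ f (StructuredArrow.mk b) r' := by
  obtain ⟨S, hS, hS'⟩ := h
  obtain ⟨T, hT, hT'⟩ := h'
  have key : ∀ ⦃c₁ : C⦄ (v : c₁ ⟶ c), (S ⊓ T) v → ∃ W ∈ J c₁, ∀ ⦃c' : C⦄ (w : c' ⟶ c₁), W w →
      ∃ (e : D) (b : c' ⟶ f.fn.obj e) (r r' : O_D.obj.obj (op e)),
        rr f.invRing (w ≫ v).op a = χ f (StructuredArrow.mk b) r ∧
        rr f.invRing (w ≫ v).op a' = χ f (StructuredArrow.mk b) r' := by
    intro c₁ v hv
    obtain ⟨X, r, hr⟩ := hS' v hv.1
    obtain ⟨Y, r', hr'⟩ := hT' v hv.2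
    obtain ⟨W, hW, hW'⟩ := PullSets.locally_pair (K := K) (J := J) f.fn X Y
    refine ⟨W, hW, fun c' w hw => ?_⟩
    obtain ⟨e, b, p, q, hp, hq⟩ := hW' w hw
    refine ⟨e, b, rr O_D p.op r, rr O_D q.op r', ?_, ?_⟩
    · rw [op_comp, ← rr_rr, hr]
      exact χ_lift f X.hom w p b hp r
    · rw [op_comp, ← rr_rr, hr']
      exact χ_lift f Y.hom w q b hq r'
  choose W hW hW' using key
  refine ⟨Sieve.bind (S ⊓ T).arrows W, J.bind_covering (J.intersection_covering hS hT) hW, ?_⟩
  rintro c' _ ⟨c₁, w, v, hv, hw, rfl⟩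
  exact hW' v hv w hw

theorem isLocChart_of_int {c : C} (n : ℤ) : IsLocChart f ((n : f.invRing.obj.obj (op c))) := by
  obtain ⟨S, hS, hS'⟩ := PullLocPres.exists_chart f c
  refine ⟨S, hS, fun c' v hv => ⟨(hS' v hv).some, n, ?_⟩⟩
  exact (map_intCast _ n).trans (map_intCast _ n).symm

/-- The sections which are locally charts. -/
noncomputable def Im (c : C) : Subring (f.invRing.obj.obj (op c)) where
  carrier := {a | IsLocChart f a}
  one_mem' := by simpa using isLocChart_of_int f (c := c) 1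
  zero_mem' := by simpa using isLocChart_of_int f (c := c) 0
  add_mem' {a a'} h h' := by
    obtain ⟨S, hS, hS'⟩ := h.combine f h'
    refine ⟨S, hS, fun c' v hv => ?_⟩
    obtain ⟨e, b, r, r', hr, hr'⟩ := hS' v hv
    refine ⟨StructuredArrow.mk b, r + r', ?_⟩
    rw [map_add (χ f _), ← hr, ← hr']
    exact map_add _ a a'
  mul_mem' {a a'} h h' := by
    obtain ⟨S, hS, hS'⟩ := h.combine f h'
    refine ⟨S, hS, fun c' v hv => ?_⟩
    obtain ⟨e, b, r, r', hr, hr'⟩ := hS' v hv
    refine ⟨StructuredArrow.mk b, r * r', ?_⟩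
    rw [map_mul (χ f _), ← hr, ← hr']
    exact map_mul _ a a'
  neg_mem' {a} := fun ⟨S, hS, hS'⟩ => ⟨S, hS, fun c' v hv => by
    obtain ⟨X, r, hr⟩ := hS' v hv
    exact ⟨X, -r, (map_neg _ a).trans ((congrArg (-·) hr).trans (map_neg _ r).symm)⟩⟩

theorem isLocChart_rr {c c' : C} (u : c' ⟶ c) {a : f.invRing.obj.obj (op c)}
    (h : IsLocChart f a) : IsLocChart f (rr f.invRing u.op a) := by
  obtain ⟨S, hS, hS'⟩ := h
  refine ⟨S.pullback u, J.pullback_stable u hS, fun c'' v hv => ?_⟩
  rw [rr_rr, ← op_comp]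
  exact hS' (v ≫ u) hv

/-- The presheaf of local charts. -/
noncomputable def imP : Cᵒᵖ ⥤ CommRingCat.{u} where
  obj c := CommRingCat.of (Im f c.unop)
  map {c c'} u := CommRingCat.ofHom
    (((f.invRing.obj.map u).hom.comp (Im f c.unop).subtype).codRestrict (Im f c'.unop)
      fun a => isLocChart_rr f u.unop a.2)
  map_id c := by
    ext a
    exact ConcreteCategory.congr_hom (f.invRing.obj.map_id c) a.1
  map_comp {c c' c''} u v := by
    ext a
    exact ConcreteCategory.congr_hom (f.invRing.obj.map_comp u v) a.1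

/-- The inclusion of local charts. -/
noncomputable def imι : imP f ⟶ f.invRing.obj where
  app c := CommRingCat.ofHom (Im f c.unop).subtype

/-- The unit, with values in local charts. -/
noncomputable def imη : O_D.obj ⟶ f.fn.op ⋙ imP f where
  app d := CommRingCat.ofHom (((unitI f).app d).hom.codRestrict (Im f (f.fn.obj d.unop))
    fun r => ⟨⊤, J.top_mem _, fun c' v _ => ⟨StructuredArrow.mk v, r, rfl⟩⟩)
  naturality d d' g := by
    ext r
    exact Subtype.ext (ConcreteCategory.congr_hom ((unitI f).naturality g) r)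

/-- The sheaf of local charts. -/
noncomputable abbrev imSh : Sheaf J CommRingCat.{u} := (presheafToSheaf J CommRingCat.{u}).obj (imP f)

/-- The sheafified inclusion. -/
noncomputable def imSι : imSh f ⟶ f.invRing :=
  ((sheafificationAdjunction J CommRingCat.{u}).homEquiv _ _).symm (imι f)

/-- The retraction. -/
noncomputable def imR : f.invRing ⟶ imSh f :=
  ((f.fn.sheafAdjunctionContinuous CommRingCat.{u} K J).homEquiv O_D (imSh f)).symm
    ⟨imη f ≫ Functor.whiskerLeft f.fn.op (toSheafify J (imP f))⟩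

lemma toSheafify_imSι : toSheafify J (imP f) ≫ (imSι f).hom = imι f := by
  rw [← sheafificationAdjunction_unit_app]
  exact ((sheafificationAdjunction J CommRingCat.{u}).homEquiv_unit _ _ _).symm.trans
    (Equiv.apply_symm_apply _ _)

lemma imR_imSι : imR f ≫ imSι f = 𝟙 f.invRing := by
  refine ((f.fn.sheafAdjunctionContinuous CommRingCat.{u} K J).homEquiv _ _).injective ?_
  rw [Adjunction.homEquiv_naturality_right, imR, Equiv.apply_symm_apply, Adjunction.homEquiv_id]
  refine Sheaf.hom_ext (NatTrans.ext (funext fun d => ?_))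
  ext r
  show ((imSι f).hom.app (op (f.fn.obj d.unop))).hom
    (((toSheafify J (imP f)).app (op (f.fn.obj d.unop))).hom (((imη f).app d).hom r)) = _
  exact ConcreteCategory.congr_hom
    (congrArg (fun k => NatTrans.app k (op (f.fn.obj d.unop))) (toSheafify_imSι f))
    (((imη f).app d).hom r)

/-- Every section of the inverse image ring is locally a chart. -/
theorem exists_chart_rep {c : C} (a : f.invRing.obj.obj (op c)) :
    ∃ S ∈ J c, ∀ ⦃c' : C⦄ (v : c' ⟶ c), S v → ∃ (e : D) (b : c' ⟶ f.fn.obj e)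
      (r : O_D.obj.obj (op e)), rr f.invRing v.op a = χ f (StructuredArrow.mk b) r := by
  let t := ((imR f).hom.app (op c)).hom a
  have key : ∀ ⦃c₁ : C⦄ (v : c₁ ⟶ c),
      Presheaf.imageSieve (toSheafify J (imP f)) (U := c) t v →
      ∃ W ∈ J c₁, ∀ ⦃c' : C⦄ (w : c' ⟶ c₁), W w → ∃ (e : D) (b : c' ⟶ f.fn.obj e)
        (r : O_D.obj.obj (op e)),
          rr f.invRing (w ≫ v).op a = χ f (StructuredArrow.mk b) r := by
    rintro c₁ v ⟨s, hs⟩
    have hav : rr f.invRing v.op a = s.1 := by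
      have h1 := congrArg ((imSι f).hom.app (op c₁)).hom hs
      refine Eq.trans ?_ (h1.symm.trans
        (ConcreteCategory.congr_hom (congrArg (fun k => NatTrans.app k (op c₁)) (toSheafify_imSι f)) s))
      refine Eq.trans ?_ (ConcreteCategory.congr_hom ((imSι f).hom.naturality v.op) t).symm
      refine congrArg (f.invRing.obj.map v.op).hom ?_
      exact (ConcreteCategory.congr_hom
        (congrArg (fun k => k.hom.app (op c)) (imR_imSι f)) a).symm
    obtain ⟨W, hW, hW'⟩ := s.2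
    refine ⟨W, hW, fun c' w hw => ?_⟩
    obtain ⟨X, r, hr⟩ := hW' w hw
    exact ⟨X.right, X.hom, r, by rw [op_comp, ← rr_rr, hav]; exact hr⟩
  choose W hW hW' using key
  refine ⟨Sieve.bind _ W, J.bind_covering
    (Presheaf.imageSieve_mem J (toSheafify J (imP f)) (U := op c) t) hW, ?_⟩
  rintro c' _ ⟨c₁, w, v, hv, hw, rfl⟩
  exact hW' v hv w hw

/-! ### Vanishing of charts -/

/-- Formal charts over `c`. -/
abbrev Var (c : C) : Type u := Σ X : StructuredArrow c f.fn, O_D.obj.obj (op X.right)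

/-- Evaluation of formal charts on a cone. -/
noncomputable def evv {c c' : C} {v : c' ⟶ c} {S : Finset (StructuredArrow c f.fn)}
    {T : Finset (PullSets.Arr f.fn c)} (κ : PullSets.DCone f.fn v S T) (i : Var f c) :
    O_D.obj.obj (op κ.e) :=
  if h : i.1 ∈ S then rr O_D (κ.h i.1 h).op i.2 else 0

/-- Evaluation of polynomials on a cone. -/
noncomputable def evP {c c' : C} {v : c' ⟶ c} {S : Finset (StructuredArrow c f.fn)}
    {T : Finset (PullSets.Arr f.fn c)} (κ : PullSets.DCone f.fn v S T) :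
    MvPolynomial (Var f c) ℤ →+* O_D.obj.obj (op κ.e) :=
  MvPolynomial.eval₂Hom (Int.castRingHom _) (evv f κ)

lemma evP_X {c c' : C} {v : c' ⟶ c} {S : Finset (StructuredArrow c f.fn)}
    {T : Finset (PullSets.Arr f.fn c)} (κ : PullSets.DCone f.fn v S T) (i : Var f c)
    (h : i.1 ∈ S) : evP f κ (MvPolynomial.X i) = rr O_D (κ.h i.1 h).op i.2 := by
  rw [evP, MvPolynomial.eval₂Hom_X', evv, dif_pos h]

/-- Polynomials killed by all fine enough cones. -/
noncomputable def goodI (c : C) : Ideal (MvPolynomial (Var f c) ℤ) where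
  carrier := {z | ∃ (S : Finset (StructuredArrow c f.fn)) (T : Finset (PullSets.Arr f.fn c)),
    ∀ (S' : Finset (StructuredArrow c f.fn)) (T' : Finset (PullSets.Arr f.fn c)),
      S ⊆ S' → T ⊆ T' → ∀ (c' : C) (v : c' ⟶ c) (κ : PullSets.DCone f.fn v S' T'),
        evP f κ z = 0}
  zero_mem' := ⟨∅, ∅, fun _ _ _ _ _ _ _ => map_zero _⟩
  add_mem' := by
    rintro z z' ⟨S, T, h⟩ ⟨S', T', h'⟩
    refine ⟨S ∪ S', T ∪ T', fun S'' T'' hS hT c' v κ => ?_⟩
    rw [map_add, h _ _ (Finset.union_subset_left hS) (Finset.union_subset_left hT) c' v κ,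
      h' _ _ (Finset.union_subset_right hS) (Finset.union_subset_right hT) c' v κ, add_zero]
  smul_mem' := by
    rintro q z ⟨S, T, h⟩
    exact ⟨S, T, fun S' T' hS hT c' v κ => by rw [smul_eq_mul, map_mul, h S' T' hS hT c' v κ, mul_zero]⟩

/-- Transport of formal charts. -/
def mvVar {c c' : C} (u : c' ⟶ c) (i : Var f c) : Var f c' :=
  ⟨StructuredArrow.mk (u ≫ i.1.hom), i.2⟩

/-- Transport of objects. -/
def mvObj {c c' : C} (u : c' ⟶ c) (X : StructuredArrow c f.fn) : StructuredArrow c' f.fn :=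
  StructuredArrow.mk (u ≫ X.hom)

/-- Transport of arrows. -/
def mvArr {c c' : C} (u : c' ⟶ c) (a : PullSets.Arr f.fn c) : PullSets.Arr f.fn c' :=
  ⟨mvObj f u a.1, mvObj f u a.2.1, StructuredArrow.homMk a.2.2.right (by
    show (u ≫ a.1.hom) ≫ f.fn.map a.2.2.right = u ≫ a.2.1.hom
    rw [Category.assoc, StructuredArrow.w a.2.2])⟩

theorem rename_mem_goodI {c c' : C} (u : c' ⟶ c) {z : MvPolynomial (Var f c) ℤ}
    (hz : z ∈ goodI f c) : MvPolynomial.rename (mvVar f u) z ∈ goodI f c' := by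
  obtain ⟨S, T, h⟩ := hz
  let S₀ := S ∪ z.vars.image Sigma.fst
  refine ⟨S₀.image (mvObj f u), T.image (mvArr f u), fun S' T' hS hT c'' w κ => ?_⟩
  have hin : ∀ X ∈ S₀, mvObj f u X ∈ S' := fun X hX => hS (Finset.mem_image_of_mem _ hX)
  let κ₀ : PullSets.DCone f.fn (w ≫ u) S₀ T :=
    { e := κ.e
      b := κ.b
      h := fun X hX => κ.h _ (hin X hX)
      w := fun X hX => (κ.w _ (hin X hX)).trans (Category.assoc _ _ _).symm
      compat := fun a ha h₁ h₂ =>
        κ.compat (mvArr f u a) (hT (Finset.mem_image_of_mem _ ha)) (hin _ h₁) (hin _ h₂) }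
  refine Eq.trans ?_ (h S₀ T Finset.subset_union_left (Finset.Subset.refl T) c'' (w ≫ u) κ₀)
  rw [evP, evP, MvPolynomial.eval₂Hom_rename]
  refine MvPolynomial.eval₂Hom_congr' rfl (fun i hi _ => ?_) rfl
  have hi0 : i.1 ∈ S₀ := Finset.mem_union_right _ (Finset.mem_image_of_mem _ hi)
  show evv f κ (mvVar f u i) = evv f κ₀ i
  rw [evv, evv, dif_pos hi0, dif_pos (show (mvVar f u i).1 ∈ S' from hin _ hi0)]
  rfl

/-- Formal charts modulo those killed by fine cones. -/
noncomputable def Pq : Cᵒᵖ ⥤ CommRingCat.{u} where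
  obj c := CommRingCat.of (MvPolynomial (Var f c.unop) ℤ ⧸ goodI f c.unop)
  map {c c'} u := CommRingCat.ofHom (Ideal.quotientMap (goodI f c'.unop)
    (MvPolynomial.rename (mvVar f u.unop)).toRingHom fun z hz => rename_mem_goodI f u.unop hz)
  map_id c := by
    refine CommRingCat.hom_ext (Ideal.Quotient.ringHom_ext (MvPolynomial.ringHom_ext
      (fun n => by simp) fun i => ?_))
    show Ideal.Quotient.mk _ (MvPolynomial.rename (mvVar f (𝟙 c.unop)) (MvPolynomial.X i)) = _
    rw [MvPolynomial.rename_X]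
    have e : mvVar f (𝟙 c.unop) i = i := by
      obtain ⟨X, t⟩ := i
      obtain ⟨⟨⟩, Y, b, rfl⟩ : ∃ (_ : Discrete PUnit) (Y : D) (b : c.unop ⟶ f.fn.obj Y),
          X = StructuredArrow.mk b := ⟨X.left, X.right, X.hom, StructuredArrow.eq_mk X⟩
      simp [mvVar]
    rw [e]
    rfl
  map_comp {c c' c''} u v := by
    refine CommRingCat.hom_ext (Ideal.Quotient.ringHom_ext (MvPolynomial.ringHom_ext
      (fun n => by simp) fun i => ?_))
    show Ideal.Quotient.mk _ (MvPolynomial.rename (mvVar f (u ≫ v).unop) (MvPolynomial.X i)) =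
      Ideal.Quotient.mk _ (MvPolynomial.rename (mvVar f v.unop)
        (MvPolynomial.rename (mvVar f u.unop) (MvPolynomial.X i)))
    rw [MvPolynomial.rename_X, MvPolynomial.rename_X, MvPolynomial.rename_X]
    congr 2
    obtain ⟨X, t⟩ := i
    exact Sigma.ext (congrArg StructuredArrow.mk (Category.assoc _ _ _)) HEq.rfl

/-- The identity chart as a formal chart. -/
noncomputable def idVar {d : D} (r : O_D.obj.obj (op d)) :
    MvPolynomial (Var f (f.fn.obj d)) ℤ :=
  MvPolynomial.X ⟨StructuredArrow.mk (T := f.fn) (Y := d) (𝟙 (f.fn.obj d)), r⟩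

/-- The identity charts, as a ring map. -/
noncomputable def qη : O_D.obj ⟶ f.fn.op ⋙ Pq f where
  app d := CommRingCat.ofHom (R := O_D.obj.obj d)
    (S := MvPolynomial (Var f (f.fn.obj d.unop)) ℤ ⧸ goodI f (f.fn.obj d.unop))
    { toFun := fun r => Ideal.Quotient.mk _ (idVar f r)
      map_one' := by
        rw [← map_one (Ideal.Quotient.mk _), Ideal.Quotient.eq]
        refine ⟨{StructuredArrow.mk (T := f.fn) (𝟙 _)}, ∅, fun S' T' hS _ c' v κ => ?_⟩
        rw [map_sub, idVar, evP_X f κ _ (hS (Finset.mem_singleton_self _))]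
        simp [rr]
      map_mul' := fun r r' => by
        rw [← map_mul (Ideal.Quotient.mk _), Ideal.Quotient.eq]
        refine ⟨{StructuredArrow.mk (T := f.fn) (𝟙 _)}, ∅, fun S' T' hS _ c' v κ => ?_⟩
        have h := hS (Finset.mem_singleton_self _)
        rw [map_sub, map_mul, idVar, idVar, idVar, evP_X f κ _ h, evP_X f κ _ h, evP_X f κ _ h]
        exact sub_eq_zero.2 (map_mul _ r r')
      map_zero' := by
        rw [← map_zero (Ideal.Quotient.mk _), Ideal.Quotient.eq]
        refine ⟨{StructuredArrow.mk (T := f.fn) (𝟙 _)}, ∅, fun S' T' hS _ c' v κ => ?_⟩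
        rw [map_sub, idVar, evP_X f κ _ (hS (Finset.mem_singleton_self _))]
        simp [rr]
      map_add' := fun r r' => by
        rw [← map_add (Ideal.Quotient.mk _), Ideal.Quotient.eq]
        refine ⟨{StructuredArrow.mk (T := f.fn) (𝟙 _)}, ∅, fun S' T' hS _ c' v κ => ?_⟩
        have h := hS (Finset.mem_singleton_self _)
        rw [map_sub, map_add, idVar, idVar, idVar, evP_X f κ _ h, evP_X f κ _ h, evP_X f κ _ h]
        exact sub_eq_zero.2 (map_add _ r r') }
  naturality {d d'} g := by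
    ext r
    show Ideal.Quotient.mk _ (idVar f (rr O_D g r)) =
      Ideal.Quotient.mk _ (MvPolynomial.rename (mvVar f (f.fn.map g.unop)) (idVar f r))
    rw [idVar, idVar, MvPolynomial.rename_X, Ideal.Quotient.eq]
    let A : StructuredArrow (f.fn.obj d'.unop) f.fn := StructuredArrow.mk (𝟙 _)
    let B : StructuredArrow (f.fn.obj d'.unop) f.fn :=
      StructuredArrow.mk (f.fn.map g.unop ≫ 𝟙 _)
    let a : PullSets.Arr f.fn (f.fn.obj d'.unop) :=
      ⟨A, B, StructuredArrow.homMk g.unop (by simp [A, B])⟩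
    refine ⟨{A, B}, {a}, fun S' T' hS hT c' v κ => ?_⟩
    have hA : A ∈ S' := hS (by simp)
    have hB : B ∈ S' := hS (by simp)
    rw [map_sub, evP_X f κ _ hA, evP_X f κ (mvVar f (f.fn.map g.unop)
      ⟨StructuredArrow.mk (T := f.fn) (Y := d.unop) (𝟙 _), r⟩) hB]
    have hh := κ.compat a (hT (Finset.mem_singleton_self _)) hA hB
    refine sub_eq_zero.2 ((rr_rr g (κ.h A hA).op r).trans ?_)
    exact congrArg (fun t => rr O_D t r) (congrArg Quiver.Hom.op hh)

/-- The detecting morphism. -/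
noncomputable def det : f.invRing ⟶ (presheafToSheaf J CommRingCat.{u}).obj (Pq f) :=
  ((f.fn.sheafAdjunctionContinuous CommRingCat.{u} K J).homEquiv O_D _).symm
    ⟨qη f ≫ Functor.whiskerLeft f.fn.op (toSheafify J (Pq f))⟩

lemma det_χ {c : C} (X : StructuredArrow c f.fn) (r : O_D.obj.obj (op X.right)) :
    ((det f).hom.app (op c)).hom (χ f X r) =
      ((toSheafify J (Pq f)).app (op c)).hom
        (Ideal.Quotient.mk _ (MvPolynomial.X (mvVar f X.hom
          ⟨StructuredArrow.mk (T := f.fn) (Y := X.right) (𝟙 _), r⟩))) := by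
  have h : (f.fn.sheafAdjunctionContinuous CommRingCat.{u} K J).unit.app O_D ≫
      (f.fn.sheafPushforwardContinuous CommRingCat.{u} K J).map (det f) =
        ⟨qη f ≫ Functor.whiskerLeft f.fn.op (toSheafify J (Pq f))⟩ :=
    ((f.fn.sheafAdjunctionContinuous CommRingCat.{u} K J).homEquiv_unit _ _ _).symm.trans
      (Equiv.apply_symm_apply _ _)
  refine (ConcreteCategory.congr_hom ((det f).hom.naturality X.hom.op) _).trans ?_
  refine (congrArg _ (ConcreteCategory.congr_hom
    (congrArg (fun φ : O_D ⟶ _ => φ.hom.app (op X.right)) h) r)).trans ?_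
  refine (ConcreteCategory.congr_hom ((toSheafify J (Pq f)).naturality X.hom.op) _).symm.trans ?_
  exact congrArg ((toSheafify J (Pq f)).app (op c)).hom
    (congrArg (Ideal.Quotient.mk _) (MvPolynomial.rename_X _ _))

/-- A vanishing chart vanishes locally on `D`. -/
theorem χ_eq_zero {c : C} {d : D} (b : c ⟶ f.fn.obj d) (r : O_D.obj.obj (op d))
    (h : χ f (StructuredArrow.mk b) r = 0) :
    ∃ S ∈ J c, ∀ ⦃c' : C⦄ (v : c' ⟶ c), S v → ∃ (e : D) (b' : c' ⟶ f.fn.obj e) (g : e ⟶ d),
      b' ≫ f.fn.map g = v ≫ b ∧ rr O_D g.op r = 0 := by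
  let i : Var f c := mvVar f b ⟨StructuredArrow.mk (T := f.fn) (Y := d) (𝟙 _), r⟩
  let z : (Pq f).obj (op c) := Ideal.Quotient.mk _ (MvPolynomial.X i)
  have hz : ((toSheafify J (Pq f)).app (op c)).hom z = ((toSheafify J (Pq f)).app (op c)).hom 0 := by
    refine ((det_χ f (StructuredArrow.mk b) r).symm.trans ?_).trans (map_zero _).symm
    rw [h]
    exact map_zero _
  have key : ∀ ⦃c₁ : C⦄ (v : c₁ ⟶ c), Presheaf.equalizerSieve (F := Pq f) (X := op c) z 0 v →
      ∃ W ∈ J c₁, ∀ ⦃c' : C⦄ (w : c' ⟶ c₁), W w → ∃ (e : D) (b' : c' ⟶ f.fn.obj e) (g : e ⟶ d),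
        b' ≫ f.fn.map g = (w ≫ v) ≫ b ∧ rr O_D g.op r = 0 := by
    intro c₁ v hv
    have h1 : MvPolynomial.X (mvVar f v i) ∈ goodI f c₁ := by
      have h2 : Ideal.Quotient.mk _ (MvPolynomial.rename (mvVar f v) (MvPolynomial.X i)) =
          (0 : MvPolynomial (Var f c₁) ℤ ⧸ goodI f c₁) := hv.trans (map_zero _)
      rw [MvPolynomial.rename_X] at h2
      exact Ideal.Quotient.eq_zero_iff_mem.1 h2
    obtain ⟨S, T, hgood⟩ := h1
    obtain ⟨W, hW, hW'⟩ := PullSets.locally_cone (K := K) (J := J) f.fn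
      (insert (mvVar f v i).1 S) (Finset.insert_nonempty _ _) T
    refine ⟨W, hW, fun c' w hw => ?_⟩
    obtain ⟨κ⟩ := hW' w hw
    have hm := Finset.mem_insert_self (mvVar f v i).1 S
    have h3 := hgood _ T (Finset.subset_insert _ _) (Finset.Subset.refl T) c' w κ
    rw [evP_X f κ _ hm] at h3
    refine ⟨κ.e, κ.b, κ.h _ hm, (κ.w _ hm).trans ?_, h3⟩
    show w ≫ v ≫ b ≫ 𝟙 _ = _
    simp
  choose W hW hW' using key
  refine ⟨Sieve.bind _ W, J.bind_covering
    (Presheaf.equalizerSieve_mem J (toSheafify J (Pq f)) (X := op c) z 0 hz) hW, ?_⟩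
  rintro c' _ ⟨c₁, w, v, hv, hw, rfl⟩
  exact hW' v hv w hw

end Groth.Agent.H15Site.InvRingChart
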