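import Groth.Agent.H15Site.LocPres
import Mathlib.Topology.Sheaves.Points

/-!
# Bases of sections and bases of stalks

`Indep s`: the family `s` of sections has no relations.  `free_iff`: `F|_U` is free on a finite set
iff a family of sections is generating and independent; such a family gives a basis of every stalk;
`exists_free_nhd`: a finitely presented module with free stalk at a point is free near it.
-/

universe u

open CategoryTheory CategoryTheory.Limits Opposite

set_option linter.style.haveILetI false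
set_option backward.isDefEq.respectTransparency false
set_option linter.unusedSectionVars false

namespace Groth.Agent.H15Site.StalkFree

open ModTensor ModRel LocGen LocFP

attribute [local instance 10000] SiteInst.hasSheafifySite SiteInst.hasWeakSheafifySite

variable {C : Type u} [SmallCategory C] {J : GrothendieckTopology C} {O : Sheaf J CommRingCat.{u}}
  {U : C} {F : ModSite.Mod O}

/-- The family `s` has no relations over any object above `U`. -/
def Indep {I : Type*} [Fintype I] (s : I → ((forg O).obj F).obj (op U)) : Prop :=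
  ∀ ⦃V : C⦄ (g : V ⟶ U) (c : I → O.obj.obj (op V)),
    ∑ i, c i • rs ((forg O).obj F) g.op (s i) = 0 → c = 0

theorem Indep.restrict {I : Type*} [Fintype I] {s : I → ((forg O).obj F).obj (op U)} (hs : Indep s)
    {V : C} (k : V ⟶ U) : Indep fun i => rs ((forg O).obj F) k.op (s i) := fun W g c hc => by
  simp only [rs_rs, ← op_comp] at hc
  exact hs (g ≫ k) c hc

/-- Sections of `O` are determined locally. -/
theorem ext_ring {V : C} (S : Sieve V) (hS : S ∈ J V) (a b : O.obj.obj (op V))
    (h : ∀ ⦃W : C⦄ (g : W ⟶ V), S g → rr O g.op a = rr O g.op b) : a = b :=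
  separated_forg (ModSite.unit O) (X := op V) S hS a b fun _ g hg => h g hg

theorem mono_genMor {I : Type u} [Fintype I] {s : I → ((forg O).obj F).obj (op U)} (hs : Indep s) :
    Mono (genMor s) := by
  refine Preadditive.mono_of_kernel_zero ?_
  ext W y
  obtain ⟨W⟩ := W
  show ((kernel.ι (genMor s)).val.app (op W)).hom y = 0
  obtain ⟨c, hc⟩ := exists_sum_e (((kernel.ι (genMor s)).val.app (op W)).hom y)
  have h0 : ((genMor s).val.app (op W)).hom (((kernel.ι (genMor s)).val.app (op W)).hom y) = 0 :=
    congrArg (fun ψ : kernel (genMor s) ⟶ (ModSite.restr O U).obj F => (ψ.val.app (op W)).hom y)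
      (kernel.condition (genMor s))
  rw [hc] at h0
  rw [map_sum] at h0
  simp only [genMor_e] at h0
  rw [hc, hs W.hom c h0]
  exact Finset.sum_eq_zero fun i _ => map_zero _

theorem isIso_genMor {I : Type u} [Fintype I] {s : I → ((forg O).obj F).obj (op U)} (hg : Gen s)
    (hs : Indep s) : IsIso (genMor s) := by
  haveI := mono_genMor hs
  haveI := (epi_genMor_iff s).2 hg
  exact isIso_of_mono_of_epi _

theorem indep_of_mono {I : Type u} [Fintype I] {s : I → ((forg O).obj F).obj (op U)}
    [Mono (genMor s)] : Indep s := fun V g c hc => by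
  refine coeff_eq (O := O) (W := Over.mk g) (d := 0) ?_
  refine LocPres.injective_app (genMor s) (op (Over.mk g)) ?_
  refine Eq.trans ((map_sum _ _ _).trans ?_) (Eq.trans (map_zero _).symm
    (congrArg _ (Finset.sum_eq_zero fun i _ => map_zero _).symm))
  simp only [genMor_e]
  exact hc

/-- A module free on a finite set over `U` has a generating independent family, and conversely. -/
theorem free_iff {I : Type u} [Fintype I] :
    Nonempty ((ModSite.restr O U).obj F ≅ SheafOfModules.free (R := ModSite.ringSh (O.over U)) I) ↔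
      ∃ s : I → ((forg O).obj F).obj (op U), Gen s ∧ Indep s := by
  constructor
  · rintro ⟨ψ⟩
    obtain ⟨s, hs⟩ := exists_eq_genMor (F := F) (U := U) ψ.inv
    haveI : IsIso (genMor s) := hs ▸ (inferInstance : IsIso ψ.inv)
    exact ⟨s, (epi_genMor_iff s).1 inferInstance, indep_of_mono⟩
  · rintro ⟨s, h1, h2⟩
    haveI := isIso_genMor h1 h2
    exact ⟨(asIso (genMor s)).symm⟩

/-! ### Germs -/

variable (p : GrothendieckTopology.Point.{u} J) (x : p.fiber.obj U)

/-- Generators give generators of the stalk. -/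
theorem span_germ {I : Type} [Fintype I] {s : I → ((forg O).obj F).obj (op U)} (hs : Gen s) :
    Submodule.span (ModSite.stalkRing p O) (Set.range fun i => ModSite.germ p F U x (s i)) = ⊤ := by
  refine eq_top_iff.2 fun m _ => ?_
  obtain ⟨V, g, v, hv, -, m₀, -, hm⟩ := PointGerm.exists_rep p F (U := U) x
    (fun e : Fin 0 => e.elim0) (fun _ : Unit => m)
  obtain ⟨S, hS, hS'⟩ := hs g (m₀ ())
  obtain ⟨W, h, hh, w, hw⟩ := p.jointly_surjective S hS v
  obtain ⟨r, hr⟩ := hS' h hh
  refine (Submodule.mem_span_range_iff_exists_fun (ModSite.stalkRing p O)).2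
    ⟨fun i => ModSite.germRing p W w (r i), ?_⟩
  have := congrArg (ModSite.germ p F W w) hr
  rw [PointGerm.germ_rs, hw, hm] at this
  refine Eq.trans ?_ this.symm
  refine Eq.trans (Finset.sum_congr rfl fun i _ => ?_) (PointGerm.germ_lin p F w r _).symm
  rw [PointGerm.germ_rs, Functor.map_comp]
  simp [hw, hv]

/-- Independent sections have independent germs. -/
theorem indep_germ {I : Type} [Fintype I] {s : I → ((forg O).obj F).obj (op U)} (hs : Indep s) :
    LinearIndependent (ModSite.stalkRing p O) fun i => ModSite.germ p F U x (s i) := by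
  refine Fintype.linearIndependent_iff.2 fun a ha i => ?_
  obtain ⟨V, g, v, hv, a₀, -, ha₀, -⟩ := PointGerm.exists_rep p F (U := U) x a
    (fun e : Fin 0 => e.elim0)
  obtain ⟨W, k, w, hw, hW⟩ := PointGerm.exists_refine' p (ModSite.toAb F).obj v (ι := Unit)
    (fun _ => ∑ i, a₀ i • rs ((forg O).obj F) g.op (s i)) (fun _ => 0) (fun _ => by
      refine (PointGerm.germ_lin p F v a₀ _).trans ?_
      simp only [PointGerm.germ_rs, hv, ha₀]
      exact ha.trans (map_zero _).symm)
  have h0 : rs ((forg O).obj F) k.op (∑ i, a₀ i • rs ((forg O).obj F) g.op (s i)) = 0 :=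
    (hW ()).trans (rs_zero ((forg O).obj F) k.op)
  rw [rs_sum] at h0
  simp only [rs_smul', rs_rs, ← op_comp] at h0
  have := congrFun (hs (k ≫ g) (fun i => rr O k.op (a₀ i)) h0) i
  rw [← ha₀ i, ← hw, ← PointGerm.germRing_rr]
  exact (congrArg (p.toPresheafFiber W w O.obj).hom this).trans (map_zero _)

/-- A basis of the stalk from a generating independent family. -/
noncomputable def stalkBasis {I : Type} [Fintype I] {s : I → ((forg O).obj F).obj (op U)}
    (hg : Gen s) (hs : Indep s) :
    Module.Basis I (ModSite.stalkRing p O) (ModSite.stalkMod p F) :=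
  Module.Basis.mk (M := ModSite.stalkMod p F) (indep_germ p x hs) (span_germ p x hg).ge

variable (F) in
include x in
/-- A module with generators and relations over `U`, free stalk at `x`, is free near `x`. -/
theorem exists_free_nhd {n K r : ℕ} (t : Fin n → ((forg O).obj F).obj (op U))
    (R : Fin K → Fin n → O.obj.obj (op U)) (hG : Gen t) (hR : Rel t R)
    (b : Module.Basis (Fin r) (ModSite.stalkRing p O) (ModSite.stalkMod p F)) :
    ∃ (W : C) (_ : W ⟶ U), Nonempty (p.fiber.obj W) ∧
      ∃ s : Fin r → ((forg O).obj F).obj (op W), Gen s ∧ Indep s := by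
  classical
  -- lift the basis and the coefficients of the generators
  obtain ⟨V, g, v, hv, c, s, hc, hs⟩ := PointGerm.exists_rep p F (U := U) x
    (fun jk : Fin n × Fin r => b.repr (ModSite.germ p F U x (t jk.1)) jk.2) (fun k => b k)
  obtain ⟨V₁, k₁, v₁, hv₁, hts⟩ := PointGerm.exists_refine' p (ModSite.toAb F).obj v (ι := Fin n)
    (fun j => rs ((forg O).obj F) g.op (t j)) (fun j => ∑ k, c (j, k) • s k) (fun j => by
      show ModSite.germ p F V v (rs ((forg O).obj F) g.op (t j)) = ModSite.germ p F V v _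
      rw [PointGerm.germ_rs, hv]
      refine Eq.trans ?_ (PointGerm.germ_lin p F v _ _).symm
      simp only [hc, hs]
      exact (b.sum_repr _).symm)
  let t₁ := fun j => rs ((forg O).obj F) (k₁ ≫ g).op (t j)
  let s₁ := fun k => rs ((forg O).obj F) k₁.op (s k)
  let c₁ := fun j k => rr O k₁.op (c (j, k))
  have ht₁ : ∀ j, t₁ j = ∑ k, c₁ j k • s₁ k := fun j => by
    have e : rs ((forg O).obj F) (g.op ≫ k₁.op) (t j) =
        rs ((forg O).obj F) k₁.op (∑ k, c (j, k) • s k) :=
      (rs_rs ((forg O).obj F) _ _ _).symm.trans (hts j)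
    rw [rs_sum] at e
    simp only [rs_smul'] at e
    exact e
  have hs₁ : ∀ k, ModSite.germ p F V₁ v₁ (s₁ k) = b k := fun k => by
    rw [PointGerm.germ_rs, hv₁, hs]
  have hGs : Gen s₁ := fun W a z => by
    obtain ⟨S, hS, hS'⟩ := hG.restrict (k₁ ≫ g) a z
    refine ⟨S, hS, fun W' h hh => ?_⟩
    obtain ⟨d, hd⟩ := hS' h hh
    refine ⟨fun k => ∑ j, d j * rr O (h ≫ a).op (c₁ j k), hd.trans ?_⟩
    simp only [Finset.sum_smul]
    rw [Finset.sum_comm]
    refine Finset.sum_congr rfl fun j _ => ?_
    show d j • rs ((forg O).obj F) (h ≫ a).op (t₁ j) = _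
    rw [ht₁, rs_sum, Finset.smul_sum]
    exact Finset.sum_congr rfl fun k _ => by rw [rs_smul', ← mul_smul]
  -- the lifted basis in terms of the generators
  choose S hS hS' using fun k => hG.restrict (k₁ ≫ g) (𝟙 V₁) (s₁ k)
  obtain ⟨T, hT, hTS⟩ := LocPres.exists_common S hS
  obtain ⟨V₂, k₂, hk₂, v₂, hv₂⟩ := p.jointly_surjective T hT v₁
  choose a ha using fun k => hS' k k₂ (hTS k _ hk₂)
  let g₂ := k₂ ≫ k₁ ≫ g
  let t₂ := fun j => rs ((forg O).obj F) g₂.op (t j)
  let s₂ := fun k => rs ((forg O).obj F) k₂.op (s₁ k)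
  let c₂ := fun j k => rr O k₂.op (c₁ j k)
  let R₂ := fun m j => rr O g₂.op (R m j)
  have hR₂ : Rel t₂ R₂ := hR.restrict g₂
  have ht₂ : ∀ j, t₂ j = ∑ k, c₂ j k • s₂ k := fun j => by
    have e := congrArg (rs ((forg O).obj F) k₂.op) (ht₁ j)
    rw [rs_sum] at e
    simp only [rs_smul', t₁, rs_rs, ← op_comp] at e
    simpa [t₂, s₂, c₂, g₂, rs_rs, ← op_comp] using e
  have ha₂ : ∀ k, s₂ k = ∑ j, a k j • t₂ j := fun k => by
    have e := ha k
    simp only [rs_rs, ← op_comp, Category.comp_id] at e
    simpa [t₂, s₂, g₂, t₁, rs_rs, ← op_comp, Category.assoc] using e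
  -- the relations of `s₂` with vanishing germs
  let ρ : Fin r ⊕ Fin K → Fin r → O.obj.obj (op V₂) :=
    Sum.elim (fun l k => (if l = k then 1 else 0) - ∑ j, a l j * c₂ j k)
      fun m k => ∑ j, R₂ m j * c₂ j k
  have key : ∀ d : Fin n → O.obj.obj (op V₂),
      ∑ k, (∑ j, d j * c₂ j k) • s₂ k = ∑ j, d j • t₂ j := fun d => by
    simp only [Finset.sum_smul, ht₂, Finset.smul_sum, mul_smul]
    exact Finset.sum_comm
  have hρ : ∀ l, ∑ k, ρ l k • s₂ k = 0 := by
    rintro (l | m)
    · simp only [ρ, Sum.elim_inl, sub_smul, Finset.sum_sub_distrib, ite_smul, one_smul, zero_smul,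
        Finset.sum_ite_eq, Finset.mem_univ, if_true]
      rw [key, ← ha₂, sub_self]
    · simp only [ρ, Sum.elim_inr]
      rw [key]
      exact hR₂.zero m
  have hs₂ : ∀ k, ModSite.germ p F V₂ v₂ (s₂ k) = b k := fun k => by
    rw [PointGerm.germ_rs, hv₂, hs₁]
  have hρ0 : ∀ l k, ModSite.germRing p V₂ v₂ (ρ l k) = 0 := fun l k => by
    refine Fintype.linearIndependent_iff.1 b.linearIndependent
      (fun k => ModSite.germRing p V₂ v₂ (ρ l k)) ?_ k
    have e := (PointGerm.germ_lin p F v₂ (ρ l) s₂).symm.trans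
      ((congrArg (ModSite.germ p F V₂ v₂) (hρ l)).trans (map_zero _))
    simp only [hs₂] at e
    exact e
  obtain ⟨W, k₃, w, -, hW⟩ := PointGerm.exists_refine' p O.obj v₂
    (ι := (Fin r ⊕ Fin K) × Fin r) (fun q => ρ q.1 q.2) (fun _ => 0)
    (fun q => (hρ0 q.1 q.2).trans (map_zero _).symm)
  refine ⟨W, k₃ ≫ g₂, ⟨w⟩, fun k => rs ((forg O).obj F) k₃.op (s₂ k), ?_, ?_⟩
  · exact ((hGs.restrict k₂).restrict k₃)
  intro Z f d hd
  simp only [rs_rs, ← op_comp] at hd
  have hδ : ∀ l k, (if l = k then 1 else 0) =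
      ∑ j, rr O (f ≫ k₃).op (a l j) * rr O (f ≫ k₃).op (c₂ j k) := fun l k => by
    have e := congrArg (O.obj.map f.op).hom (hW (Sum.inl l, k))
    change rr O f.op (rr O k₃.op (ρ (Sum.inl l) k)) = rr O f.op (rr O k₃.op 0) at e
    rw [rr_rr, ← op_comp] at e
    simp only [ρ, Sum.elim_inl, map_sub, map_sum, map_mul, map_zero, apply_ite, map_one,
      sub_eq_zero] at e
    exact e
  have hb : ∑ j, (∑ k, d k * rr O (f ≫ k₃).op (a k j)) •
      rs ((forg O).obj F) (f ≫ k₃).op (t₂ j) = 0 := by
    refine Eq.trans ?_ hd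
    simp only [Finset.sum_smul]
    rw [Finset.sum_comm]
    refine Finset.sum_congr rfl fun k _ => ?_
    rw [ha₂ k, rs_sum, Finset.smul_sum]
    exact Finset.sum_congr rfl fun j _ => by rw [rs_smul', ← mul_smul]
  obtain ⟨S', hS'', hd'⟩ := hR₂.complete (f ≫ k₃) _ hb
  funext k
  refine ext_ring S' hS'' _ _ fun Z' h hh => ?_
  obtain ⟨q, hq⟩ := hd' h hh
  have hσ : ∀ m, ∑ j, rr O (h ≫ f ≫ k₃).op (R₂ m j) * rr O (h ≫ f ≫ k₃).op (c₂ j k) = 0 :=
    fun m => by
      have e := congrArg (O.obj.map (h ≫ f).op).hom (hW (Sum.inr m, k))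
      change rr O (h ≫ f).op (rr O k₃.op (ρ (Sum.inr m) k)) = rr O (h ≫ f).op (rr O k₃.op 0) at e
      rw [rr_rr, ← op_comp, Category.assoc] at e
      simpa only [ρ, Sum.elim_inr, map_sum, map_mul, map_zero] using e
  have hd₁ : d k = ∑ j, (∑ l, d l * rr O (f ≫ k₃).op (a l j)) * rr O (f ≫ k₃).op (c₂ j k) := by
    simp only [Finset.sum_mul, mul_assoc]
    rw [Finset.sum_comm]
    simp only [← Finset.mul_sum, ← hδ]
    simp
  refine Eq.trans ?_ (map_zero (O.obj.map h.op).hom).symm
  show rr O h.op (d k) = 0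
  refine (congrArg (O.obj.map h.op).hom hd₁).trans ((map_sum _ _ _).trans ?_)
  refine Eq.trans (Finset.sum_congr rfl fun j _ => (map_mul _ _ _).trans
    (congrArg (· * (O.obj.map h.op).hom (rr O (f ≫ k₃).op (c₂ j k))) (hq j))) ?_
  simp only [rr_rr, ← op_comp, Finset.sum_mul, mul_assoc]
  rw [Finset.sum_comm]
  simp only [← Finset.mul_sum, hσ, mul_zero, Finset.sum_const_zero]

end Groth.Agent.H15Site.StalkFree

namespace Groth.Agent.H15Site.StalkFree

open TopologicalSpace

variable {X : TopCat.{u}} {O : TopCat.Sheaf CommRingCat.{u} X}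

/-- A map of modules on a space bijective on all stalks is an isomorphism. -/
theorem isIso_of_stalk_bijective {F G : ModSite.Mod O} (φ : F ⟶ G)
    (h : ∀ x : X, Function.Bijective
      (ModSite.stalkMap (Opens.pointGrothendieckTopology x) φ).hom) : IsIso φ := by
  haveI : IsIso ((SheafOfModules.toSheaf.{u} (ModSite.ringSh O)).map φ) := by
    rw [((Opens.isConservativeFamilyOfPoints_pointsGrothendieckTopology X).jointlyReflectIsomorphisms
      AddCommGrpCat.{u}).isIso_iff]
    rintro ⟨_, ⟨x⟩⟩
    rw [ConcreteCategory.isIso_iff_bijective]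
    exact h x
  exact isIso_of_reflects_iso φ (SheafOfModules.toSheaf.{u} (ModSite.ringSh O))

/-- The point of the site given by a point of an open. -/
def mk {U : Opens X} {x : X} (hx : x ∈ U) :
    (Opens.pointGrothendieckTopology x).fiber.obj U :=
  ⟨⟨hx⟩⟩

/-- The comparison from the stalk of the structure sheaf. -/
noncomputable def stalkHom (x : X) :
    O.presheaf.stalk x ⟶ ModSite.stalkRing (Opens.pointGrothendieckTopology x) O :=
  colimit.desc _
    { pt := ModSite.stalkRing (Opens.pointGrothendieckTopology x) O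
      ι :=
        { app := fun U => (Opens.pointGrothendieckTopology x).toPresheafFiber U.unop.1
            (mk U.unop.2) O.obj
          naturality := fun U V f => by
            refine ((Opens.pointGrothendieckTopology x).toPresheafFiber_w
              ((OpenNhds.inclusion x).map f.unop) (mk V.unop.2) O.obj).trans ?_
            exact (Category.comp_id _).symm } }

lemma stalkHom_germ {U : Opens X} {x : X} (hx : x ∈ U) (a : O.obj.obj (op U)) :
    stalkHom (O := O) x (O.presheaf.germ U x hx a) =
      ModSite.germRing (Opens.pointGrothendieckTopology x) U (mk hx) a :=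
  ConcreteCategory.congr_hom
    (show O.presheaf.germ U x hx ≫ stalkHom (O := O) x =
        (Opens.pointGrothendieckTopology x).toPresheafFiber U (mk hx) O.obj from colimit.ι_desc _ _) a

theorem bijective_stalkHom (x : X) : Function.Bijective (stalkHom (O := O) x) := by
  constructor
  · intro a b hab
    obtain ⟨U, hU, a, rfl⟩ := O.presheaf.exists_germ_eq a
    obtain ⟨V, hV, b, rfl⟩ := O.presheaf.exists_germ_eq b
    rw [stalkHom_germ, stalkHom_germ] at hab
    have hI : x ∈ U ⊓ V := ⟨hU, hV⟩
    have e1 := PointGerm.germRing_rr (O := O) (Opens.pointGrothendieckTopology x)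
      (homOfLE (inf_le_left : U ⊓ V ≤ U)) (mk hI) a
    have e2 := PointGerm.germRing_rr (O := O) (Opens.pointGrothendieckTopology x)
      (homOfLE (inf_le_right : U ⊓ V ≤ V)) (mk hI) b
    obtain ⟨W, k, w, -, hW⟩ := PointGerm.exists_refine' (Opens.pointGrothendieckTopology x) O.obj
      (mk hI) (ι := Unit) (fun _ => ModRel.rr O (homOfLE (inf_le_left : U ⊓ V ≤ U)).op a)
      (fun _ => ModRel.rr O (homOfLE (inf_le_right : U ⊓ V ≤ V)).op b)
      (fun _ => e1.trans (hab.trans e2.symm))
    refine O.presheaf.germ_ext W w.down.down (k ≫ homOfLE inf_le_left) (k ≫ homOfLE inf_le_right) ?_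
    have := hW ()
    simpa [ModRel.rr] using this
  · intro a
    obtain ⟨U, u, a, rfl⟩ := (Opens.pointGrothendieckTopology x).toPresheafFiber_jointly_surjective
      (P := O.obj) a
    exact ⟨O.presheaf.germ U x u.down.down a, stalkHom_germ u.down.down a⟩

theorem isLocalRing_stalkRing {x : X} (h : IsLocalRing (O.presheaf.stalk x)) :
    IsLocalRing (ModSite.stalkRing (Opens.pointGrothendieckTopology x) O) :=
  (RingEquiv.ofBijective _ (bijective_stalkHom x)).isLocalRing

theorem nontrivial_stalkRing {x : X} (h : Nontrivial (O.presheaf.stalk x)) :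
    Nontrivial (ModSite.stalkRing (Opens.pointGrothendieckTopology x) O) :=
  (RingEquiv.ofBijective _ (bijective_stalkHom x)).injective.nontrivial

end Groth.Agent.H15Site.StalkFree
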