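import Groth.Agent.H15Site.Invertible
import Groth.Agent.H15Site.PullLocPres
import Groth.Agent.H15Site.StalkFree

/-!
# Invertible modules are free of rank one near points with local rings
-/

universe u

open CategoryTheory CategoryTheory.Limits MonoidalCategory Opposite TensorProduct

set_option linter.style.haveILetI false
set_option backward.isDefEq.respectTransparency false

namespace Groth.Agent.H15Site.InvertibleLocal

open ModTensor ModRel

attribute [local instance 10000] SiteInst.hasSheafifySite SiteInst.hasWeakSheafifySite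

variable {C : Type u} [SmallCategory C] {J : GrothendieckTopology C} {O : Sheaf J CommRingCat.{u}}
  {L N : ModSite.Mod O} (e : ((ModSite.tensorBi O).obj L).obj N ≅ ModSite.unit O)

/-- The unit of sheafification at `L ⊗ N`. -/
noncomputable abbrev eta (L N : ModSite.Mod O) :
    (forg O).obj L ⊗ (forg O).obj N ⟶ (forg O).obj (((ModSite.tensorBi O).obj L).obj N) :=
  (adj O).unit.app _

theorem isIso_map_eta (L N : ModSite.Mod O) : IsIso ((aSh O).map (eta L N)) := by
  haveI := ModOver.counit_isIso (O := O)
  exact IsIso.of_isIso_fac_right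
    ((adj O).left_triangle_components ((forg O).obj L ⊗ (forg O).obj N))

/-- The pairing of `L` and `N` given by `e`. -/
noncomputable def pairing : (forg O).obj L ⊗ (forg O).obj N ⟶ (forg O).obj (ModSite.unit O) :=
  eta L N ≫ (forg O).map e.hom

/-- The pairing of sections. -/
noncomputable def β {X : Cᵒᵖ} (l : ((forg O).obj L).obj X) (n : ((forg O).obj N).obj X) :
    O.obj.obj X :=
  bb (pairing e) l n

lemma β_smul_left {X : Cᵒᵖ} (r : O.obj.obj X) (l : ((forg O).obj L).obj X)
    (n : ((forg O).obj N).obj X) :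
    β e (r • l : ((forg O).obj L).obj X) n = r * β e l n :=
  bb_smul_left (pairing e) r l n

lemma β_smul_right {X : Cᵒᵖ} (r : O.obj.obj X) (l : ((forg O).obj L).obj X)
    (n : ((forg O).obj N).obj X) :
    β e l (r • n : ((forg O).obj N).obj X) = r * β e l n :=
  bb_smul_right (pairing e) r l n

lemma β_add_left {X : Cᵒᵖ} (l l' : ((forg O).obj L).obj X) (n : ((forg O).obj N).obj X) :
    β e (l + l') n = β e l n + β e l' n :=
  bb_add_left (pairing e) l l' n

lemma β_add_right {X : Cᵒᵖ} (l : ((forg O).obj L).obj X) (n n' : ((forg O).obj N).obj X) :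
    β e l (n + n') = β e l n + β e l n' :=
  bb_add_right (pairing e) l n n'

lemma rr_β {X Y : Cᵒᵖ} (g : X ⟶ Y) (l : ((forg O).obj L).obj X) (n : ((forg O).obj N).obj X) :
    rr O g (β e l n) = β e (rs ((forg O).obj L) g l) (rs ((forg O).obj N) g n) :=
  rs_bb (pairing e) g l n

/-- A section pairing to zero with `n`, when some pairing with `n` is one, is zero. -/
theorem eq_zero_of_β_eq_zero {V : C} {l m : ((forg O).obj L).obj (op V)}
    {n : ((forg O).obj N).obj (op V)} (h : β e l n = 1) (hm : β e m n = 0) : m = 0 := by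
  have h0 : ((eta L N).app (op V)).hom (m ⊗ₜ[O.obj.obj (op V)] n) = 0 := by
    refine LocPres.injective_app e.hom (op V) ?_
    exact hm.trans (map_zero (e.hom.val.app (op V)).hom).symm
  obtain ⟨hinj, -⟩ := (isIso_aSh_map_iff (eta L N)).1 (isIso_map_eta L N)
  have hS : Presheaf.equalizerSieve
      (F := (PresheafOfModules.toPresheaf _).obj ((forg O).obj L ⊗ (forg O).obj N)) (X := op V)
      (m ⊗ₜ[O.obj.obj (op V)] n) 0 ∈ J V := by
    refine Presheaf.equalizerSieve_mem J
      ((PresheafOfModules.toPresheaf _).map (eta L N)) (X := op V) _ _ ?_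
    exact h0.trans (map_zero _).symm
  refine separated_forg L _ hS m 0 fun W g hg => ?_
  rw [rs_zero]
  have hz : rs ((forg O).obj L) g.op m ⊗ₜ[O.obj.obj (op W)] rs ((forg O).obj N) g.op n = 0 :=
    hg.trans (map_zero _)
  let φ : ((forg O).obj L).obj (op W) →ₗ[O.obj.obj (op W)]
      ((forg O).obj N).obj (op W) →ₗ[O.obj.obj (op W)] ((forg O).obj L).obj (op W) :=
    LinearMap.mk₂ (O.obj.obj (op W))
      (fun a c => β e (rs ((forg O).obj L) g.op l) c • a)
      (fun a a' c => smul_add _ a a')
      (fun r a c => smul_comm _ r a)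
      (fun a c c' => by rw [β_add_right, add_smul])
      (fun r a c => by rw [β_smul_right, mul_smul])
  have h1 := congrArg (TensorProduct.lift φ) hz
  rw [map_zero, TensorProduct.lift.tmul] at h1
  change β e (rs ((forg O).obj L) g.op l) (rs ((forg O).obj N) g.op n) •
    rs ((forg O).obj L) g.op m = 0 at h1
  rwa [← rr_β, h, rr, map_one, one_smul] at h1

/-- A pair pairing to one gives a free generator. -/
theorem gen_and_indep {V : C} {l : ((forg O).obj L).obj (op V)} {n : ((forg O).obj N).obj (op V)}
    (h : β e l n = 1) :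
    LocGen.Gen (fun _ : Unit => l) ∧ StalkFree.Indep (fun _ : Unit => l) := by
  have h' : ∀ {W : C} (g : W ⟶ V),
      β e (rs ((forg O).obj L) g.op l) (rs ((forg O).obj N) g.op n) = 1 := fun g => by
    rw [← rr_β, h, rr, map_one]
  refine ⟨fun W g m => ⟨⊤, J.top_mem W, fun W' a _ =>
    ⟨fun _ => β e (rs ((forg O).obj L) a.op m) (rs ((forg O).obj N) (a ≫ g).op n), ?_⟩⟩,
    fun W g c hc => ?_⟩
  · rw [Fintype.sum_unique, ← sub_eq_zero]
    refine eq_zero_of_β_eq_zero e (h' (a ≫ g)) ?_
    rw [sub_eq_add_neg, β_add_left, ← neg_smul, β_smul_left, h' (a ≫ g)]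
    simp
  · funext u
    rw [Fintype.sum_unique] at hc
    have h1 := congrArg (fun t => β e t (rs ((forg O).obj N) g.op n)) hc
    simp only [β_smul_left, h' g, mul_one] at h1
    rw [Subsingleton.elim u default, h1]
    have h2 := β_smul_left e 0 (rs ((forg O).obj L) g.op l) (rs ((forg O).obj N) g.op n)
    rw [zero_smul, zero_mul] at h2
    exact h2

include e in
/-- An invertible module is free of rank one near a point with local ring. -/
theorem exists_gen_indep (p : GrothendieckTopology.Point.{u} J)
    [IsLocalRing (ModSite.stalkRing p O)] {U : C} (x : p.fiber.obj U) :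
    ∃ (V : C) (g : V ⟶ U) (v : p.fiber.obj V), p.fiber.map g v = x ∧
      ∃ l : ((forg O).obj L).obj (op V),
        LocGen.Gen (fun _ : Unit => l) ∧ StalkFree.Indep (fun _ : Unit => l) := by
  obtain ⟨-, hsurj⟩ := (isIso_aSh_map_iff (eta L N)).1 (isIso_map_eta L N)
  let t := (e.inv.val.app (op U)).hom (1 : O.obj.obj (op U))
  obtain ⟨V, g, hg, v, hv⟩ :=
    p.jointly_surjective _ (liftSieve_mem (eta L N) (X := op U) t) x
  obtain ⟨z, hz⟩ := exists_lift (eta L N) (X := op U) hg
  have hz1 : ((pairing e).app (op V)).hom z = (1 : O.obj.obj (op V)) := by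
    show (e.hom.val.app (op V)).hom (((eta L N).app (op V)).hom z) = _
    rw [hz, LocPres.app_rs]
    have : (e.hom.val.app (op U)).hom t = (1 : O.obj.obj (op U)) :=
      PullLocPres.hom_inv_app e _
    rw [this]
    exact map_one (O.obj.map g.op).hom
  by_cases hex : ∃ (l : ((forg O).obj L).obj (op V)) (n : ((forg O).obj N).obj (op V)),
      IsUnit (ModSite.germRing p V v (β e l n))
  · obtain ⟨l, n, hu⟩ := hex
    obtain ⟨r, hr⟩ := hu.exists_left_inv
    obtain ⟨V₁, g₁, v₁, hv₁, r₁, -, hr₁, -⟩ := PointGerm.exists_rep p L (U := V) v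
      (fun _ : Unit => r) (fun a : Fin 0 => a.elim0)
    obtain ⟨V₂, g₂, v₂, hv₂, h2⟩ := PointGerm.exists_refine' p O.obj v₁ (ι := Unit)
      (fun _ => r₁ () * rr O g₁.op (β e l n)) (fun _ => 1) (fun _ => by
        show ModSite.germRing p V₁ v₁ _ = ModSite.germRing p V₁ v₁ _
        refine (map_mul (p.toPresheafFiber V₁ v₁ O.obj).hom _ _).trans
          (Eq.trans ?_ (map_one (p.toPresheafFiber V₁ v₁ O.obj).hom).symm)
        show ModSite.germRing p V₁ v₁ _ * ModSite.germRing p V₁ v₁ _ = 1
        rw [hr₁, PointGerm.germRing_rr, hv₁, hr])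
    refine ⟨V₂, g₂ ≫ g₁ ≫ g, v₂, ?_, _, gen_and_indep e
      (l := rr O g₂.op (r₁ ()) • rs ((forg O).obj L) (g₂ ≫ g₁).op l)
      (n := rs ((forg O).obj N) (g₂ ≫ g₁).op n) ?_⟩
    · simp [hv₂, hv₁, hv]
    · rw [β_smul_left, ← rr_β, op_comp, ← rr_rr]
      have := h2 ()
      simp only [map_mul, map_one] at this
      exact this
  · exfalso
    push Not at hex
    have key : ∀ z : ((forg O).obj L ⊗ (forg O).obj N).obj (op V),
        ModSite.germRing p V v (((pairing e).app (op V)).hom z) ∈
          IsLocalRing.maximalIdeal (ModSite.stalkRing p O) := fun z => by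
      induction z using TensorProduct.induction_on with
      | zero =>
        refine (congrArg (· ∈ _) ?_).mpr (Ideal.zero_mem _)
        exact (congrArg _ (map_zero _)).trans (map_zero (p.toPresheafFiber V v O.obj).hom)
      | tmul l n => exact (IsLocalRing.mem_maximalIdeal _).2 (hex l n)
      | add a b ha hb =>
        refine (congrArg (· ∈ _) ?_).mpr (Ideal.add_mem _ ha hb)
        exact (congrArg _ (map_add _ a b)).trans (map_add (p.toPresheafFiber V v O.obj).hom _ _)
    have h1 := key z
    rw [hz1] at h1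
    refine (IsLocalRing.maximalIdeal.isMaximal (ModSite.stalkRing p O)).ne_top
      ((Ideal.eq_top_iff_one _).2 ?_)
    exact (congrArg (· ∈ IsLocalRing.maximalIdeal (ModSite.stalkRing p O))
      (map_one (p.toPresheafFiber V v O.obj).hom)).mp h1

end Groth.Agent.H15Site.InvertibleLocal
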