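import Groth.Agent.H15Site.CoverFlat
import Groth.Agent.H15Site.SiteInst
import Mathlib.CategoryTheory.Sites.Pullback
import Mathlib.CategoryTheory.Sites.LocallyBijective
import Mathlib.CategoryTheory.Functor.KanExtension.Adjunction
import Mathlib.CategoryTheory.Sites.Abelian
import Mathlib.CategoryTheory.Adjunction.Additive
import Mathlib.CategoryTheory.ConnectedComponents
import Mathlib.Algebra.Homology.ShortComplex.ExactFunctor
import Mathlib.GroupTheory.QuotientGroup.Basic
import Mathlib.Data.DFinsupp.BigOperators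

/-!
# Inverse images of abelian sheaves are exact when inverse images of sets are

Elements of the left Kan extension are finite families on `c/u`; such a family representing zero
vanishes after evaluation on all sufficiently fine cones.
-/

set_option linter.style.haveILetI false
set_option linter.unusedSectionVars false
set_option backward.isDefEq.respectTransparency false

universe u

open CategoryTheory CategoryTheory.Limits Opposite

namespace Groth.Agent.H15Site.LanExact

open scoped Classical

variable {C D : Type u} [SmallCategory C] [SmallCategory D] {u : D ⥤ C}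
  {M N : Dᵒᵖ ⥤ AddCommGrpCat.{u}} {c : C}

variable (M c u) in
/-- Finite families of sections indexed by `c/u`. -/
abbrev Fam : Type u := Π₀ X : StructuredArrow c u, M.obj (op X.right)

/-- Evaluation on a cone. -/
noncomputable def ev {c' : C} {v : c' ⟶ c} {S : Finset (StructuredArrow c u)}
    {T : Finset (PullSets.Arr u c)} (κ : PullSets.DCone u v S T) :
    Fam u M c →+ M.obj (op κ.e) :=
  DFinsupp.liftAddHom fun X => if h : X ∈ S then (M.map (κ.h X h).op).hom else 0

lemma ev_single {c' : C} {v : c' ⟶ c} {S : Finset (StructuredArrow c u)}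
    {T : Finset (PullSets.Arr u c)} (κ : PullSets.DCone u v S T) (X : StructuredArrow c u)
    (hX : X ∈ S) (m : M.obj (op X.right)) :
    ev κ (DFinsupp.single X m) = M.map (κ.h X hX).op m := by
  rw [ev, DFinsupp.liftAddHom_apply_single, dif_pos hX]

lemma ev_single_of_notMem {c' : C} {v : c' ⟶ c} {S : Finset (StructuredArrow c u)}
    {T : Finset (PullSets.Arr u c)} (κ : PullSets.DCone u v S T) (X : StructuredArrow c u)
    (hX : X ∉ S) (m : M.obj (op X.right)) : ev κ (DFinsupp.single X m) = 0 := by
  rw [ev, DFinsupp.liftAddHom_apply_single, dif_neg hX]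
  rfl

variable (M c u) in
/-- Families killed by all sufficiently fine cones over the objects satisfying `P`. -/
def good (P : StructuredArrow c u → Prop) : AddSubgroup (Fam u M c) where
  carrier := {z | ∃ (S : Finset (StructuredArrow c u)) (T : Finset (PullSets.Arr u c)),
    ∀ (S' : Finset (StructuredArrow c u)) (T' : Finset (PullSets.Arr u c)),
      (∀ X ∈ S, P X → X ∈ S') → (∀ X ∈ S', P X) → T ⊆ T' →
      ∀ (c' : C) (v : c' ⟶ c) (κ : PullSets.DCone u v S' T'), ev κ z = 0}
  zero_mem' := ⟨∅, ∅, fun _ _ _ _ _ _ _ _ => map_zero _⟩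
  add_mem' := by
    rintro z z' ⟨S, T, h⟩ ⟨S', T', h'⟩
    refine ⟨S ∪ S', T ∪ T', fun S'' T'' hS hP hT c' v κ => ?_⟩
    rw [map_add, h _ _ (fun X hX => hS X (Finset.mem_union_left _ hX)) hP
      (Finset.union_subset_left hT) c' v κ,
      h' _ _ (fun X hX => hS X (Finset.mem_union_right _ hX)) hP
      (Finset.union_subset_right hT) c' v κ, add_zero]
  neg_mem' := by
    rintro z ⟨S, T, h⟩
    exact ⟨S, T, fun S' T' hS hP hT c' v κ => by rw [map_neg, h S' T' hS hP hT c' v κ, neg_zero]⟩

lemma rel_mem_good (P : StructuredArrow c u → Prop) {X Y : StructuredArrow c u} (g : X ⟶ Y)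
    (hXY : P X ↔ P Y) (m : M.obj (op Y.right)) :
    DFinsupp.single X (M.map g.right.op m) - DFinsupp.single Y m ∈ good u M c P := by
  refine ⟨{X, Y}, {⟨X, Y, g⟩}, fun S T hS hP hT c' v κ => ?_⟩
  by_cases hPX : P X
  swap
  · rw [map_sub, ev_single_of_notMem κ X (fun h => hPX (hP X h)),
      ev_single_of_notMem κ Y (fun h => hPX (hXY.2 (hP Y h))), sub_zero]
  have hX : X ∈ S := hS X (Finset.mem_insert_self _ _) hPX
  have hY : Y ∈ S :=
    hS Y (Finset.mem_insert_of_mem (Finset.mem_singleton_self _)) (hXY.1 hPX)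
  have hg := κ.compat ⟨X, Y, g⟩ (hT (Finset.mem_singleton_self _)) hX hY
  rw [map_sub, ev_single κ X hX, ev_single κ Y hY, sub_eq_zero, ← hg, op_comp, Functor.map_comp]
  rfl

variable (M c u) in
/-- The class of a family in the left Kan extension. -/
noncomputable def phi : Fam u M c →+ (u.op.lan.obj M).obj (op c) :=
  DFinsupp.liftAddHom fun X =>
    ((u.op.lanUnit.app M).app (op X.right) ≫ (u.op.lan.obj M).map X.hom.op).hom

lemma phi_single (X : StructuredArrow c u) (m : M.obj (op X.right)) :
    phi u M c (DFinsupp.single X m) =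
      (u.op.lan.obj M).map X.hom.op ((u.op.lanUnit.app M).app (op X.right) m) := by
  rw [phi, DFinsupp.liftAddHom_apply_single]
  rfl

variable (M c u) in
/-- The colimit cocone. -/
noncomputable def isColim :
    IsColimit ((Functor.LeftExtension.mk _ (u.op.lanUnit.app M)).coconeAt (op c)) :=
  Functor.isPointwiseLeftKanExtensionLeftKanExtensionUnit u.op M (op c)

/-- The object of `c/u` of an object of the costructured arrow category. -/
abbrev sarr (g : CostructuredArrow u.op (op c)) : StructuredArrow c u :=
  StructuredArrow.mk (Y := g.left.unop) g.hom.unop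

theorem phi_surjective : Function.Surjective (phi u M c) := by
  have h : AddCommGrpCat.ofHom (QuotientAddGroup.mk' (phi u M c).range) =
      (0 : (u.op.lan.obj M).obj (op c) ⟶
        AddCommGrpCat.of ((u.op.lan.obj M).obj (op c) ⧸ (phi u M c).range)) := by
    refine (isColim u M c).hom_ext fun g => ?_
    ext m
    refine (QuotientAddGroup.eq_zero_iff _).2 ⟨DFinsupp.single (sarr g) m, ?_⟩
    exact phi_single (sarr g) m
  intro y
  exact (QuotientAddGroup.eq_zero_iff y).1 (congrArg (fun t => t.hom y) h)

/-- The quotient cocone. -/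
noncomputable def quotCocone (P : StructuredArrow c u → Prop)
    (hP : ∀ {X Y : StructuredArrow c u}, (X ⟶ Y) → (P X ↔ P Y)) : Cocone (CostructuredArrow.proj u.op (op c) ⋙ M) where
  pt := AddCommGrpCat.of (Fam u M c ⧸ good u M c P)
  ι :=
    { app := fun g => AddCommGrpCat.ofHom ((QuotientAddGroup.mk' (good u M c P)).comp
        (DFinsupp.singleAddHom (fun X : StructuredArrow c u => M.obj (op X.right)) (sarr g)))
      naturality := fun g₁ g₂ φ => by
        ext m
        refine (QuotientAddGroup.eq_iff_sub_mem).2 ?_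
        let e : sarr g₂ ⟶ sarr g₁ := StructuredArrow.homMk φ.left.unop
          (by simpa using congrArg Quiver.Hom.unop (CostructuredArrow.w φ))
        exact rel_mem_good P e (hP e) m }

theorem mem_good_of_phi_eq_zero (P : StructuredArrow c u → Prop)
    (hP : ∀ {X Y : StructuredArrow c u}, (X ⟶ Y) → (P X ↔ P Y))
    (z : Fam u M c) (hz : phi u M c z = 0) : z ∈ good u M c P := by
  let q := (isColim u M c).desc (quotCocone P hP)
  have h : q.hom.comp (phi u M c) = QuotientAddGroup.mk' (good u M c P) := by
    refine DFinsupp.addHom_ext fun X m => ?_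
    have h2 := ConcreteCategory.congr_hom
      ((isColim u M c).fac (quotCocone P hP) (CostructuredArrow.mk (S := u.op) (Y := op X.right) X.hom.op)) m
    show q.hom (phi u M c (DFinsupp.single X m)) = _
    rw [phi_single]
    exact h2
  refine (QuotientAddGroup.eq_zero_iff z).1 ?_
  rw [← QuotientAddGroup.mk'_apply, ← h]
  show q.hom (phi u M c z) = 0
  rw [hz, map_zero]

variable (c) in
/-- Functoriality of families. -/
noncomputable def famMap (f : M ⟶ N) : Fam u M c →+ Fam u N c :=
  DFinsupp.liftAddHom fun X =>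
    (DFinsupp.singleAddHom (fun X : StructuredArrow c u => N.obj (op X.right)) X).comp
      (f.app (op X.right)).hom

lemma famMap_single (f : M ⟶ N) (X : StructuredArrow c u) (m : M.obj (op X.right)) :
    famMap c f (DFinsupp.single X m) = DFinsupp.single X (f.app (op X.right) m) := by
  rw [famMap, DFinsupp.liftAddHom_apply_single]
  rfl

lemma phi_famMap (f : M ⟶ N) (z : Fam u M c) :
    (u.op.lan.map f).app (op c) (phi u M c z) = phi u N c (famMap c f z) := by
  suffices h : ((u.op.lan.map f).app (op c)).hom.comp (phi u M c) =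
      (phi u N c).comp (famMap c f) from DFunLike.congr_fun h z
  refine DFinsupp.addHom_ext fun X m => ?_
  show (u.op.lan.map f).app (op c) (phi u M c (DFinsupp.single X m)) =
    phi u N c (famMap c f (DFinsupp.single X m))
  rw [famMap_single, phi_single, phi_single]
  have h1 := ConcreteCategory.congr_hom (congr_app (u.op.lanUnit.naturality f) (op X.right)) m
  exact (ConcreteCategory.congr_hom ((u.op.lan.map f).naturality X.hom.op)
    ((u.op.lanUnit.app M).app (op X.right) m)).trans
    (congrArg ((u.op.lan.obj N).map X.hom.op) h1.symm)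

section Cone

variable {c' : C} {v : c' ⟶ c} {S : Finset (StructuredArrow c u)}
  {T : Finset (PullSets.Arr u c)} (κ : PullSets.DCone u v S T) (z : Fam u M c)

lemma ev_famMap (f : M ⟶ N) : ev κ (famMap c f z) = f.app (op κ.e) (ev κ z) := by
  suffices h : (ev κ).comp (famMap c f) = (f.app (op κ.e)).hom.comp (ev κ) from
    DFunLike.congr_fun h z
  refine DFinsupp.addHom_ext fun X m => ?_
  show ev κ (famMap c f (DFinsupp.single X m)) = f.app (op κ.e) (ev κ (DFinsupp.single X m))
  rw [famMap_single]
  by_cases hX : X ∈ S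
  · rw [ev_single κ X hX, ev_single κ X hX]
    exact (ConcreteCategory.congr_hom (f.naturality (κ.h X hX).op) m).symm
  · rw [ev_single_of_notMem κ X hX, ev_single_of_notMem κ X hX, map_zero]

variable (hz : ∀ X ∈ z.support, X ∈ S)

include hz

lemma map_phi :
    (u.op.lan.obj M).map v.op (phi u M c z) =
      (u.op.lan.obj M).map κ.b.op ((u.op.lanUnit.app M).app (op κ.e) (ev κ z)) := by
  rw [← DFinsupp.sum_single (f := z), DFinsupp.sum, map_sum, map_sum, map_sum, map_sum, map_sum]
  refine Finset.sum_congr rfl fun X hX => ?_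
  rw [phi_single, ev_single κ X (hz X hX)]
  have h1 := ConcreteCategory.congr_hom
    ((u.op.lanUnit.app M).naturality (κ.h X (hz X hX)).op) (z X)
  have h2 : X.hom.op ≫ v.op = (u.map (κ.h X (hz X hX))).op ≫ κ.b.op := by
    rw [← op_comp, ← op_comp, κ.w X (hz X hX)]
  refine Eq.trans ?_ (congrArg ((u.op.lan.obj M).map κ.b.op) h1.symm)
  have h3 := congrArg (fun t => (u.op.lan.obj M).map t) h2
  simp only [Functor.map_comp] at h3
  exact ConcreteCategory.congr_hom h3 ((u.op.lanUnit.app M).app (op X.right) (z X))

end Cone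

variable {J : GrothendieckTopology C} {K : GrothendieckTopology D} [u.IsContinuous K J]

section Flat

variable [PreservesFiniteLimits (u.sheafPullback (Type u) K J)]

include K in
theorem exists_cover_of_map_eq_zero (f : M ⟶ N)
    (hf : ∀ X, Function.Injective (f.app X)) (x : (u.op.lan.obj M).obj (op c))
    (hx : (u.op.lan.map f).app (op c) x = 0) :
    ∃ U ∈ J c, ∀ ⦃c' : C⦄ (v : c' ⟶ c), U v → (u.op.lan.obj M).map v.op x = 0 := by
  obtain ⟨z, rfl⟩ := phi_surjective x
  rw [phi_famMap] at hx
  obtain ⟨S, T, hST⟩ := mem_good_of_phi_eq_zero (fun _ => True) (fun _ => Iff.rfl) _ hx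
  rcases (S ∪ z.support).eq_empty_or_nonempty with h | h
  · refine ⟨⊤, J.top_mem c, fun c' v _ => ?_⟩
    rw [DFinsupp.support_eq_empty.1 (Finset.union_eq_empty.1 h).2, map_zero, map_zero]
  obtain ⟨U, hU, hU'⟩ := PullSets.locally_cone (K := K) (J := J) u (S ∪ z.support) h T
  refine ⟨U, hU, fun c' v hv => ?_⟩
  obtain ⟨κ⟩ := hU' v hv
  have hz : ∀ X ∈ z.support, X ∈ S ∪ z.support := fun X hX => Finset.mem_union_right _ hX
  have h0 := hST (S ∪ z.support) T (fun X hX _ => Finset.mem_union_left _ hX)
    (fun _ _ => trivial) (Finset.Subset.refl T) c' v κ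
  rw [ev_famMap κ z] at h0
  have h1 : ev κ z = 0 := hf _ (h0.trans (map_zero _).symm)
  rw [map_phi κ z hz]
  exact (congrArg _ ((congrArg _ h1).trans (map_zero _))).trans (map_zero _)

include K in
theorem isLocallyInjective_lan_map (f : M ⟶ N) (hf : ∀ X, Function.Injective (f.app X)) :
    Presheaf.IsLocallyInjective J (u.op.lan.map f) := ⟨fun {X} x y h => by
  induction X using Opposite.rec with
  | op c =>
    obtain ⟨U, hU, hU'⟩ := exists_cover_of_map_eq_zero (K := K) (J := J) f hf (x - y)
      (by rw [map_sub]; exact sub_eq_zero.2 h)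
    refine J.superset_covering (fun c' v hv => ?_) hU
    have := hU' v hv
    rw [map_sub, sub_eq_zero] at this
    exact this⟩

end Flat


/-! ### Exact left Kan extensions: `u` preserves fibre products and equalizers -/

section Components

variable [HasPullbacks D] [HasEqualizers D] [PreservesLimitsOfShape WalkingCospan u]
  [PreservesLimitsOfShape WalkingParallelPair u]

lemma exists_span_of_zigzag {X Y : StructuredArrow c u} (h : Zigzag X Y) :
    ∃ W : StructuredArrow c u, Nonempty (W ⟶ X) ∧ Nonempty (W ⟶ Y) := by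
  induction h with
  | refl => exact ⟨X, ⟨𝟙 _⟩, ⟨𝟙 _⟩⟩
  | tail _ hz ih =>
    obtain ⟨W, ⟨a⟩, ⟨b⟩⟩ := ih
    rcases hz with ⟨⟨g⟩⟩ | ⟨⟨g⟩⟩
    · exact ⟨W, ⟨a⟩, ⟨b ≫ g⟩⟩
    · exact ⟨pullback b g, ⟨pullback.fst b g ≫ a⟩, ⟨pullback.snd b g⟩⟩

/-- A finite diagram inside one connected component of `c/u` has a cone. -/
theorem exists_cone_component {X₀ : StructuredArrow c u} (S : Finset (StructuredArrow c u))
    (hS : ∀ X ∈ S, Zigzag X₀ X) (T : Finset (PullSets.Arr u c)) :
    Nonempty (PullSets.DCone u (𝟙 c) S T) := by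
  suffices h : ∃ W : StructuredArrow c u, Zigzag X₀ W ∧ ∃ h : ∀ X, X ∈ S → (W ⟶ X),
      ∀ a ∈ T, ∀ (h₁ : a.1 ∈ S) (h₂ : a.2.1 ∈ S), h a.1 h₁ ≫ a.2.2 = h a.2.1 h₂ by
    obtain ⟨W, -, h, hh⟩ := h
    exact ⟨⟨W.right, W.hom, fun X hX => (h X hX).right,
      fun X hX => (StructuredArrow.w (h X hX)).trans (Category.id_comp _).symm,
      fun a ha h₁ h₂ => congrArg CommaMorphism.right (hh a ha h₁ h₂)⟩⟩
  induction T using Finset.induction_on with
  | empty =>
    induction S using Finset.induction_on with
    | empty =>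
      exact ⟨X₀, Zigzag.refl _, fun X hX => absurd hX (Finset.notMem_empty X),
        fun a ha => absurd ha (Finset.notMem_empty a)⟩
    | insert X S hXS ih =>
      obtain ⟨W, hW, h, -⟩ := ih fun Y hY => hS Y (Finset.mem_insert_of_mem hY)
      obtain ⟨W', ⟨a⟩, ⟨b⟩⟩ :=
        exists_span_of_zigzag (hW.symm.trans (hS X (Finset.mem_insert_self X S)))
      refine ⟨W', hW.trans (Zigzag.of_inv a), fun Y hY => if hY' : Y = X then b ≫ eqToHom hY'.symm
        else a ≫ h Y ((Finset.mem_insert.1 hY).resolve_left hY'),
        fun a ha => absurd ha (Finset.notMem_empty a)⟩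
  | insert a T haT ih =>
    obtain ⟨W, hW, h, hh⟩ := ih
    by_cases hmem : a.1 ∈ S ∧ a.2.1 ∈ S
    · refine ⟨equalizer (h a.1 hmem.1 ≫ a.2.2) (h a.2.1 hmem.2),
        hW.trans (Zigzag.of_inv (equalizer.ι _ _)), fun Y hY => equalizer.ι _ _ ≫ h Y hY,
        fun b hb h₁ h₂ => ?_⟩
      rcases Finset.mem_insert.1 hb with rfl | hb
      · rw [Category.assoc]
        exact equalizer.condition _ _
      · rw [Category.assoc, hh b hb h₁ h₂]
    · refine ⟨W, hW, h, fun b hb h₁ h₂ => ?_⟩
      rcases Finset.mem_insert.1 hb with rfl | hb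
      · exact absurd ⟨h₁, h₂⟩ hmem
      · exact hh b hb h₁ h₂

theorem lan_map_app_injective (f : M ⟶ N) (hf : ∀ X, Function.Injective (f.app X)) :
    Function.Injective ((u.op.lan.map f).app (op c)) := by
  refine (injective_iff_map_eq_zero _).2 fun x hx => ?_
  obtain ⟨z, rfl⟩ := phi_surjective x
  rw [phi_famMap] at hx
  let q : StructuredArrow c u → CategoryTheory.ConnectedComponents (StructuredArrow c u) := fun X =>
    Quotient.mk (Zigzag.setoid (StructuredArrow c u)) X
  have key : ∀ k, phi u M c (∑ X ∈ z.support with q X = k, DFinsupp.single X (z X)) = 0 := by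
    intro k
    obtain ⟨X₀, rfl⟩ : ∃ X₀, q X₀ = k := Quotient.exists_rep k
    obtain ⟨S, T, hST⟩ := mem_good_of_phi_eq_zero (fun X => q X = q X₀)
      (fun {X Y} g => by
        have : q X = q Y := Quotient.sound (Zigzag.of_hom g)
        rw [this]) _ hx
    obtain ⟨κ⟩ := exists_cone_component (X₀ := X₀) ((S ∪ z.support).filter fun X => q X = q X₀)
      (fun X hX => (Quotient.exact (Finset.mem_filter.1 hX).2).symm) T
    have h0 := hST _ T (fun X hX hP => Finset.mem_filter.2 ⟨Finset.mem_union_left _ hX, hP⟩)
      (fun X hX => (Finset.mem_filter.1 hX).2) (Finset.Subset.refl T) c (𝟙 c) κ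
    rw [ev_famMap κ z] at h0
    have h1 : ev κ z = 0 := hf _ (h0.trans (map_zero _).symm)
    set z' := ∑ X ∈ z.support with q X = q X₀, DFinsupp.single X (z X) with hz'
    have hsub : ∀ X ∈ z'.support, X ∈ (S ∪ z.support).filter fun X => q X = q X₀ := by
      intro X hX
      rw [DFinsupp.mem_support_iff, hz', DFinsupp.finsetSum_apply] at hX
      obtain ⟨Y, hY, hXY⟩ := Finset.exists_ne_zero_of_sum_ne_zero hX
      obtain rfl : Y = X := by
        by_contra hne
        exact hXY (DFinsupp.single_eq_of_ne (Ne.symm hne))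
      exact Finset.mem_filter.2
        ⟨Finset.mem_union_right _ (Finset.mem_filter.1 hY).1, (Finset.mem_filter.1 hY).2⟩
    have h2 : ev κ z' = ev κ z := by
      refine Eq.trans ?_ (congrArg _ (DFinsupp.sum_single (f := z)))
      rw [hz', DFinsupp.sum, map_sum, map_sum]
      refine Finset.sum_subset (Finset.filter_subset _ _) fun X hX hX' => ?_
      exact ev_single_of_notMem κ X
        (fun h => hX' (Finset.mem_filter.2 ⟨hX, (Finset.mem_filter.1 h).2⟩)) _
    have h3 := map_phi κ z' hsub
    rw [op_id, CategoryTheory.Functor.map_id] at h3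
    exact h3.trans ((congrArg _ ((congrArg _ (h2.trans h1)).trans (map_zero _))).trans (map_zero _))
  have hz : z = ∑ k ∈ z.support.image q, ∑ X ∈ z.support with q X = k, DFinsupp.single X (z X) := by
    rw [Finset.sum_fiberwise_of_maps_to fun X hX => Finset.mem_image_of_mem q hX]
    exact (DFinsupp.sum_single (f := z)).symm
  rw [hz, map_sum, Finset.sum_eq_zero fun k _ => key k]

end Components

variable (J K u)

attribute [local instance 10000] SiteInst.hasSheafifySite SiteInst.hasWeakSheafifySite

theorem preservesFiniteLimits_of_locallyInjective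
    (H : ∀ {M N : Dᵒᵖ ⥤ AddCommGrpCat.{u}} (f : M ⟶ N), (∀ X, Function.Injective (f.app X)) →
      Presheaf.IsLocallyInjective J (u.op.lan.map f)) :
    PreservesFiniteLimits (u.sheafPullback AddCommGrpCat.{u} K J) := by
  haveI : (Functor.sheafPullbackConstruction.sheafPullback u AddCommGrpCat.{u} K
      J).PreservesMonomorphisms := ⟨fun {A B} f hf => by
    have hinj : ∀ X, Function.Injective (f.hom.app X) := fun X => by
      haveI : Mono f.hom := inferInstanceAs (Mono ((sheafToPresheaf K _).map f))
      exact (AddCommGrpCat.mono_iff_injective _).1 inferInstance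
    haveI := H f.hom hinj
    haveI : Sheaf.IsLocallyInjective
        ((presheafToSheaf J AddCommGrpCat.{u}).map (u.op.lan.map f.hom)) :=
      (Presheaf.isLocallyInjective_presheafToSheaf_map_iff (J := J) _).2 inferInstance
    exact Sheaf.mono_of_isLocallyInjective
      ((presheafToSheaf J AddCommGrpCat.{u}).map (u.op.lan.map f.hom))⟩
  haveI : (u.sheafPullback AddCommGrpCat.{u} K J).PreservesMonomorphisms :=
    Functor.PreservesMonomorphisms.of_iso
      (Functor.sheafPullbackConstruction.sheafPullbackIso u AddCommGrpCat.{u} K J).symm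
  let adj := u.sheafAdjunctionContinuous AddCommGrpCat.{u} K J
  haveI : PreservesColimitsOfSize.{0, 0} (u.sheafPullback AddCommGrpCat.{u} K J) :=
    adj.leftAdjoint_preservesColimits
  haveI : (u.sheafPushforwardContinuous AddCommGrpCat.{u} K J).Additive := ⟨fun {_ _ _ _} => rfl⟩
  haveI : (u.sheafPullback AddCommGrpCat.{u} K J).Additive := adj.left_adjoint_additive
  rw [Functor.preservesFiniteLimits_iff_forall_exact_map_and_mono]
  intro S hS
  haveI := hS.mono_f
  haveI : PreservesFiniteColimits (u.sheafPullback AddCommGrpCat.{u} K J) :=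
    ⟨fun _ _ _ => inferInstance⟩
  exact ⟨(((Functor.preservesFiniteColimits_tfae (u.sheafPullback AddCommGrpCat.{u} K J)).out 3 0
    rfl rfl).1 inferInstance S hS).1, inferInstance⟩

/-- If the inverse image of sheaves of sets is left exact, so is that of abelian sheaves. -/
theorem preservesFiniteLimits [PreservesFiniteLimits (u.sheafPullback (Type u) K J)] :
    PreservesFiniteLimits (u.sheafPullback AddCommGrpCat.{u} K J) :=
  preservesFiniteLimits_of_locallyInjective (u := u) (J := J) (K := K) fun {M N} f hf =>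
    isLocallyInjective_lan_map (K := K) f hf

/-- If `u` preserves fibre products and equalizers, `g_!` on abelian sheaves is exact. -/
theorem preservesFiniteLimits_of_pullbacks [HasPullbacks D] [HasEqualizers D]
    [PreservesLimitsOfShape WalkingCospan u] [PreservesLimitsOfShape WalkingParallelPair u] :
    PreservesFiniteLimits (u.sheafPullback AddCommGrpCat.{u} K J) :=
  preservesFiniteLimits_of_locallyInjective (u := u) (J := J) (K := K) fun {M N} f hf =>
    Presheaf.isLocallyInjective_of_injective J (u.op.lan.map f) fun X =>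
      lan_map_app_injective (M := M) (N := N) (c := X.unop) f hf

end Groth.Agent.H15Site.LanExact
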