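import Groth.Agent.H15Site.CechLeray
import Groth.Agent.H15Site.HigherDirect
import Groth.Agent.H10Coh.OpenEmb

/-!
# Degenerate cases of the Leray spectral sequence
-/

universe u

open CategoryTheory CategoryTheory.Limits Opposite TopologicalSpace Abelian

namespace Groth.Agent.H15Site.LerayDeg

open Groth.Agent.H10Coh Groth.Agent.H16Derived

attribute [local instance 10000] hasSheafifyAb hasWeakSheafifyAb hasExtAb enoughInjAb

variable {X Y : TopCat.{u}}

/-- The connecting map on `H⁰`. -/
noncomputable def δ₀ {S : ShortComplex (CohTop.Ab X)} (hS : S.ShortExact) (U : Opens X) :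
    S.X₃.obj.obj (op U) →+ Hn S.X₁ 1 U :=
  (hS.extClass.postcomp (Zsh U) (show 0 + 1 = 1 from rfl)).comp
    (H0Equiv S.X₃ U).symm.toAddMonoidHom

theorem δ₀_surjective {S : ShortComplex (CohTop.Ab X)} (hS : S.ShortExact) (U : Opens X)
    (h : Subsingleton (Hn S.X₂ 1 U)) : Function.Surjective (δ₀ hS U) := fun x => by
  obtain ⟨q, hq⟩ := exists_extClass_lift hS x
  refine ⟨H0Equiv S.X₃ U q, ?_⟩
  change ((H0Equiv S.X₃ U).symm (H0Equiv S.X₃ U q)).comp hS.extClass rfl = x
  rw [AddEquiv.symm_apply_apply, hq]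

theorem δ₀_ker {S : ShortComplex (CohTop.Ab X)} (hS : S.ShortExact) (U : Opens X) :
    (δ₀ hS U).ker = (S.g.hom.app (op U)).hom.range := by
  refine le_antisymm (fun s hs => ?_) ?_
  · obtain ⟨v, hv⟩ := Ext.covariant_sequence_exact₃ (Zsh U) hS ((H0Equiv S.X₃ U).symm s) rfl hs
    exact ⟨H0Equiv S.X₂ U v,
      (H0Equiv_map S.g v).symm.trans ((congrArg _ hv).trans (AddEquiv.apply_symm_apply _ _))⟩
  · rintro _ ⟨w, rfl⟩
    obtain ⟨v, rfl⟩ := (H0Equiv S.X₂ U).surjective w
    change ((H0Equiv S.X₃ U).symm ((S.g.hom.app (op U)).hom _)).comp hS.extClass rfl = 0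
    rw [← H0Equiv_map, AddEquiv.symm_apply_apply, Ext.comp_assoc_of_second_deg_zero,
      hS.comp_extClass, Ext.comp_zero]

/-- The connecting isomorphism in higher degree. -/
theorem nonempty_δ_equiv {S : ShortComplex (CohTop.Ab X)} (hS : S.ShortExact) (U : Opens X) (p : ℕ)
    (h : Subsingleton (Hn S.X₂ (p + 1) U)) (h' : Subsingleton (Hn S.X₂ (p + 1 + 1) U)) :
    Nonempty (Hn S.X₃ (p + 1) U ≃+ Hn S.X₁ (p + 1 + 1) U) :=
  ⟨AddEquiv.ofBijective (hS.extClass.postcomp (Zsh U) rfl)
    ⟨(injective_iff_map_eq_zero (hS.extClass.postcomp (Zsh U) (rfl : p + 1 + 1 = p + 1 + 1))).2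
      fun _ hq => comp_extClass_injective hS hq, fun x => exists_extClass_lift hS x⟩⟩

theorem subsingleton_Hn_injective (J : CohTop.Ab X) [Injective J] (p : ℕ) (U : Opens X) :
    Subsingleton (Hn J (p + 1) U) :=
  subsingleton_of_forall_eq 0 fun x => Ext.eq_zero_of_injective x

variable (f : X ⟶ Y)

/-- If `R^{q}f_*F = 0` for `q > 0` then `H^p(f⁻¹V, F) = H^p(V, f_*F)`. -/
theorem nonempty_equiv_push (V : Opens Y) (p : ℕ) (F : CohTop.Ab X)
    (h : ∀ q : ℕ, IsZero ((CohTop.Rpush f (q + 1)).obj F)) :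
    Nonempty (Hn F p ((Opens.map f).obj V) ≃+ Hn ((CohTop.push f).obj F) p V) := by
  have := ClosedPushAb.push_preservesFiniteLimits f
  induction p generalizing F with
  | zero => exact ⟨(H0Equiv F _).trans (H0Equiv ((CohTop.push f).obj F) V).symm⟩
  | succ p ih =>
    have hS := injSeq_shortExact F
    have hac : AcyclicLES.IsAcyclic (CohTop.push f) F := fun i hi => by
      obtain ⟨j, rfl⟩ := Nat.exists_eq_succ_of_ne_zero hi.ne'
      exact h j
    have hT := AcyclicLES.shortExact_map (CohTop.push f) hS hac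
    have : Injective ((injSeq F).map (CohTop.push f)).X₂ :=
      ClosedPushAb.push_injective f (injSeq F).X₂
    cases p with
    | zero =>
      exact CechLeray.exists_addEquiv_of_ker_eq (δ₀ hS ((Opens.map f).obj V)) (δ₀ hT V)
        (δ₀_surjective hS _ (subsingleton_Hn_injective _ _ _))
        (δ₀_surjective hT _ (subsingleton_Hn_injective _ _ _))
        ((δ₀_ker hS _).trans (δ₀_ker hT V).symm)
    | succ p =>
      obtain ⟨e⟩ := ih (injSeq F).X₃ fun q => AcyclicLES.isAcyclic_X₃ (CohTop.push f) hS hac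
        (AcyclicLES.isAcyclic_of_injective _ _) (q + 1) (Nat.succ_pos q)
      obtain ⟨e₁⟩ := nonempty_δ_equiv hS ((Opens.map f).obj V) p
        (subsingleton_Hn_injective _ _ _) (subsingleton_Hn_injective _ _ _)
      obtain ⟨e₂⟩ := nonempty_δ_equiv hT V p
        (subsingleton_Hn_injective _ _ _) (subsingleton_Hn_injective _ _ _)
      exact ⟨e₁.symm.trans (e.trans e₂)⟩

/-- If all `R^q f_*F` are acyclic then `H^q(X, F) = Γ(Y, R^q f_*F)`; stated on `f⁻¹V`. -/
theorem nonempty_equiv_sections (V : Opens Y) (q : ℕ) (F : CohTop.Ab X)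
    (h : ∀ p q : ℕ, Subsingleton (Hn ((CohTop.Rpush f q).obj F) (p + 1) V)) :
    Nonempty (Hn F q ((Opens.map f).obj V) ≃+ ((CohTop.Rpush f q).obj F).obj.obj (op V)) := by
  have := ClosedPushAb.push_preservesFiniteLimits f
  induction q generalizing F with
  | zero =>
    let e := (CohTop.push f).rightDerivedZeroIsoSelf.app F
    exact ⟨(H0Equiv F _).trans
      (((sheafToPresheaf _ _).mapIso e).app (op V)).symm.addCommGroupIsoToAddEquiv⟩
  | succ q ih =>
    have hS := injSeq_shortExact F
    let S := injSeq F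
    let P := CohTop.push f
    have hI : ∀ m, IsZero ((CohTop.Rpush f (m + 1)).obj S.X₂) := fun m =>
      P.isZero_rightDerived_obj_injective_succ m _
    have : Injective (P.obj S.X₂) := ClosedPushAb.push_injective f S.X₂
    have hz : P.map S.f ≫ P.map S.g = 0 := by rw [← P.map_comp, ShortComplex.zero, P.map_zero]
    have := hS.mono_f
    have hM : (S.map P).Exact ∧ Mono (P.map S.f) :=
      ⟨ShortComplex.exact_of_f_is_kernel _ (KernelFork.mapIsLimit _ hS.fIsKernel P), inferInstance⟩
    let i := cokernel.desc (P.map S.f) (P.map S.g) hz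
    have : Mono i := hM.1.mono_cokernelDesc
    let S₁ : ShortComplex (CohTop.Ab Y) :=
      ShortComplex.mk (P.map S.f) (cokernel.π _) (cokernel.condition _)
    have hS₁ : S₁.ShortExact :=
      { exact := ShortComplex.exact_of_g_is_cokernel _ (cokernelIsCokernel _)
        mono_f := hM.2
        epi_g := by dsimp [S₁]; infer_instance }
    let S₂ : ShortComplex (CohTop.Ab Y) := ShortComplex.mk i (cokernel.π i) (cokernel.condition _)
    have hS₂ : S₂.ShortExact :=
      { exact := ShortComplex.exact_of_g_is_cokernel _ (cokernelIsCokernel _)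
        mono_f := by dsimp [S₂]; infer_instance
        epi_g := by dsimp [S₂]; infer_instance }
    obtain ⟨e₁⟩ := HigherDirect.nonempty_rightDerived_one_iso P hS (hI 0)
    let e₁' : (P.rightDerived 1).obj S.X₁ ≅ cokernel i :=
      e₁ ≪≫ cokernelIsoOfEq (cokernel.π_desc (P.map S.f) (P.map S.g) hz).symm ≪≫ cokernelEpiComp _ i
    have hF : ∀ p, Subsingleton (Hn (P.obj S.X₁) (p + 1) V) := fun p => by
      have := h p 0
      have e : Hn ((CohTop.Rpush f 0).obj S.X₁) (p + 1) V ≃+ Hn (P.obj S.X₁) (p + 1) V :=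
        (((extFunctor (p + 1)).obj (op (Zsh V))).mapIso (P.rightDerivedZeroIsoSelf.app S.X₁)).addCommGroupIsoToAddEquiv
      exact e.symm.toEquiv.subsingleton
    have hK : ∀ p, Subsingleton (Hn S₂.X₁ (p + 1) V) := fun p =>
      subsingleton_of_forall_eq 0 fun x => by
        have := subsingleton_Hn_injective (P.obj S.X₂) p V
        exact @comp_extClass_injective _ _ _ _ _ S₁ hS₁ (p + 1) this x ((hF (p + 1)).elim _ _)
    have hG : ∀ p, Subsingleton (Hn (P.obj S.X₃) (p + 1) V) := fun p => by
      have h₁ := h p 1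
      have e : Hn ((CohTop.Rpush f 1).obj S.X₁) (p + 1) V ≃+ Hn (cokernel i) (p + 1) V :=
        (((extFunctor (p + 1)).obj (op (Zsh V))).mapIso e₁').addCommGroupIsoToAddEquiv
      have h₂ : Subsingleton (Hn (cokernel i) (p + 1) V) := e.symm.toEquiv.subsingleton
      refine subsingleton_of_forall_eq 0 fun x => ?_
      obtain ⟨y, hy⟩ := Ext.covariant_sequence_exact₂ (Zsh V) hS₂ x (h₂.elim _ _)
      rw [← hy, (hK p).elim y 0, Ext.zero_comp]
    cases q with
    | zero =>
      let er : (cokernel i).obj.obj (op V) ≃+ ((CohTop.Rpush f (0 + 1)).obj F).obj.obj (op V) :=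
        (((sheafToPresheaf _ _).mapIso e₁').app (op V)).symm.addCommGroupIsoToAddEquiv
      let α : (P.obj S.X₃).obj.obj (op V) →+ (cokernel i).obj.obj (op V) :=
        ((cokernel.π i).hom.app (op V)).hom
      have hα : Function.Surjective α :=
        surjective_sections_of_subsingleton hS₂ V (hK 0)
      have hker : α.ker = (S.g.hom.app (op ((Opens.map f).obj V))).hom.range := by
        refine le_antisymm (fun s hs => ?_) ?_
        · obtain ⟨k, hk⟩ := CechLeray.exists_lift_app hS₂ V s hs
          obtain ⟨t, ht⟩ := surjective_sections_of_subsingleton hS₁ V (hF 0) k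
          refine ⟨t, ?_⟩
          have := congrArg (fun φ : P.obj S.X₂ ⟶ P.obj S.X₃ => (φ.hom.app (op V)).hom t)
            (cokernel.π_desc (P.map S.f) (P.map S.g) hz)
          exact this.symm.trans ((congrArg (i.hom.app (op V)).hom ht).trans hk)
        · rintro _ ⟨t, rfl⟩
          have := congrArg (fun φ : P.obj S.X₂ ⟶ P.obj S.X₃ => (φ.hom.app (op V)).hom t)
            (cokernel.π_desc (P.map S.f) (P.map S.g) hz)
          exact (congrArg α this.symm).trans
            (CechLeray.g_f_apply S₂ V (((cokernel.π (P.map S.f)).hom.app (op V)).hom t))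
      obtain ⟨e⟩ := CechLeray.exists_addEquiv_of_ker_eq (δ₀ hS ((Opens.map f).obj V)) α
        (δ₀_surjective hS _ (subsingleton_Hn_injective _ _ _)) hα ((δ₀_ker hS _).trans hker.symm)
      exact ⟨e.trans er⟩
    | succ q =>
      have hR : ∀ j, (CohTop.Rpush f (j + 1)).obj S.X₃ ≅ (CohTop.Rpush f (j + 1 + 1)).obj F := fun j =>
        (HigherDirect.nonempty_rightDerived_succ_iso P hS j (hI j) (hI (j + 1))).some
      obtain ⟨e⟩ := ih S.X₃ fun p j => by
        cases j with
        | zero =>
          have := hG p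
          have e : Hn ((CohTop.Rpush f 0).obj S.X₃) (p + 1) V ≃+ Hn (P.obj S.X₃) (p + 1) V := (((extFunctor (p + 1)).obj (op (Zsh V))).mapIso (P.rightDerivedZeroIsoSelf.app S.X₃)).addCommGroupIsoToAddEquiv
          exact e.toEquiv.subsingleton
        | succ j =>
          have := h p (j + 1 + 1)
          have e : Hn ((CohTop.Rpush f (j + 1)).obj S.X₃) (p + 1) V ≃+
              Hn ((CohTop.Rpush f (j + 1 + 1)).obj F) (p + 1) V :=
            (((extFunctor (p + 1)).obj (op (Zsh V))).mapIso (hR j)).addCommGroupIsoToAddEquiv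
          exact e.toEquiv.subsingleton
      obtain ⟨e'⟩ := nonempty_δ_equiv hS ((Opens.map f).obj V) q
        (subsingleton_Hn_injective _ _ _) (subsingleton_Hn_injective _ _ _)
      exact ⟨e'.symm.trans (e.trans
        (((sheafToPresheaf _ _).mapIso (hR q)).app (op V)).addCommGroupIsoToAddEquiv)⟩

end Groth.Agent.H15Site.LerayDeg
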