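import Groth.Prelude.Def_CohCx
import Mathlib.Algebra.Homology.ShortComplex.Ab
import Mathlib.Algebra.Homology.QuasiIso

/-!
# Cohomology of a limit of a tower of complexes of abelian groups, stable in one degree
-/

set_option autoImplicit false
set_option linter.style.haveILetI false

universe u

open CategoryTheory CategoryTheory.Limits

namespace Groth.Agent.H15Site.LimComplex

variable {K K' : CochainComplex AddCommGrpCat.{u} ℤ}

theorem iCycles_injective (K : CochainComplex AddCommGrpCat.{u} ℤ) (i : ℤ) : Function.Injective (K.iCycles i) :=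
  (AddCommGrpCat.mono_iff_injective _).1 inferInstance

theorem d_iCycles (i j : ℤ) (z : K.cycles i) : K.d i j (K.iCycles i z) = 0 :=
  ConcreteCategory.congr_hom (K.iCycles_d i j) z

theorem exists_cycle (i j : ℤ) (h : i + 1 = j) (x : K.X i) (hx : K.d i j x = 0) :
    ∃ z : K.cycles i, K.iCycles i z = x :=
  (ShortComplex.ab_exact_iff _).1
    (ShortComplex.exact_of_f_is_kernel (ShortComplex.mk _ _ (K.iCycles_d i j))
      (K.cyclesIsKernel i j ((ComplexShape.up ℤ).next_eq' h))) x hx

theorem homologyπ_surjective (K : CochainComplex AddCommGrpCat.{u} ℤ) (i : ℤ) :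
    Function.Surjective (K.homologyπ i) :=
  (AddCommGrpCat.epi_iff_surjective _).1 inferInstance

theorem homologyπ_eq_zero_iff (i j : ℤ) (h : i + 1 = j) (z : K.cycles j) :
    K.homologyπ j z = 0 ↔ ∃ w : K.X i, K.iCycles j z = K.d i j w := by
  constructor
  · intro hz
    obtain ⟨w, hw⟩ := (ShortComplex.ab_exact_iff _).1
      (ShortComplex.exact_of_g_is_cokernel (ShortComplex.mk _ _ (K.toCycles_comp_homologyπ i j))
        (K.homologyIsCokernel i j ((ComplexShape.up ℤ).prev_eq' h))) z hz
    refine ⟨w, ?_⟩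
    rw [← show K.toCycles i j w = z from hw]
    exact ConcreteCategory.congr_hom (K.toCycles_i i j) w
  · rintro ⟨w, hw⟩
    obtain rfl : K.toCycles i j w = z :=
      iCycles_injective K j ((ConcreteCategory.congr_hom (K.toCycles_i i j) w).trans hw.symm)
    exact ConcreteCategory.congr_hom (K.toCycles_comp_homologyπ i j) w

/-- The cycle condition is functorial. -/
theorem iCycles_map (f : K ⟶ K') (j : ℤ) (z : K.cycles j) :
    K'.iCycles j (HomologicalComplex.cyclesMap f j z) = f.f j (K.iCycles j z) :=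
  ConcreteCategory.congr_hom (HomologicalComplex.cyclesMap_i f j) z

theorem map_homologyπ (f : K ⟶ K') (j : ℤ) (z : K.cycles j) :
    HomologicalComplex.homologyMap f j (K.homologyπ j z) = K'.homologyπ j (HomologicalComplex.cyclesMap f j z) :=
  ConcreteCategory.congr_hom (HomologicalComplex.homologyπ_naturality f j) z

theorem d_f (f : K ⟶ K') (i j : ℤ) (x : K.X i) : K'.d i j (f.f i x) = f.f j (K.d i j x) :=
  ConcreteCategory.congr_hom (f.comm i j) x

variable (A : ℕ → CochainComplex AddCommGrpCat.{u} ℤ) (t : ∀ n, A (n + 1) ⟶ A n)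

/-- The transition maps. -/
noncomputable abbrev tr {p q : ℕ} (h : p ≤ q) : A q ⟶ A p :=
  (CohCx.opSequence A t).map (homOfLE h).op

theorem tr_comp {p q r : ℕ} (h : p ≤ q) (h' : q ≤ r) : tr A t h' ≫ tr A t h = tr A t (h.trans h') :=
  ((CohCx.opSequence A t).map_comp _ _).symm

theorem tr_succ (n : ℕ) : tr A t (Nat.le_add_right n 1) = t n :=
  Functor.ofOpSequence_map_homOfLE_succ t n

theorem tr_refl (n : ℕ) : tr A t (le_refl n) = 𝟙 _ :=
  (CohCx.opSequence A t).map_id _

theorem transition_eq (n k : ℕ) : CohCx.transition A t n k = tr A t (Nat.le_add_right n k) := by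
  induction k with
  | zero => exact (tr_refl A t n).symm
  | succ k ih =>
    change t (n + k) ≫ CohCx.transition A t n k = _
    rw [ih, ← tr_succ A t (n + k)]
    exact tr_comp A t _ _

variable (L : CochainComplex AddCommGrpCat.{u} ℤ) (π : ∀ n, L ⟶ A n) (hπ : ∀ n, π (n + 1) ≫ t n = π n)

include hπ in
theorem π_tr {p q : ℕ} (h : p ≤ q) : π q ≫ tr A t h = π p := by
  induction q, h using Nat.le_induction with
  | base => rw [tr_refl, Category.comp_id]
  | succ q hq ih => rw [← tr_comp A t hq (Nat.le_add_right q 1), tr_succ, ← Category.assoc, hπ, ih]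

include hπ in
/-- The main lemma. -/
theorem bijective_homologyMap (m : ℤ) (n₀ : ℕ)
    (hlim : ∀ (j : ℤ) (x : ∀ n, (A n).X j), (∀ n, (t n).f j (x (n + 1)) = x n) →
      ∃ z : L.X j, ∀ n, (π n).f j z = x n)
    (hsep : ∀ (j : ℤ) (z z' : L.X j), (∀ n, (π n).f j z = (π n).f j z') → z = z')
    (ha : ∀ j : ℤ, (j = m - 2 ∨ j = m - 1) →
      CohCx.LimOneIsZero (fun n => (A n).X j) (fun n => ((t n).f j).hom))
    (hb : CohCx.LimOneIsZero (fun n => (A n).homology (m - 1))
      (fun n => (HomologicalComplex.homologyMap (t n) (m - 1)).hom))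
    (hc : ∀ k : ℕ, IsIso (HomologicalComplex.homologyMap (CohCx.transition A t n₀ k) m)) :
    Function.Bijective (HomologicalComplex.homologyMap (π n₀) m) := by
  have hcb : ∀ (q : ℕ) (h : n₀ ≤ q), Function.Bijective (HomologicalComplex.homologyMap (tr A t h) m) := by
    intro q h
    obtain ⟨k, rfl⟩ : ∃ k, q = n₀ + k := ⟨q - n₀, by omega⟩
    haveI := hc k
    rw [← transition_eq]
    exact ConcreteCategory.bijective_of_isIso (HomologicalComplex.homologyMap (CohCx.transition A t n₀ k) m)
  have hmap : ∀ {p q r : ℕ} (h : p ≤ q) (h' : q ≤ r) (x : (A r).homology m),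
      HomologicalComplex.homologyMap (tr A t h) m (HomologicalComplex.homologyMap (tr A t h') m x) =
        HomologicalComplex.homologyMap (tr A t (h.trans h')) m x := fun h h' x => by
    rw [← tr_comp A t h h', HomologicalComplex.homologyMap_comp]
    rfl
  constructor
  · refine (injective_iff_map_eq_zero (HomologicalComplex.homologyMap (π n₀) m).hom).2 fun c hc0 => ?_
    obtain ⟨z, rfl⟩ := homologyπ_surjective L m c
    have hall : ∀ n, ∃ w : (A n).X (m - 1), (π n).f m (L.iCycles m z) = (A n).d (m - 1) m w := by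
      intro n
      have h0 : HomologicalComplex.homologyMap (π (max n n₀)) m (L.homologyπ m z) = 0 := by
        apply (hcb _ (le_max_right n n₀)).1
        rw [map_zero, ← hc0, ← π_tr A t L π hπ (le_max_right n n₀), HomologicalComplex.homologyMap_comp]
        rfl
      have hn : HomologicalComplex.homologyMap (π n) m (L.homologyπ m z) = 0 := by
        rw [← π_tr A t L π hπ (le_max_left n n₀), HomologicalComplex.homologyMap_comp, ConcreteCategory.comp_apply,
          h0, map_zero]
      rw [map_homologyπ, homologyπ_eq_zero_iff (m - 1) m (by omega)] at hn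
      obtain ⟨w, hw⟩ := hn
      exact ⟨w, (iCycles_map (π n) m z).symm.trans hw⟩
    choose w hw using hall
    have hy : ∀ n, ∃ y : (A n).cycles (m - 1), (A n).iCycles (m - 1) y = w n - (t n).f (m - 1) (w (n + 1)) :=
      fun n => exists_cycle (m - 1) m (by omega) _ (by
        rw [map_sub, d_f, ← hw, ← hw, sub_eq_zero]; exact (ConcreteCategory.congr_hom (congrArg (fun φ : L ⟶ A n => φ.f m) (hπ n)) (L.iCycles m z)).symm)
    choose y hy using hy
    obtain ⟨e, he⟩ := hb fun n => (A n).homologyπ (m - 1) (y n)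
    choose e' he' using fun n => homologyπ_surjective (A n) (m - 1) (e n)
    have hv : ∀ n, ∃ v : (A n).X (m - 2),
        w n - (A n).iCycles (m - 1) (e' n) - (t n).f (m - 1) (w (n + 1) - (A (n + 1)).iCycles (m - 1) (e' (n + 1))) =
          (A n).d (m - 2) (m - 1) v := by
      intro n
      have h0 : (A n).homologyπ (m - 1) (y n - (e' n - HomologicalComplex.cyclesMap (t n) (m - 1) (e' (n + 1)))) = 0 := by
        rw [map_sub, map_sub, ← map_homologyπ, he', he']
        exact sub_eq_zero.2 (congrFun he n).symm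
      obtain ⟨v, hv⟩ := (homologyπ_eq_zero_iff (m - 2) (m - 1) (by omega) _).1 h0
      refine ⟨v, ?_⟩
      rw [← hv, map_sub, map_sub, map_sub, hy, iCycles_map]
      abel
    choose v hv using hv
    obtain ⟨a, ha'⟩ := ha (m - 2) (Or.inl rfl) v
    let w' := fun n => w n - (A n).iCycles (m - 1) (e' n) - (A n).d (m - 2) (m - 1) (a n)
    have hcomp : ∀ n, (t n).f (m - 1) (w' (n + 1)) = w' n := by
      intro n
      have h1 := hv n
      have h2 : (A n).d (m - 2) (m - 1) (v n) =
          (A n).d (m - 2) (m - 1) (a n) - (t n).f (m - 1) ((A (n + 1)).d (m - 2) (m - 1) (a (n + 1))) := by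
        rw [← d_f, ← map_sub]
        exact congrArg _ (congrFun ha' n).symm
      rw [h2] at h1
      simp only [w', map_sub] at h1 ⊢
      rw [sub_eq_iff_eq_add] at h1
      rw [h1]
      abel
    obtain ⟨W, hW⟩ := hlim (m - 1) w' hcomp
    refine (homologyπ_eq_zero_iff (m - 1) m (by omega) z).2 ⟨W, hsep m _ _ fun n => ?_⟩
    rw [← d_f, hW, hw]
    simp only [w', map_sub, d_iCycles, sub_zero]
    rw [← ConcreteCategory.comp_apply ((A n).d (m - 2) (m - 1)), HomologicalComplex.d_comp_d]
    exact (sub_zero _).symm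
  · intro c
    choose cl hcl using fun (q : ℕ) (h : n₀ ≤ q) => (hcb q h).2 c
    have hcl' : ∀ {p q : ℕ} (hp : n₀ ≤ p) (h : p ≤ q),
        HomologicalComplex.homologyMap (tr A t h) m (cl q (hp.trans h)) = cl p hp := fun {p q} hp h =>
      (hcb p hp).1 (by rw [hmap, hcl, hcl])
    choose z hz using fun n => homologyπ_surjective (A n) m
      (HomologicalComplex.homologyMap (tr A t (le_max_left n n₀)) m (cl (max n n₀) (le_max_right n n₀)))
    have hz' : ∀ {n q : ℕ} (h : n ≤ q) (h' : n₀ ≤ q),
        HomologicalComplex.homologyMap (tr A t h) m (cl q h') = (A n).homologyπ m (z n) := fun {n q} h h' => by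
      rw [hz, ← hcl' (le_max_right n n₀) (max_le h h'), hmap]
    have hw : ∀ n, ∃ w : (A n).X (m - 1),
        (A n).iCycles m (z n) - (t n).f m ((A (n + 1)).iCycles m (z (n + 1))) = (A n).d (m - 1) m w := by
      intro n
      have h0 : (A n).homologyπ m (z n - HomologicalComplex.cyclesMap (t n) m (z (n + 1))) = 0 := by
        rw [map_sub, ← map_homologyπ, sub_eq_zero, ← hz' (le_max_left (n + 1) n₀) (le_max_right _ _),
          ← tr_succ A t n, hmap]
        exact (hz' _ _).symm
      obtain ⟨w, hw⟩ := (homologyπ_eq_zero_iff (m - 1) m (by omega) _).1 h0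
      exact ⟨w, by rw [← hw, map_sub, iCycles_map]⟩
    choose w hw using hw
    obtain ⟨a, ha'⟩ := ha (m - 1) (Or.inr rfl) w
    let z' := fun n => (A n).iCycles m (z n) - (A n).d (m - 1) m (a n)
    have hcomp : ∀ n, (t n).f m (z' (n + 1)) = z' n := by
      intro n
      have h1 := hw n
      have h2 : (A n).d (m - 1) m (w n) =
          (A n).d (m - 1) m (a n) - (t n).f m ((A (n + 1)).d (m - 1) m (a (n + 1))) := by
        rw [← d_f, ← map_sub]
        exact congrArg _ (congrFun ha' n).symm
      rw [h2] at h1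
      simp only [z', map_sub] at h1 ⊢
      rw [sub_eq_iff_eq_add] at h1
      rw [h1]
      abel
    obtain ⟨Z, hZ⟩ := hlim m z' hcomp
    obtain ⟨ζ, hζ⟩ := exists_cycle m (m + 1) rfl Z (hsep (m + 1) _ _ fun n => by
      rw [← d_f, hZ, map_zero]
      simp only [z', map_sub, d_iCycles, zero_sub, neg_eq_zero]
      rw [← ConcreteCategory.comp_apply ((A n).d (m - 1) m), HomologicalComplex.d_comp_d]
      rfl)
    refine ⟨L.homologyπ m ζ, ?_⟩
    have h00 : (A n₀).homologyπ m (z n₀) = c := by
      rw [← hz' (le_refl n₀) (le_refl n₀)]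
      exact hcl _ _
    rw [map_homologyπ, ← h00, ← sub_eq_zero, ← map_sub]
    refine (homologyπ_eq_zero_iff (m - 1) m (by omega) _).2 ⟨-a n₀, ?_⟩
    rw [map_sub, iCycles_map, hζ, hZ, map_neg]
    simp only [z']
    abel

end Groth.Agent.H15Site.LimComplex
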