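import Groth.Agent.H15Site.HigherDirectSite
import Groth.Agent.H15Site.SiteGenInst
import Groth.Agent.H15Site.RDExt
import Groth.Agent.H02CA.RDPostcomp

/-!
# Higher direct images commute with a colimit when cohomology does on a covering class
-/

set_option autoImplicit false
set_option linter.style.haveILetI false
set_option backward.isDefEq.respectTransparency false

universe u

open CategoryTheory CategoryTheory.Limits Opposite CategoryTheory.Abelian

namespace Groth.Agent.H15Site.RpushColim

attribute [local instance 10000] SiteInst.hasSheafifySite SiteInst.hasWeakSheafifySite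
  SiteInst.hasExtSite SiteInst.enoughInjSite

variable {C D : Type u} [SmallCategory C] [SmallCategory D] {J : GrothendieckTopology C}
  {K : GrothendieckTopology D}

/-- A map of presheaves bijective on a covering class becomes invertible after sheafification. -/
theorem isIso_sheafify_map {P Q : Dᵒᵖ ⥤ AddCommGrpCat.{u}} (q : P ⟶ Q) (B : Set D)
    (hB : ∀ V : D, ∃ (κ : Type u) (Y : κ → D) (g : ∀ k, Y k ⟶ V), Sieve.ofArrows Y g ∈ K V ∧ ∀ k, Y k ∈ B)
    (h : ∀ Y ∈ B, IsIso (q.app (op Y))) : IsIso ((presheafToSheaf K AddCommGrpCat.{u}).map q) := by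
  have hbij : ∀ Y ∈ B, Function.Bijective (q.app (op Y)) := fun Y hY =>
    haveI := h Y hY
    ConcreteCategory.bijective_of_isIso _
  haveI : Presheaf.IsLocallyInjective K q := ⟨fun {V} x y hxy => by
    obtain ⟨κ, Y, g, hg, hY⟩ := hB V.unop
    refine K.superset_covering ?_ hg
    rintro W _ ⟨_, p, _, ⟨k⟩, rfl⟩
    refine (Presheaf.equalizerSieve (F := P) x y).downward_closed ?_ p
    apply (hbij _ (hY k)).1
    exact (ConcreteCategory.congr_hom (q.naturality (g k).op) x).trans
      ((congrArg (Q.map (g k).op) hxy).trans (ConcreteCategory.congr_hom (q.naturality (g k).op) y).symm)⟩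
  haveI : Presheaf.IsLocallySurjective K q := ⟨fun {V} s => by
    obtain ⟨κ, Y, g, hg, hY⟩ := hB V
    refine K.superset_covering ?_ hg
    rintro W _ ⟨_, p, _, ⟨k⟩, rfl⟩
    refine (Presheaf.imageSieve q s).downward_closed ?_ p
    exact (hbij _ (hY k)).2 _⟩
  exact (K.W_iff q).1 (K.W_of_isLocallyBijective q)

variable (u : D ⥤ C) [u.IsContinuous K J]

theorem main {ι : Type u} [SmallCategory ι] (F : ι ⥤ Sheaf J AddCommGrpCat.{u}) (p : ℕ)
    (h : ∀ V : D, ∃ (κ : Type u) (Y : κ → D) (g : ∀ k, Y k ⟶ V), Sieve.ofArrows Y g ∈ K V ∧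
      ∀ k, PreservesColimit F ((Sheaf.cohomologyPresheafFunctor J p).flip.obj (op (u.obj (Y k))))) :
    PreservesColimit F (CohSite.Rpush J K u p) := by
  let Φ := sheafToPresheaf J AddCommGrpCat.{u}
  let G := Φ.rightDerived p
  let S := HigherDirectSite.shPush K u (C := C)
  haveI : PreservesColimitsOfSize.{u, u} (presheafToSheaf K AddCommGrpCat.{u}) :=
    (sheafificationAdjunction K AddCommGrpCat.{u}).leftAdjoint_preservesColimits
  haveI : PreservesColimitsOfSize.{u, u} S := comp_preservesColimits _ _
  haveI : PreservesFiniteColimits S := PreservesColimitsOfSize.preservesFiniteColimits _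
  haveI : PreservesFiniteLimits S := comp_preservesFiniteLimits _ _
  haveI : S.Additive := Functor.additive_of_preserves_binary_products _
  haveI : Φ.Additive := ⟨fun {_ _ _ _} => rfl⟩
  let e : CohSite.Rpush J K u p ≅ G ⋙ S :=
    (⟨NatTrans.rightDerived (HigherDirectSite.shPushIso J K u).inv p,
      NatTrans.rightDerived (HigherDirectSite.shPushIso J K u).hom p,
      by rw [← NatTrans.rightDerived_comp, Iso.inv_hom_id, NatTrans.rightDerived_id],
      by rw [← NatTrans.rightDerived_comp, Iso.hom_inv_id, NatTrans.rightDerived_id]⟩ :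
      (CohSite.push J K u).rightDerived p ≅ (Φ ⋙ S).rightDerived p) ≪≫
    H02CA.RDPostcomp.postcompIso Φ S p
  suffices PreservesColimit F (G ⋙ S) from preservesColimit_of_natIso F e.symm
  constructor
  intro c hc
  let κ := colimit.desc (F ⋙ G) (G.mapCocone c)
  let B : Set D := fun Y => IsIso (κ.app (op (u.obj Y)))
  have hκ : IsIso (S.map κ) := by
    refine isIso_sheafify_map (K := K) (Functor.whiskerLeft u.op κ) B (fun V => ?_) (fun Y hY => hY)
    obtain ⟨α, Y, g, hg, hY⟩ := h V
    refine ⟨α, Y, g, hg, fun k => ?_⟩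
    let U := u.obj (Y k)
    let ev := (evaluation Cᵒᵖ AddCommGrpCat.{u}).obj (op U)
    haveI : (Φ ⋙ ev).Additive := ⟨fun {_ _ _ _} => rfl⟩
    obtain ⟨e₁⟩ := RDExt.nonempty_iso (CohCx.freeSheaf J U) (Φ ⋙ ev)
      (fun M => (CohFree.homEquivSect J U M).symm) (fun M N f s => by
        apply (CohFree.homEquivSect J U N).injective
        refine Eq.trans ((CohFree.homEquivSect J U N).apply_symm_apply _) ?_
        exact (congrArg (f.hom.app (op U)).hom ((CohFree.homEquivSect J U M).apply_symm_apply s)).symm) p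
    let e₂ : (Φ ⋙ ev).rightDerived p ≅ G ⋙ ev := H02CA.RDPostcomp.postcompIso Φ ev p
    haveI : PreservesColimit F ((extFunctor.{u} p).obj (op (CohCx.freeSheaf J U))) := hY k
    haveI : PreservesColimit F (G ⋙ ev) := preservesColimit_of_natIso F (e₁.symm ≪≫ e₂)
    have h₁ : IsColimit ((G ⋙ ev).mapCocone c) := isColimitOfPreserves _ hc
    have h₂ : IsColimit (ev.mapCocone (colimit.cocone (F ⋙ G))) :=
      isColimitOfPreserves _ (colimit.isColimit _)
    change IsIso (κ.app (op U))
    have hh : κ.app (op U) = (h₂.coconePointUniqueUpToIso h₁).hom := h₂.hom_ext fun i => by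
      rw [IsColimit.comp_coconePointUniqueUpToIso_hom]
      exact congr_app (colimit.ι_desc (G.mapCocone c) i) (op U)
    rw [hh]
    infer_instance
  refine ⟨IsColimit.ofIsoColimit (isColimitOfPreserves S (colimit.isColimit (F ⋙ G)))
    (Cocone.ext (@asIso _ _ _ _ (S.map κ) hκ) fun i => ?_)⟩
  exact (S.map_comp _ _).symm.trans (congrArg S.map (colimit.ι_desc (G.mapCocone c) i))

end Groth.Agent.H15Site.RpushColim
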