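import Groth.Agent.H15Site.LimComplex
import Groth.Agent.H15Site.RpushColim
import Mathlib.Algebra.Homology.HomologicalComplexLimits
import Mathlib.CategoryTheory.Limits.Types.Limits

/-!
# Cohomology sheaves of a limit of a tower of complexes of sheaves
-/

set_option autoImplicit false
set_option linter.style.haveILetI false
set_option backward.isDefEq.respectTransparency false

universe u

open CategoryTheory CategoryTheory.Limits Opposite

namespace Groth.Agent.H15Site.LimComplexSh

attribute [local instance 10000] SiteInst.hasSheafifySite SiteInst.hasWeakSheafifySite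

section

variable {A B : Type*} [Category A] [Abelian A] [Category B] [Abelian B] (R : A ⥤ B) [R.Additive]
  [PreservesFiniteLimits R] [PreservesFiniteColimits R]

theorem isIso_homologyMap_map_iff {K L : CochainComplex A ℤ} (φ : K ⟶ L) (m : ℤ) :
    IsIso (HomologicalComplex.homologyMap ((R.mapHomologicalComplex (ComplexShape.up ℤ)).map φ) m) ↔
      IsIso (R.map (HomologicalComplex.homologyMap φ m)) :=
  NatIso.isIso_map_iff (ShortComplex.homologyFunctorIso R)
    ((HomologicalComplex.shortComplexFunctor A (ComplexShape.up ℤ) m).map φ)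

end

variable {C : Type u} [SmallCategory C] (J : GrothendieckTopology C)

/-- The theorem. -/
theorem main (F : ℕ → CochainComplex (Sheaf J AddCommGrpCat.{u}) ℤ) (t : ∀ n, F (n + 1) ⟶ F n) (m : ℤ)
    (B : Set C)
    (hB : ∀ U : C, ∃ (ι : Type u) (Y : ι → C) (f : ∀ i, Y i ⟶ U), Sieve.ofArrows Y f ∈ J U ∧ ∀ i, Y i ∈ B)
    (n₀ : ℕ)
    (ha : ∀ U ∈ B, ∀ j : ℤ, (j = m - 2 ∨ j = m - 1) →
      CohCx.LimOneIsZero (fun n => ((F n).X j).obj.obj (op U)) (fun n => (((t n).f j).hom.app (op U)).hom))
    (hb : ∀ U ∈ B, CohCx.LimOneIsZero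
      (fun n => ((CohCx.sectCx J U).obj (F n)).homology (m - 1))
      (fun n => (HomologicalComplex.homologyMap ((CohCx.sectCx J U).map (t n)) (m - 1)).hom))
    (hc : ∀ U ∈ B, ∀ k : ℕ, IsIso (HomologicalComplex.homologyMap
      ((CohCx.sectCx J U).map (CohCx.transition F t n₀ k)) m)) :
    IsIso (HomologicalComplex.homologyMap (limit.π (CohCx.opSequence F t) (op n₀)) m) := by
  let D := CohCx.opSequence F t
  let π := limit.π D (op n₀)
  let Φ := sheafToPresheaf J AddCommGrpCat.{u}
  haveI : Φ.Additive := ⟨fun {_ _ _ _} => rfl⟩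
  let q := HomologicalComplex.homologyMap ((Φ.mapHomologicalComplex (ComplexShape.up ℤ)).map π) m
  have hqB : ∀ U ∈ B, IsIso (q.app (op U)) := by
    intro U hU
    let ev := (evaluation Cᵒᵖ AddCommGrpCat.{u}).obj (op U)
    haveI : ev.Additive := ⟨fun {_ _ _ _} => rfl⟩
    have htr : ∀ k, (CohCx.sectCx J U).map (CohCx.transition F t n₀ k) =
        CohCx.transition (fun n => (CohCx.sectCx J U).obj (F n)) (fun n => (CohCx.sectCx J U).map (t n)) n₀ k := by
      intro k
      induction k with
      | zero => exact (CohCx.sectCx J U).map_id _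
      | succ k ih => exact ((CohCx.sectCx J U).map_comp _ _).trans (congrArg (_ ≫ ·) ih)
    have hbij : Function.Bijective (HomologicalComplex.homologyMap ((CohCx.sectCx J U).map π) m) := by
      refine LimComplex.bijective_homologyMap (fun n => (CohCx.sectCx J U).obj (F n))
        (fun n => (CohCx.sectCx J U).map (t n)) ((CohCx.sectCx J U).obj (limit D))
        (fun n => (CohCx.sectCx J U).map (limit.π D (op n))) (fun n => ?_) m n₀ (fun j x hx => ?_)
        (fun j z z' hz => ?_) (ha U hU) (hb U hU) (fun k => htr k ▸ hc U hU k)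
      · rw [← (CohCx.sectCx J U).map_comp, ← limit.w D (homOfLE (Nat.le_add_right n 1)).op,
          show D.map (homOfLE (Nat.le_add_right n 1)).op = t n from Functor.ofOpSequence_map_homOfLE_succ t n]
      · let H := HomologicalComplex.eval (Sheaf J AddCommGrpCat.{u}) (ComplexShape.up ℤ) j ⋙ Φ ⋙ ev ⋙
          forget AddCommGrpCat.{u}
        have hs : (fun i : ℕᵒᵖ => x i.unop) ∈ (D ⋙ H).sections := by
          rintro ⟨q'⟩ ⟨p⟩ g
          obtain ⟨g, rfl⟩ : ∃ g' : p ⟶ q', g = g'.op := ⟨g.unop, rfl⟩
          induction q', leOfHom g using Nat.le_induction with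
          | base =>
            rw [Subsingleton.elim g (𝟙 p), op_id, (D ⋙ H).map_id]
            rfl
          | succ q' hq ih =>
            rw [Subsingleton.elim g (homOfLE hq ≫ homOfLE (Nat.le_add_right q' 1)), op_comp, (D ⋙ H).map_comp]
            refine Eq.trans ?_ (ih (homOfLE hq))
            refine congrArg ((D ⋙ H).map (homOfLE hq).op) ?_
            change H.map (D.map (homOfLE (Nat.le_add_right q' 1)).op) (x (q' + 1)) = x q'
            rw [show D.map (homOfLE (Nat.le_add_right q' 1)).op = t q' from Functor.ofOpSequence_map_homOfLE_succ t q']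
            exact hx q'
        obtain ⟨z, hz, -⟩ := (Types.isLimit_iff (H.mapCone (limit.cone D))).1
          ⟨isLimitOfPreserves H (limit.isLimit D)⟩ _ hs
        exact ⟨z, fun n => hz (op n)⟩
      · let H := HomologicalComplex.eval (Sheaf J AddCommGrpCat.{u}) (ComplexShape.up ℤ) j ⋙ Φ ⋙ ev ⋙
          forget AddCommGrpCat.{u}
        obtain ⟨w, -, hw⟩ := (Types.isLimit_iff (H.mapCone (limit.cone D))).1
          ⟨isLimitOfPreserves H (limit.isLimit D)⟩ (fun i => (H.mapCone (limit.cone D)).π.app i z)
          (fun {i i'} g => (ConcreteCategory.congr_hom ((H.mapCone (limit.cone D)).w g) z))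
        exact (hw z fun i => rfl).trans (hw z' fun i => (hz i.unop).symm).symm
    haveI : IsIso (HomologicalComplex.homologyMap
        ((ev.mapHomologicalComplex (ComplexShape.up ℤ)).map ((Φ.mapHomologicalComplex (ComplexShape.up ℤ)).map π)) m) :=
      (ConcreteCategory.isIso_iff_bijective _).2 hbij
    exact (isIso_homologyMap_map_iff ev _ m).1 inferInstance
  let a := presheafToSheaf J AddCommGrpCat.{u}
  haveI : PreservesFiniteColimits a :=
    haveI := (sheafificationAdjunction J AddCommGrpCat.{u}).leftAdjoint_preservesColimits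
    PreservesColimitsOfSize.preservesFiniteColimits.{u, u} _
  haveI : a.Additive := Functor.additive_of_preserves_binary_products _
  haveI h1 : IsIso (a.map q) := RpushColim.isIso_sheafify_map q B hB hqB
  haveI : IsIso (HomologicalComplex.homologyMap
      ((a.mapHomologicalComplex (ComplexShape.up ℤ)).map ((Φ.mapHomologicalComplex (ComplexShape.up ℤ)).map π)) m) :=
    (isIso_homologyMap_map_iff a _ m).2 h1
  let ε := (sheafificationAdjunction J AddCommGrpCat.{u}).counit
  let e : ∀ K : CochainComplex (Sheaf J AddCommGrpCat.{u}) ℤ,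
      (a.mapHomologicalComplex (ComplexShape.up ℤ)).obj ((Φ.mapHomologicalComplex (ComplexShape.up ℤ)).obj K) ≅ K :=
    fun K => HomologicalComplex.Hom.isoOfComponents (fun i => (asIso ε).app (K.X i))
      (fun i j _ => (ε.naturality (K.d i j)).symm)
  have hn : (e (limit D)).inv ≫
      ((a.mapHomologicalComplex (ComplexShape.up ℤ)).map ((Φ.mapHomologicalComplex (ComplexShape.up ℤ)).map π)) ≫
      (e (D.obj (op n₀))).hom = π := by
    rw [Iso.inv_comp_eq]
    ext i : 1
    exact ε.naturality (π.f i)
  change IsIso (HomologicalComplex.homologyMap π m)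
  rw [← hn, HomologicalComplex.homologyMap_comp, HomologicalComplex.homologyMap_comp]
  infer_instance

end Groth.Agent.H15Site.LimComplexSh
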