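import Groth.Agent.H15Site.HigherDirect
import Mathlib.AlgebraicTopology.AlternatingFaceMapComplex
import Mathlib.Algebra.Homology.HomologySequence
import Mathlib.Algebra.Homology.HomologicalComplexAbelian

/-!
# Derived limits over the simplex category

`main`: they are computed by the alternating coface complex.
-/

set_option autoImplicit false
set_option linter.style.haveILetI false
set_option linter.unusedSectionVars false
set_option backward.isDefEq.respectTransparency false
set_option backward.isDefEq.respectTransparency.types false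

universe v u

open CategoryTheory CategoryTheory.Limits Opposite AlgebraicTopology
open Simplicial

namespace Groth.Agent.H15Site.LimCosimp

section Cons

/-- Prepend the initial vertex. -/
noncomputable def cons {n : ℕ} {t : SimplexCategory} (g : ⦋n⦌ ⟶ t) : ⦋n + 1⦌ ⟶ t :=
  SimplexCategory.Hom.mk
    { toFun := (Fin.cases 0 g.toOrderHom : Fin (n + 1 + 1) → Fin (t.len + 1))
      monotone' := by
        intro a b h
        induction a using Fin.cases with
        | zero => simp
        | succ a =>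
          induction b using Fin.cases with
          | zero => exact absurd h (by simp [Fin.le_def])
          | succ b => simpa using g.toOrderHom.monotone (Fin.succ_le_succ_iff.1 h) }

theorem δ_zero_cons {n : ℕ} {t : SimplexCategory} (g : ⦋n⦌ ⟶ t) : SimplexCategory.δ 0 ≫ cons g = g := by
  refine SimplexCategory.Hom.ext _ _ (OrderHom.ext _ _ (funext fun i => ?_))
  show (Fin.cases 0 g.toOrderHom : Fin (n + 1 + 1) → Fin (t.len + 1)) ((0 : Fin (n + 2)).succAbove i) = _
  rw [Fin.succAbove_zero]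
  rfl

theorem δ_succ_cons {n : ℕ} {t : SimplexCategory} (j : Fin (n + 2)) (g : ⦋n + 1⦌ ⟶ t) :
    SimplexCategory.δ j.succ ≫ cons g = cons (SimplexCategory.δ j ≫ g) := by
  refine SimplexCategory.Hom.ext _ _ (OrderHom.ext _ _ (funext fun i => ?_))
  induction i using Fin.cases with
  | zero =>
    show (Fin.cases 0 g.toOrderHom : Fin (n + 1 + 1 + 1) → Fin (t.len + 1)) (j.succ.succAbove 0) = _
    rw [Fin.succ_succAbove_zero]
    rfl
  | succ i =>
    show (Fin.cases 0 g.toOrderHom : Fin (n + 1 + 1 + 1) → Fin (t.len + 1)) (j.succ.succAbove i.succ) = _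
    rw [Fin.succ_succAbove_succ]
    rfl

end Cons

variable {A : Type u} [Category.{v} A] [Abelian A] [HasProducts.{0} A]

/-- The index of the coinduced object. -/
abbrev Idx (t : SimplexCategory) : Type := Σ m : ℕ, (t ⟶ ⦋m⦌)

/-- The coinduced cosimplicial object. -/
noncomputable def Rt (X : SimplexCategory ⥤ A) : SimplexCategory ⥤ A where
  obj t := ∏ᶜ fun p : Idx t => X.obj ⦋p.1⦌
  map {s t} α := Pi.lift fun p => Pi.π (fun p : Idx s => X.obj ⦋p.1⦌) ⟨p.1, α ≫ p.2⟩
  map_id t := Pi.hom_ext _ _ fun p => by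
    rw [Pi.lift_π, Category.id_comp, Category.id_comp]
  map_comp α β := Pi.hom_ext _ _ fun p => by
    rw [Category.assoc, Pi.lift_π, Pi.lift_π, Pi.lift_π, Category.assoc]

/-- The unit. -/
noncomputable def toRt (X : SimplexCategory ⥤ A) : X ⟶ Rt X where
  app t := Pi.lift fun p => X.map p.2
  naturality s t α := Pi.hom_ext _ _ fun p => by
    simp [Rt]

theorem mono_toRt (X : SimplexCategory ⥤ A) : Mono (toRt X) := by
  haveI : ∀ t, Mono ((toRt X).app t) := fun t => by
    refine ⟨fun a b h => ?_⟩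
    obtain ⟨m, rfl⟩ : ∃ m, ⦋m⦌ = t := ⟨t.len, SimplexCategory.mk_len t⟩
    have := congrArg (· ≫ Pi.π (fun p : Idx ⦋m⦌ => X.obj ⦋p.1⦌) ⟨m, 𝟙 _⟩) h
    simpa [toRt] using this
  exact NatTrans.mono_of_mono_app _

/-- The extra codegeneracy. -/
noncomputable def extra (X : SimplexCategory ⥤ A) (n : ℕ) : (Rt X).obj ⦋n + 1⦌ ⟶ (Rt X).obj ⦋n⦌ :=
  Pi.lift fun p => Pi.π (fun p : Idx ⦋n + 1⦌ => X.obj ⦋p.1⦌) ⟨p.1, cons p.2⟩

theorem δ_zero_extra (X : SimplexCategory ⥤ A) (n : ℕ) :
    (Rt X).map (SimplexCategory.δ (0 : Fin (n + 2))) ≫ extra X n = 𝟙 _ := Pi.hom_ext _ _ fun p => by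
  simp only [Rt, extra, Category.assoc, Pi.lift_π, Category.id_comp]
  rw [δ_zero_cons]

theorem δ_succ_extra (X : SimplexCategory ⥤ A) (n : ℕ) (j : Fin (n + 2)) :
    (Rt X).map (SimplexCategory.δ j.succ) ≫ extra X (n + 1) = extra X n ≫ (Rt X).map (SimplexCategory.δ j) :=
  Pi.hom_ext _ _ fun p => by
    simp only [Rt, extra, Category.assoc, Pi.lift_π]
    rw [δ_succ_cons]

theorem homotopy_eq (X : SimplexCategory ⥤ A) (n : ℕ) :
    AlternatingCofaceMapComplex.objD (Rt X) (n + 1) ≫ extra X (n + 1) =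
      𝟙 _ - extra X n ≫ AlternatingCofaceMapComplex.objD (Rt X) n := by
  simp only [AlternatingCofaceMapComplex.objD]
  rw [Fin.sum_univ_succ, Preadditive.add_comp, Preadditive.sum_comp, Preadditive.comp_sum,
    sub_eq_add_neg, ← Finset.sum_neg_distrib]
  simp only [CosimplicialObject.δ, Fin.val_zero, pow_zero, one_smul, Fin.val_succ, pow_succ, Preadditive.zsmul_comp,
    Preadditive.comp_zsmul, mul_neg, mul_one, neg_smul, Preadditive.neg_comp]
  rw [δ_zero_extra]
  simp only [δ_succ_extra]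

variable (A) in
/-- The complex of a cosimplicial object. -/
noncomputable abbrev cx : (SimplexCategory ⥤ A) ⥤ CochainComplex A ℕ := alternatingCofaceMapComplex A

instance additive_cx : (cx A).Additive where
  map_add {X Y f g} := by
    ext n
    rfl

theorem d_eq (X : SimplexCategory ⥤ A) (n : ℕ) :
    ((cx A).obj X).d n (n + 1) = AlternatingCofaceMapComplex.objD X n :=
  CochainComplex.of_d (fun n => X.obj ⦋n⦌) (AlternatingCofaceMapComplex.objD X) n

theorem exactAt_injective (I : SimplexCategory ⥤ A) [Injective I] (n : ℕ) :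
    ((cx A).obj I).ExactAt (n + 1) := by
  rw [HomologicalComplex.exactAt_iff' _ n (n + 1) (n + 1 + 1) (by simp) (by simp),
    ShortComplex.exact_iff_exact_up_to_refinements]
  intro T x hx
  haveI := mono_toRt I
  let r := Injective.factorThru (𝟙 I) (toRt I)
  refine ⟨T, 𝟙 T, inferInstance, ((x ≫ (toRt I).app ⦋n + 1⦌) ≫ extra I n) ≫ r.app ⦋n⦌, ?_⟩
  change 𝟙 T ≫ x = _ ≫ ((cx A).obj I).d n (n + 1)
  change x ≫ ((cx A).obj I).d (n + 1) (n + 1 + 1) = 0 at hx
  rw [d_eq] at hx ⊢
  have hη : AlternatingCofaceMapComplex.objD I (n + 1) ≫ (toRt I).app ⦋n + 1 + 1⦌ =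
      (toRt I).app ⦋n + 1⦌ ≫ AlternatingCofaceMapComplex.objD (Rt I) (n + 1) := by
    have := ((cx A).map (toRt I)).comm (n + 1) (n + 1 + 1)
    rw [d_eq, d_eq] at this
    exact this.symm
  have hr : r.app ⦋n⦌ ≫ AlternatingCofaceMapComplex.objD I n =
      AlternatingCofaceMapComplex.objD (Rt I) n ≫ r.app ⦋n + 1⦌ := by
    have := ((cx A).map r).comm n (n + 1)
    rw [d_eq, d_eq] at this
    exact this
  have hid : (toRt I).app ⦋n + 1⦌ ≫ r.app ⦋n + 1⦌ = 𝟙 _ :=
    (NatTrans.congr_app (Injective.comp_factorThru (𝟙 I) (toRt I)) ⦋n + 1⦌)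
  have h2 : (x ≫ (toRt I).app ⦋n + 1⦌) ≫ extra I n ≫ AlternatingCofaceMapComplex.objD (Rt I) n =
      x ≫ (toRt I).app ⦋n + 1⦌ := by
    have h3 : (x ≫ (toRt I).app ⦋n + 1⦌) ≫ AlternatingCofaceMapComplex.objD (Rt I) (n + 1) = 0 := by
      rw [Category.assoc, ← hη, ← Category.assoc, hx, zero_comp]
    have h4 := congrArg (· ≫ extra I (n + 1)) h3
    simp only [Category.assoc, homotopy_eq, Preadditive.comp_sub, Category.comp_id, zero_comp, sub_eq_zero] at h4
    simpa only [Category.assoc] using h4.symm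
  rw [Category.id_comp, Category.assoc, hr, ← Category.assoc, Category.assoc (x ≫ _) (extra I n), h2,
    Category.assoc, hid]
  exact (Category.comp_id x).symm

section HZero

variable [HasLimitsOfShape SimplexCategory A]

theorem pr_d (X : SimplexCategory ⥤ A) :
    limit.π X ⦋0⦌ ≫ ((cx A).obj X).d 0 (0 + 1) = 0 := by
  rw [d_eq]
  simp [AlternatingCofaceMapComplex.objD, Fin.sum_univ_succ, CosimplicialObject.δ, Preadditive.comp_sub,
    sub_eq_add_neg, limit.w]

theorem const_eq {t : SimplexCategory} (i : Fin (t.len + 1)) (X : SimplexCategory ⥤ A) {T : A}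
    (x : T ⟶ X.obj ⦋0⦌) (hx : x ≫ X.map (SimplexCategory.δ (0 : Fin 2)) = x ≫ X.map (SimplexCategory.δ (1 : Fin 2))) :
    x ≫ X.map (SimplexCategory.const ⦋0⦌ t i) = x ≫ X.map (SimplexCategory.const ⦋0⦌ t 0) := by
  let e : ⦋1⦌ ⟶ t := SimplexCategory.Hom.mk
    { toFun := (fun j => if j = 0 then 0 else i : Fin 2 → Fin (t.len + 1))
      monotone' := fun a b h => by fin_cases a <;> fin_cases b <;> simp_all }
  have h1 : SimplexCategory.δ (0 : Fin 2) ≫ e = SimplexCategory.const ⦋0⦌ t i :=
    SimplexCategory.Hom.ext _ _ (OrderHom.ext _ _ (funext fun j => by fin_cases j; rfl))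
  have h2 : SimplexCategory.δ (1 : Fin 2) ≫ e = SimplexCategory.const ⦋0⦌ t 0 :=
    SimplexCategory.Hom.ext _ _ (OrderHom.ext _ _ (funext fun j => by fin_cases j; rfl))
  rw [← h1, ← h2, X.map_comp, X.map_comp, ← Category.assoc, hx, Category.assoc]

/-- The cone of a vertex compatible family. -/
noncomputable def coneOf (X : SimplexCategory ⥤ A) {T : A} (x : T ⟶ X.obj ⦋0⦌)
    (hx : x ≫ X.map (SimplexCategory.δ (0 : Fin 2)) = x ≫ X.map (SimplexCategory.δ (1 : Fin 2))) : Cone X where
  pt := T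
  π :=
    { app := fun t => x ≫ X.map (SimplexCategory.const ⦋0⦌ t 0)
      naturality := fun s t f => by
        refine (Category.id_comp _).trans ?_
        rw [Category.assoc, ← X.map_comp,
          SimplexCategory.const_comp]
        exact (const_eq _ X x hx).symm }

theorem exact_zero (X : SimplexCategory ⥤ A) :
    Nonempty (IsLimit (KernelFork.ofι (limit.π X ⦋0⦌) (pr_d X))) := by
  have hinj : ∀ {T : A} (a b : T ⟶ limit X), a ≫ limit.π X ⦋0⦌ = b ≫ limit.π X ⦋0⦌ → a = b := fun a b h =>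
    limit.hom_ext fun t => by
      rw [← limit.w X (SimplexCategory.const ⦋0⦌ t 0), ← Category.assoc, ← Category.assoc, h]
  refine ⟨KernelFork.IsLimit.ofι _ _ (fun {T} x hx => limit.lift X (coneOf X x ?_)) (fun {T} x hx => ?_)
    (fun {T} x hx m hm => hinj _ _ ?_)⟩
  · rw [d_eq] at hx
    simpa [AlternatingCofaceMapComplex.objD, Fin.sum_univ_succ, CosimplicialObject.δ, Preadditive.comp_sub,
      ← sub_eq_add_neg, sub_eq_zero] using hx
  · rw [limit.lift_π]
    show x ≫ X.map (SimplexCategory.const ⦋0⦌ ⦋0⦌ 0) = x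
    rw [Subsingleton.elim (SimplexCategory.const ⦋0⦌ ⦋0⦌ 0) (𝟙 _), X.map_id, Category.comp_id]
  · rw [hm, limit.lift_π]
    show x = x ≫ X.map (SimplexCategory.const ⦋0⦌ ⦋0⦌ 0)
    rw [Subsingleton.elim (SimplexCategory.const ⦋0⦌ ⦋0⦌ 0) (𝟙 _), X.map_id, Category.comp_id]

/-- The comparison in degree zero. -/
noncomputable def toH0 (X : SimplexCategory ⥤ A) : limit X ⟶ ((cx A).obj X).homology 0 :=
  ((cx A).obj X).liftCycles (limit.π X ⦋0⦌) 1 (by simp) (pr_d X) ≫ ((cx A).obj X).homologyπ 0

instance isIso_toH0 (X : SimplexCategory ⥤ A) : IsIso (toH0 X) := by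
  haveI : IsIso (((cx A).obj X).liftCycles (limit.π X ⦋0⦌) 1 (by simp) (pr_d X)) := by
    have h := IsLimit.conePointUniqueUpToIso (exact_zero X).some (((cx A).obj X).cyclesIsKernel 0 1 (by simp))
    have e : ((cx A).obj X).liftCycles (limit.π X ⦋0⦌) 1 (by simp) (pr_d X) =
        (IsLimit.conePointUniqueUpToIso (exact_zero X).some (((cx A).obj X).cyclesIsKernel 0 1 (by simp))).hom := by
      rw [← cancel_mono (((cx A).obj X).iCycles 0), HomologicalComplex.liftCycles_i]
      exact (IsLimit.conePointUniqueUpToIso_hom_comp (exact_zero X).some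
        (((cx A).obj X).cyclesIsKernel 0 1 (by simp)) WalkingParallelPair.zero).symm
    rw [e]
    infer_instance
  haveI : IsIso (((cx A).obj X).homologyπ 0) := ((cx A).obj X).isIso_homologyπ _ _ rfl (by simp)
  unfold toH0
  infer_instance

theorem toH0_naturality {X Y : SimplexCategory ⥤ A} (f : X ⟶ Y) :
    lim.map f ≫ toH0 Y = toH0 X ≫ HomologicalComplex.homologyMap ((cx A).map f) 0 := by
  unfold toH0
  rw [Category.assoc, HomologicalComplex.homologyπ_naturality, ← Category.assoc, ← Category.assoc]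
  refine congrArg (· ≫ _) ?_
  rw [← cancel_mono (((cx A).obj Y).iCycles 0), Category.assoc, Category.assoc,
    HomologicalComplex.cyclesMap_i, HomologicalComplex.liftCycles_i, HomologicalComplex.liftCycles_i_assoc,
    lim_map, limMap_π]
  rfl

variable [EnoughInjectives (SimplexCategory ⥤ A)]
  [(lim : (SimplexCategory ⥤ A) ⥤ A).Additive]

/-- Derived limits over the simplex category. -/
theorem main : ∀ (n : ℕ) (X : SimplexCategory ⥤ A),
    Nonempty (((lim : (SimplexCategory ⥤ A) ⥤ A).rightDerived n).obj X ≅ ((cx A).obj X).homology n) := by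
  haveI : (lim : (SimplexCategory ⥤ A) ⥤ A).IsRightAdjoint := constLimAdj.isRightAdjoint
  intro n
  induction n with
  | zero =>
    intro X
    exact ⟨(Functor.rightDerivedZeroIsoSelf lim).app X ≪≫ asIso (toH0 X)⟩
  | succ n ih =>
    intro X
    let S : ShortComplex (SimplexCategory ⥤ A) :=
      ShortComplex.mk (Injective.ι X) (cokernel.π (Injective.ι X)) (cokernel.condition _)
    have hS : S.ShortExact :=
      { exact := ShortComplex.exact_of_g_is_cokernel _ (cokernelIsCokernel _) }
    haveI : Injective S.X₂ := inferInstanceAs (Injective (Injective.under X))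
    have hT : (S.map (cx A)).ShortExact :=
      HomologicalComplex.shortExact_of_degreewise_shortExact _ fun i =>
        hS.map_of_exact ((evaluation SimplexCategory A).obj ⦋i⦌)
    have hz : ∀ k, IsZero (((cx A).obj S.X₂).homology (k + 1)) := fun k =>
      ((HomologicalComplex.exactAt_iff_isZero_homology _ _).1 (exactAt_injective S.X₂ k))
    have hd := fun k => (lim : (SimplexCategory ⥤ A) ⥤ A).isZero_rightDerived_obj_injective_succ k S.X₂
    cases n with
    | zero =>
      obtain ⟨e⟩ := HigherDirect.nonempty_rightDerived_one_iso lim hS (hd 0)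
      have hrel : (ComplexShape.up ℕ).Rel 0 (0 + 1) := rfl
      haveI : Epi (hT.δ 0 (0 + 1) hrel) :=
        (hT.homology_exact₁ 0 (0 + 1) hrel).epi_f_iff.2 ((hz 0).eq_of_tgt _ _)
      let e' : cokernel (HomologicalComplex.homologyMap (S.map (cx A)).g 0) ≅ ((cx A).obj X).homology (0 + 1) :=
        (cokernelIsCokernel _).coconePointUniqueUpToIso (hT.homology_exact₃ 0 (0 + 1) hrel).gIsCokernel
      exact ⟨e ≪≫ cokernel.mapIso (lim.map S.g) (HomologicalComplex.homologyMap (S.map (cx A)).g 0)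
        (asIso (toH0 S.X₂)) (asIso (toH0 S.X₃)) (toH0_naturality S.g) ≪≫ e'⟩
    | succ n =>
      obtain ⟨e⟩ := HigherDirect.nonempty_rightDerived_succ_iso lim hS n (hd n) (hd (n + 1))
      obtain ⟨e'⟩ := ih S.X₃
      exact ⟨e.symm ≪≫ e' ≪≫ hT.δIso (n + 1) (n + 1 + 1) (by simp) (hz n) (hz (n + 1))⟩

end HZero

end Groth.Agent.H15Site.LimCosimp
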