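import Groth.Agent.H15Site.LocCohVanish

/-!
# Vanishing of local cohomology sheaves on a basis

`isZero_HZsh_of_isBasis`: `ℋ^i_Z(F) = 0` if `H^i_{V∩Z}(V, F) = 0` for `V` in a basis.
-/

set_option autoImplicit false
set_option linter.style.haveILetI false
set_option linter.unusedSectionVars false
set_option backward.isDefEq.respectTransparency false

universe u

open CategoryTheory CategoryTheory.Limits Opposite TopologicalSpace CategoryTheory.Abelian
open LocCohZ Groth.Agent.H10Coh Groth.Agent.H16Derived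

namespace Groth.Agent.H15Site.LocCoh

variable {X : TopCat.{u}} {B : Set (Opens X)} (hB : Opens.IsBasis B)

include hB

/-- Two maps into a sheaf that agree on sections over a basis are equal. -/
lemma hom_ext_basis {G T : CohTop.Ab X} (a b : G ⟶ T)
    (h : ∀ V ∈ B, ∀ s, a.hom.app (op V) s = b.hom.app (op V) s) : a = b := by
  refine Sheaf.hom_ext (NatTrans.ext (funext fun ⟨W⟩ => ?_))
  ext s
  refine TopCat.Sheaf.eq_of_locally_eq' T
    (fun V : {V : Opens X // V ∈ B ∧ V ≤ W} => V.1) W (fun V => homOfLE V.2.2)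
    (fun p hp => ?_) _ _ fun V => ?_
  · obtain ⟨V, hV, hpV, hle⟩ := Opens.isBasis_iff_nbhd.1 hB hp
    exact Opens.mem_iSup.2 ⟨⟨V, hV, hle⟩, hpV⟩
  · refine (congr($(a.hom.naturality (homOfLE V.2.2).op) s)).symm.trans ?_
    refine Eq.trans ?_ (congr($(b.hom.naturality (homOfLE V.2.2).op) s))
    exact h V.1 V.2.1 _

lemma isZero_of_isBasis (G : CohTop.Ab X) (h : ∀ V ∈ B, Subsingleton (Zsh V ⟶ G)) : IsZero G := by
  refine (IsZero.iff_id_eq_zero G).2 (hom_ext_basis hB _ _ fun V hV s => ?_)
  haveI := h V hV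
  haveI : Subsingleton (G.obj.obj (op V)) := (sect V G).symm.injective.subsingleton
  exact Subsingleton.elim (α := G.obj.obj (op V)) _ _

lemma epi_of_surjective_basis {G H : CohTop.Ab X} (f : G ⟶ H)
    (h : ∀ V ∈ B, Function.Surjective (f.hom.app (op V))) : Epi f := by
  refine ⟨fun {T} a b hab => hom_ext_basis hB a b fun V hV s => ?_⟩
  obtain ⟨t, rfl⟩ := h V hV s
  exact congr($(hab).hom.app (op V) t)

/-- `ℋ^i_Z(F) = 0` if the cohomology groups with supports vanish over a basis. -/
theorem isZero_HZsh_of_isBasis (U : Opens X) : ∀ (i : ℕ) (F : CohTop.Ab X),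
    (∀ V ∈ B, Subsingleton (HZ F i (inf_le_left : V ⊓ U ≤ V))) → IsZero ((HZsh U i).obj F) := by
  intro i
  induction i with
  | zero =>
    intro F h
    refine (isZero_HZsh_zero_iff U F).2 (isZero_of_isBasis hB _ fun V hV => ?_)
    exact (Equiv.subsingleton_congr
      ((homEquiv U V F).toEquiv.trans Ext.addEquiv₀.symm.toEquiv)).2 (h V hV)
  | succ i ih =>
    intro F h
    have hI := (sectSuppF U).isZero_rightDerived_obj_injective_succ i (injSeq F).X₂
    cases i with
    | zero =>
      refine isZero_rightDerived_one (injSeq_shortExact F) (sectSuppF U) hI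
        (epi_of_surjective_basis hB _ fun V hV s => ?_)
      obtain ⟨z, hz⟩ := surjective_zq_hom (injSeq_shortExact F) (inf_le_left : V ⊓ U ≤ V)
        (h V hV) (homEquiv U V (injSeq F).X₃ ((sect V _).symm s))
      refine ⟨sect V _ ((homEquiv U V (injSeq F).X₂).symm z), ?_⟩
      rw [← sect_comp]
      have : (homEquiv U V (injSeq F).X₂).symm z ≫ (sectSuppF U).map (injSeq F).g = (sect V _).symm s :=
        (homEquiv U V (injSeq F).X₃).injective (by rw [homEquiv_comp, AddEquiv.apply_symm_apply, hz])
      rw [this, AddEquiv.apply_symm_apply]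
    | succ i =>
      refine isZero_rightDerived_succ (injSeq_shortExact F) (sectSuppF U) (i + 1) hI
        (ih (injSeq F).X₃ fun V hV => ?_)
      haveI := h V hV
      refine subsingleton_of_forall_eq 0 fun x => ?_
      have hx : x.comp (injSeq_shortExact F).extClass (rfl : i + 1 + 1 = i + 1 + 1) = 0 :=
        Subsingleton.elim (α := HZ F (i + 1 + 1) (inf_le_left : V ⊓ U ≤ V)) _ _
      obtain ⟨w, rfl⟩ := Ext.covariant_sequence_exact₃ _ (injSeq_shortExact F) x
        (rfl : i + 1 + 1 = i + 1 + 1) hx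
      rw [Ext.eq_zero_of_injective w, Ext.zero_comp]

end Groth.Agent.H15Site.LocCoh
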