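import Groth.Agent.H15Site.LocCohDepth
import Groth.Agent.H15Site.LocCohBasis
import Groth.Agent.H4LC.CdDim
import Groth.Agent.H4LC.FlatBaseChange

/-!
# Local cohomology sheaves above the dimension

`isZero_HZsh_of_dim_lt`: `ℋ^i_Y(G) = 0` if `dim O_{X,x} < i` on `Y`, `G` coherent on a locally Noetherian scheme.
-/

set_option autoImplicit false
set_option linter.style.haveILetI false
set_option linter.unusedSectionVars false
set_option backward.isDefEq.respectTransparency false

universe u

open CategoryTheory CategoryTheory.Limits AlgebraicGeometry Opposite TopologicalSpace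

namespace Groth.Agent.H15Site.LocCohDepth

/-- Local cohomology vanishes above the dimensions of the local rings along `V(I)`. -/
theorem subsingleton_H_of_dim_localization_lt {R : Type u} [CommRing R] [IsNoetherianRing R]
    (I : Ideal R) (M : Type u) [AddCommGroup M] [Module R M] [Module.Finite R M] (i : ℕ)
    (h : ∀ p : PrimeSpectrum R, I ≤ p.asIdeal →
      ringKrullDim (Localization.AtPrime p.asIdeal) < (i : WithBot ℕ∞)) :
    Subsingleton (LocCoh.H I i M) := by
  refine Module.subsingleton_of_localization_maximal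
    (fun (P : Ideal R) _ => LocalizedModule P.primeCompl (LocCoh.H I i M))
    (fun (P : Ideal R) _ => LocalizedModule.mkLinearMap P.primeCompl (LocCoh.H I i M))
    fun P hP => ?_
  haveI : IsNoetherianRing (Localization.AtPrime P) :=
    IsLocalization.isNoetherianRing P.primeCompl _ inferInstance
  obtain ⟨e⟩ := H4LC.nonempty_localization_H I M P.primeCompl i
  refine (Equiv.subsingleton_congr e.toEquiv).2 ?_
  by_cases hIP : I ≤ P
  · exact H4LC.subsingleton_H_of_supportDim_lt _ i _
      ((Module.supportDim_le_ringKrullDim _ _).trans_lt (h ⟨P, hP.isPrime⟩ hIP))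
  · have htop : I.map (algebraMap R (Localization.AtPrime P)) = ⊤ := by
      obtain ⟨a, haI, haP⟩ := SetLike.not_le_iff_exists.1 hIP
      exact Ideal.eq_top_of_isUnit_mem _ (Ideal.mem_map_of_mem _ haI)
        (IsLocalization.map_units _ (⟨a, haP⟩ : P.primeCompl))
    rw [htop]
    exact (H4LC.le_idealDepth_iff_H _ _ (n := i + 1)).1
      (le_of_le_of_eq le_top (H4Depth.idealDepth_eq_top (Submodule.top_smul _)).symm) i
      (Nat.lt_succ_self i)

variable {X : Scheme.{u}}

/-- Vanishing above the dimension. -/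
theorem isZero_HZsh_of_dim_lt [IsLocallyNoetherian X] {G : X.Modules} (hG : Coh.IsCoh G)
    (U : X.Opens) (i : ℕ)
    (hi : ∀ x : X, x ∉ (U : Set X) → ringKrullDim (X.presheaf.stalk x) < (i : WithBot ℕ∞)) :
    IsZero ((LocCohZ.HZsh (X := X.carrier) U i).obj (Coh.toAb G)) := by
  refine LocCoh.isZero_HZsh_of_isBasis X.isBasis_affineOpens U i _ fun (V : X.Opens) (hV : IsAffineOpen V) => ?_
  haveI : IsAffine (V : Scheme.{u}) := hV
  haveI : IsLocallyNoetherian (V : Scheme.{u}) := isLocallyNoetherian_of_isOpenImmersion V.ι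
  obtain ⟨e, -⟩ := S6026.result (X := X.carrier) (inf_le_left : V ⊓ U ≤ V) i
  refine (Equiv.subsingleton_congr (e (Coh.toAb G)).toEquiv).2 ?_
  show Subsingleton (LocCohZ.HZM (V : Scheme.{u}) (G.restrict V.ι) i (V.ι ⁻¹ᵁ (V ⊓ U)))
  have hGV := H10Coh.isCoh_restrict V.ι G hG
  obtain ⟨I, hiso, hI⟩ := exists_ideal_HZM_iso (V : Scheme.{u}) (G.restrict V.ι) hGV
    (V.ι ⁻¹ᵁ (V ⊓ U))
  refine (Equiv.subsingleton_congr (hiso i).some.toEquiv).2 ?_
  haveI : IsNoetherianRing Γ((V : Scheme.{u}), ⊤) :=
    IsLocallyNoetherian.component_noetherian ⟨⊤, isAffineOpen_top _⟩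
  haveI : Module.Finite Γ((V : Scheme.{u}), ⊤) Γ(G.restrict V.ι, ⊤) :=
    @H10Coh.finite_sections _ (G.restrict V.ι) hGV.1 hGV.2 _ (isAffineOpen_top _)
  refine subsingleton_H_of_dim_localization_lt I _ i fun p hp => ?_
  obtain ⟨z, rfl⟩ : ∃ z : (⊤ : (V : Scheme.{u}).Opens), (isAffineOpen_top _).primeIdealOf z = p := by
    refine ⟨⟨(isAffineOpen_top (V : Scheme.{u})).fromSpec p, trivial⟩,
      (isAffineOpen_top _).fromSpec.isOpenEmbedding.injective ?_⟩
    exact (isAffineOpen_top _).fromSpec_primeIdealOf _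
  letI := TopCat.Presheaf.algebra_section_stalk (V : Scheme.{u}).presheaf z
  haveI := (isAffineOpen_top (V : Scheme.{u})).isLocalization_stalk z
  rw [← ringKrullDim_eq_of_ringEquiv (IsLocalization.algEquiv
      ((isAffineOpen_top (V : Scheme.{u})).primeIdealOf z).asIdeal.primeCompl
      ((V : Scheme.{u}).presheaf.stalk z.1) (Localization.AtPrime _)).toRingEquiv,
    ringKrullDim_eq_of_ringEquiv (V.stalkIso z.1).commRingCatIsoToRingEquiv]
  exact hi z.1.1 fun hh => (hI z.1).2 hp ⟨z.1.2, hh⟩

end Groth.Agent.H15Site.LocCohDepth
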