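import Groth.Prelude.Def_LocCohZ
import Groth.Prelude.Def_CxOX
import Groth.Agent.H10Coh.HigherDirect2
import Groth.Agent.H10Coh.QCohOps
import Groth.Agent.H10Coh.ModRes
import Groth.Agent.H16Derived.KFlat.RestrictD
import Mathlib

/-!
# Quasi-coherence of local cohomology sheaves of modules

`isQCoh_HZshM`: for a quasi-compact open immersion `j`, `ℋ^q_Z(M)` is quasi-coherent for quasi-coherent `M`.
-/

set_option autoImplicit false
set_option linter.style.haveILetI false
set_option linter.unusedSectionVars false
set_option backward.isDefEq.respectTransparency false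

universe u

open CategoryTheory CategoryTheory.Limits AlgebraicGeometry Opposite TopologicalSpace

namespace Groth.Agent.H15Site.LocCohQCoh

/-- An exact functor preserving injectives maps injective resolutions to injective resolutions. -/
noncomputable def mapResolution {C D : Type*} [Category C] [Category D] [Abelian C] [Abelian D]
    (F : C ⥤ D) [F.Additive] [PreservesFiniteLimits F] [PreservesFiniteColimits F]
    [F.PreservesInjectiveObjects] {M : C} (R : InjectiveResolution M) :
    InjectiveResolution (F.obj M) where
  cocomplex := (F.mapHomologicalComplex _).obj R.cocomplex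
  injective n := haveI := R.injective n; Functor.injective_obj_of_injective (F := F) this
  ι := (HomologicalComplex.singleMapHomologicalComplex F (ComplexShape.up ℕ) 0).inv.app M ≫
    (F.mapHomologicalComplex _).map R.ι

variable {U Y : Scheme.{u}} (j : U ⟶ Y) [IsOpenImmersion j]

/-- `j_* j^*`. -/
noncomputable abbrev TT : Y.Modules ⥤ Y.Modules :=
  Scheme.Modules.restrictFunctor j ⋙ Scheme.Modules.pushforward j

/-- The inclusion of the sections with support. -/
noncomputable def incl : DCoh.gammaZ j ⟶ 𝟭 Y.Modules where
  app M := kernel.ι ((Scheme.Modules.restrictAdjunction j).unit.app M)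
  naturality _ _ _ := kernel.lift_ι _ _ _

/-- The restriction map. -/
noncomputable abbrev rest : 𝟭 Y.Modules ⟶ TT j := (Scheme.Modules.restrictAdjunction j).unit

theorem incl_rest (M : Y.Modules) : (incl j).app M ≫ (rest j).app M = 0 := kernel.condition _

theorem epi_of_surjective_app {M N : Y.Modules} (φ : M ⟶ N)
    (h : ∀ V, Function.Surjective (φ.app V)) : Epi φ := by
  refine ⟨fun {P} a b hab => Scheme.Modules.hom_ext _ _ fun V => ConcreteCategory.hom_ext _ _ fun s => ?_⟩
  obtain ⟨t, rfl⟩ := h V s
  exact congr($(hab).app V t)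

/-- Restriction of an injective module to an open is surjective. -/
instance epi_rest (I : Y.Modules) [Injective I] :
    Epi ((Scheme.Modules.restrictAdjunction j).unit.app I) :=
  epi_of_surjective_app _ fun V => H10Coh.flasque_sh_of_injective I (j.image_preimage_le V)

/-- Restriction along an isomorphism of schemes is an equivalence. -/
noncomputable def restrictEquiv {X X' : Scheme.{u}} (e : X ≅ X') : X'.Modules ≌ X.Modules :=
  CategoryTheory.Equivalence.mk (Scheme.Modules.restrictFunctor e.hom)
    (Scheme.Modules.restrictFunctor e.inv)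
    (Scheme.Modules.restrictFunctorId.symm ≪≫ Scheme.Modules.restrictFunctorCongr e.inv_hom_id.symm ≪≫
      Scheme.Modules.restrictFunctorComp e.inv e.hom)
    ((Scheme.Modules.restrictFunctorComp e.hom e.inv).symm ≪≫
      Scheme.Modules.restrictFunctorCongr e.hom_inv_id ≪≫ Scheme.Modules.restrictFunctorId)

instance : (Scheme.Modules.restrictFunctor j).PreservesInjectiveObjects := by
  refine ⟨fun {I} hI => ?_⟩
  haveI := hI
  haveI := H16Derived.KFlat.Stalk.preservesFiniteLimits_extZero j.opensRange
  haveI : Injective ((Scheme.Modules.restrictFunctor j.opensRange.ι).obj I) :=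
    Injective.injective_of_adjoint (CxOX.extZeroAdj j.opensRange.ι) I
  haveI : Injective ((restrictEquiv j.isoOpensRange).functor.obj
      ((Scheme.Modules.restrictFunctor j.opensRange.ι).obj I)) :=
    Injective.injective_of_adjoint (restrictEquiv j.isoOpensRange).symm.toAdjunction _
  exact Injective.of_iso
    (((Scheme.Modules.restrictFunctorComp j.isoOpensRange.hom j.opensRange.ι).symm ≪≫
      Scheme.Modules.restrictFunctorCongr j.isoOpensRange_hom_ι).app I) this

instance : PreservesFiniteLimits (Scheme.Modules.restrictFunctor j) :=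
  have : (Scheme.Modules.restrictFunctor j).IsRightAdjoint := (CxOX.extZeroAdj j).isRightAdjoint
  inferInstance

instance : PreservesFiniteColimits (Scheme.Modules.restrictFunctor j) :=
  have := (Scheme.Modules.restrictAdjunction j).leftAdjoint_preservesColimits
  PreservesColimitsOfSize.preservesFiniteColimits.{0, 0} _

variable {M : Y.Modules} (R : InjectiveResolution M)

/-- `Γ_Z R ⟶ R ⟶ j_* j^* R`. -/
noncomputable def seq : ShortComplex (CochainComplex Y.Modules ℕ) :=
  ShortComplex.mk ((NatTrans.mapHomologicalComplex (incl j) _).app R.cocomplex)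
    ((NatTrans.mapHomologicalComplex (rest j) _).app R.cocomplex)
    (by ext n : 1; exact incl_rest j _)

theorem seq_shortExact : (seq j R).ShortExact := by
  refine HomologicalComplex.shortExact_of_degreewise_shortExact _ fun n => ?_
  haveI := R.injective n
  exact ShortComplex.ShortExact.mk'
    (ShortComplex.exact_of_f_is_kernel _ (kernelIsKernel _))
    (inferInstanceAs (Mono (kernel.ι ((Scheme.Modules.restrictAdjunction j).unit.app (R.cocomplex.X n)))))
    (epi_rest j (R.cocomplex.X n))

theorem isZero_homology_X₂ (q : ℕ) : IsZero ((seq j R).X₂.homology (q + 1)) := by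
  rw [← HomologicalComplex.exactAt_iff_isZero_homology]
  exact (R.cocomplex_exactAt_succ q).of_iso (Iso.refl _)

theorem isQCoh_homology_X₂_zero (hM : M.IsQuasicoherent) :
    ((seq j R).X₂.homology 0).IsQuasicoherent := by
  have e : M ≅ R.cocomplex.homology 0 :=
    ((HomologicalComplex.homologyFunctorSingleIso Y.Modules (ComplexShape.up ℕ) 0).app M).symm ≪≫
      isoOfQuasiIsoAt R.ι 0
  have e' : R.cocomplex ≅ (seq j R).X₂ := HomologicalComplex.Hom.isoOfComponents (fun _ => Iso.refl _)
  exact @H10Coh.isQuasicoherent_of_iso _ _ _ (e ≪≫ HomologicalComplex.homologyMapIso e' 0) hM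

variable [HasInjectiveResolutions Y.Modules]

theorem isQCoh_homology_X₃ [QuasiCompact j] (hM : M.IsQuasicoherent) (q : ℕ) :
    ((seq j R).X₃.homology q).IsQuasicoherent := by
  haveI := hM
  haveI : ((Scheme.Modules.restrictFunctor j).obj M).IsQuasicoherent :=
    Scheme.Modules.isQuasicoherent_restrictFunctor j M
  haveI : HasInjectiveResolutions U.Modules :=
    haveI := H10Coh.enoughInjMod (X := U); inferInstance
  let R' := mapResolution (Scheme.Modules.restrictFunctor j) R
  haveI := H10Coh.isQuasicoherent_rpush j ((Scheme.Modules.restrictFunctor j).obj M) q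
  exact H10Coh.isQuasicoherent_of_iso (R'.isoRightDerivedObj (Scheme.Modules.pushforward j) q)

/-- Local cohomology sheaves of quasi-coherent modules are quasi-coherent. -/
theorem isQCoh_HZshM [QuasiCompact j] (M : Y.Modules) (hM : Coh.IsQCoh M) (q : ℕ) :
    Coh.IsQCoh ((LocCohZ.HZshM j q).obj M) := by
  let R := injectiveResolution M
  have hS := seq_shortExact j R
  suffices h : ((seq j R).X₁.homology q).IsQuasicoherent from
    @H10Coh.isQuasicoherent_of_iso _ _ _ (R.isoRightDerivedObj (DCoh.gammaZ j) q).symm h
  haveI h₂ := isQCoh_homology_X₂_zero j R hM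
  have h₃ := isQCoh_homology_X₃ j R hM
  rcases q with _ | _ | q
  · haveI := h₃ 0
    haveI : Mono (HomologicalComplex.homologyMap (seq j R).f 0) := by
      haveI := hS.mono_f
      haveI : Mono ((seq j R).f.f 0) := inferInstance
      haveI : Mono (HomologicalComplex.cyclesMap (seq j R).f 0) :=
        mono_of_mono_fac (HomologicalComplex.cyclesMap_i (seq j R).f 0)
      have h1 : IsIso ((seq j R).X₁.homologyπ 0) :=
        (seq j R).X₁.isIso_homologyπ 0 0 (by simp) ((seq j R).X₁.shape 0 0 (by simp))
      have h2 : IsIso ((seq j R).X₂.homologyπ 0) :=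
        (seq j R).X₂.isIso_homologyπ 0 0 (by simp) ((seq j R).X₂.shape 0 0 (by simp))
      rw [← IsIso.inv_hom_id_assoc ((seq j R).X₁.homologyπ 0) (HomologicalComplex.homologyMap (seq j R).f 0),
        HomologicalComplex.homologyπ_naturality]
      infer_instance
    have hk := (hS.homology_exact₂ 0).fIsKernel
    haveI := H10Coh.isQuasicoherent_kernel (HomologicalComplex.homologyMap (seq j R).g 0)
    exact @H10Coh.isQuasicoherent_of_iso _ _ _ (hk.conePointUniqueUpToIso (kernelIsKernel _)).symm this
  · haveI := h₃ 0
    have hij : (ComplexShape.up ℕ).Rel 0 1 := by simp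
    haveI : Epi (hS.δ 0 1 hij) :=
      (hS.homology_exact₁ 0 1 hij).epi_f ((isZero_homology_X₂ j R 0).eq_of_tgt _ _)
    have hk := (hS.homology_exact₃ 0 1 hij).gIsCokernel
    haveI := H10Coh.isQuasicoherent_cokernel (HomologicalComplex.homologyMap (seq j R).g 0)
    exact @H10Coh.isQuasicoherent_of_iso _ _ _ ((cokernelIsCokernel _).coconePointUniqueUpToIso hk) this
  · haveI := h₃ (q + 1)
    exact H10Coh.isQuasicoherent_of_iso
      (hS.δIso (q + 1) (q + 1 + 1) (by simp) (isZero_homology_X₂ j R q) (isZero_homology_X₂ j R (q + 1)))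

end Groth.Agent.H15Site.LocCohQCoh
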