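import Groth.Agent.H15Site.LocCohVanish

/-!
# Sections of the first non-zero local cohomology sheaf

`nonempty_hom_HZsh_equiv`: if `ℋ^i_Z(F) = 0` for `i < d` then `Γ(V, ℋ^d_Z F) ≅ H^d_{V∩Z}(V, F)`.
-/

set_option autoImplicit false
set_option linter.style.haveILetI false
set_option linter.unusedSectionVars false
set_option backward.isDefEq.respectTransparency false

universe u

open CategoryTheory CategoryTheory.Limits Opposite TopologicalSpace
open CategoryTheory.Abelian LocCohZ Groth.Agent.H10Coh Groth.Agent.H16Derived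

namespace Groth.Agent.H15Site.LocCoh

variable {X : TopCat.{u}}

/-- Dimension shift, in iso form. -/
lemma nonempty_shift_iso {S : ShortComplex (CohTop.Ab X)} (hS : S.ShortExact)
    (G : CohTop.Ab X ⥤ CohTop.Ab X) [G.Additive] [PreservesFiniteLimits G] (i : ℕ)
    (h₂ : IsZero ((G.rightDerived i).obj S.X₂))
    (h₂' : IsZero ((G.rightDerived (i + 1)).obj S.X₂)) :
    Nonempty ((G.rightDerived i).obj S.X₃ ≅ (G.rightDerived (i + 1)).obj S.X₁) := by
  obtain ⟨T, hT, e₁, e₂, e₃, -⟩ := AcyclicLES.exists_les G S hS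
  exact ⟨(e₃ i).some ≪≫ hT.δIso (i : ℤ) ((i + 1 : ℕ) : ℤ) (by simp)
    (h₂.of_iso (e₂ i).some.symm) (h₂'.of_iso (e₂ (i + 1)).some.symm) ≪≫ (e₁ (i + 1)).some.symm⟩

/-- Sections of the first local cohomology sheaf that may be non-zero. -/
theorem nonempty_hom_HZsh_equiv (U : Opens X) : ∀ (d : ℕ) (F : CohTop.Ab X),
    (∀ i : ℕ, i < d → IsZero ((HZsh U i).obj F)) → ∀ V : Opens X,
      Nonempty ((Zsh V ⟶ (HZsh U d).obj F) ≃+ HZ F d (inf_le_left : V ⊓ U ≤ V)) := by
  intro d
  induction d with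
  | zero =>
    intro F _ V
    exact ⟨((sect V _).trans (((sheafToPresheaf _ _).mapIso
      ((sectSuppF U).rightDerivedZeroIsoSelf.app F)).app (op V)).addCommGroupIsoToAddEquiv).trans
      ((sect V _).symm.trans ((homEquiv U V F).trans Ext.addEquiv₀.symm))⟩
  | succ d ih =>
    intro F hF V
    have h0 := (isZero_HZsh_zero_iff U F).1 (hF 0 d.succ_pos)
    obtain ⟨S, hS, rfl, hI, hSI⟩ := exists_embedding U F h0
    obtain ⟨e⟩ := ih S.X₃ (fun i hi => isZero_rightDerived_X₃ hS (sectSuppF U) i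
      (isZero_HZsh_of_embedding hSI i) (hF (i + 1) (by omega))) V
    obtain ⟨φ⟩ := nonempty_shift_iso hS (sectSuppF U) d (isZero_HZsh_of_embedding hSI d)
      (isZero_HZsh_of_embedding hSI (d + 1))
    exact ⟨((sect V _).trans (((sheafToPresheaf _ _).mapIso φ.symm).app
      (op V)).addCommGroupIsoToAddEquiv).trans
      ((sect V _).symm.trans (e.trans (AddEquiv.ofBijective _ (bijective_extClass hS hSI V d))))⟩

/-- Global sections of the first local cohomology sheaf that may be non-zero. -/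
theorem nonempty_top_HZsh_equiv (U : Opens X) (d : ℕ) (F : CohTop.Ab X)
    (hF : ∀ i : ℕ, i < d → IsZero ((HZsh U i).obj F)) :
    Nonempty (((HZsh U d).obj F).obj.obj (op ⊤) ≃+ HZc F d U) := by
  obtain ⟨e⟩ := nonempty_hom_HZsh_equiv U d F hF ⊤
  have key : ∀ (W : Opens X) (h : W ≤ (⊤ : Opens X)), W = U →
      Nonempty (HZ F d h ≃+ HZc F d U) := by
    rintro W h rfl
    exact ⟨AddEquiv.refl _⟩
  obtain ⟨e'⟩ := key _ (inf_le_left : ⊤ ⊓ U ≤ ⊤) (top_inf_eq U)
  exact ⟨(sect ⊤ _).symm.trans (e.trans e')⟩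

end Groth.Agent.H15Site.LocCoh
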