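import Groth.Agent.H15Site.LocGen
import Mathlib.Algebra.Category.ModuleCat.Sheaf.Quasicoherent

/-!
# Finite presentation of sheaves of modules on a site, through sections

`Rel s r`: the relations `r` generate the relations of `s`; `isFinitePresentation_iff`;
`exists_descMor`: maps out of `F|_U` from the generators.
-/

universe u

open CategoryTheory CategoryTheory.Limits Opposite

set_option linter.style.haveILetI false
set_option backward.isDefEq.respectTransparency false

namespace Groth.Agent.H15Site.LocFP

open ModTensor ModRel LocGen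

attribute [local instance 10000] SiteInst.hasSheafifySite SiteInst.hasWeakSheafifySite

variable {C : Type u} [SmallCategory C] {J : GrothendieckTopology C} {O : Sheaf J CommRingCat.{u}}
  {U : C} {F G : ModSite.Mod O}

variable (O U) in
/-- The free module of `C/U`. -/
noncomputable abbrev fr' (I : Type u) : ModSite.Mod (O.over U) :=
  SheafOfModules.free (R := ModSite.ringSh (O.over U)) I

/-- A basis section. -/
noncomputable def e {I : Type u} (i : I) {W : Over U} (r : O.obj.obj (op W.left)) :
    ((fr' O U I).val.obj (op W) : Type u) :=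
  ((SheafOfModules.ιFree (R := ModSite.ringSh (O.over U)) i).val.app (op W)).hom r

open Classical in
/-- The projections of a free module. -/
noncomputable def proj {I : Type u} (i : I) :
    fr' O U I ⟶ SheafOfModules.unit (ModSite.ringSh (O.over U)) :=
  Sigma.desc fun j => if j = i then 𝟙 _ else 0

lemma proj_app_e {I : Type u} [DecidableEq I] (i j : I) {W : Over U} (r : O.obj.obj (op W.left)) :
    ((proj (O := O) (U := U) i).val.app (op W)).hom (e j r) = if j = i then r else 0 := by
  have h : SheafOfModules.ιFree (R := ModSite.ringSh (O.over U)) j ≫ proj i =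
      if j = i then 𝟙 _ else 0 :=
    (Sigma.ι_desc (f := fun _ : I => SheafOfModules.unit (ModSite.ringSh (O.over U))) _ j).trans
      (by congr)
  refine (congrArg (fun ψ : SheafOfModules.unit (ModSite.ringSh (O.over U)) ⟶
      SheafOfModules.unit (ModSite.ringSh (O.over U)) => (ψ.val.app (op W)).hom r) h).trans ?_
  split <;> rfl

/-- Coefficients are unique. -/
theorem coeff_eq {I : Type u} [Fintype I] {W : Over U} {c d : I → O.obj.obj (op W.left)}
    (h : ∑ i, e (O := O) i (c i) = ∑ i, e i (d i)) : c = d := by
  classical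
  funext i
  have hh := congrArg ((proj (O := O) (U := U) i).val.app (op W)).hom h
  rw [map_sum, map_sum] at hh
  simp only [proj_app_e] at hh
  simpa using hh

theorem exists_sum_e {I : Type u} [Fintype I] {W : Over U} (z : ((fr' O U I).val.obj (op W) : Type u)) :
    ∃ c : I → O.obj.obj (op W.left), z = ∑ i, e i (c i) :=
  exists_coeff (W := op W) z

lemma genMor_e {I : Type u} (s : I → ((forg O).obj F).obj (op U)) (i : I) {W : Over U}
    (r : O.obj.obj (op W.left)) :
    ((genMor s).val.app (op W)).hom (e i r) = r • rs ((forg O).obj F) W.hom.op (s i) :=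
  ιFree_genMor_app s i r

/-- Maps out of a free module agree if they agree on the basis. -/
theorem hom_ext_free {I : Type u} {M : ModSite.Mod (O.over U)} (ψ ψ' : fr' O U I ⟶ M)
    (h : ∀ (i : I) (W : Over U), (ψ.val.app (op W)).hom (e i 1) = (ψ'.val.app (op W)).hom (e i 1)) :
    ψ = ψ' := by
  refine M.freeHomEquiv.injective (funext fun i => Subtype.ext (funext fun W => ?_))
  exact h i W.unop

/-- Multiplication of a basis section by a scalar. -/
lemma smul_e {I : Type u} (i : I) {W : Over U} (r r' : O.obj.obj (op W.left)) :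
    (r • e i r' : ((fr' O U I).val.obj (op W) : Type u)) = e i (r * r') :=
  (((SheafOfModules.ιFree (R := ModSite.ringSh (O.over U)) i).val.app (op W)).hom.map_smul r r').symm

/-- A matrix as a map of free modules. -/
noncomputable def matMor {I K : Type u} [Fintype K] (a : I → K → O.obj.obj (op U)) :
    fr' O U I ⟶ fr' O U K :=
  Sigma.desc fun i => ∑ k,
    (((ModSite.restr O U).obj (ModSite.unit O)).unitHomEquiv.symm (restrSection (a i k)) :
      SheafOfModules.unit (ModSite.ringSh (O.over U)) ⟶
        SheafOfModules.unit (ModSite.ringSh (O.over U))) ≫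
      SheafOfModules.ιFree (R := ModSite.ringSh (O.over U)) k

lemma matMor_e {I K : Type u} [Fintype K] (a : I → K → O.obj.obj (op U)) (i : I) {W : Over U}
    (r : O.obj.obj (op W.left)) :
    ((matMor a).val.app (op W)).hom (e i r) = ∑ k, e k (r * rr O W.hom.op (a i k)) := by
  have h : SheafOfModules.ιFree (R := ModSite.ringSh (O.over U)) i ≫ matMor a = _ :=
    Sigma.ι_desc (f := fun _ : I => SheafOfModules.unit (ModSite.ringSh (O.over U))) _ i
  refine (congrArg (fun ψ : SheafOfModules.unit (ModSite.ringSh (O.over U)) ⟶ fr' O U K =>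
      (ψ.val.app (op W)).hom r) h).trans ?_
  let ev : (SheafOfModules.unit (ModSite.ringSh (O.over U)) ⟶ fr' O U K) →+
      ((fr' O U K).val.obj (op W) : Type u) :=
    AddMonoidHom.mk' (fun f => (f.val.app (op W)).hom r) fun _ _ => rfl
  exact map_sum ev _ _

/-- `r` generates the relations between the sections `s`. -/
structure Rel {I K : Type*} [Fintype I] [Fintype K] (s : I → ((forg O).obj F).obj (op U))
    (r : K → I → O.obj.obj (op U)) : Prop where
  zero : ∀ k, ∑ i, r k i • s i = 0
  complete : ∀ ⦃V : C⦄ (g : V ⟶ U) (c : I → O.obj.obj (op V)),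
    ∑ i, c i • rs ((forg O).obj F) g.op (s i) = 0 →
      ∃ S ∈ J V, ∀ ⦃W : C⦄ (h : W ⟶ V), S h → ∃ d : K → O.obj.obj (op W),
        ∀ i, rr O h.op (c i) = ∑ k, d k * rr O (h ≫ g).op (r k i)

/-- Restriction of relations. -/
theorem Rel.restrict {I K : Type*} [Fintype I] [Fintype K] {s : I → ((forg O).obj F).obj (op U)}
    {r : K → I → O.obj.obj (op U)} (hr : Rel s r) {U' : C} (q : U' ⟶ U) :
    Rel (fun i => rs ((forg O).obj F) q.op (s i)) fun k i => rr O q.op (r k i) where
  zero k := by
    have := congrArg (rs ((forg O).obj F) q.op) (hr.zero k)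
    rw [rs_sum, rs_zero] at this
    simpa only [rs_smul'] using this
  complete V g c hc := by
    simp only [rs_rs, ← op_comp] at hc
    obtain ⟨S, hS, hS'⟩ := hr.complete (g ≫ q) c hc
    refine ⟨S, hS, fun W h hh => ?_⟩
    obtain ⟨d, hd⟩ := hS' h hh
    refine ⟨d, fun i => (hd i).trans (Finset.sum_congr rfl fun k _ => ?_)⟩
    rw [rr_rr, ← op_comp, Category.assoc]

/-- A section killed by `f` comes from the kernel. -/
theorem exists_kernel_lift {M N : ModSite.Mod (O.over U)} (f : M ⟶ N) {W : (Over U)ᵒᵖ}
    (z : (M.val.obj W : Type u)) (hz : (f.val.app W).hom z = 0) :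
    ∃ y : ((kernel f).val.obj W : Type u), ((kernel.ι f).val.app W).hom y = z := by
  let E := SheafOfModules.forget (ModSite.ringSh (O.over U)) ⋙
    PresheafOfModules.evaluation _ W
  let S := ShortComplex.mk (kernel.ι f) f (kernel.condition f)
  have hS : S.Exact := ShortComplex.exact_kernel f
  have : PreservesLimit (parallelPair S.g 0) E := inferInstance
  have h := hS.map_of_mono_of_preservesKernel E (inferInstanceAs (Mono (kernel.ι f))) this
  exact (ShortComplex.moduleCat_exact_iff _).1 h z hz

/-- Maps out of `F|_U` are determined on generators. -/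
theorem exists_descMor {I K : Type u} [Fintype I] [Fintype K] {s : I → ((forg O).obj F).obj (op U)}
    (hs : Gen s) {r : K → I → O.obj.obj (op U)} (hr : Rel s r) {T : ModSite.Mod (O.over U)}
    (A : fr' O U I ⟶ T)
    (hA : ∀ (k : K) (W : Over U), (A.val.app (op W)).hom (∑ i, e i (rr O W.hom.op (r k i))) = 0) :
    ∃ a : (ModSite.restr O U).obj F ⟶ T, genMor s ≫ a = A := by
  haveI := (epi_genMor_iff s).2 hs
  have key : kernel.ι (genMor s) ≫ A = 0 := by
    ext W y
    obtain ⟨W⟩ := W
    show (A.val.app (op W)).hom (((kernel.ι (genMor s)).val.app (op W)).hom y) = 0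
    obtain ⟨c, hc⟩ := exists_sum_e (((kernel.ι (genMor s)).val.app (op W)).hom y)
    have h0 : ((genMor s).val.app (op W)).hom (((kernel.ι (genMor s)).val.app (op W)).hom y) = 0 :=
      congrArg (fun ψ : kernel (genMor s) ⟶ (ModSite.restr O U).obj F => (ψ.val.app (op W)).hom y)
        (kernel.condition (genMor s))
    rw [hc] at h0 ⊢
    rw [map_sum] at h0
    simp only [genMor_e] at h0
    obtain ⟨S, hS, hS'⟩ := hr.complete W.hom c h0
    refine separated_forg T (X := op W) ((Sieve.overEquiv W).symm S) ((J.mem_over_iff _).2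
      (by simpa using hS)) _ 0 fun Z h hh => ?_
    obtain ⟨d, hd⟩ := hS' h.left ((Sieve.overEquiv_symm_iff S h).1 hh)
    rw [rs_zero]
    refine (rs_app ((forg (O.over U)).map A) h.op _).symm.trans ?_
    show (A.val.app (op Z)).hom _ = _
    have e1 : rs ((forg (O.over U)).obj (fr' O U I)) h.op (∑ i, e i (c i)) =
        ∑ k, d k • ∑ i, e i (rr O Z.hom.op (r k i)) := by
      rw [rs_sum]
      simp only [Finset.smul_sum]
      rw [Finset.sum_comm]
      refine Finset.sum_congr rfl fun i _ => ?_
      refine (rs_app ((forg (O.over U)).map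
        (SheafOfModules.ιFree (R := ModSite.ringSh (O.over U)) i)) h.op (c i)).symm.trans ?_
      show e i (rr O h.left.op (c i)) = _
      rw [hd i]
      refine (map_sum _ _ _).trans (Finset.sum_congr rfl fun k _ => ?_)
      rw [Over.w h]
      exact (smul_e i _ _).symm
    refine (congrArg (A.val.app (op Z)).hom e1).trans ?_
    rw [map_sum]
    refine Finset.sum_eq_zero fun k _ => ?_
    refine ((A.val.app (op Z)).hom.map_smul _ _).trans ?_
    rw [hA k Z]
    exact smul_zero _
  exact ⟨Abelian.epiDesc (genMor s) A key, Abelian.comp_epiDesc _ _ _⟩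

/-- Relations from a finite kernel presentation. -/
theorem exists_rel {I K : Type u} [Fintype I] [Fintype K] (s : I → ((forg O).obj F).obj (op U))
    (κ : fr' O U K ⟶ kernel (genMor s)) [Epi κ] :
    ∃ r : K → I → O.obj.obj (op U), Rel s r := by
  let ψ : fr' O U K ⟶ fr' O U I := κ ≫ kernel.ι (genMor s)
  let W₀ : Over U := Over.mk (𝟙 _)
  choose r hr using fun k => exists_sum_e ((ψ.val.app (op W₀)).hom (e k 1))
  have hψ : ψ ≫ genMor s = 0 := by
    show (κ ≫ kernel.ι (genMor s)) ≫ genMor s = 0
    rw [Category.assoc, kernel.condition, comp_zero]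
  have hψe : ∀ (k : K) (W : Over U),
      (ψ.val.app (op W)).hom (e k 1) = ∑ j, e j (rr O W.hom.op (r k j)) := fun k W => by
    let a : W ⟶ W₀ := Over.homMk W.hom (Category.comp_id _)
    have h1 : rs ((forg (O.over U)).obj (fr' O U K)) a.op (e k 1) = e k 1 := by
      refine (rs_app ((forg (O.over U)).map
        (SheafOfModules.ιFree (R := ModSite.ringSh (O.over U)) k)) a.op (1 : O.obj.obj _)).symm.trans ?_
      exact congrArg (e k) (map_one (O.obj.map a.left.op).hom)
    have h2 := rs_app ((forg (O.over U)).map ψ) a.op (e k 1)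
    rw [h1] at h2
    refine h2.trans ((congrArg (rs ((forg (O.over U)).obj (fr' O U I)) a.op) (hr k)).trans ?_)
    rw [rs_sum]
    refine Finset.sum_congr rfl fun j _ => ?_
    exact (rs_app ((forg (O.over U)).map
      (SheafOfModules.ιFree (R := ModSite.ringSh (O.over U)) j)) a.op (r k j)).symm
  refine ⟨r, ⟨fun k => ?_, fun V g c hc => ?_⟩⟩
  · have h1 := congrArg (fun f : fr' O U K ⟶ (ModSite.restr O U).obj F =>
      (f.val.app (op W₀)).hom (e k 1)) hψ
    change ((genMor s).val.app (op W₀)).hom ((ψ.val.app (op W₀)).hom (e k 1)) = 0 at h1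
    rw [hr k, map_sum] at h1
    simp only [genMor_e] at h1
    refine Eq.trans (Finset.sum_congr rfl fun j _ => ?_) h1
    exact congrArg (r k j • ·) (rs_id _ _).symm
  · let W : Over U := Over.mk g
    have hz : ((genMor s).val.app (op W)).hom (∑ j, e j (c j)) = 0 := by
      refine (map_sum _ _ _).trans ?_
      simp only [genMor_e]
      exact hc
    obtain ⟨y, hy⟩ := exists_kernel_lift (genMor s) _ hz
    obtain ⟨S, hS, hS'⟩ := (epi_iff_locSurj κ).1 inferInstance W y
    refine ⟨Sieve.overEquiv _ S, hS, fun Z a ha => ?_⟩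
    let b : Over.mk (a ≫ g) ⟶ W := Over.homMk a
    obtain ⟨z, hz'⟩ := hS' b ((Sieve.overEquiv_iff S a).1 ha)
    obtain ⟨d, rfl⟩ : ∃ d : K → O.obj.obj (op Z), z = ∑ k, e (W := Over.mk (a ≫ g)) k (d k) :=
      exists_sum_e (W := Over.mk (a ≫ g)) z
    refine ⟨d, congrFun (coeff_eq (W := Over.mk (a ≫ g)) (c := fun j => rr O a.op (c j))
      (d := fun j => ∑ k, d k * rr O (a ≫ g).op (r k j)) ?_)⟩
    have e1 := congrArg ((kernel.ι (genMor s)).val.app (op (Over.mk (a ≫ g)))).hom hz'
    change (ψ.val.app (op (Over.mk (a ≫ g)))).hom (∑ k, e k (d k)) =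
      ((forg (O.over U)).map (kernel.ι (genMor s))).app (op (Over.mk (a ≫ g))) _ at e1
    erw [rs_app ((forg (O.over U)).map (kernel.ι (genMor s))) b.op y] at e1
    change _ = rs ((forg (O.over U)).obj (fr' O U I)) b.op
      (((kernel.ι (genMor s)).val.app (op W)).hom y) at e1
    rw [hy, map_sum, rs_sum] at e1
    refine Eq.trans (Finset.sum_congr rfl fun j _ => ?_) (e1.symm.trans ?_)
    · exact rs_app ((forg (O.over U)).map
        (SheafOfModules.ιFree (R := ModSite.ringSh (O.over U)) j)) b.op (c j)
    · calc ∑ k, (ψ.val.app (op (Over.mk (a ≫ g)))).hom (e k (d k))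
          = ∑ k, d k • ∑ j, e j (rr O (a ≫ g).op (r k j)) := by
            refine Finset.sum_congr rfl fun k _ => ?_
            have hd : ∀ x : O.obj.obj (op (Over.mk (a ≫ g)).left),
                e (O := O) (W := Over.mk (a ≫ g)) k x = x • e k 1 :=
              fun x => ((smul_e k x 1).trans (congrArg (e k) (mul_one _))).symm
            refine (congrArg _ (hd (d k))).trans (((ψ.val.app _).hom.map_smul _ _).trans ?_)
            rw [hψe]
            rfl
        _ = ∑ j, e j (∑ k, d k * rr O (a ≫ g).op (r k j)) := by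
            simp only [Finset.smul_sum]
            rw [Finset.sum_comm]
            refine Finset.sum_congr rfl fun j _ => ?_
            refine Eq.trans (Finset.sum_congr rfl fun k _ => smul_e j _ _) ?_
            exact (map_sum _ _ _).symm

variable (F) in
/-- A finitely presented module has, on a covering, generators and complete relations. -/
theorem exists_pres [h : SheafOfModules.IsFinitePresentation (R := ModSite.ringSh O) F] :
    ∃ (ι : Type u) (X : ι → C), J.CoversTop X ∧
      ∀ i, ∃ (I K : Type u) (_ : Fintype I) (_ : Fintype K)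
        (s : I → ((forg O).obj F).obj (op (X i))) (r : K → I → O.obj.obj (op (X i))),
        Gen s ∧ Rel s r := by
  obtain ⟨D, hD⟩ := h.exists_quasicoherentData
  refine ⟨D.I, D.X, D.coversTop, fun i => ?_⟩
  have hP : (D.presentation i).IsFinite := hD.isFinite_presentation i
  haveI := hP.isFiniteType_generators.finite
  haveI := hP.isFiniteType_relations.finite
  letI hI := Fintype.ofFinite (D.presentation i).generators.I
  letI hK := Fintype.ofFinite (D.presentation i).relations.I
  obtain ⟨s, hs⟩ := exists_eq_genMor (F := F) (U := D.X i) (D.presentation i).generators.π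
  let eK : kernel (D.presentation i).generators.π ≅ kernel (genMor s) :=
    kernel.mapIso _ _ (Iso.refl _) (Iso.refl _) (by rw [hs]; simp)
  let κ : fr' O (D.X i) (D.presentation i).relations.I ⟶ kernel (genMor s) :=
    (D.presentation i).relations.π ≫ eK.hom
  haveI : Epi κ := epi_comp _ _
  obtain ⟨r, hr⟩ := exists_rel s κ
  exact ⟨_, _, hI, hK, s, r, (epi_genMor_iff s).1 (hs ▸ (D.presentation i).generators.epi), hr⟩

end Groth.Agent.H15Site.LocFP
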