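import Groth.Agent.H15Site.LocGen
import Groth.Prelude.Def_AlgSpPerf

/-!
# Local lifts of maps out of direct summands of finite free modules
-/

universe u

open CategoryTheory CategoryTheory.Limits Opposite

set_option linter.style.haveILetI false
set_option backward.isDefEq.respectTransparency false

namespace Groth.Agent.H15Site.LocLift

open ModTensor ModRel LocGen

attribute [local instance 10000] SiteInst.hasSheafifySite SiteInst.hasWeakSheafifySite

variable {C : Type u} [SmallCategory C] {J : GrothendieckTopology C} {O : Sheaf J CommRingCat.{u}}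

/-- Multiplication of a section: `O_W ⟶ F|_W`. -/
noncomputable def secMor {F : ModSite.Mod O} {W : C} (z : ((forg O).obj F).obj (op W)) :
    (ModSite.restr O W).obj (SheafOfModules.unit (ModSite.ringSh O)) ⟶ (ModSite.restr O W).obj F :=
  ((ModSite.restr O W).obj F).unitHomEquiv.symm (restrSection z)

lemma secMor_app {F : ModSite.Mod O} {W : C} (z : ((forg O).obj F).obj (op W)) {Z : Over W}
    (r : O.obj.obj (op Z.left)) :
    ((secMor z).val.app (op Z)).hom r = r • rs ((forg O).obj F) Z.hom.op z :=
  rfl

/-- The identity of a finite free module is the sum of projection-inclusions. -/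
theorem exists_proj (I : Type u) [Fintype I] :
    ∃ p : I → (SheafOfModules.free (R := ModSite.ringSh O) I ⟶ SheafOfModules.unit (ModSite.ringSh O)),
      ∑ i, p i ≫ SheafOfModules.ιFree i = 𝟙 _ := by
  classical
  let p : I → (SheafOfModules.free (R := ModSite.ringSh O) I ⟶ SheafOfModules.unit (ModSite.ringSh O)) :=
    fun i => Sigma.desc fun j => if j = i then 𝟙 _ else 0
  have hι : ∀ i j, SheafOfModules.ιFree (R := ModSite.ringSh O) j ≫ p i = if j = i then 𝟙 _ else 0 :=
    fun i j => Sigma.ι_desc (f := fun _ : I => SheafOfModules.unit (ModSite.ringSh O)) _ j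
  refine ⟨p, Sigma.hom_ext _ _ fun j => ?_⟩
  change SheafOfModules.ιFree (R := ModSite.ringSh O) j ≫ _ = SheafOfModules.ιFree (R := ModSite.ringSh O) j ≫ _
  rw [Preadditive.comp_sum, Category.comp_id, Finset.sum_eq_single j]
  · rw [← Category.assoc, hι, if_pos rfl, Category.id_comp]
  · intro b _ hb
    rw [← Category.assoc, hι, if_neg (Ne.symm hb), zero_comp]
  · simp

/-- A map out of a direct summand of a finite free module lifts locally through an epimorphism. -/
theorem exists_local_lift {E F G : ModSite.Mod O}
    (hE : DCoh.IsFinFreeSummandMod (ModSite.ringSh O) E) (p : G ⟶ F) [Epi p] (φ : E ⟶ F) (V : C) :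
    ∃ R ∈ J V, ∀ ⦃W : C⦄ (g : W ⟶ V), R g →
      ∃ l : (ModSite.restr O W).obj E ⟶ (ModSite.restr O W).obj G,
        l ≫ (ModSite.restr O W).map p = (ModSite.restr O W).map φ := by
  obtain ⟨n, i, r, hir⟩ := hE
  obtain ⟨π, hπ⟩ := exists_proj (O := O) (ULift.{u} (Fin n))
  let ψ := r ≫ φ
  let t : ULift.{u} (Fin n) → ((forg O).obj F).obj (op V) := fun j =>
    ((SheafOfModules.ιFree j ≫ ψ).val.app (op V)).hom (1 : O.obj.obj (op V))
  choose S hS hS' using fun j => (epi_iff_locSurj p).1 inferInstance V (t j)
  refine ⟨Finset.univ.inf S, ?_, fun W g hg => ?_⟩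
  · exact Finset.inf_induction (J.top_mem V) (fun _ ha _ hb => J.intersection_covering ha hb)
      (fun j _ => hS j)
  · have hgj : ∀ j, S j g := fun j =>
      (Finset.inf_le (Finset.mem_univ j) : Finset.univ.inf S ≤ S j) _ hg
    choose z hz using fun j => hS' j g (hgj j)
    refine ⟨(ModSite.restr O W).map i ≫
      ∑ j, (ModSite.restr O W).map (π j) ≫ secMor (z j), ?_⟩
    have hψ : ∀ (j : ULift.{u} (Fin n)) {X : C} (a : X ⟶ V) (c : O.obj.obj (op X)),
        ((SheafOfModules.ιFree j ≫ ψ).val.app (op X)).hom c = c • rs ((forg O).obj F) a.op (t j) := by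
      intro j X a c
      have h1 := rs_app ((forg O).map (SheafOfModules.ιFree j ≫ ψ)) a.op (1 : O.obj.obj (op V))
      rw [show rs ((forg O).obj (SheafOfModules.unit (ModSite.ringSh O))) a.op
        (1 : O.obj.obj (op V)) = (1 : O.obj.obj (op X)) from map_one (O.obj.map a.op).hom] at h1
      refine Eq.trans ?_ (congrArg (c • ·) h1)
      refine Eq.trans ?_ (((SheafOfModules.ιFree j ≫ ψ).val.app (op X)).hom.map_smul c _)
      exact congrArg _ (mul_one c).symm
    have key : (∑ j, (ModSite.restr O W).map (π j) ≫ secMor (z j)) ≫ (ModSite.restr O W).map p =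
        (ModSite.restr O W).map ψ := by
      have h2 : ∀ j, secMor (z j) ≫ (ModSite.restr O W).map p =
          (ModSite.restr O W).map (SheafOfModules.ιFree j ≫ ψ) := by
        intro j
        refine ((ModSite.restr O W).obj F).unitHomEquiv.injective (Subtype.ext (funext fun Z => ?_))
        obtain ⟨Z⟩ := Z
        let c : O.obj.obj (op Z.left) := 1
        show (p.val.app (op Z.left)).hom (((secMor (z j)).val.app (op Z)).hom c) =
          ((SheafOfModules.ιFree j ≫ ψ).val.app (op Z.left)).hom c
        rw [secMor_app, hψ j (Z.hom ≫ g) c]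
        refine ((p.val.app _).hom.map_smul _ _).trans (congrArg (c • ·) ?_)
        refine (rs_app ((forg O).map p) Z.hom.op (z j)).trans ?_
        exact (congrArg (rs ((forg O).obj F) Z.hom.op) (hz j)).trans (by rw [rs_rs, ← op_comp])
      haveI : (ModSite.restr O W).Additive := ⟨rfl⟩
      simp only [Preadditive.sum_comp, Category.assoc, h2, ← Functor.map_comp]
      rw [← Functor.map_sum]
      refine congrArg _ ?_
      simp only [← Category.assoc, ← Preadditive.sum_comp, hπ, Category.id_comp]
    rw [Category.assoc, key, ← Functor.map_comp]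
    show (ModSite.restr O W).map (i ≫ r ≫ φ) = _
    rw [← Category.assoc, hir, Category.id_comp]

end Groth.Agent.H15Site.LocLift
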