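import Groth.Agent.H15Site.SieveAcyclic
import Groth.Agent.H15Site.TorsionFree
import Mathlib.CategoryTheory.Sites.ConstantSheaf

/-!
# First cohomology of constant torsion-free sheaves has no torsion for locally nonzero integers
-/

set_option autoImplicit false
set_option linter.style.haveILetI false
set_option linter.unusedSectionVars false
set_option backward.isDefEq.respectTransparency false
set_option backward.isDefEq.respectTransparency.types false

universe u

open CategoryTheory CategoryTheory.Limits Opposite CategoryTheory.Abelian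

namespace Groth.Agent.H15Site.LocNonzero

open SieveAcyclic

attribute [local instance 10000] SiteInst.hasSheafifySite SiteInst.hasWeakSheafifySite
  SiteInst.hasExtSite SiteInst.enoughInjSite

variable {C : Type u} [SmallCategory C] {J : GrothendieckTopology C}

/-- The constant sheaf. -/
noncomputable abbrev cst (J : GrothendieckTopology C) (A : AddCommGrpCat.{u}) : Sheaf J AddCommGrpCat.{u} :=
  (constantSheaf J AddCommGrpCat.{u}).obj A

/-- The constant sections. -/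
noncomputable def cs {A : AddCommGrpCat.{u}} (V : C) : A →+ (cst J A).obj.obj (op V) :=
  ((toSheafify J ((Functor.const Cᵒᵖ).obj A)).app (op V)).hom

theorem res_cs {A : AddCommGrpCat.{u}} {V W : C} (g : W ⟶ V) (a : A) :
    (cst J A).obj.map g.op (cs V a) = cs W a :=
  (ConcreteCategory.congr_hom ((toSheafify J ((Functor.const Cᵒᵖ).obj A)).naturality g.op) a).symm

theorem res_res (F : Sheaf J AddCommGrpCat.{u}) {V W W' : C} (g : W ⟶ V) (h : W' ⟶ W) (s : F.obj.obj (op V)) :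
    F.obj.map h.op (F.obj.map g.op s) = F.obj.map (h ≫ g).op s :=
  (ConcreteCategory.congr_hom (F.obj.map_comp g.op h.op) s).symm

theorem loc_const {A : AddCommGrpCat.{u}} {V : C} (s : (cst J A).obj.obj (op V)) :
    ∃ S ∈ J V, ∀ {W : C} (g : W ⟶ V), S g → ∃ a : A, (cst J A).obj.map g.op s = cs W a := by
  haveI : Presheaf.IsLocallySurjective J (toSheafify J ((Functor.const Cᵒᵖ).obj A)) := inferInstance
  refine ⟨_, Presheaf.imageSieve_mem J (toSheafify J ((Functor.const Cᵒᵖ).obj A)) s, fun {W} g hg => ?_⟩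
  obtain ⟨a, ha⟩ := hg
  exact ⟨a, ha.symm⟩

theorem loc_eq {A : AddCommGrpCat.{u}} {V : C} (a b : A) (h : cs (J := J) V a = cs V b) :
    ∃ S ∈ J V, ∀ {W : C} (g : W ⟶ V), S g → a = b := by
  haveI : Presheaf.IsLocallyInjective J (toSheafify J ((Functor.const Cᵒᵖ).obj A)) := inferInstance
  refine ⟨_, Presheaf.equalizerSieve_mem J (toSheafify J ((Functor.const Cᵒᵖ).obj A))
    (X := op V) a b h, fun {W} g hg => ?_⟩
  exact hg

theorem tf_cst {A : Type u} [AddCommGroup A] (hA : ∀ (m : ℤ) (a : A), m ≠ 0 → m • a = 0 → a = 0) :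
    TorsionFree.TF (cst J (AddCommGrpCat.of A)) := by
  intro n hn
  haveI : ∀ X, Mono ((n • 𝟙 ((Functor.const Cᵒᵖ).obj (AddCommGrpCat.of A))).app X) := fun X => by
    rw [AddCommGrpCat.mono_iff_injective]
    intro (a : A) (b : A) (hab : n • a = n • b)
    exact sub_eq_zero.1 (hA n _ hn (by rw [smul_sub, hab, sub_self]))
  haveI : Mono (n • 𝟙 ((Functor.const Cᵒᵖ).obj (AddCommGrpCat.of A))) := NatTrans.mono_of_mono_app _
  show Mono (n • 𝟙 ((presheafToSheaf J AddCommGrpCat.{u}).obj ((Functor.const Cᵒᵖ).obj (AddCommGrpCat.of A))))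
  rw [← (presheafToSheaf J AddCommGrpCat.{u}).map_id, ← Functor.map_zsmul]
  infer_instance

/-- A map out of the constant sheaf `ℤ` from a compatible family. -/
theorem exists_ofFam (F : Sheaf J AddCommGrpCat.{u}) (y : ∀ V : C, F.obj.obj (op V))
    (hy : ∀ {V W : C} (g : W ⟶ V), F.obj.map g.op (y V) = y W) :
    ∃ f : cst J (AddCommGrpCat.of (ULift.{u} ℤ)) ⟶ F, ∀ (V : C), f.hom.app (op V) (cs V ⟨1⟩) = y V := by
  let η : (Functor.const Cᵒᵖ).obj (AddCommGrpCat.of (ULift.{u} ℤ)) ⟶ F.obj :=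
    { app := fun V => AddCommGrpCat.ofHom (((zmultiplesHom _) (y V.unop)).comp AddEquiv.ulift.toAddMonoidHom)
      naturality := fun V W g => by
        refine AddCommGrpCat.hom_ext (AddMonoidHom.ext fun k => ?_)
        show k.down • y W.unop = (F.obj.map g).hom (k.down • y V.unop)
        rw [map_zsmul]
        exact congrArg (k.down • ·) (hy g.unop).symm }
  refine ⟨((sheafificationAdjunction J AddCommGrpCat.{u}).homEquiv _ F).symm η, fun V => ?_⟩
  refine (ConcreteCategory.congr_hom (congr_app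
    (((sheafificationAdjunction J AddCommGrpCat.{u}).homEquiv _ F).apply_symm_apply η) (op V)) ⟨1⟩).trans ?_
  exact one_smul ℤ _

theorem hom_ext_cst {F : Sheaf J AddCommGrpCat.{u}} {f g : cst J (AddCommGrpCat.of (ULift.{u} ℤ)) ⟶ F}
    (h : ∀ V, f.hom.app (op V) (cs V ⟨1⟩) = g.hom.app (op V) (cs V ⟨1⟩)) : f = g := by
  refine ((sheafificationAdjunction J AddCommGrpCat.{u}).homEquiv _ F).injective ?_
  refine NatTrans.ext (funext fun V => AddCommGrpCat.hom_ext (AddMonoidHom.ext fun k => ?_))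
  have hk : k = k.down • (⟨1⟩ : ULift.{u} ℤ) := ULift.ext _ _ (by simp)
  rw [hk]
  exact (map_zsmul (((sheafificationAdjunction J AddCommGrpCat.{u}).homEquiv _ F f).app V).hom _ _).trans
    ((congrArg (k.down • ·) (h V.unop)).trans
      (map_zsmul (((sheafificationAdjunction J AddCommGrpCat.{u}).homEquiv _ F g).app V).hom _ _).symm)

section

variable {ι : Type u} (U : ι → C) (n : ι → ℤ)
  (φ : cst J (AddCommGrpCat.of (ULift.{u} ℤ)) ⟶ cst J (AddCommGrpCat.of (ULift.{u} ℤ)))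
  (hφ : ∀ (i : ι) (V : C) (_ : V ⟶ U i), φ.hom.app (op V) = n i • 𝟙 _)

include hφ in
theorem cs_n_eq {i j : ι} {W : C} (a : W ⟶ U i) (b : W ⟶ U j) :
    cs (J := J) (A := AddCommGrpCat.of (ULift.{u} ℤ)) W ⟨n i⟩ =
      cs (A := AddCommGrpCat.of (ULift.{u} ℤ)) W ⟨n j⟩ := by
  have h := ConcreteCategory.congr_hom ((hφ i W a).symm.trans (hφ j W b)) (cs (A := AddCommGrpCat.of (ULift.{u} ℤ)) W ⟨1⟩)
  have e : ∀ m : ℤ, (⟨m⟩ : ULift.{u} ℤ) = m • ⟨1⟩ := fun m => ULift.ext _ _ (by simp)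
  rw [e (n i), e (n j), map_zsmul, map_zsmul]
  exact h

include hφ in
theorem smul_n_eq {i j : ι} (F : Sheaf J AddCommGrpCat.{u}) {W : C} (a : W ⟶ U i) (b : W ⟶ U j)
    (s : F.obj.obj (op W)) : n i • s = n j • s := by
  obtain ⟨S, hS, h⟩ := loc_eq _ _ (cs_n_eq U n φ hφ a b)
  refine eq_of_sieve F S hS _ _ fun g hg => ?_
  have e : n i = n j := congrArg ULift.down (h g hg)
  rw [map_zsmul, map_zsmul, e]

variable (hcov : ∀ V : C, ∃ R ∈ J V, ∀ ⦃W : C⦄ (g : W ⟶ V), R g → ∃ i, Nonempty (W ⟶ U i))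

include hφ hcov in
/-- Multiplication by `φ` on every abelian sheaf. -/
theorem exists_mu :
    ∃ μ : ∀ F : Sheaf J AddCommGrpCat.{u}, F ⟶ F,
      (∀ {F G : Sheaf J AddCommGrpCat.{u}} (f : F ⟶ G), μ F ≫ f = f ≫ μ G) ∧
      μ (cst J (AddCommGrpCat.of (ULift.{u} ℤ))) = φ ∧
      ∀ (F : Sheaf J AddCommGrpCat.{u}) (i : ι) (W : C) (_ : W ⟶ U i) (s : F.obj.obj (op W)),
        (μ F).hom.app (op W) s = n i • s := by
  classical
  let R : ∀ V : C, Sieve V := fun V =>
    { arrows := fun W _ => ∃ i, Nonempty (W ⟶ U i)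
      downward_closed := fun {W W'} f ⟨i, ⟨a⟩⟩ g => ⟨i, ⟨g ≫ a⟩⟩ }
  have hR : ∀ V, R V ∈ J V := fun V => by
    obtain ⟨S, hS, h⟩ := hcov V
    exact J.superset_covering (fun W g hg => h g hg) hS
  have hex : ∀ (F : Sheaf J AddCommGrpCat.{u}) (V : C) (s : F.obj.obj (op V)), ∃ t : F.obj.obj (op V),
      ∀ {W : C} (g : W ⟶ V) (i : ι) (_ : W ⟶ U i), F.obj.map g.op t = n i • F.obj.map g.op s := by
    intro F V s
    let f : (R V).functor ⟶ F.obj ⋙ CategoryTheory.forget AddCommGrpCat.{u} :=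
      { app := fun W => TypeCat.ofHom fun g => n g.2.choose • F.obj.map g.1.op s
        naturality := fun W W' h => by
          ext g
          show n ((R V).functor.map h g).2.choose • F.obj.map (h.unop ≫ g.1).op s =
            F.obj.map h (n g.2.choose • F.obj.map g.1.op s)
          obtain ⟨a⟩ := ((R V).functor.map h g).2.choose_spec
          obtain ⟨b⟩ := g.2.choose_spec
          rw [map_zsmul, smul_n_eq U n φ hφ F a (h.unop ≫ b)]
          exact congrArg (_ • ·) (res_res F g.1 h.unop s).symm }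
    obtain ⟨t, ht⟩ := exists_amalgamate F (R V) (hR V) f
    refine ⟨t, fun {W} g i a => (ht g ⟨i, ⟨a⟩⟩).trans ?_⟩
    obtain ⟨b⟩ := (show ∃ i, Nonempty (W ⟶ U i) from ⟨i, ⟨a⟩⟩).choose_spec
    exact smul_n_eq U n φ hφ F b a _
  choose m hm using hex
  have heq : ∀ (F : Sheaf J AddCommGrpCat.{u}) (V : C) (s t : F.obj.obj (op V)),
      (∀ {W : C} (g : W ⟶ V) (i : ι) (_ : W ⟶ U i), F.obj.map g.op t = n i • F.obj.map g.op s) → t = m F V s :=
    fun F V s t h => eq_of_sieve F (R V) (hR V) _ _ fun {W} g ⟨i, ⟨a⟩⟩ => (h g i a).trans (hm F V s g i a).symm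
  have hadd : ∀ (F : Sheaf J AddCommGrpCat.{u}) (V : C) (s t : F.obj.obj (op V)),
      m F V (s + t) = m F V s + m F V t := fun F V s t =>
    (heq F V (s + t) _ fun {W} g i a => by rw [map_add, hm F V s g i a, hm F V t g i a, map_add, smul_add]).symm
  let μ : ∀ F : Sheaf J AddCommGrpCat.{u}, F ⟶ F := fun F =>
    ⟨{ app := fun V => AddCommGrpCat.ofHom (AddMonoidHom.mk' (m F V.unop) (hadd F V.unop))
       naturality := fun V W g => by
        refine AddCommGrpCat.hom_ext (AddMonoidHom.ext fun s => ?_)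
        refine (heq F W.unop (F.obj.map g s) (F.obj.map g (m F V.unop s)) fun {Z} h i a => ?_).symm
        exact (res_res F g.unop h _).trans ((hm F V.unop s (h ≫ g.unop) i a).trans
          (congrArg (n i • ·) (res_res F g.unop h s).symm)) }⟩
  have hμ : ∀ (F : Sheaf J AddCommGrpCat.{u}) (i : ι) (W : C) (_ : W ⟶ U i) (s : F.obj.obj (op W)),
      (μ F).hom.app (op W) s = n i • s := fun F i W a s => by
    have h := hm F W s (𝟙 W) i a
    rw [show (𝟙 W).op = 𝟙 (op W) from rfl, CategoryTheory.Functor.map_id] at h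
    exact h
  refine ⟨μ, fun {F G} f => ?_, ?_, hμ⟩
  · refine Sheaf.hom_ext (NatTrans.ext (funext fun V => AddCommGrpCat.hom_ext (AddMonoidHom.ext fun s => ?_)))
    refine heq G V.unop (f.hom.app V s) (f.hom.app V (m F V.unop s)) fun {Z} h i a => ?_
    rw [← NatTrans.naturality_apply f.hom h.op, ← NatTrans.naturality_apply f.hom h.op, ← map_zsmul]
    exact congrArg (f.hom.app (op Z)) (hm F V.unop s h i a)
  · refine Sheaf.hom_ext (NatTrans.ext (funext fun V => AddCommGrpCat.hom_ext (AddMonoidHom.ext fun s => ?_)))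
    refine (heq _ V.unop s (φ.hom.app V s) fun {Z} h i a => ?_).symm
    rw [← NatTrans.naturality_apply φ.hom h.op]
    exact ConcreteCategory.congr_hom (hφ i Z a) _

end

variable {A : Type u} [AddCommGroup A] (hA : ∀ (m : ℤ) (a : A), m ≠ 0 → m • a = 0 → a = 0)
  {ι : Type u} (U : ι → C) (n : ι → ℤ) (hn : ∀ i, n i ≠ 0)
  (φ : cst J (AddCommGrpCat.of (ULift.{u} ℤ)) ⟶ cst J (AddCommGrpCat.of (ULift.{u} ℤ)))
  (hφ : ∀ (i : ι) (V : C) (_ : V ⟶ U i), φ.hom.app (op V) = n i • 𝟙 _)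
  (hcov : ∀ V : C, ∃ R ∈ J V, ∀ ⦃W : C⦄ (g : W ⟶ V), R g → ∃ i, Nonempty (W ⟶ U i))

include hA hn hφ hcov in
theorem eq_zero (x : Sheaf.H (cst J (AddCommGrpCat.of A)) 1)
    (hx : (Ext.mk₀ φ).comp x (zero_add 1) = 0) : x = 0 := by
  classical
  obtain ⟨μ, hnat, hμφ, hμ⟩ := exists_mu U n φ hφ hcov
  let Ac := cst J (AddCommGrpCat.of A)
  let Z := cst J (AddCommGrpCat.of (ULift.{u} ℤ))
  -- move `φ` to the coefficients
  let S := Edge.injSeq Ac
  have hS : S.ShortExact := Edge.injSeq_shortExact Ac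
  obtain ⟨x₃, hx₃⟩ := Ext.covariant_sequence_exact₁ Z hS x (Ext.eq_zero_of_injective _) rfl
  obtain ⟨q, rfl⟩ := (Ext.mk₀_bijective _ _).2 x₃
  have hnatE := ShortComplex.ShortExact.extClass_naturality hS hS
    ({ τ₁ := μ S.X₁, τ₂ := μ S.X₂, τ₃ := μ S.X₃, comm₁₂ := hnat S.f, comm₂₃ := hnat S.g } : S ⟶ S)
  have hx' : x.comp (Ext.mk₀ (μ Ac)) (add_zero 1) = 0 := by
    have e : φ ≫ q = q ≫ μ S.X₃ := by rw [← hμφ]; exact hnat q
    rw [← hx, ← hx₃, Ext.comp_assoc _ _ _ (zero_add 1) (add_zero 1) rfl, hnatE,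
      ← Ext.comp_assoc _ _ _ (zero_add 0) (zero_add 1) rfl, ← Ext.comp_assoc _ _ _ (zero_add 0) (zero_add 1) rfl,
      Ext.mk₀_comp_mk₀, Ext.mk₀_comp_mk₀, e]
  haveI : Mono (μ Ac) := by
    haveI : ∀ V, Mono ((μ Ac).hom.app V) := fun V => by
      rw [AddCommGrpCat.mono_iff_injective]
      refine (injective_iff_map_eq_zero _).2 fun s hs => ?_
      obtain ⟨R, hR, hR'⟩ := hcov V.unop
      refine eq_of_sieve Ac R hR _ _ fun {W} g hg => ?_
      obtain ⟨i, ⟨a⟩⟩ := hR' g hg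
      refine ((tf_cst hA).eq_zero_of_zsmul (op W) (hn i) _ ?_).trans (map_zero (Ac.obj.map g.op).hom).symm
      rw [← hμ Ac i W a, NatTrans.naturality_apply (μ Ac).hom g.op, hs, map_zero]
    haveI : Mono (μ Ac).hom := NatTrans.mono_of_mono_app _
    exact (sheafToPresheaf J AddCommGrpCat.{u}).mono_of_mono_map this
  let T : ShortComplex (Sheaf J AddCommGrpCat.{u}) :=
    ShortComplex.mk (μ Ac) (cokernel.π (μ Ac)) (cokernel.condition _)
  have hT : T.ShortExact :=
    { exact := ShortComplex.exact_cokernel _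
      mono_f := inferInstance
      epi_g := inferInstance }
  obtain ⟨t₀, ht₀⟩ := Ext.covariant_sequence_exact₁ Z hT x hx' rfl
  obtain ⟨t, rfl⟩ := (Ext.mk₀_bijective _ _).2 t₀
  suffices ∃ y : Z ⟶ Ac, y ≫ T.g = t by
    obtain ⟨y, rfl⟩ := this
    rw [← ht₀, ← Ext.mk₀_comp_mk₀, Ext.comp_assoc _ _ _ (zero_add 0) (zero_add 1) rfl, hT.comp_extClass,
      Ext.comp_zero]
  -- representatives
  let r : ℤ → A → A := fun k a => Quotient.out (QuotientAddGroup.mk a : A ⧸ (zsmulAddGroupHom k : A →+ A).range)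
  have hr : ∀ (k : ℤ) (a b : A), (∃ c : A, a - b = k • c) → r k a = r k b := fun k a b ⟨c, hc⟩ => by
    refine congrArg Quotient.out ((QuotientAddGroup.eq).2 ⟨-c, ?_⟩)
    show k • -c = -a + b
    rw [smul_neg, ← hc]
    abel
  have hr' : ∀ (k : ℤ) (a : A), ∃ c : A, r k a = a + k • c := fun k a => by
    have h : (QuotientAddGroup.mk (r k a) : A ⧸ (zsmulAddGroupHom k : A →+ A).range) = QuotientAddGroup.mk a :=
      Quotient.out_eq _
    obtain ⟨c, hc⟩ := (QuotientAddGroup.eq).1 h.symm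
    exact ⟨c, by rw [show k • c = -a + r k a from hc]; abel⟩
  let tV : ∀ V : C, T.X₃.obj.obj (op V) := fun V => t.hom.app (op V) (cs V ⟨1⟩)
  have htV : ∀ {V W : C} (g : W ⟶ V), T.X₃.obj.map g.op (tV V) = tV W := fun {V W} g => by
    show T.X₃.obj.map g.op (t.hom.app (op V) _) = _
    rw [← NatTrans.naturality_apply t.hom g.op, res_cs]
  let π : ∀ V : C, Ac.obj.obj (op V) →+ T.X₃.obj.obj (op V) := fun V => (T.g.hom.app (op V)).hom
  have hπ : ∀ {V W : C} (g : W ⟶ V) (s : Ac.obj.obj (op V)), T.X₃.obj.map g.op (π V s) = π W (Ac.obj.map g.op s) :=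
    fun g s => (NatTrans.naturality_apply T.g.hom g.op s).symm
  -- the covering sieves
  let S' : ∀ V : C, Sieve V := fun V =>
    { arrows := fun W _ => ∃ (i : ι) (_ : W ⟶ U i) (a : A), tV W = π W (cs W a)
      downward_closed := fun {W W'} f ⟨i, b, a, ha⟩ g => ⟨i, g ≫ b, a, by
        rw [← htV g, ha, hπ, res_cs]⟩ }
  have hS' : ∀ V, S' V ∈ J V := fun V => by
    haveI := hT.epi_g
    haveI : Presheaf.IsLocallySurjective J T.g.hom :=
      (Sheaf.isLocallySurjective_iff_epi' AddCommGrpCat.{u} T.g).2 inferInstance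
    refine J.transitive (Presheaf.imageSieve_mem J T.g.hom (tV V)) _ fun {W} g hg => ?_
    obtain ⟨s, hs⟩ := hg
    obtain ⟨R₁, hR₁, hR₁'⟩ := loc_const s
    obtain ⟨R₂, hR₂, hR₂'⟩ := hcov W
    refine J.superset_covering ?_ (J.intersection_covering hR₁ hR₂)
    intro W' h hh
    obtain ⟨a, ha⟩ := hR₁' h hh.1
    obtain ⟨i, ⟨b⟩⟩ := hR₂' h hh.2
    refine ⟨i, b, a, ?_⟩
    show tV W' = π W' (cs W' a)
    rw [← ha, ← hπ, ← htV (h ≫ g), ← res_res, show π W s = _ from hs]
  -- the candidates are unambiguous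
  have huniq : ∀ {W : C} (i j : ι) (_ : W ⟶ U i) (_ : W ⟶ U j) (a b : A),
      π W (cs (A := AddCommGrpCat.of A) W a) = π W (cs (A := AddCommGrpCat.of A) W b) →
        cs (J := J) (A := AddCommGrpCat.of A) W (r (n i) a) = cs (A := AddCommGrpCat.of A) W (r (n j) b) := by
    intro W i j α β a b hab
    obtain ⟨c, hc⟩ : ∃ c, (μ Ac).hom.app (op W) c = cs W (a - b) := by
      have hex := hT.exact.map_of_mono_of_preservesKernel
        (sheafToPresheaf J AddCommGrpCat.{u} ⋙ (evaluation Cᵒᵖ AddCommGrpCat.{u}).obj (op W)) inferInstance inferInstance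
      exact (ShortComplex.ab_exact_iff _).1 hex (cs W (a - b)) (by
        show π W (cs W (a - b)) = 0
        rw [map_sub, map_sub, hab, sub_self])
    obtain ⟨R₁, hR₁, hR₁'⟩ := loc_eq _ _ (cs_n_eq U n φ hφ α β)
    obtain ⟨R₂, hR₂, hR₂'⟩ := loc_const c
    refine eq_of_sieve Ac _ (J.intersection_covering hR₁ hR₂) _ _ fun {W'} g hg => ?_
    obtain ⟨c₀, hc₀⟩ := hR₂' g hg.2
    have hij : n i = n j := congrArg ULift.down (hR₁' g hg.1)
    rw [res_cs, res_cs]
    have h1 : cs (J := J) W' (a - b) = cs W' (n i • c₀) := by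
      rw [← res_cs g, ← hc, ← NatTrans.naturality_apply (μ Ac).hom g.op, hμ Ac i W' (g ≫ α), hc₀, map_zsmul]
    obtain ⟨R₃, hR₃, hR₃'⟩ := loc_eq _ _ h1
    refine eq_of_sieve Ac R₃ hR₃ _ _ fun {W''} h hh => ?_
    rw [res_cs, res_cs, ← hij, hr (n i) a b ⟨c₀, hR₃' h hh⟩]
  have hy : ∀ V : C, ∃ y : Ac.obj.obj (op V), ∀ {W : C} (g : W ⟶ V) (i : ι) (_ : W ⟶ U i) (a : A),
      tV W = π W (cs W a) → Ac.obj.map g.op y = cs W (r (n i) a) := by
    intro V
    let f : (S' V).functor ⟶ Ac.obj ⋙ CategoryTheory.forget AddCommGrpCat.{u} :=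
      { app := fun W => TypeCat.ofHom fun g => cs W.unop (r (n g.2.choose) g.2.choose_spec.choose_spec.choose)
        naturality := fun W W' h => by
          ext g
          show cs W'.unop (r (n ((S' V).functor.map h g).2.choose) _) = Ac.obj.map h (cs W.unop _)
          refine Eq.trans ?_ (res_cs h.unop _).symm
          refine huniq _ _ ((S' V).functor.map h g).2.choose_spec.choose (h.unop ≫ g.2.choose_spec.choose) _ _ ?_
          rw [← ((S' V).functor.map h g).2.choose_spec.choose_spec.choose_spec, ← htV h.unop]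
          refine (congrArg (T.X₃.obj.map h.unop.op) g.2.choose_spec.choose_spec.choose_spec).trans ?_
          rw [hπ, res_cs] }
    obtain ⟨y, hy⟩ := exists_amalgamate Ac (S' V) (hS' V) f
    refine ⟨y, fun {W} g i b a ha => (hy g ⟨i, b, a, ha⟩).trans ?_⟩
    have hex : ∃ (i : ι) (_ : W ⟶ U i) (a : A), tV W = π W (cs W a) := ⟨i, b, a, ha⟩
    exact huniq _ _ hex.choose_spec.choose b _ _ (hex.choose_spec.choose_spec.choose_spec.symm.trans ha)
  choose y hy using hy
  have hyc : ∀ {V W : C} (g : W ⟶ V), Ac.obj.map g.op (y V) = y W := by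
    intro V W g
    refine eq_of_sieve Ac (S' W) (hS' W) _ _ ?_
    intro W' h hh
    obtain ⟨i, b, a, ha⟩ := hh
    rw [res_res, hy V (h ≫ g) i b a ha, hy W h i b a ha]
  obtain ⟨f, hf⟩ := exists_ofFam Ac y hyc
  refine ⟨f, hom_ext_cst fun V => ?_⟩
  show π V (f.hom.app (op V) (cs V ⟨1⟩)) = tV V
  rw [hf]
  refine eq_of_sieve T.X₃ (S' V) (hS' V) _ _ fun {W} g ⟨i, b, a, ha⟩ => ?_
  rw [htV, hπ, hy V g i b a ha, ha]
  obtain ⟨c, hc⟩ := hr' (n i) a
  rw [hc, map_add, map_add, map_zsmul, ← hμ Ac i W b]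
  have hz : π W ((μ Ac).hom.app (op W) (cs W c)) = 0 :=
    ConcreteCategory.congr_hom (congr_app (congrArg (fun k : T.X₁ ⟶ T.X₃ => k.hom) T.zero) (op W)) (cs W c)
  rw [hz, add_zero]

end Groth.Agent.H15Site.LocNonzero
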