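import Groth.Agent.H15Site.LocalPullBase
import Groth.Agent.H15Site.PullLocPres

/-!
# Inverse image of modules commutes with localisation

For `f : (C, O_C) ⟶ (D, O_D)` and `d : D`: `(f^* F)|_{fn d} ≅ f_d^*(F|_d)`, where `f_d^*` is the left
adjoint of the direct image along `Over.post fn`.
-/

universe u

open CategoryTheory CategoryTheory.Limits Opposite

set_option linter.style.haveILetI false
set_option backward.isDefEq.respectTransparency false
set_option linter.unusedSectionVars false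

namespace Groth.Agent.H15Site.LocalPull

open ModTensor ModRel PullTensor PullLocPres

attribute [local instance 10000] SiteInst.hasSheafifySite SiteInst.hasWeakSheafifySite

variable {C D : Type u} [SmallCategory C] [SmallCategory D] {J : GrothendieckTopology C}
  {K : GrothendieckTopology D} {O_C : Sheaf J CommRingCat.{u}} {O_D : Sheaf K CommRingCat.{u}}
  (f : ModSite.RMor O_C O_D) (d : D)

instance : (Over.post (X := d) f.fn).IsContinuous (K.over d) (J.over (f.fn.obj d)) :=
  isContinuous_post f.fn d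

instance : (Over.post (X := d) f.fn).Final := final_post f.fn d

/-- The localised map of rings. -/
noncomputable def sharpOver : ModSite.ringSh (O_D.over d) ⟶
    ((Over.post (X := d) f.fn).sheafPushforwardContinuous RingCat.{u} (K.over d)
      (J.over (f.fn.obj d))).obj (ModSite.ringSh (O_C.over (f.fn.obj d))) :=
  ⟨Functor.whiskerLeft (Over.forget d).op f.sharpR.hom⟩

/-- Direct image along the localised morphism. -/
noncomputable abbrev pushD : ModSite.Mod (O_C.over (f.fn.obj d)) ⥤ ModSite.Mod (O_D.over d) :=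
  SheafOfModules.pushforward.{u} (sharpOver f d)

/-- Inverse image along the localised morphism. -/
noncomputable abbrev pullD : ModSite.Mod (O_D.over d) ⥤ ModSite.Mod (O_C.over (f.fn.obj d)) :=
  SheafOfModules.pullback.{u} (sharpOver f d)

variable (F : ModSite.Mod O_D)

/-- The explicit inverse image. -/
noncomputable abbrev G : ModSite.Mod O_C := (aSh O_C).obj (expl f ((forg O_D).obj F))

/-- The unit, localised. -/
noncomputable def unitD :
    (ModSite.restr O_D d).obj F ⟶ (pushD f d).obj ((ModSite.restr O_C (f.fn.obj d)).obj (G f F)) :=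
  ⟨{
    app := fun V => ModuleCat.ofHom
      (Y := (ModuleCat.restrictScalars ((sharpOver f d).hom.app V).hom).obj
        (((ModSite.restr O_C (f.fn.obj d)).obj (G f F)).val.obj
          (op ((Over.post f.fn).obj V.unop))))
      { toFun := fun m => (cls' f F (StructuredArrow.mk (T := f.fn) (Y := V.unop.left) (𝟙 _)) m :)
        map_add' := fun m m' => map_add (clsHom f F (StructuredArrow.mk (𝟙 _))) m m'
        map_smul' := fun r m => ((explσ f ((forg O_D).obj F) ≫
          (pushP f).map (eta f F)).app (op V.unop.left)).hom.map_smul r m }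
    naturality := fun {V V'} g => by
      refine ModuleCat.hom_ext (LinearMap.ext fun m => ?_)
      exact ConcreteCategory.congr_hom
        ((explσ f ((forg O_D).obj F) ≫ (pushP f).map (eta f F)).naturality g.unop.left.op) m }⟩

/-- The comparison. -/
noncomputable def theta :
    (pullD f d).obj ((ModSite.restr O_D d).obj F) ⟶ (ModSite.restr O_C (f.fn.obj d)).obj (G f F) :=
  ((SheafOfModules.pullbackPushforwardAdjunction.{u} (sharpOver f d)).homEquiv _ _).symm
    (unitD f d F)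

variable {f d F} {N : ModSite.Mod (O_C.over (f.fn.obj d))}

/-- An arrow between objects of `C/fn d`. -/
abbrev om {c c' : C} {a : c ⟶ f.fn.obj d} {a' : c' ⟶ f.fn.obj d} (v : c' ⟶ c) (h : v ≫ a = a') :
    (Over.mk a' : Over (f.fn.obj d)) ⟶ Over.mk a :=
  Over.homMk v h

lemma rs_om_om {c c' c'' : C} {a : c ⟶ f.fn.obj d} {a' : c' ⟶ f.fn.obj d} {a'' : c'' ⟶ f.fn.obj d}
    (v : c' ⟶ c) (h : v ≫ a = a') (w : c'' ⟶ c') (h' : w ≫ a' = a'')
    (x : ((forg (O_C.over (f.fn.obj d))).obj N).obj (op (Over.mk a))) :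
    rs ((forg _).obj N) (om w h').op (rs ((forg _).obj N) (om v h).op x) =
      rs ((forg _).obj N) (om (w ≫ v) (by rw [Category.assoc, h, h'])).op x :=
  (rs_rs _ _ _ x).trans (congrArg (fun k => rs ((forg _).obj N) k x)
    ((op_comp (f := om w h') (g := om v h)).symm.trans (congrArg Quiver.Hom.op
      (Over.OverMorphism.ext rfl))))

lemma rs_om_congr {c c' : C} {a : c ⟶ f.fn.obj d} {a' : c' ⟶ f.fn.obj d} {v v' : c' ⟶ c}
    (e : v = v') (h : v ≫ a = a') (h' : v' ≫ a = a')
    (x : ((forg (O_C.over (f.fn.obj d))).obj N).obj (op (Over.mk a))) :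
    rs ((forg _).obj N) (om v h).op x = rs ((forg _).obj N) (om v' h').op x := by
  subst e; rfl

lemma sep_over {c : C} {a : c ⟶ f.fn.obj d} (S : Sieve c) (hS : S ∈ J c)
    (x x' : ((forg (O_C.over (f.fn.obj d))).obj N).obj (op (Over.mk a)))
    (h : ∀ ⦃c' : C⦄ (v : c' ⟶ c), S v → ∀ (a' : c' ⟶ f.fn.obj d) (ha : v ≫ a = a'),
      rs ((forg _).obj N) (om v ha).op x = rs ((forg _).obj N) (om v ha).op x') : x = x' := by
  refine separated_forg N (X := op (Over.mk a)) ((Sieve.overEquiv _).symm S)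
    ((J.mem_over_iff _).2 (by
      show Sieve.overEquiv (Over.mk a) ((Sieve.overEquiv (Over.mk a)).symm S) ∈ J c
      rw [OrderIso.apply_symm_apply]; exact hS)) x x' fun Z v hv => ?_
  exact h v.left ((Sieve.overEquiv_symm_iff S v).1 hv) Z.hom (Over.w v)

section Value

variable (ψ : (ModSite.restr O_D d).obj F ⟶ (pushD f d).obj N)

/-- The value of `ψ` at an arrow `q : e ⟶ d`. -/
noncomputable def pv {e : D} (q : e ⟶ d) (m : ((forg O_D).obj F).obj (op e)) :
    ((forg (O_C.over (f.fn.obj d))).obj N).obj (op (Over.mk (f.fn.map q))) :=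
  (ψ.val.app (op (Over.mk q))).hom m

lemma pv_add {e : D} (q : e ⟶ d) (m m' : ((forg O_D).obj F).obj (op e)) :
    pv ψ q (m + m') = pv ψ q m + pv ψ q m' :=
  map_add (ψ.val.app (op (Over.mk q))).hom m m'

lemma pv_smul {e : D} (q : e ⟶ d) (r : O_D.obj.obj (op e))
    (m : ((forg O_D).obj F).obj (op e)) :
    pv ψ q (r • m : ((forg O_D).obj F).obj (op e)) =
      (show ((O_C.over (f.fn.obj d)).obj.obj (op (Over.mk (f.fn.map q)))) from
        (f.sharp.hom.app (op e)).hom r) • pv ψ q m :=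
  (ψ.val.app (op (Over.mk q))).hom.map_smul r m

lemma pv_rs {e e' : D} (g : e' ⟶ e) (q : e ⟶ d) (q' : e' ⟶ d) (h : g ≫ q = q')
    (m : ((forg O_D).obj F).obj (op e)) :
    pv ψ q' (rs ((forg O_D).obj F) g.op m) =
      rs ((forg _).obj N) (om (f.fn.map g) (by rw [← f.fn.map_comp, h])).op (pv ψ q m) :=
  rs_app ((forg (O_D.over d)).map ψ)
    (Over.homMk (U := Over.mk q') (V := Over.mk q) g h).op m

/-- `x` is the value on the generator `(X, m)` of `a : c ⟶ fn d`. -/
def IsVal {c : C} (a : c ⟶ f.fn.obj d) (X : StructuredArrow c f.fn)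
    (m : ((forg O_D).obj F).obj (op X.right))
    (x : ((forg (O_C.over (f.fn.obj d))).obj N).obj (op (Over.mk a))) : Prop :=
  ∀ ⦃c' : C⦄ (v : c' ⟶ c) (a' : c' ⟶ f.fn.obj d) (h : v ≫ a = a') (e : D) (b : c' ⟶ f.fn.obj e)
    (p : e ⟶ X.right) (q : e ⟶ d), b ≫ f.fn.map p = v ≫ X.hom → ∀ (hq : b ≫ f.fn.map q = a'),
      rs ((forg _).obj N) (om v h).op x =
        rs ((forg _).obj N) (om b hq).op (pv ψ q (rs ((forg O_D).obj F) p.op m))

theorem IsVal.unique {c : C} {a : c ⟶ f.fn.obj d} {X : StructuredArrow c f.fn}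
    {m : ((forg O_D).obj F).obj (op X.right)}
    {x x' : ((forg (O_C.over (f.fn.obj d))).obj N).obj (op (Over.mk a))}
    (hx : IsVal ψ a X m x) (hx' : IsVal ψ a X m x') : x = x' := by
  obtain ⟨S, hS, hS'⟩ := PullSets.locally_pair (K := K) (J := J) f.fn X (StructuredArrow.mk a)
  refine sep_over S hS x x' fun c' v hv a' h => ?_
  obtain ⟨e, b, p, q, hp, hq⟩ := hS' v hv
  simp only [StructuredArrow.mk_hom_eq_self] at hq
  rw [hx v a' h e b p q hp (hq.trans h), hx' v a' h e b p q hp (hq.trans h)]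

theorem exists_isVal {c : C} (a : c ⟶ f.fn.obj d) (X : StructuredArrow c f.fn)
    (m : ((forg O_D).obj F).obj (op X.right)) : ∃ x, IsVal ψ a X m x := by
  have indep : ∀ {c' : C} (v : c' ⟶ c) (a' : c' ⟶ f.fn.obj d) (e₁ e₂ : D)
      (b₁ : c' ⟶ f.fn.obj e₁) (b₂ : c' ⟶ f.fn.obj e₂) (p₁ : e₁ ⟶ X.right) (p₂ : e₂ ⟶ X.right)
      (q₁ : e₁ ⟶ d) (q₂ : e₂ ⟶ d), b₁ ≫ f.fn.map p₁ = v ≫ X.hom → b₂ ≫ f.fn.map p₂ = v ≫ X.hom →
      ∀ (hq₁ : b₁ ≫ f.fn.map q₁ = a') (hq₂ : b₂ ≫ f.fn.map q₂ = a'),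
        rs ((forg _).obj N) (om b₁ hq₁).op (pv ψ q₁ (rs ((forg O_D).obj F) p₁.op m)) =
          rs ((forg _).obj N) (om b₂ hq₂).op (pv ψ q₂ (rs ((forg O_D).obj F) p₂.op m)) := by
    intro c' v a' e₁ e₂ b₁ b₂ p₁ p₂ q₁ q₂ hp₁ hp₂ hq₁ hq₂
    obtain ⟨S, hS, hS'⟩ := locally_cone₂ (K := K) (J := J) f.fn b₁ b₂ q₁ q₂ p₁ p₂
      (hq₁.trans hq₂.symm) (hp₁.trans hp₂.symm)
    refine sep_over S hS _ _ fun c'' w hw a'' hw' => ?_
    obtain ⟨e, b, h₁, h₂, hb₁, hb₂, hq, hp⟩ := hS' w hw
    have hbq : b ≫ f.fn.map (h₁ ≫ q₁) = a'' := by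
      rw [Functor.map_comp, reassoc_of% hb₁, hq₁, hw']
    rw [rs_om_om, rs_om_om]
    have e₁' : rs ((forg _).obj N) (om b hbq).op
        (pv ψ (h₁ ≫ q₁) (rs ((forg O_D).obj F) (h₁ ≫ p₁).op m)) =
        rs ((forg _).obj N) (om (w ≫ b₁) (by rw [Category.assoc, hq₁, hw'])).op
          (pv ψ q₁ (rs ((forg O_D).obj F) p₁.op m)) := by
      rw [op_comp, ← rs_rs, pv_rs ψ h₁ q₁ _ rfl, rs_om_om]
      exact rs_om_congr hb₁ _ _ _
    have e₂' : rs ((forg _).obj N) (om b hbq).op
        (pv ψ (h₁ ≫ q₁) (rs ((forg O_D).obj F) (h₁ ≫ p₁).op m)) =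
        rs ((forg _).obj N) (om (w ≫ b₂) (by rw [Category.assoc, hq₂, hw'])).op
          (pv ψ q₂ (rs ((forg O_D).obj F) p₂.op m)) := by
      rw [hp, op_comp, ← rs_rs, pv_rs ψ h₂ q₂ _ hq.symm, rs_om_om]
      exact rs_om_congr hb₂ _ _ _
    exact e₁'.symm.trans e₂'
  obtain ⟨S, hS, hS'⟩ := PullSets.locally_pair (K := K) (J := J) f.fn X (StructuredArrow.mk a)
  let T : Sieve (Over.mk a : Over (f.fn.obj d)) := (Sieve.overEquiv _).symm S
  have hT : T ∈ J.over (f.fn.obj d) (Over.mk a) := (J.mem_over_iff _).2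
    (by show Sieve.overEquiv (Over.mk a) ((Sieve.overEquiv (Over.mk a)).symm S) ∈ J c
        rw [OrderIso.apply_symm_apply]; exact hS)
  have hdata : ∀ {Z : Over (f.fn.obj d)} (v : Z ⟶ Over.mk a), T v → ∃ (e : D)
      (b : Z.left ⟶ f.fn.obj e) (p : e ⟶ X.right) (q : e ⟶ d),
        b ≫ f.fn.map p = v.left ≫ X.hom ∧ b ≫ f.fn.map q = Z.hom := fun {Z} v hv => by
    obtain ⟨e, b, p, q, hp, hq⟩ := hS' v.left ((Sieve.overEquiv_symm_iff S v).1 hv)
    simp only [StructuredArrow.mk_hom_eq_self] at hq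
    exact ⟨e, b, p, q, hp, hq.trans (Over.w v)⟩
  choose E B Pp Qq hPp hQq using @hdata
  let y : Presieve.FamilyOfElements (uSet (O_C.over (f.fn.obj d)) ((forg _).obj N)) T.arrows :=
    fun Z v hv => rs ((forg _).obj N) (om (B v hv) (hQq v hv)).op
      (pv ψ (Qq v hv) (rs ((forg O_D).obj F) (Pp v hv).op m))
  have hy : y.Compatible := (Presieve.compatible_iff_sieveCompatible _).2 fun Z Z' v w hv => by
    refine Eq.trans ?_ (rs_om_om (B v hv) (hQq v hv) w.left (Over.w w) _).symm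
    exact indep (w.left ≫ v.left) Z'.hom _ _ _ _ _ _ _ _ (hPp _ (T.downward_closed hv w))
      (by rw [Category.assoc, hPp v hv, Category.assoc]) (hQq _ (T.downward_closed hv w)) _
  have hsh := (isSheaf_iff_isSheaf_of_type _ _).1 (setSh N).2 T hT
  refine ⟨hsh.amalgamate y hy, fun c' v a' h e b p q hp hq => ?_⟩
  refine sep_over (S.pullback v) (J.pullback_stable v hS) _ _ fun c'' w hw a'' hw' => ?_
  rw [rs_om_om, rs_om_om]
  have hwv : T (om (a := a) (w ≫ v) (by rw [Category.assoc, h, hw'])) :=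
    (Sieve.overEquiv_symm_iff S (om (a := a) (w ≫ v) (by rw [Category.assoc, h, hw']))).2 hw
  refine (hsh.valid_glue hy _ hwv).trans ?_
  exact indep (w ≫ v) a'' _ _ _ _ _ _ _ _ (hPp _ hwv)
    (by rw [Category.assoc, hp, Category.assoc]) (hQq _ hwv) _

/-- The value on a generator. -/
noncomputable def val {c : C} (a : c ⟶ f.fn.obj d) (X : StructuredArrow c f.fn)
    (m : ((forg O_D).obj F).obj (op X.right)) :
    ((forg (O_C.over (f.fn.obj d))).obj N).obj (op (Over.mk a)) :=
  (exists_isVal ψ a X m).choose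

lemma isVal_val {c : C} (a : c ⟶ f.fn.obj d) (X : StructuredArrow c f.fn)
    (m : ((forg O_D).obj F).obj (op X.right)) : IsVal ψ a X m (val ψ a X m) :=
  (exists_isVal ψ a X m).choose_spec

lemma rs_val {c c' : C} (v : c' ⟶ c) (a : c ⟶ f.fn.obj d) (a' : c' ⟶ f.fn.obj d) (h : v ≫ a = a')
    (X : StructuredArrow c f.fn) (m : ((forg O_D).obj F).obj (op X.right)) :
    rs ((forg _).obj N) (om v h).op (val ψ a X m) = val ψ a' (mv f v X) m := by
  refine IsVal.unique ψ (fun c'' w a'' h' e b p q hp hq => ?_) (isVal_val ψ _ _ _)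
  rw [rs_om_om]
  exact isVal_val ψ a X m (w ≫ v) a'' _ e b p q (hp.trans (Category.assoc _ _ _).symm) hq

lemma val_add {c : C} (a : c ⟶ f.fn.obj d) (X : StructuredArrow c f.fn)
    (m m' : ((forg O_D).obj F).obj (op X.right)) :
    val ψ a X (m + m') = val ψ a X m + val ψ a X m' := by
  refine IsVal.unique ψ (isVal_val ψ _ _ _) fun c' v a' h e b p q hp hq => ?_
  rw [rs_add, isVal_val ψ a X m v a' h e b p q hp hq, isVal_val ψ a X m' v a' h e b p q hp hq]
  erw [rs_add ((forg O_D).obj F), pv_add, rs_add]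

lemma val_smul {c : C} (a : c ⟶ f.fn.obj d) (X : StructuredArrow c f.fn)
    (r : O_D.obj.obj (op X.right)) (m : ((forg O_D).obj F).obj (op X.right)) :
    val ψ a X (r • m : ((forg O_D).obj F).obj (op X.right)) =
      (show ((O_C.over (f.fn.obj d)).obj.obj (op (Over.mk a))) from rho X r) • val ψ a X m := by
  refine IsVal.unique ψ (isVal_val ψ _ _ _) fun c' v a' h e b p q hp hq => ?_
  erw [rs_smul' ((forg (O_C.over (f.fn.obj d))).obj N), isVal_val ψ a X m v a' h e b p q hp hq,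
    rs_smul' ((forg O_D).obj F), pv_smul, rs_smul' ((forg (O_C.over (f.fn.obj d))).obj N)]
  refine congrArg (· • _) ?_
  show rr O_C v.op (rho X r) = rr O_C b.op _
  exact (rho_lift X.hom v p b hp r).symm

lemma val_res {c : C} (a : c ⟶ f.fn.obj d) {X : StructuredArrow c f.fn} (e : D) (g : X.right ⟶ e)
    (m : ((forg O_D).obj F).obj (op e)) :
    val ψ a X (rs ((forg O_D).obj F) g.op m) =
      val ψ a (StructuredArrow.mk (X.hom ≫ f.fn.map g)) m := by
  refine IsVal.unique ψ (isVal_val ψ _ _ _) fun c' v a' h e' b p q hp hq => ?_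
  rw [isVal_val ψ a (StructuredArrow.mk (X.hom ≫ f.fn.map g)) m v a' h e' b (p ≫ g) q (by
    show b ≫ f.fn.map (p ≫ g) = v ≫ X.hom ≫ f.fn.map g
    rw [Functor.map_comp, reassoc_of% hp]) hq]
  rw [op_comp, ← rs_rs]

/-- The map on generators. -/
noncomputable def freeVal : (ModOver.rp O_C (f.fn.obj d)).obj (fr O_C (idxP f ((forg O_D).obj F))) ⟶
    (forg (O_C.over (f.fn.obj d))).obj N where
  app Z := ModuleCat.freeDesc (↾fun (i : Idx f ((forg O_D).obj F) Z.unop.left) => (val ψ Z.unop.hom i.X i.m :))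
  naturality {Z Z'} w := ModuleCat.free_hom_ext fun i => by
    obtain ⟨X, m⟩ := i
    refine Eq.trans ?_ (congrArg (rs ((forg _).obj N) w)
      (ModuleCat.freeDesc_apply (↾fun (i : Idx f ((forg O_D).obj F) Z.unop.left) => (val ψ Z.unop.hom i.X i.m :)) ⟨X, m⟩).symm)
    refine Eq.trans ?_ (rs_val ψ w.unop.left Z.unop.hom Z'.unop.hom (Over.w w.unop) X m).symm
    exact (congrArg (ModuleCat.freeDesc (↾fun (i : Idx f ((forg O_D).obj F) Z'.unop.left) => (val ψ Z'.unop.hom i.X i.m :))).hom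
      (rs_dl O_C (P := idxP f ((forg O_D).obj F)) w.unop.left.op ⟨X, m⟩)).trans
        (ModuleCat.freeDesc_apply _ _)

lemma freeVal_dl {c : C} (a : c ⟶ f.fn.obj d) (X : StructuredArrow c f.fn)
    (m : ((forg O_D).obj F).obj (op X.right)) :
    ((freeVal ψ).app (op (Over.mk a))).hom (dl O_C (P := idxP f ((forg O_D).obj F)) ⟨X, m⟩) =
      val ψ a X m :=
  ModuleCat.freeDesc_apply _ _

lemma freeVal_relHom {Z : (Over (f.fn.obj d))ᵒᵖ}
    (z : (fr O_C (relP f ((forg O_D).obj F))).obj (op Z.unop.left)) :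
    ((freeVal ψ).app Z).hom (((relHom f ((forg O_D).obj F)).app (op Z.unop.left)).hom z) = 0 := by
  obtain ⟨Z⟩ := Z
  suffices h : ((relHom f ((forg O_D).obj F)).app (op Z.left)).hom.range ≤
      LinearMap.ker ((freeVal ψ).app (op Z)).hom from h ⟨z, rfl⟩
  rintro _ ⟨z, rfl⟩
  refine Finsupp.induction_linear z (by simp) (fun z z' hz hz' => ?_) fun r a => ?_
  · simp only [map_add]
    exact add_mem hz hz'
  rw [show (Finsupp.single r a : (fr O_C (relP f ((forg O_D).obj F))).obj (op Z.left)) =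
    a • dl O_C (P := relP f ((forg O_D).obj F)) r from (Finsupp.smul_single_one r a).symm]
  rw [map_smul, relHom_dl]
  refine Submodule.smul_mem _ a ?_
  rcases r with ⟨X, m, m'⟩ | ⟨X, r, m⟩ | ⟨X, e, g, m⟩
  · simp only [relVal, LinearMap.mem_ker, map_sub]
    erw [freeVal_dl ψ Z.hom, freeVal_dl ψ Z.hom, freeVal_dl ψ Z.hom, val_add]
    rw [sub_sub]
    exact sub_self _
  · simp only [relVal, LinearMap.mem_ker, map_sub, map_smul]
    erw [freeVal_dl ψ Z.hom, freeVal_dl ψ Z.hom, val_smul]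
    exact sub_self _
  · simp only [relVal, LinearMap.mem_ker, map_sub]
    erw [freeVal_dl ψ Z.hom, freeVal_dl ψ Z.hom, val_res]
    exact sub_self _

lemma freeVal_eq_zero {Z : (Over (f.fn.obj d))ᵒᵖ}
    {z : (fr O_C (idxP f ((forg O_D).obj F))).obj (op Z.unop.left)}
    (hz : ((explπ f ((forg O_D).obj F)).app (op Z.unop.left)).hom z = 0) :
    ((freeVal ψ).app Z).hom z = 0 := by
  let E := PresheafOfModules.evaluation (O_C.obj ⋙ forget₂ CommRingCat.{u} RingCat.{u})
    (op Z.unop.left)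
  let S := ShortComplex.mk (relHom f ((forg O_D).obj F)) (explπ f ((forg O_D).obj F))
    (cokernel.condition _)
  have hS : S.Exact := ShortComplex.exact_cokernel _
  have h := hS.map_of_epi_of_preservesCokernel E (inferInstanceAs (Epi (explπ f _))) inferInstance
  obtain ⟨y, rfl⟩ := (ShortComplex.moduleCat_exact_iff _).1 h z hz
  exact freeVal_relHom ψ y

/-- The map on the explicit presheaf. -/
theorem exists_explVal : ∃ β : (ModOver.rp O_C (f.fn.obj d)).obj (expl f ((forg O_D).obj F)) ⟶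
    (forg (O_C.over (f.fn.obj d))).obj N, ∀ (c : C) (a : c ⟶ f.fn.obj d)
      (X : StructuredArrow c f.fn) (m : ((forg O_D).obj F).obj (op X.right)),
      (β.app (op (Over.mk a))).hom (cl f ((forg O_D).obj F) X m) = val ψ a X m := by
  let π := (ModOver.rp O_C (f.fn.obj d)).map (explπ f ((forg O_D).obj F))
  have hπ : ∀ Z, Function.Surjective (π.app Z).hom := fun Z =>
    PresheafOfModules.surjective_of_epi (explπ f ((forg O_D).obj F)) (op Z.unop.left)
  choose σ hσ using hπ
  have heq : ∀ Z z z', (π.app Z).hom z = (π.app Z).hom z' →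
      ((freeVal ψ).app Z).hom z = ((freeVal ψ).app Z).hom z' := fun Z z z' h => by
    have h0 : (π.app Z).hom (z - z') = 0 := by rw [map_sub, h, sub_self]
    have := freeVal_eq_zero ψ h0
    rwa [map_sub, sub_eq_zero] at this
  refine ⟨{
    app := fun Z => ModuleCat.ofHom
      { toFun := fun t => ((freeVal ψ).app Z).hom (σ Z t)
        map_add' := fun t t' => by
          rw [← map_add]
          exact heq Z _ _ (by rw [map_add, hσ, hσ, hσ])
        map_smul' := fun r t => by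
          rw [← map_smul]
          exact heq Z _ _ (by rw [RingHom.id_apply, map_smul, hσ, hσ]) }
    naturality := fun {Z Z'} w => by
      refine ModuleCat.hom_ext (LinearMap.ext fun t => ?_)
      show ((freeVal ψ).app Z').hom (σ Z' (rs _ w t)) = rs _ w (((freeVal ψ).app Z).hom (σ Z t))
      rw [← rs_app]
      refine heq Z' _ _ ?_
      rw [hσ, rs_app, hσ] }, fun c a X m => ?_⟩
  refine (heq (op (Over.mk a)) _
    (dl O_C (P := idxP f ((forg O_D).obj F)) (X := op c) ⟨X, m⟩ :) ?_).trans (freeVal_dl ψ a X m)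
  rw [hσ]
  rfl

end Value

variable (f d F)

lemma unitD_comp_app (γ : (ModSite.restr O_C (f.fn.obj d)).obj (G f F) ⟶ N) {e : D} (q : e ⟶ d)
    (m : ((forg O_D).obj F).obj (op e)) :
    pv (unitD f d F ≫ (pushD f d).map γ) q m =
      (γ.val.app (op (Over.mk (f.fn.map q)))).hom
        (cls' f F (StructuredArrow.mk (T := f.fn) (Y := e) (𝟙 _)) m) := rfl

lemma app_cls'_lift (γ : (ModSite.restr O_C (f.fn.obj d)).obj (G f F) ⟶ N) {c' c'' : C}
    (a' : c' ⟶ f.fn.obj d) (a'' : c'' ⟶ f.fn.obj d) (w : c'' ⟶ c') (ha' : w ≫ a' = a'')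
    (X : StructuredArrow c' f.fn) (m : ((forg O_D).obj F).obj (op X.right)) {e : D}
    (b : c'' ⟶ f.fn.obj e) (p : e ⟶ X.right) (q : e ⟶ d) (hp : b ≫ f.fn.map p = w ≫ X.hom)
    (hbq : b ≫ f.fn.map q = a'') :
    rs ((forg _).obj N) (om w ha').op ((γ.val.app (op (Over.mk a'))).hom (cls' f F X m)) =
      rs ((forg _).obj N) (om b hbq).op
        (pv (unitD f d F ≫ (pushD f d).map γ) q (rs ((forg O_D).obj F) p.op m)) := by
  rw [unitD_comp_app]
  have e1 : rs ((forg O_C).obj (G f F)) w.op (cls' f F X m) = rs ((forg O_C).obj (G f F)) b.op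
      (cls' f F (StructuredArrow.mk (T := f.fn) (Y := e) (𝟙 _)) (rs ((forg O_D).obj F) p.op m)) := by
    rw [rs_cls', rs_cls']
    exact (cls'_res f F (X := mv f b (StructuredArrow.mk (T := f.fn) (Y := e) (𝟙 _))) (Y := mv f w X)
      (StructuredArrow.homMk p (by
        show (b ≫ 𝟙 _) ≫ f.fn.map p = w ≫ X.hom
        rw [Category.comp_id, hp])) m).symm
  exact (LocPres.app_rs γ (om w ha').op _).symm.trans
    ((congrArg (γ.val.app (op (Over.mk a''))).hom e1).trans (LocPres.app_rs γ (om b hbq).op _))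

theorem injective_unitD_comp (β β' : (ModSite.restr O_C (f.fn.obj d)).obj (G f F) ⟶ N)
    (h : unitD f d F ≫ (pushD f d).map β = unitD f d F ≫ (pushD f d).map β') : β = β' := by
  ext Z t
  obtain ⟨Z⟩ := Z
  obtain ⟨S, hS, hS'⟩ := exists_combination f F (c := Z.left) t
  refine sep_over (a := Z.hom) S hS _ _ fun c' v hv a' ha => ?_
  obtain ⟨z, hz⟩ := hS' v hv
  have e : ∀ (γ : (ModSite.restr O_C (f.fn.obj d)).obj (G f F) ⟶ N),
      rs ((forg _).obj N) (om v ha).op ((γ.val.app (op Z)).hom t) =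
        ∑ i ∈ z.support, (show ((O_C.over (f.fn.obj d)).obj.obj (op (Over.mk a'))) from z i) •
          (γ.val.app (op (Over.mk a'))).hom (cls' f F i.X i.m) := fun γ => by
    refine ((LocPres.app_rs γ (om v ha).op t).symm.trans
      (congrArg (γ.val.app (op (Over.mk a'))).hom hz)).trans ?_
    exact (map_sum (γ.val.app (op (Over.mk a'))).hom _ _).trans
      (Finset.sum_congr rfl fun i _ => (γ.val.app (op (Over.mk a'))).hom.map_smul _ _)
  refine (e β).trans (Eq.trans (Finset.sum_congr rfl fun i _ => congrArg (_ • ·) ?_) (e β').symm)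
  obtain ⟨T, hT, hT'⟩ := PullSets.locally_pair (K := K) (J := J) f.fn i.X (StructuredArrow.mk a')
  refine sep_over T hT _ _ fun c'' w hw a'' ha' => ?_
  obtain ⟨e, b, p, q, hp, hq⟩ := hT' w hw
  simp only [StructuredArrow.mk_hom_eq_self] at hq
  rw [app_cls'_lift f d F β a' a'' w ha' i.X i.m b p q hp (hq.trans ha'),
    app_cls'_lift f d F β' a' a'' w ha' i.X i.m b p q hp (hq.trans ha'), h]

theorem surjective_unitD_comp (ψ : (ModSite.restr O_D d).obj F ⟶ (pushD f d).obj N) :
    ∃ β : (ModSite.restr O_C (f.fn.obj d)).obj (G f F) ⟶ N,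
      unitD f d F ≫ (pushD f d).map β = ψ := by
  haveI := isIso_map_eta f F
  let e := (ModOver.rp O_C (f.fn.obj d)).map (eta f F)
  haveI : IsIso ((aSh (O_C.over (f.fn.obj d))).map e) := ModOver.isIso_aSh_map_rp _ _ (eta f F)
  obtain ⟨β₀, hβ₀⟩ := exists_explVal ψ
  let A := adj (O_C.over (f.fn.obj d))
  let b₀ := inv ((aSh (O_C.over (f.fn.obj d))).map e) ≫ (A.homEquiv _ N).symm β₀
  have hb₀ : e ≫ A.homEquiv _ N b₀ = β₀ := by
    rw [← A.homEquiv_naturality_left, IsIso.hom_inv_id_assoc, Equiv.apply_symm_apply]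
  haveI := (SheafOfModules.fullyFaithfulForget (ModSite.ringSh (O_C.over (f.fn.obj d)))).full
  let β : (ModSite.restr O_C (f.fn.obj d)).obj (G f F) ⟶ N :=
    (forg (O_C.over (f.fn.obj d))).preimage (A.homEquiv _ N b₀)
  have hβ : (forg (O_C.over (f.fn.obj d))).map β = A.homEquiv _ N b₀ :=
    (forg (O_C.over (f.fn.obj d))).map_preimage _
  refine ⟨β, ?_⟩
  ext V m
  obtain ⟨V⟩ := V
  show (β.val.app (op ((Over.post f.fn).obj V))).hom
    (cls' f F (StructuredArrow.mk (𝟙 _)) m) = _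
  have h1 := congrArg (fun k => (PresheafOfModules.Hom.app k (op ((Over.post f.fn).obj V))).hom
    (cl f ((forg O_D).obj F) (StructuredArrow.mk (T := f.fn) (Y := V.left) (𝟙 _)) m)) (hb₀)
  refine Eq.trans ?_ (h1.trans ?_)
  · show (((forg (O_C.over (f.fn.obj d))).map β).app _).hom _ = _
    rw [hβ]
    rfl
  refine (hβ₀ _ (f.fn.map V.hom) (StructuredArrow.mk (T := f.fn) (Y := V.left) (𝟙 _)) m).trans ?_
  have h2 := isVal_val ψ (f.fn.map V.hom) (StructuredArrow.mk (T := f.fn) (Y := V.left) (𝟙 _)) m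
    (𝟙 _) (f.fn.map V.hom) (Category.id_comp _) V.left (𝟙 _) (𝟙 _) V.hom (by simp)
    (Category.id_comp _)
  have hid : ∀ (c : C) (a : c ⟶ f.fn.obj d)
      (x : ((forg (O_C.over (f.fn.obj d))).obj N).obj (op (Over.mk a))),
      rs ((forg _).obj N) (om (𝟙 c) (Category.id_comp a)).op x = x := fun c a x =>
    rs_id ((forg _).obj N) x
  rw [hid, hid] at h2
  exact h2.trans (congrArg (pv ψ V.hom) (rs_id ((forg O_D).obj F) m))

/-- Inverse image commutes with localisation. -/
theorem isIso_theta : IsIso (theta f d F) := by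
  rw [isIso_iff_coyoneda_map_bijective]
  intro N
  rw [← ((SheafOfModules.pullbackPushforwardAdjunction.{u} (sharpOver f d)).homEquiv _
    _).bijective.of_comp_iff']
  have : Function.Bijective (fun β : (ModSite.restr O_C (f.fn.obj d)).obj (G f F) ⟶ N =>
      unitD f d F ≫ (pushD f d).map β) :=
    ⟨injective_unitD_comp f d F, surjective_unitD_comp f d F⟩
  convert this using 1
  ext β : 1
  simp only [Function.comp_apply]
  rw [Adjunction.homEquiv_naturality_right, theta, Equiv.apply_symm_apply]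

/-- `(f^* F)|_{fn d} ≅ f_d^* (F|_d)`. -/
noncomputable def restrPullIso : (pullD f d).obj ((ModSite.restr O_D d).obj F) ≅
    (ModSite.restr O_C (f.fn.obj d)).obj (f.pull.obj F) :=
  haveI := isIso_theta f d F
  asIso (theta f d F) ≪≫ (ModSite.restr O_C (f.fn.obj d)).mapIso (explIso f F)

/-- The localised inverse image preserves the structure sheaf. -/
noncomputable def unitIso : SheafOfModules.unit (ModSite.ringSh (O_C.over (f.fn.obj d))) ≅
    (pullD f d).obj (SheafOfModules.unit (ModSite.ringSh (O_D.over d))) :=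
  (asIso (SheafOfModules.pullbackObjUnitToUnit.{u} (sharpOver f d))).symm

theorem preservesColimits_pullD : PreservesColimitsOfSize.{u, u} (pullD f d) :=
  (SheafOfModules.pullbackPushforwardAdjunction.{u} (sharpOver f d)).leftAdjoint_preservesColimits

/-- The images of a covering of the final object cover. -/
theorem coversTop_map {ι : Type u} {X : ι → D} (hX : K.CoversTop X) :
    J.CoversTop (fun i => f.fn.obj (X i)) := fun c => by
  obtain ⟨S, hS, hS'⟩ := exists_chart f c
  have key : ∀ ⦃W : C⦄ (g : W ⟶ c), S g →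
      Sieve.ofObjects (fun i => f.fn.obj (X i)) W ∈ J W := fun W g hg => by
    obtain ⟨Y⟩ := hS' g hg
    obtain ⟨T, hT, hT'⟩ := PullSets.locally_lift (K := K) (J := J) f.fn Y.hom _ (hX Y.right)
    refine J.superset_covering (fun V v hv => ?_) hT
    obtain ⟨e, g', b, hg', -⟩ := hT' v hv
    obtain ⟨i, ⟨q⟩⟩ := (Sieve.mem_ofObjects_iff ..).1 hg'
    exact (Sieve.mem_ofObjects_iff ..).2 ⟨i, ⟨b ≫ f.fn.map q⟩⟩
  refine J.transitive hS _ fun W g hg => J.superset_covering (fun V v hv => ?_) (key g hg)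
  obtain ⟨i, hi⟩ := (Sieve.mem_ofObjects_iff ..).1 hv
  exact (Sieve.mem_ofObjects_iff ..).2 ⟨i, hi⟩

end Groth.Agent.H15Site.LocalPull
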