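import Groth.Agent.H15Site.LocalPull
import Mathlib.Algebra.Category.ModuleCat.Sheaf.LocallyFree
import Mathlib.Algebra.Category.ModuleCat.Sheaf.Quasicoherent

/-!
# Inverse image of quasi-coherent, locally free and locally generated modules
-/

universe u

open CategoryTheory CategoryTheory.Limits Opposite

set_option linter.style.haveILetI false
set_option backward.isDefEq.respectTransparency false

namespace Groth.Agent.H15Site.LocalPull

attribute [local instance 10000] SiteInst.hasSheafifySite SiteInst.hasWeakSheafifySite

variable {C D : Type u} [SmallCategory C] [SmallCategory D] {J : GrothendieckTopology C}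
  {K : GrothendieckTopology D} {O_C : Sheaf J CommRingCat.{u}} {O_D : Sheaf K CommRingCat.{u}}
  (f : ModSite.RMor O_C O_D) {F : ModSite.Mod O_D}

attribute [local instance] preservesColimits_pullD

/-- Generators of `F|_d` give generators of `(f^*F)|_{fn d}`. -/
noncomputable def pullGen {d : D}
    (σ : ((ModSite.restr O_D d).obj F).GeneratingSections) :
    ((ModSite.restr O_C (f.fn.obj d)).obj (f.pull.obj F)).GeneratingSections :=
  (σ.map (pullD f d) (unitIso f d)).ofEpi (restrPullIso f d F).hom

/-- Local generators pull back. -/
noncomputable def pullLGD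
    (q : SheafOfModules.LocalGeneratorsData.{u} (R := ModSite.ringSh O_D) F) :
    SheafOfModules.LocalGeneratorsData.{u} (R := ModSite.ringSh O_C) (f.pull.obj F) where
  I := q.I
  X i := f.fn.obj (q.X i)
  coversTop := coversTop_map f q.coversTop
  generators i := pullGen f (q.generators i)

theorem isLocallyFree_pull [h : SheafOfModules.IsLocallyFree (R := ModSite.ringSh O_D) F] :
    SheafOfModules.IsLocallyFree (R := ModSite.ringSh O_C) (f.pull.obj F) := by
  obtain ⟨q, hq⟩ := h.exists_isLocallyFreeData
  refine { exists_isLocallyFreeData := ⟨pullLGD f q, ?_⟩ }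
  constructor
  intro i
  haveI := hq.isIso i
  show IsIso (pullGen f (q.generators i)).π
  rw [pullGen, SheafOfModules.GeneratingSections.ofEpi_π]
  infer_instance

theorem isQuasicoherent_pull [h : SheafOfModules.IsQuasicoherent (R := ModSite.ringSh O_D) F] :
    SheafOfModules.IsQuasicoherent (R := ModSite.ringSh O_C) (f.pull.obj F) := by
  obtain ⟨q⟩ := h.nonempty_quasicoherentData
  exact { nonempty_quasicoherentData := ⟨{
    I := q.I
    X := fun i => f.fn.obj (q.X i)
    coversTop := coversTop_map f q.coversTop
    presentation := fun i =>
      ((q.presentation i).map (pullD f (q.X i)) (unitIso f (q.X i))).ofIsIso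
        (restrPullIso f (q.X i) F).hom }⟩ }

end Groth.Agent.H15Site.LocalPull
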