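import Groth.Agent.H15Site.CoverFlat
import Groth.Agent.H15Site.ModOver
import Mathlib.CategoryTheory.Sites.Over

/-!
# Localisation of a morphism of sites at an object

For a continuous functor `fn : D ⥤ C` with exact inverse image, `Over.post fn : D/d ⥤ C/fn d` is
continuous, and final.
-/

universe u

open CategoryTheory CategoryTheory.Limits Opposite

set_option linter.style.haveILetI false
set_option backward.isDefEq.respectTransparency false
set_option linter.unusedSectionVars false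

namespace Groth.Agent.H15Site.LocalPull

attribute [local instance 10000] SiteInst.hasSheafifySite SiteInst.hasWeakSheafifySite

variable {C D : Type u} [SmallCategory C] [SmallCategory D] {J : GrothendieckTopology C}
  {K : GrothendieckTopology D} (fn : D ⥤ C) [fn.IsContinuous K J]
  [PreservesFiniteLimits (fn.sheafPullback (Type u) K J)]

include K in
/-- Two charts over one arrow locally come from one, commuting with given arrows to a common
object. -/
theorem locally_cone₁ {c : C} {e₁ e₂ z : D} (b₁ : c ⟶ fn.obj e₁) (b₂ : c ⟶ fn.obj e₂)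
    (q₁ : e₁ ⟶ z) (q₂ : e₂ ⟶ z) (h : b₁ ≫ fn.map q₁ = b₂ ≫ fn.map q₂) :
    ∃ S ∈ J c, ∀ ⦃c' : C⦄ (v : c' ⟶ c), S v →
      ∃ (e : D) (b : c' ⟶ fn.obj e) (h₁ : e ⟶ e₁) (h₂ : e ⟶ e₂),
        b ≫ fn.map h₁ = v ≫ b₁ ∧ b ≫ fn.map h₂ = v ≫ b₂ ∧ h₁ ≫ q₁ = h₂ ≫ q₂ := by
  obtain ⟨S, hS, hS'⟩ := PullSets.locally_pair (K := K) (J := J) fn (StructuredArrow.mk b₁)
    (StructuredArrow.mk b₂)
  have key : ∀ ⦃c' : C⦄ (v : c' ⟶ c), S v → ∃ T ∈ J c', ∀ ⦃c'' : C⦄ (w : c'' ⟶ c'), T w →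
      ∃ (e : D) (b : c'' ⟶ fn.obj e) (h₁ : e ⟶ e₁) (h₂ : e ⟶ e₂),
        b ≫ fn.map h₁ = (w ≫ v) ≫ b₁ ∧ b ≫ fn.map h₂ = (w ≫ v) ≫ b₂ ∧ h₁ ≫ q₁ = h₂ ≫ q₂ := by
    intro c' v hv
    obtain ⟨e, b, p, q, hp, hq⟩ := hS' v hv
    simp only [StructuredArrow.mk_hom_eq_self] at hp hq
    obtain ⟨T, hT, hT'⟩ := PullSets.locally_eq (K := K) (J := J) fn b (p ≫ q₁) (q ≫ q₂) (by
      rw [Functor.map_comp, Functor.map_comp, reassoc_of% hp, reassoc_of% hq, h])
    refine ⟨T, hT, fun c'' w hw => ?_⟩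
    obtain ⟨e', b', k, hk, hk'⟩ := hT' w hw
    refine ⟨e', b', k ≫ p, k ≫ q, ?_, ?_, by rwa [Category.assoc, Category.assoc]⟩
    · rw [Functor.map_comp, reassoc_of% hk, Category.assoc]
      exact congrArg (w ≫ ·) hp
    · rw [Functor.map_comp, reassoc_of% hk, Category.assoc]
      exact congrArg (w ≫ ·) hq
  choose T hT hT' using key
  refine ⟨Sieve.bind S.arrows T, J.bind_covering hS hT, fun c'' w hw => ?_⟩
  obtain ⟨c', u, v, hv, hu, rfl⟩ := hw
  exact hT' v hv u hu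

include K in
/-- The same with two common targets. -/
theorem locally_cone₂ {c : C} {e₁ e₂ z z' : D} (b₁ : c ⟶ fn.obj e₁) (b₂ : c ⟶ fn.obj e₂)
    (q₁ : e₁ ⟶ z) (q₂ : e₂ ⟶ z) (p₁ : e₁ ⟶ z') (p₂ : e₂ ⟶ z')
    (h : b₁ ≫ fn.map q₁ = b₂ ≫ fn.map q₂) (h' : b₁ ≫ fn.map p₁ = b₂ ≫ fn.map p₂) :
    ∃ S ∈ J c, ∀ ⦃c' : C⦄ (v : c' ⟶ c), S v →
      ∃ (e : D) (b : c' ⟶ fn.obj e) (h₁ : e ⟶ e₁) (h₂ : e ⟶ e₂),
        b ≫ fn.map h₁ = v ≫ b₁ ∧ b ≫ fn.map h₂ = v ≫ b₂ ∧ h₁ ≫ q₁ = h₂ ≫ q₂ ∧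
          h₁ ≫ p₁ = h₂ ≫ p₂ := by
  obtain ⟨S, hS, hS'⟩ := locally_cone₁ (K := K) (J := J) fn b₁ b₂ q₁ q₂ h
  have key : ∀ ⦃c' : C⦄ (v : c' ⟶ c), S v → ∃ T ∈ J c', ∀ ⦃c'' : C⦄ (w : c'' ⟶ c'), T w →
      ∃ (e : D) (b : c'' ⟶ fn.obj e) (h₁ : e ⟶ e₁) (h₂ : e ⟶ e₂),
        b ≫ fn.map h₁ = (w ≫ v) ≫ b₁ ∧ b ≫ fn.map h₂ = (w ≫ v) ≫ b₂ ∧ h₁ ≫ q₁ = h₂ ≫ q₂ ∧
          h₁ ≫ p₁ = h₂ ≫ p₂ := by
    intro c' v hv
    obtain ⟨e, b, k₁, k₂, e₁', e₂', hq⟩ := hS' v hv
    obtain ⟨T, hT, hT'⟩ := PullSets.locally_eq (K := K) (J := J) fn b (k₁ ≫ p₁) (k₂ ≫ p₂) (by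
      rw [Functor.map_comp, Functor.map_comp, reassoc_of% e₁', reassoc_of% e₂', h'])
    refine ⟨T, hT, fun c'' w hw => ?_⟩
    obtain ⟨e', b', k, hk, hk'⟩ := hT' w hw
    refine ⟨e', b', k ≫ k₁, k ≫ k₂, ?_, ?_, by rw [Category.assoc, Category.assoc, hq],
      by rwa [Category.assoc, Category.assoc]⟩
    · rw [Functor.map_comp, reassoc_of% hk, Category.assoc]
      exact congrArg (w ≫ ·) e₁'
    · rw [Functor.map_comp, reassoc_of% hk, Category.assoc]
      exact congrArg (w ≫ ·) e₂'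
  choose T hT hT' using key
  refine ⟨Sieve.bind S.arrows T, J.bind_covering hS hT, fun c'' w hw => ?_⟩
  obtain ⟨c', u, v, hv, hu, rfl⟩ := hw
  exact hT' v hv u hu

variable (d : D)

/-- A family on a covering sieve of `D/d`, transported along one chart. -/
def chart {Y : Over d} {P : (Over (fn.obj d))ᵒᵖ ⥤ Type u} {R : Sieve Y}
    (x : Presieve.FamilyOfElements ((Over.post fn).op ⋙ P) R.arrows)
    {V : Over d} (g : V ⟶ Y) (hg : R g) {W : Over (fn.obj d)}
    (b : W ⟶ (Over.post fn).obj V) : P.obj (op W) :=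
  P.map b.op (x g hg)

/-- A localised morphism of sites is continuous. -/
theorem isContinuous_post : (Over.post (X := d) fn).IsContinuous (K.over d) (J.over (fn.obj d)) where
  op_comp_isSheaf_of_types G := by
    intro Y R hR x hx
    have hR' : Sieve.overEquiv Y R ∈ K Y.left := (K.mem_over_iff R).1 hR
    have hsep : ∀ {W : Over (fn.obj d)} (S : Sieve W.left), S ∈ J W.left →
        ∀ a a' : G.obj.obj (op W), (∀ (Z : Over (fn.obj d)) (v : Z ⟶ W), S v.left →
          G.obj.map v.op a = G.obj.map v.op a') → a = a' := fun {W} S hS a a' h => by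
      refine (((isSheaf_iff_isSheaf_of_type _ _).1 G.2) ((Sieve.overEquiv W).symm S)
        ((J.mem_over_iff _).2 (by simpa using hS))).isSeparatedFor.ext fun Z v hv => ?_
      exact h Z v ((Sieve.overEquiv_symm_iff S v).1 hv)
    -- independence of the chart
    have indep : ∀ {W : Over (fn.obj d)} {V₁ V₂ : Over d} (g₁ : V₁ ⟶ Y) (hg₁ : R g₁)
        (g₂ : V₂ ⟶ Y) (hg₂ : R g₂) (b₁ : W ⟶ (Over.post fn).obj V₁)
        (b₂ : W ⟶ (Over.post fn).obj V₂),
        b₁ ≫ (Over.post fn).map g₁ = b₂ ≫ (Over.post fn).map g₂ →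
          chart fn d x g₁ hg₁ b₁ = chart fn d x g₂ hg₂ b₂ := by
      intro W V₁ V₂ g₁ hg₁ g₂ hg₂ b₁ b₂ h
      obtain ⟨S, hS, hS'⟩ := locally_cone₁ (K := K) (J := J) fn b₁.left b₂.left g₁.left g₂.left
        (congrArg CommaMorphism.left h)
      refine hsep S hS _ _ fun Z v hv => ?_
      obtain ⟨e, b, h₁, h₂, e₁, e₂, hh⟩ := hS' v.left hv
      let V : Over d := Over.mk (h₁ ≫ V₁.hom)
      let k₁ : V ⟶ V₁ := Over.homMk h₁
      let k₂ : V ⟶ V₂ := Over.homMk h₂ (by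
        show h₂ ≫ V₂.hom = h₁ ≫ V₁.hom
        rw [← Over.w g₂, ← Over.w g₁]
        exact (Category.assoc _ _ _).symm.trans ((congrArg (· ≫ Y.hom) hh.symm).trans
          (Category.assoc _ _ _)))
      let bb : Z ⟶ (Over.post fn).obj V := Over.homMk b (by
        show b ≫ fn.map (h₁ ≫ V₁.hom) = Z.hom
        rw [Functor.map_comp, reassoc_of% e₁, ← Over.w v, ← Over.w b₁]
        rfl)
      have hk : k₁ ≫ g₁ = k₂ ≫ g₂ := Over.OverMorphism.ext hh
      have hxk := hx k₁ k₂ hg₁ hg₂ hk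
      show G.obj.map v.op (G.obj.map b₁.op _) = G.obj.map v.op (G.obj.map b₂.op _)
      have f₁ : v ≫ b₁ = bb ≫ (Over.post fn).map k₁ := Over.OverMorphism.ext e₁.symm
      have f₂ : v ≫ b₂ = bb ≫ (Over.post fn).map k₂ := Over.OverMorphism.ext e₂.symm
      rw [← Functor.map_comp_apply, ← Functor.map_comp_apply, ← op_comp, ← op_comp, f₁, f₂,
        op_comp, op_comp, Functor.map_comp_apply, Functor.map_comp_apply]
      exact congrArg (G.obj.map bb.op) hxk
    let T : Sieve ((Over.post fn).obj Y) :=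
      { arrows := fun Z v => ∃ (V : Over d) (g : V ⟶ Y) (_ : R g)
          (b : Z ⟶ (Over.post fn).obj V), b ≫ (Over.post fn).map g = v
        downward_closed := by
          rintro Z Z' v ⟨V, g, hg, b, hb⟩ w
          exact ⟨V, g, hg, w ≫ b, by rw [Category.assoc, hb]⟩ }
    have hT : T ∈ J.over (fn.obj d) ((Over.post fn).obj Y) := by
      obtain ⟨S, hS, hS'⟩ := PullSets.locally_lift (K := K) (J := J) fn (𝟙 (fn.obj Y.left))
        (Sieve.overEquiv Y R) hR'
      rw [J.mem_over_iff]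
      refine J.superset_covering (fun W v hv => ?_) hS
      obtain ⟨e, g, b, hg, hb⟩ := hS' v hv
      rw [Category.comp_id] at hb
      refine (Sieve.overEquiv_iff T v).2 ⟨Over.mk (g ≫ Y.hom), Over.homMk g,
        (Sieve.overEquiv_iff R g).1 hg, Over.homMk b ?_, Over.OverMorphism.ext hb⟩
      show b ≫ fn.map (g ≫ Y.hom) = v ≫ fn.map Y.hom
      rw [Functor.map_comp, reassoc_of% hb]
    have hGT := ((isSheaf_iff_isSheaf_of_type _ _).1 G.2) T hT
    let y : Presieve.FamilyOfElements G.obj T.arrows := fun Z v hv =>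
      chart fn d x hv.choose_spec.choose hv.choose_spec.choose_spec.choose
        hv.choose_spec.choose_spec.choose_spec.choose
    have hy : ∀ {Z : Over (fn.obj d)} (v : Z ⟶ (Over.post fn).obj Y) (hv : T v) {V : Over d}
        (g : V ⟶ Y) (hg : R g) (b : Z ⟶ (Over.post fn).obj V),
        b ≫ (Over.post fn).map g = v → y v hv = chart fn d x g hg b := fun v hv V g hg b hb =>
      indep _ _ g hg _ b (hv.choose_spec.choose_spec.choose_spec.choose_spec.trans hb.symm)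
    have hy' : y.Compatible := (Presieve.compatible_iff_sieveCompatible _).2 fun Z Z' v w hv => by
      obtain ⟨V, g, hg, b, hb⟩ := id hv
      rw [hy v hv g hg b hb, hy _ _ g hg (w ≫ b) (by rw [Category.assoc, hb])]
      show chart fn d x g hg (w ≫ b) = G.obj.map w.op (G.obj.map b.op _)
      rw [← Functor.map_comp_apply, ← op_comp]
      rfl
    refine ⟨hGT.amalgamate y hy', fun V g hg => ?_, fun t ht => ?_⟩
    · refine (hGT.valid_glue hy' _ ⟨V, g, hg, 𝟙 _, Category.id_comp _⟩).trans ?_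
      rw [hy _ _ g hg (𝟙 _) (Category.id_comp _)]
      exact ((congrArg (fun k => G.obj.map k (x g hg)) op_id).trans (Functor.map_id_apply _ _ _))
    · refine hGT.isSeparatedFor.ext fun Z v hv => ?_
      rw [hGT.valid_glue hy' v hv]
      obtain ⟨V, g, hg, b, hb⟩ := id hv
      rw [hy v hv g hg b hb, ← hb, op_comp, Functor.map_comp_apply]
      exact congrArg (G.obj.map b.op) (ht g hg)

theorem final_post : (Over.post (X := d) fn).Final where
  out W := by
    let f₀ : W ⟶ (Over.post fn).obj (Over.mk (𝟙 d)) := Over.homMk W.hom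
      (by show W.hom ≫ fn.map (𝟙 d) = W.hom; rw [fn.map_id, Category.comp_id])
    haveI : Nonempty (StructuredArrow W (Over.post (X := d) fn)) := ⟨StructuredArrow.mk f₀⟩
    refine zigzag_isConnected fun A B => ?_
    have key : ∀ A : StructuredArrow W (Over.post (X := d) fn), Zigzag A (StructuredArrow.mk f₀) :=
      fun A => Zigzag.of_hom (StructuredArrow.homMk (Over.homMk A.right.hom (Category.comp_id _))
        (by
          refine Over.OverMorphism.ext ?_
          exact Over.w A.hom))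
    exact (key A).trans (Zigzag.symm (key B))

end Groth.Agent.H15Site.LocalPull
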