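import Mathlib
set_option linter.style.haveILetI false

open CategoryTheory CategoryTheory.Limits Opposite Simplicial

universe u

namespace Groth.Agent.H15Site

namespace Moore

variable {X Y : SimplicialObject GrpCat.{u}} (f : X ⟶ Y)

/-- Face maps of a simplicial group as functions. -/
abbrev d {m : ℕ} (j : Fin (m + 2)) (w : X _⦋m + 1⦌) : X _⦋m⦌ := X.δ j w

lemma d_d {m : ℕ} {i j : Fin (m + 2)} (h : i ≤ j) (w : X _⦋m + 2⦌) :
    d i (d j.succ w) = d j (d i.castSucc w) :=
  ConcreteCategory.congr_hom (X.δ_comp_δ h) w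

variable {n : ℕ} (i : Fin (n + 3)) (x : ∀ j : Fin (n + 3), j ≠ i → X _⦋n + 1⦌)

/-- Correcting a partial filler in one face. -/
lemma step (hx : ∀ (j k : Fin (n + 3)) (hj : j ≠ i) (hk : k ≠ i) (hjk : j < k),
      d (k.pred (Fin.ne_zero_of_lt hjk)) (x j hj) = d (j.castPred (Fin.ne_last_of_lt hjk)) (x k hk))
    (y : Y _⦋n + 2⦌)
    (hy : ∀ j hj, f.app (op ⦋n + 1⦌) (x j hj) = Y.δ j y)
    (S : Set (Fin (n + 3))) (r : Fin (n + 3)) (hr : r ≠ i) (hrS : r ∉ S)
    (hS : (r < i ∧ ∀ j ∈ S, j < r) ∨ (i < r ∧ ∀ j ∈ S, j < i ∨ r < j))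
    (w : X _⦋n + 2⦌) (hw : f.app (op ⦋n + 2⦌) w = y)
    (hwS : ∀ j hj, j ∈ S → d j w = x j hj) :
    ∃ w' : X _⦋n + 2⦌, f.app (op ⦋n + 2⦌) w' = y ∧
      (∀ j hj, j ∈ S → d j w' = x j hj) ∧ d r w' = x r hr := by
  set c := (d r w)⁻¹ * x r hr with hc
  have hfc : f.app (op ⦋n + 1⦌) c = 1 := by
    have h1 : f.app (op ⦋n + 1⦌) (d r w) = f.app (op ⦋n + 1⦌) (x r hr) := by
      rw [hy, ← hw]
      exact ConcreteCategory.congr_hom (SimplicialObject.δ_naturality f r) w
    rw [hc, map_mul, map_inv, h1, inv_mul_cancel]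
  -- the vanishing of the relevant faces of `c`
  have low : ∀ (j' : Fin (n + 2)) (q : Fin (n + 2)), r = q.succ → j' ≤ q → j'.castSucc ∈ S →
      j'.castSucc ≠ i → d j' c = 1 := by
    intro j' q hrq hjq hjS hji
    have hlt : j'.castSucc < r := by
      subst hrq
      exact Fin.castSucc_lt_succ_iff.2 hjq
    have h2 := hx j'.castSucc r hji hr hlt
    have h3 : d j' (d r w) = d q (x j'.castSucc hji) := by
      subst hrq
      rw [d_d hjq, hwS _ hji hjS]
    have h4 : r.pred (Fin.ne_zero_of_lt hlt) = q := by simp [hrq]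
    have h5 : j'.castSucc.castPred (Fin.ne_last_of_lt hlt) = j' := by simp
    rw [h4, h5] at h2
    change X.δ j' c = 1
    rw [hc, map_mul, map_inv]
    change (d j' (d r w))⁻¹ * d j' (x r hr) = 1
    rw [h3, h2, inv_mul_cancel]
  have high : ∀ (j' : Fin (n + 2)) (q : Fin (n + 2)), r = q.castSucc → q ≤ j' → j'.succ ∈ S →
      j'.succ ≠ i → d j' c = 1 := by
    intro j' q hrq hjq hjS hji
    have hlt : r < j'.succ := by
      subst hrq
      exact Fin.castSucc_lt_succ_iff.2 hjq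
    have h2 := hx r j'.succ hr hji hlt
    have h3 : d j' (d r w) = d q (x j'.succ hji) := by
      subst hrq
      rw [← d_d hjq, hwS _ hji hjS]
    have h4 : r.castPred (Fin.ne_last_of_lt hlt) = q := by simp [hrq]
    have h5 : j'.succ.pred (Fin.ne_zero_of_lt hlt) = j' := by simp
    rw [h4, h5] at h2
    change X.δ j' c = 1
    rw [hc, map_mul, map_inv]
    change (d j' (d r w))⁻¹ * d j' (x r hr) = 1
    rw [h3, h2, inv_mul_cancel]
  -- the degeneracy used for the correction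
  suffices ∃ s : Fin (n + 2), X.δ r (X.σ s c) = c ∧
      ∀ j, j ∈ S → j ≠ i → X.δ j (X.σ s c) = 1 by
    obtain ⟨s, hs₁, hs₂⟩ := this
    refine ⟨w * X.σ s c, ?_, fun j hj hjS => ?_, ?_⟩
    · rw [map_mul, hw]
      have h1 : f.app (op ⦋n + 2⦌) (X.σ s c) = Y.σ s (f.app (op ⦋n + 1⦌) c) :=
        ConcreteCategory.congr_hom (SimplicialObject.σ_naturality f s) c
      rw [h1, hfc, map_one, mul_one]
    · change X.δ j (w * X.σ s c) = _
      rw [map_mul, hs₂ j hjS hj, mul_one]
      exact hwS j hj hjS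
    · change X.δ r (w * X.σ s c) = _
      rw [map_mul, hs₁, hc]
      exact mul_inv_cancel_left _ _
  rcases hS with ⟨hlt, hS⟩ | ⟨hlt, hS⟩
  · obtain ⟨s, rfl⟩ := Fin.exists_castSucc_eq.2 (Fin.ne_last_of_lt hlt)
    refine ⟨s, ConcreteCategory.congr_hom X.δ_comp_σ_self c, fun j hjS hji => ?_⟩
    have hjr := hS j hjS
    obtain ⟨j', rfl⟩ := Fin.exists_castSucc_eq.2 (Fin.ne_last_of_lt hjr)
    have hlt' : j' < s := Fin.castSucc_lt_castSucc_iff.1 hjr
    obtain ⟨q, rfl⟩ := Fin.exists_succ_eq.2 (Fin.ne_zero_of_lt hlt')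
    refine (ConcreteCategory.congr_hom
      (X.δ_comp_σ_of_le (Fin.le_castSucc_iff.2 hlt')) c).trans ?_
    have h1 := low j' q.castSucc (by simp) (Fin.le_castSucc_iff.2 hlt') hjS hji
    change X.σ q (d j' c) = 1
    rw [h1, map_one]
  · obtain ⟨s, rfl⟩ := Fin.exists_succ_eq.2 (Fin.ne_zero_of_lt hlt)
    refine ⟨s, ConcreteCategory.congr_hom X.δ_comp_σ_succ c, fun j hjS hji => ?_⟩
    rcases hS j hjS with hjr | hjr
    · obtain ⟨j', rfl⟩ := Fin.exists_castSucc_eq.2 (Fin.ne_last_of_lt hjr)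
      have hlt' : j' < s := by
        simp only [Fin.lt_def, Fin.val_castSucc, Fin.val_succ] at hjr hlt ⊢
        omega
      obtain ⟨q, rfl⟩ := Fin.exists_succ_eq.2 (Fin.ne_zero_of_lt hlt')
      refine (ConcreteCategory.congr_hom
        (X.δ_comp_σ_of_le (Fin.le_castSucc_iff.2 hlt')) c).trans ?_
      have h1 := low j' q.succ rfl hlt'.le hjS hji
      change X.σ q (d j' c) = 1
      rw [h1, map_one]
    · obtain ⟨j', rfl⟩ := Fin.exists_succ_eq.2 (Fin.ne_zero_of_lt hjr)
      have hlt' : s < j' := Fin.succ_lt_succ_iff.1 hjr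
      obtain ⟨q, rfl⟩ := Fin.exists_castSucc_eq.2 (Fin.ne_last_of_lt hlt')
      refine (ConcreteCategory.congr_hom (X.δ_comp_σ_of_gt hlt') c).trans ?_
      have h1 := high j' q.succ (by simp) (Fin.castSucc_lt_iff_succ_le.1 hlt') hjS hji
      change X.σ q (d j' c) = 1
      rw [h1, map_one]

/-- Moore's algorithm: horns in a degreewise surjective map of simplicial groups have fillers. -/
lemma exists_filler (hx : ∀ (j k : Fin (n + 3)) (hj : j ≠ i) (hk : k ≠ i) (hjk : j < k),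
      d (k.pred (Fin.ne_zero_of_lt hjk)) (x j hj) = d (j.castPred (Fin.ne_last_of_lt hjk)) (x k hk))
    (hf : Function.Surjective (f.app (op ⦋n + 2⦌)))
    (y : Y _⦋n + 2⦌) (hy : ∀ j hj, f.app (op ⦋n + 1⦌) (x j hj) = Y.δ j y) :
    ∃ w : X _⦋n + 2⦌, f.app (op ⦋n + 2⦌) w = y ∧ ∀ j hj, d j w = x j hj := by
  have stage1 : ∀ r : ℕ, r ≤ i.val → ∃ w : X _⦋n + 2⦌, f.app (op ⦋n + 2⦌) w = y ∧
      ∀ j hj, j.val < r → d j w = x j hj := by
    intro r
    induction r with
    | zero => exact fun _ => ⟨(hf y).choose, (hf y).choose_spec, fun j hj h => absurd h (by omega)⟩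
    | succ r ih =>
      intro hr
      obtain ⟨w, hw, hwS⟩ := ih (by omega)
      let R : Fin (n + 3) := ⟨r, by omega⟩
      have hR : R < i := Fin.lt_def.2 (show r < i.val by omega)
      obtain ⟨w', hw', h1, h2⟩ := step f i x hx y hy (Set.ofPred fun j : Fin (n + 3) => j.val < r) R hR.ne (lt_irrefl r)
        (Or.inl ⟨hR, fun j hj => hj⟩) w hw hwS
      refine ⟨w', hw', fun j hj hjr => ?_⟩
      rcases Nat.lt_succ_iff_lt_or_eq.1 hjr with h | h
      · exact h1 j hj h
      · obtain rfl : j = R := Fin.ext h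
        exact h2
  have stage2 : ∀ k : ℕ, ∃ w : X _⦋n + 2⦌, f.app (op ⦋n + 2⦌) w = y ∧
      ∀ j hj, (j.val < i.val ∨ n + 3 ≤ j.val + k) → d j w = x j hj := by
    intro k
    induction k with
    | zero =>
      obtain ⟨w, hw, hwS⟩ := stage1 i.val le_rfl
      exact ⟨w, hw, fun j hj h => hwS j hj (h.resolve_right (by omega))⟩
    | succ k ih =>
      obtain ⟨w, hw, hwS⟩ := ih
      by_cases hk : i.val + k + 1 < n + 3
      · let R : Fin (n + 3) := ⟨n + 3 - (k + 1), by omega⟩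
        have hR : i < R := by change i.val < n + 3 - (k + 1); omega
        have hnot : R ∉ (Set.ofPred fun j : Fin (n + 3) => j.val < i.val ∨ n + 3 ≤ j.val + k) := by
          intro h
          change n + 3 - (k + 1) < i.val ∨ n + 3 ≤ n + 3 - (k + 1) + k at h
          change i.val < n + 3 - (k + 1) at hR
          omega
        obtain ⟨w', hw', h1, h2⟩ := step f i x hx y hy
          (Set.ofPred fun j : Fin (n + 3) => j.val < i.val ∨ n + 3 ≤ j.val + k) R hR.ne' hnot
          (Or.inr ⟨hR, fun j hj => hj.imp id (fun h => by change n + 3 - (k + 1) < j.val; omega)⟩)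
          w hw hwS
        refine ⟨w', hw', fun j hj hjr => ?_⟩
        by_cases h : j = R
        · subst h; exact h2
        · refine h1 j hj ?_
          have : j.val ≠ n + 3 - (k + 1) := fun e => h (Fin.ext e)
          rcases hjr with h' | h'
          · exact Or.inl h'
          · exact Or.inr (by omega)
      · refine ⟨w, hw, fun j hj hjr => hwS j hj ?_⟩
        have : j.val ≠ i.val := Fin.val_ne_of_ne hj
        omega
  obtain ⟨w, hw, hwS⟩ := stage2 (n + 3)
  exact ⟨w, hw, fun j hj => hwS j hj (Or.inr (by omega))⟩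

end Moore

open SSet in
/-- A degreewise surjective map of simplicial groups is a Kan fibration. -/
theorem rlp_J_of_surjective {G H : SimplicialObject GrpCat.{u}} (f : G ⟶ H)
    (hf : ∀ n : SimplexCategoryᵒᵖ, Function.Surjective (f.app n)) :
    SSet.modelCategoryQuillen.J.rlp (X := G ⋙ forget GrpCat.{u}) (Y := H ⋙ forget GrpCat.{u})
      (Functor.whiskerRight f (forget GrpCat.{u})) := by
  intro A B g hJ
  simp only [SSet.modelCategoryQuillen.J, MorphismProperty.iSup_iff] at hJ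
  obtain ⟨n, ⟨i⟩⟩ := hJ
  refine ⟨fun {a b} sq => ?_⟩
  let y : H _⦋n + 1⦌ := SSet.yonedaEquiv b
  let x : ∀ j : Fin (n + 2), j ≠ i → G _⦋n⦌ := fun j hj => SSet.yonedaEquiv (horn.ι i j hj ≫ a)
  have hy : ∀ j hj, f.app (op ⦋n⦌) (x j hj) = H.δ j y := by
    intro j hj
    have h1 : (horn.ι i j hj ≫ a) ≫ Functor.whiskerRight f (forget GrpCat.{u}) =
        stdSimplex.δ j ≫ b := by
      rw [Category.assoc, sq.w, ← Category.assoc, horn.ι_ι]
    exact (congrArg SSet.yonedaEquiv h1).trans (stdSimplex.yonedaEquiv_δ_comp b j)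
  suffices ∃ w : G _⦋n + 1⦌, f.app (op ⦋n + 1⦌) w = y ∧ ∀ j hj, G.δ j w = x j hj by
    obtain ⟨w, hw, hwx⟩ := this
    refine ⟨⟨SSet.yonedaEquiv.symm w, horn.hom_ext' fun j hj => ?_, ?_⟩⟩
    · rw [← Category.assoc, horn.ι_ι]
      apply SSet.yonedaEquiv.injective
      rw [stdSimplex.yonedaEquiv_δ_comp, Equiv.apply_symm_apply]
      exact hwx j hj
    · apply SSet.yonedaEquiv.injective
      rw [SSet.yonedaEquiv_comp, Equiv.apply_symm_apply]
      exact hw
  cases n with
  | zero =>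
    obtain ⟨j, hj⟩ : ∃ j : Fin 2, j ≠ i := exists_ne i
    obtain ⟨z, hz⟩ := hf (op ⦋1⦌) y
    -- correct the lift in the only face
    refine ⟨z * G.σ 0 ((G.δ j z)⁻¹ * x j hj), ?_, fun k hk => ?_⟩
    · have h1 : f.app (op ⦋0⦌) (G.δ j z) = f.app (op ⦋0⦌) (x j hj) := by
        rw [hy, ← hz]
        exact ConcreteCategory.congr_hom (SimplicialObject.δ_naturality f j) z
      have h2 : ∀ c, f.app (op ⦋1⦌) (G.σ 0 c) = H.σ 0 (f.app (op ⦋0⦌) c) := fun c =>
        ConcreteCategory.congr_hom (SimplicialObject.σ_naturality f 0) c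
      rw [map_mul, hz, h2, map_mul, map_inv, h1, inv_mul_cancel, map_one, mul_one]
    · obtain rfl : k = j := by omega
      have h3 : ∀ c, G.δ k (G.σ 0 c) = c := by
        intro c
        fin_cases k
        · exact ConcreteCategory.congr_hom (G.δ_comp_σ_self (i := (0 : Fin 1))) c
        · exact ConcreteCategory.congr_hom (G.δ_comp_σ_succ (i := (0 : Fin 1))) c
      rw [map_mul, h3, mul_inv_cancel_left]
  | succ n =>
    refine Moore.exists_filler f i x (fun j k hj hk hjk => ?_) (hf _) y hy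
    have h := (horn.isCompatible_iff _).1 (horn.IsCompatible.of_hom a) j k hj hk hjk
    exact ((stdSimplex.yonedaEquiv_δ_comp _ _).symm.trans
      (congrArg SSet.yonedaEquiv h)).trans (stdSimplex.yonedaEquiv_δ_comp _ _)

end Groth.Agent.H15Site
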