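import Groth.Prelude.Def_SGA4a
import Mathlib.CategoryTheory.Sites.LeftExact
import Mathlib.CategoryTheory.Sites.CartesianClosed
import Mathlib.CategoryTheory.Monoidal.Closed.FunctorToTypes
import Mathlib.CategoryTheory.Monoidal.Closed.Types
import Mathlib.CategoryTheory.Adjunction.Reflective

/-!
# Open and closed complementary subtopoi of a topos of sheaves of sets
-/

set_option autoImplicit false
set_option linter.unusedSectionVars false
set_option linter.style.haveILetI false
set_option backward.isDefEq.respectTransparency false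

universe u

noncomputable section

open CategoryTheory CategoryTheory.Limits MonoidalCategory CartesianMonoidalCategory SGA4

namespace Groth.Agent.H15Site.OpenClosed

variable {C : Type u} [SmallCategory C] {J : GrothendieckTopology C}
  {U : Sheaf J (Type u)} (hU : IsOpen U)

include hU in
lemma hom_eq {T : Sheaf J (Type u)} (s t : T ⟶ U) : s = t :=
  hU.right_cancellation _ _ (Subsingleton.elim _ _)

include hU in
lemma mono_snd (X : Sheaf J (Type u)) : Mono (prod.snd : U ⨯ X ⟶ X) :=
  ⟨fun _ _ h => Limits.prod.hom_ext (hom_eq hU _ _) h⟩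

variable (U) in
/-- `U ⨿_{U × X} X`. -/
abbrev CU (X : Sheaf J (Type u)) : Sheaf J (Type u) :=
  pushout (prod.fst : U ⨯ X ⟶ U) (prod.snd : U ⨯ X ⟶ X)

variable (U) in
/-- The map `U ⟶ U ⨿_{U × X} X`. -/
abbrev a (X : Sheaf J (Type u)) : U ⟶ CU U X :=
  pushout.inl (prod.fst : U ⨯ X ⟶ U) (prod.snd : U ⨯ X ⟶ X)

variable (U) in
/-- The map `X ⟶ U ⨿_{U × X} X`. -/
abbrev b (X : Sheaf J (Type u)) : X ⟶ CU U X :=
  pushout.inr (prod.fst : U ⨯ X ⟶ U) (prod.snd : U ⨯ X ⟶ X)

include hU in
/-- Over `U` every point of `U ⨿_{U × X} X` is the one coming from `U`. -/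
lemma eq_comp_a (X : Sheaf J (Type u)) {T : Sheaf J (Type u)} (t : T ⟶ U) (z : T ⟶ CU U X) :
    z = t ≫ a U X := by
  have h : snd U (CU U X) = fst U (CU U X) ≫ a U X := by
    apply MonoidalClosed.curry_injective
    apply pushout.hom_ext
    · rw [← MonoidalClosed.curry_natural_left, ← MonoidalClosed.curry_natural_left, whiskerLeft_snd,
        whiskerLeft_fst_assoc]
      exact congrArg _ (congrArg (· ≫ a U X) (hom_eq hU _ _))
    · rw [← MonoidalClosed.curry_natural_left, ← MonoidalClosed.curry_natural_left, whiskerLeft_snd,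
        whiskerLeft_fst_assoc]
      refine congrArg _ ?_
      have e : prod.lift (fst U X) (snd U X) ≫ (prod.fst : U ⨯ X ⟶ U) ≫ a U X =
          prod.lift (fst U X) (snd U X) ≫ (prod.snd : U ⨯ X ⟶ X) ≫ b U X :=
        congrArg _ pushout.condition
      simpa using e.symm
  calc z = CartesianMonoidalCategory.lift t z ≫ snd U (CU U X) := (lift_snd t z).symm
    _ = t ≫ a U X := by rw [h, lift_fst_assoc]

include hU in
lemma closedCompl_CU (X : Sheaf J (Type u)) : closedCompl U (CU U X) := by
  refine ⟨prod.lift (𝟙 U) (a U X), ?_, prod.lift_fst _ _⟩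
  apply Limits.prod.hom_ext
  · exact hom_eq hU _ _
  · rw [Category.assoc, prod.lift_snd, Category.id_comp]
    exact (eq_comp_a hU X prod.fst prod.snd).symm

lemma closedCompl_of_iso {X Y : Sheaf J (Type u)} (e : X ≅ Y) (h : closedCompl U X) :
    closedCompl U Y := by
  haveI : IsIso (prod.fst : U ⨯ X ⟶ U) := h
  have : (prod.fst : U ⨯ Y ⟶ U) = prod.map (𝟙 U) e.inv ≫ (prod.fst : U ⨯ X ⟶ U) := by
    rw [prod.map_fst, Category.comp_id]
  change IsIso (prod.fst : U ⨯ Y ⟶ U)
  rw [this]
  infer_instance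

lemma isIso_b {X : Sheaf J (Type u)} (h : closedCompl U X) : IsIso (b U X) := by
  haveI : IsIso (prod.fst : U ⨯ X ⟶ U) := h
  infer_instance

include hU in
lemma closedCompl_iff_isIso_b (X : Sheaf J (Type u)) : closedCompl U X ↔ IsIso (b U X) :=
  ⟨isIso_b, fun _ => closedCompl_of_iso (asIso (b U X)).symm (closedCompl_CU hU X)⟩

lemma isPullback_prod_map {X X' : Sheaf J (Type u)} (m : X ⟶ X') (h : IsIso (prod.map (𝟙 U) m)) :
    IsPullback (prod.fst : U ⨯ X ⟶ U) (prod.map (𝟙 U) m) (𝟙 U) prod.fst :=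
  IsPullback.of_vert_isIso ⟨by simp⟩

include hU in
lemma isPullback_snd_prod_map {X X' : Sheaf J (Type u)} (m : X ⟶ X') :
    IsPullback (prod.snd : U ⨯ X ⟶ X) (prod.map (𝟙 U) m) m prod.snd :=
  ⟨⟨by simp⟩, ⟨PullbackCone.IsLimit.mk _ (fun s => prod.lift (s.snd ≫ prod.fst) s.fst)
    (fun s => by simp) (fun s => by
      apply Limits.prod.hom_ext
      · exact hom_eq hU _ _
      · simp [s.condition])
    (fun s m' h₁ h₂ => by
      apply Limits.prod.hom_ext
      · exact hom_eq hU _ _
      · simpa using h₁)⟩⟩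

include hU in
/-- The square `X ⟶ X_CU` is cartesian over maps that are isomorphisms over `U`. -/
lemma isPullback_b {X X' : Sheaf J (Type u)} (m : X ⟶ X') (k : CU U X ⟶ CU U X')
    (hk₁ : a U X ≫ k = a U X') (hk₂ : b U X ≫ k = m ≫ b U X') (h : IsIso (prod.map (𝟙 U) m)) :
    IsPullback (b U X) m k (b U X') := by
  haveI := mono_snd hU X'
  have H' : IsPushout (prod.fst : U ⨯ X' ⟶ U) (prod.snd : U ⨯ X' ⟶ X') (a U X') (b U X') :=
    IsPushout.of_hasPushout _ _
  exact ((Adhesive.van_kampen' H') _ _ (a U X) (b U X) (prod.map (𝟙 U) m) (𝟙 U) m k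
    (isPullback_prod_map m h) (isPullback_snd_prod_map hU m) ⟨by rw [Category.id_comp]; exact hk₁⟩
    ⟨hk₂⟩ ⟨pushout.condition⟩).1 (IsPushout.of_hasPushout _ _) |>.2

include hU in
lemma isIso_prod_map {X X' : Sheaf J (Type u)} (m : X ⟶ X') (k : CU U X ⟶ CU U X')
    (hk₁ : a U X ≫ k = a U X') (h : IsPullback m (b U X) (b U X') k) :
    IsIso (prod.map (𝟙 U) m) := by
  have e : (prod.snd : U ⨯ X' ⟶ X') ≫ b U X' = ((prod.fst : U ⨯ X' ⟶ U) ≫ a U X) ≫ k := by
    rw [Category.assoc, hk₁]; exact pushout.condition.symm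
  refine ⟨prod.lift prod.fst (h.lift prod.snd (prod.fst ≫ a U X) e), ?_, ?_⟩
  · apply Limits.prod.hom_ext
    · exact hom_eq hU _ _
    · rw [Category.assoc, prod.lift_snd, Category.id_comp]
      apply h.hom_ext
      · rw [Category.assoc, h.lift_fst, prod.map_snd]
      · rw [Category.assoc, h.lift_snd, reassoc_of% (prod.map_fst (𝟙 U) m)]
        exact (eq_comp_a hU X prod.fst (prod.snd ≫ b U X)).symm
  · apply Limits.prod.hom_ext
    · exact hom_eq hU _ _
    · rw [Category.assoc, prod.map_snd, prod.lift_snd_assoc, h.lift_fst, Category.id_comp]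

/-- The map from `U` to an object of the closed complement. -/
def pointU {F : Sheaf J (Type u)} (hF : closedCompl U F) : U ⟶ F :=
  haveI : IsIso (prod.fst : U ⨯ F ⟶ U) := hF
  inv (prod.fst : U ⨯ F ⟶ U) ≫ prod.snd

lemma eq_comp_pointU {F : Sheaf J (Type u)} (hF : closedCompl U F) {T : Sheaf J (Type u)}
    (t : T ⟶ U) (z : T ⟶ F) : z = t ≫ pointU hF := by
  haveI : IsIso (prod.fst : U ⨯ F ⟶ U) := hF
  have e : t ≫ inv (prod.fst : U ⨯ F ⟶ U) = prod.lift t z := by
    rw [IsIso.comp_inv_eq, prod.lift_fst]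
  rw [pointU, reassoc_of% e, prod.lift_snd]

/-- Maps out of `X_CU` into the closed complement are maps out of `X`. -/
def homEquiv (X : Sheaf J (Type u)) {F : Sheaf J (Type u)} (hF : closedCompl U F) :
    (CU U X ⟶ F) ≃ (X ⟶ F) where
  toFun g := b U X ≫ g
  invFun f := pushout.desc (pointU hF) f (eq_comp_pointU hF prod.fst (prod.snd ≫ f)).symm
  left_inv g := by
    apply pushout.hom_ext
    · rw [pushout.inl_desc]
      exact ((eq_comp_pointU hF (𝟙 U) (a U X ≫ g)).trans (Category.id_comp _)).symm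
    · rw [pushout.inr_desc]
  right_inv f := pushout.inr_desc _ _ _

/-- The reflector onto the closed complement. -/
def leftAdjoint : Sheaf J (Type u) ⥤ (closedCompl U).FullSubcategory :=
  Adjunction.leftAdjointOfEquiv (G := (closedCompl U).ι)
    (F_obj := fun X => ⟨CU U X, closedCompl_CU hU X⟩)
    (fun X F => InducedCategory.homEquiv.trans (homEquiv X F.property))
    (fun X _ _ g h => (Category.assoc (b U X) h.hom g.hom).symm)

lemma b_leftAdjoint_map {X X' : Sheaf J (Type u)} (m : X ⟶ X') :
    b U X ≫ ((leftAdjoint hU).map m).hom = m ≫ b U X' := by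
  change b U X ≫ pushout.desc _ (m ≫ b U X' ≫ 𝟙 _) _ = _
  rw [pushout.inr_desc, Category.comp_id]

include hU in
lemma a_comp {X X' : Sheaf J (Type u)} (k : CU U X ⟶ CU U X') : a U X ≫ k = a U X' :=
  (eq_comp_a hU X' (𝟙 U) _).trans (Category.id_comp _)

/-- The reflector is left adjoint to the inclusion. -/
def adj : leftAdjoint hU ⊣ (closedCompl U).ι :=
  Adjunction.adjunctionOfEquivLeft _ _

section PresheafModel

/-- The presheaf model of `X ↦ X_CU`: sections of `X` away from `U`. -/
def away (U₀ : Cᵒᵖ ⥤ Type u) : (Cᵒᵖ ⥤ Type u) ⥤ (Cᵒᵖ ⥤ Type u) where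
  obj X :=
    { obj := fun V => ULift.{u} (PLift (IsEmpty (U₀.obj V))) → X.obj V
      map := fun {V W} f => ↾fun φ h => X.map f (φ ⟨⟨@Function.isEmpty _ _ h.down.down (U₀.map f)⟩⟩)
      map_id := fun V => by ext φ h; simp
      map_comp := fun f g => by ext φ h; simp }
  map α := { app := fun V => ↾fun φ h => α.app V (φ h)
             naturality := fun V W f => by ext φ h; simp [NatTrans.naturality_apply] }
  map_id X := by ext V φ; rfl
  map_comp α β := by ext V φ; rfl

instance (U₀ : Cᵒᵖ ⥤ Type u) : PreservesLimitsOfSize.{0, 0} (away U₀) where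
  preservesLimitsOfShape {K} _ := preservesLimitsOfShape_of_evaluation _ K fun V =>
    preservesLimitsOfShape_of_natIso
      (show (evaluation Cᵒᵖ (Type u)).obj V ⋙
        coyoneda.obj (Opposite.op (ULift.{u} (PLift (IsEmpty (U₀.obj V))))) ≅
          away U₀ ⋙ (evaluation Cᵒᵖ (Type u)).obj V from
        NatIso.ofComponents (fun X =>
          { hom := ↾fun (g : ULift.{u} (PLift (IsEmpty (U₀.obj V))) ⟶ X.obj V) h => g h
            inv := ↾fun φ => ↾φ
            hom_inv_id := by ext g; rfl
            inv_hom_id := by ext φ; rfl }) (fun f => by ext φ; rfl))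

variable (U) in
/-- The sheaf model of `X ↦ X_CU`. -/
def model : Sheaf J (Type u) ⥤ Sheaf J (Type u) :=
  sheafToPresheaf J (Type u) ⋙ away U.obj ⋙ presheafToSheaf J (Type u)

instance : PreservesFiniteLimits (model U) := by
  haveI : PreservesFiniteLimits (away U.obj) :=
    PreservesLimitsOfSize.preservesFiniteLimits _
  haveI : PreservesFiniteLimits (away U.obj ⋙ presheafToSheaf J (Type u)) :=
    comp_preservesFiniteLimits _ _
  exact comp_preservesFiniteLimits _ _

variable (U) in
/-- `U ⟶` the model. -/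
def inA (X : Sheaf J (Type u)) : U ⟶ (model U).obj X :=
  ⟨{ app := fun V => ↾fun x h => (h.down.down.false x).elim
     naturality := fun V W f => by
       ext x; funext h; exact (h.down.down.false (U.obj.map f x)).elim } ≫ toSheafify J _⟩

variable (U) in
/-- `X ⟶` the model. -/
def inB (X : Sheaf J (Type u)) : X ⟶ (model U).obj X :=
  ⟨({ app := fun V => ↾fun x _ => x
      naturality := fun V W f => by ext x; rfl } : X.obj ⟶ (away U.obj).obj X.obj) ≫ toSheafify J _⟩

include hU in
lemma subsingleton (V : Cᵒᵖ) : Subsingleton (U.obj.obj V) := by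
  haveI : Mono (sheafToPresheaf J (Type u) |>.map (terminal.from U)) :=
    haveI := hU; inferInstance
  haveI hm : Mono (((sheafToPresheaf J (Type u)).map (terminal.from U)).app V) := inferInstance
  have ht : IsTerminal (((sheafToPresheaf J (Type u)).obj (⊤_ (Sheaf J (Type u)))).obj V) :=
    IsTerminal.isTerminalObj ((evaluation Cᵒᵖ (Type u)).obj V) _
      (IsTerminal.isTerminalObj (sheafToPresheaf J (Type u)) _ terminalIsTerminal)
  haveI := (Types.isTerminalEquivUnique _ ht)
  exact ⟨fun x y => (mono_iff_injective _).1 hm (Subsingleton.elim _ _)⟩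

lemma inA_map {X X' : Sheaf J (Type u)} (m : X ⟶ X') :
    inA U X ≫ (model U).map m = inA U X' := by
  apply Sheaf.hom_ext
  simp only [inA, model, Functor.comp_map, ObjectProperty.FullSubcategory.comp_hom,
    Category.assoc]
  erw [← toSheafify_naturality]
  rw [← Category.assoc]
  congr 1
  ext V x; funext h
  exact (h.down.down.false x).elim

lemma inB_map {X X' : Sheaf J (Type u)} (m : X ⟶ X') :
    inB U X ≫ (model U).map m = m ≫ inB U X' := by
  apply Sheaf.hom_ext
  simp only [inB, model, Functor.comp_map, ObjectProperty.FullSubcategory.comp_hom,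
    Category.assoc]
  erw [← toSheafify_naturality]
  rfl

lemma exists_prod_elt (A B : Sheaf J (Type u)) (V : Cᵒᵖ) (x : A.obj.obj V) (y : B.obj.obj V) :
    ∃ z : (A ⨯ B).obj.obj V, (prod.fst : A ⨯ B ⟶ A).hom.app V z = x ∧
      (prod.snd : A ⨯ B ⟶ B).hom.app V z = y := by
  let F := sheafToPresheaf J (Type u) ⋙ (evaluation Cᵒᵖ (Type u)).obj V
  refine ⟨(PreservesLimitPair.iso F A B).inv ((Types.binaryProductIso _ _).inv (x, y)), ?_, ?_⟩
  · change F.map prod.fst _ = _
    rw [← ConcreteCategory.comp_apply (PreservesLimitPair.iso F A B).inv (F.map prod.fst),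
      PreservesLimitPair.iso_inv_fst, Types.binaryProductIso_inv_comp_fst_apply]
  · change F.map prod.snd _ = _
    rw [← ConcreteCategory.comp_apply (PreservesLimitPair.iso F A B).inv (F.map prod.snd),
      PreservesLimitPair.iso_inv_snd, Types.binaryProductIso_inv_comp_snd_apply]

include hU in
open scoped Classical in
/-- The model is the pushout. -/
lemma isPushout_model (X : Sheaf J (Type u)) :
    IsPushout (prod.fst : U ⨯ X ⟶ U) (prod.snd : U ⨯ X ⟶ X) (inA U X) (inB U X) := by
  have hs : ∀ V, Subsingleton (U.obj.obj V) := subsingleton hU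
  have w : (prod.fst : U ⨯ X ⟶ U) ≫ inA U X = (prod.snd : U ⨯ X ⟶ X) ≫ inB U X := by
    apply Sheaf.hom_ext
    simp only [inA, inB, ObjectProperty.FullSubcategory.comp_hom, ← Category.assoc]
    congr 1
    ext V z; funext h
    exact (h.down.down.false ((prod.fst : U ⨯ X ⟶ U).hom.app V z)).elim
  have e : ∀ (s : PushoutCocone (prod.fst : U ⨯ X ⟶ U) (prod.snd : U ⨯ X ⟶ X)) V
      (x : U.obj.obj V) (y : X.obj.obj V), s.inl.hom.app V x = s.inr.hom.app V y := by
    intro s V x y
    obtain ⟨z, hz₁, hz₂⟩ := exists_prod_elt U X V x y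
    rw [← hz₁, ← hz₂]
    exact ConcreteCategory.congr_hom (congrArg (fun t : U ⨯ X ⟶ s.pt => t.hom.app V) s.condition) z
  let d : ∀ (s : PushoutCocone (prod.fst : U ⨯ X ⟶ U) (prod.snd : U ⨯ X ⟶ X)) V,
      (ULift.{u} (PLift (IsEmpty (U.obj.obj V))) → X.obj.obj V) → s.pt.obj.obj V := fun s V φ =>
    if h : IsEmpty (U.obj.obj V) then s.inr.hom.app V (φ ⟨⟨h⟩⟩)
      else s.inl.hom.app V (not_isEmpty_iff.1 h).some
  refine ⟨⟨w⟩, ⟨PushoutCocone.IsColimit.mk _ (fun s => ⟨sheafifyLift J
    { app := fun V => ↾(d s V)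
      naturality := fun V W f => ?_ } s.pt.property⟩) (fun s => ?_) (fun s => ?_)
      (fun s m h₁ h₂ => ?_)⟩⟩
  · ext φ
    change d s W (fun h => X.obj.map f (φ ⟨⟨@Function.isEmpty _ _ h.down.down (U.obj.map f)⟩⟩)) =
      s.pt.obj.map f (d s V φ)
    simp only [d]
    by_cases hV : IsEmpty (U.obj.obj V)
    · rw [dif_pos hV]
      by_cases hW : IsEmpty (U.obj.obj W)
      · rw [dif_pos hW, NatTrans.naturality_apply]
      · rw [dif_neg hW, ← NatTrans.naturality_apply]
        exact e s _ _ _
    · have hW : ¬ IsEmpty (U.obj.obj W) := fun h => hV (@Function.isEmpty _ _ h (U.obj.map f))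
      rw [dif_neg hV, dif_neg hW, ← NatTrans.naturality_apply]
      exact congrArg _ (@Subsingleton.elim _ (hs W) _ _)
  · apply Sheaf.hom_ext
    simp only [inA, ObjectProperty.FullSubcategory.comp_hom, Category.assoc, toSheafify_sheafifyLift]
    ext V x
    change d s V (fun h => (h.down.down.false x).elim) = s.inl.hom.app V x
    simp only [d]
    rw [dif_neg (fun h : IsEmpty (U.obj.obj V) => h.false x)]
    exact congrArg _ (@Subsingleton.elim _ (hs V) _ _)
  · apply Sheaf.hom_ext
    simp only [inB, ObjectProperty.FullSubcategory.comp_hom, Category.assoc, toSheafify_sheafifyLift]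
    ext V x
    change d s V (fun _ => x) = s.inr.hom.app V x
    simp only [d]
    by_cases hV : IsEmpty (U.obj.obj V)
    · rw [dif_pos hV]
    · rw [dif_neg hV]
      exact e s _ _ _
  · apply Sheaf.hom_ext
    refine sheafifyLift_unique _ _ _ _ ?_
    ext V φ
    change m.hom.app V ((toSheafify J ((away U.obj).obj X.obj)).app V φ) = d s V φ
    simp only [d]
    by_cases hV : IsEmpty (U.obj.obj V)
    · rw [dif_pos hV, ← h₂]
      refine congrArg (fun t => m.hom.app V ((toSheafify J ((away U.obj).obj X.obj)).app V t)) ?_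
      funext h
      rfl
    · rw [dif_neg hV, ← h₁]
      refine congrArg (fun t => m.hom.app V ((toSheafify J ((away U.obj).obj X.obj)).app V t)) ?_
      funext h
      exact (h.down.down.false (not_isEmpty_iff.1 hV).some).elim

/-- The reflector followed by the inclusion is the model. -/
def compIso : leftAdjoint hU ⋙ (closedCompl U).ι ≅ model U :=
  NatIso.ofComponents (fun X => (isPushout_model hU X).isoPushout.symm) fun {X X'} m => by
    change ((leftAdjoint hU).map m).hom ≫ _ = _
    apply pushout.hom_ext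
    · change a U X ≫ ((leftAdjoint hU).map m).hom ≫ _ = a U X ≫ _
      rw [reassoc_of% a_comp hU ((leftAdjoint hU).map m).hom, Iso.symm_hom,
        IsPushout.inl_isoPushout_inv, Iso.symm_hom, IsPushout.inl_isoPushout_inv_assoc, inA_map]
    · change b U X ≫ ((leftAdjoint hU).map m).hom ≫ _ = b U X ≫ _
      rw [reassoc_of% b_leftAdjoint_map hU m, Iso.symm_hom, IsPushout.inr_isoPushout_inv,
        Iso.symm_hom, IsPushout.inr_isoPushout_inv_assoc, inB_map]

lemma preservesFiniteLimits_leftAdjoint : PreservesFiniteLimits (leftAdjoint hU) := by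
  haveI : PreservesFiniteLimits (leftAdjoint hU ⋙ (closedCompl U).ι) :=
    ⟨fun K _ _ => preservesLimitsOfShape_of_natIso (compIso hU).symm⟩
  exact ⟨fun K _ _ => preservesLimitsOfShape_of_reflects_of_preserves (leftAdjoint hU) (closedCompl U).ι⟩

end PresheafModel

end Groth.Agent.H15Site.OpenClosed
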