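import Groth.Prelude.Def_FibDesc
import Groth.Agent.H14FibSite.Basic
import Mathlib.CategoryTheory.Functor.Flat

/-!
# Total sites of diagrams of spaces, through their opens

Infrastructure for `FibDesc.topAug`: morphisms of the total category are determined by their base,
base change functors along index functors are continuous and cocontinuous, and a morphism of
diagrams `h : Y ⟶ Y'` gives a continuous representably flat functor of total categories.
-/

set_option autoImplicit false
set_option linter.style.haveILetI false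
set_option backward.isDefEq.respectTransparency false
set_option backward.isDefEq.respectTransparency.types false

universe u

open CategoryTheory CategoryTheory.Limits Opposite Pseudofunctor Pseudofunctor.CoGrothendieck
open TopologicalSpace

noncomputable section

namespace Groth.Agent.H15Site.OpensFib

variable {D : Type} [SmallCategory D] (Y : (WithInitial D)ᵒᵖ ⥤ TopCat.{u})

/-- The augmented index category. -/
abbrev K (D : Type) [SmallCategory D] := (WithInitial D)ᵒᵖ

abbrev F := FibDesc.topAug Y

abbrev J := FibDesc.topAugTop Y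

theorem isPreFibSite : FibSite.IsPreFibSite (F Y) (J Y) := fun R S f =>
  inferInstanceAs ((Opens.map (Y.map f)).IsContinuous (Opens.grothendieckTopology (Y.obj S))
    (Opens.grothendieckTopology (Y.obj R)))

theorem isPreFibSite_part : FibSite.IsPreFibSite (FibDesc.part (F Y)) (FibDesc.partTop (F Y) (J Y)) :=
  fun _ _ f => isPreFibSite Y ((FibDesc.toAug D).map f)

variable {Y}

/-- Morphisms are determined by their base. -/
theorem hom_ext {X Z : ∫ᶜ (F Y)} {f g : X ⟶ Z} (h : f.base = g.base) : f = g :=
  CoGrothendieck.Hom.ext _ _ h (@Subsingleton.elim _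
    (show Subsingleton ((show Opens (Y.obj X.base) from X.fiber) ⟶ (Opens.map (Y.map f.base)).obj Z.fiber) from inferInstance) _ _)

theorem part_hom_ext {X Z : ∫ᶜ (FibDesc.part (F Y))} {f g : X ⟶ Z} (h : f.base = g.base) : f = g :=
  CoGrothendieck.Hom.ext _ _ h (@Subsingleton.elim _
    (show Subsingleton ((show Opens (Y.obj ((FibDesc.toAug D).obj X.base)) from X.fiber) ⟶
      (Opens.map (Y.map ((FibDesc.toAug D).map f.base))).obj Z.fiber) from inferInstance) _ _)

/-- The open set of an object. -/
abbrev fib (X : ∫ᶜ (F Y)) : Opens (Y.obj X.base) := X.fiber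

/-- Constructor of morphisms. -/
def mkHom (X Z : ∫ᶜ (F Y)) (b : X.base ⟶ Z.base)
    (h : fib X ≤ (Opens.map (Y.map b)).obj Z.fiber) : X ⟶ Z :=
  ⟨b, (show fib X ⟶ (Opens.map (Y.map b)).obj (fib Z) from homOfLE h)⟩

/-- Constructor of objects. -/
abbrev obj' (k : K D) (U : Opens (Y.obj k)) : ∫ᶜ (F Y) := ⟨k, U⟩

theorem le_of_hom {X Z : ∫ᶜ (F Y)} (f : X ⟶ Z) :
    fib X ≤ (Opens.map (Y.map f.base)).obj Z.fiber :=
  (show fib X ⟶ (Opens.map (Y.map f.base)).obj Z.fiber from f.fiber).le

section BaseChange

variable (Y) (ψ : K D ⥤ Dᵒᵖ)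

/-- The family pulled back along an index functor. -/
abbrev G := FibSite.baseChange (FibDesc.part (F Y)) ψ

abbrev JG : FibSite.Topologies (G Y ψ) := FibSite.baseChangeTop (FibDesc.partTop (F Y) (J Y)) ψ

theorem isPreFibSite_G : FibSite.IsPreFibSite (G Y ψ) (JG Y ψ) := fun _ _ f =>
  isPreFibSite_part Y (ψ.map f)

/-- The index functor followed by the inclusion. -/
abbrev idx : K D ⥤ K D := ψ ⋙ FibDesc.toAug D

/-- `⟨k, U⟩ ↦ ⟨ψ k, U⟩`. -/
abbrev σ : ∫ᶜ (G Y ψ) ⥤ ∫ᶜ (FibDesc.part (F Y)) := FibSite.baseChangeFunctor (FibDesc.part (F Y)) ψ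

variable {Y ψ}

/-- The open set of an object. -/
abbrev fibG (X : ∫ᶜ (G Y ψ)) : Opens (Y.obj ((idx ψ).obj X.base)) := X.fiber

theorem G_hom_ext {X Z : ∫ᶜ (G Y ψ)} {f g : X ⟶ Z} (h : f.base = g.base) : f = g :=
  CoGrothendieck.Hom.ext _ _ h (@Subsingleton.elim _
    (show Subsingleton ((show Opens (Y.obj ((idx ψ).obj X.base)) from X.fiber) ⟶
      (Opens.map (Y.map ((idx ψ).map f.base))).obj Z.fiber) from inferInstance) _ _)

/-- Constructor of morphisms of the pulled back family. -/
def mkG (X Z : ∫ᶜ (G Y ψ)) (b : X.base ⟶ Z.base)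
    (h : fibG X ≤ (Opens.map (Y.map ((idx ψ).map b))).obj Z.fiber) :
    X ⟶ Z :=
  ⟨b, (show fibG X ⟶ (Opens.map (Y.map ((idx ψ).map b))).obj (fibG Z) from homOfLE h)⟩

theorem le_of_G_hom {X Z : ∫ᶜ (G Y ψ)} (f : X ⟶ Z) :
    fibG X ≤ (Opens.map (Y.map ((idx ψ).map f.base))).obj Z.fiber :=
  (show fibG X ⟶ (Opens.map (Y.map ((idx ψ).map f.base))).obj Z.fiber from f.fiber).le

/-- Constructor of objects of the pulled back family. -/
abbrev objG (k : K D) (U : Opens (Y.obj ((idx ψ).obj k))) : ∫ᶜ (G Y ψ) := ⟨k, U⟩

instance isContinuous_σ : (σ Y ψ).IsContinuous (FibSite.totalTopology (G Y ψ) (JG Y ψ))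
    (FibDesc.totPart (F Y) (J Y)) := by
  rw [Groth.Agent.H14FibSite.isContinuous_total_iff (isPreFibSite_G Y ψ)]
  intro k
  have := Groth.Agent.H14FibSite.isContinuous_ι (isPreFibSite_part Y) (ψ.obj k)
  exact Functor.isContinuous_of_iso (NatIso.ofComponents (fun U => Iso.refl _)
    (fun {U V} r => part_hom_ext ((Category.comp_id _).trans
      ((ψ.map_id k).symm.trans (Category.id_comp _).symm)))
    : ι (FibDesc.part (F Y)) (ψ.obj k) ≅ ι (G Y ψ) k ⋙ σ Y ψ) _ _

instance isCocontinuous_σ : (σ Y ψ).IsCocontinuous (FibSite.totalTopology (G Y ψ) (JG Y ψ))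
    (FibDesc.totPart (F Y) (J Y)) where
  cover_lift {X S} hS := by
    rw [Groth.Agent.H14FibSite.mem_total_iff (isPreFibSite_part Y)] at hS
    rw [Groth.Agent.H14FibSite.mem_total_iff (isPreFibSite_G Y ψ)]
    refine GrothendieckTopology.superset_covering _ (fun V r hr => ?_) hS
    show S ((σ Y ψ).map ((ι (G Y ψ) X.base).map r))
    have e : (σ Y ψ).map ((ι (G Y ψ) X.base).map r) = (ι (FibDesc.part (F Y)) (ψ.obj X.base)).map r :=
      part_hom_ext (ψ.map_id X.base)
    rw [e]
    exact hr

end BaseChange

section Incl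

variable (Y)

instance isContinuous_incl : (FibDesc.incl (F Y)).IsContinuous (FibDesc.totPart (F Y) (J Y))
    (FibDesc.totAug (F Y) (J Y)) := by
  rw [Groth.Agent.H14FibSite.isContinuous_total_iff (isPreFibSite_part Y)]
  intro k
  have := Groth.Agent.H14FibSite.isContinuous_ι (isPreFibSite Y) ((FibDesc.toAug D).obj k)
  exact Functor.isContinuous_of_iso (NatIso.ofComponents (fun U => Iso.refl _)
    (fun {U V} r => hom_ext ((Category.comp_id _).trans
      (((FibDesc.toAug D).map_id k).symm.trans (Category.id_comp _).symm)))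
    : ι (F Y) ((FibDesc.toAug D).obj k) ≅ ι (FibDesc.part (F Y)) k ⋙ FibDesc.incl (F Y)) _ _

instance isCocontinuous_incl : (FibDesc.incl (F Y)).IsCocontinuous (FibDesc.totPart (F Y) (J Y))
    (FibDesc.totAug (F Y) (J Y)) where
  cover_lift {X S} hS := by
    rw [Groth.Agent.H14FibSite.mem_total_iff (isPreFibSite Y)] at hS
    rw [Groth.Agent.H14FibSite.mem_total_iff (isPreFibSite_part Y)]
    refine GrothendieckTopology.superset_covering _ (fun V r hr => ?_) hS
    show S ((FibDesc.incl (F Y)).map ((ι (FibDesc.part (F Y)) X.base).map r))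
    have e : (FibDesc.incl (F Y)).map ((ι (FibDesc.part (F Y)) X.base).map r) =
        (ι (F Y) ((FibDesc.toAug D).obj X.base)).map r :=
      hom_ext ((FibDesc.toAug D).map_id X.base)
    rw [e]
    exact hr

end Incl

section Eps

variable (Y)

/-- The base point is terminal. -/
def botTerminal : IsTerminal (FibDesc.bot D) :=
  terminalOpOfInitial WithInitial.starInitial

variable {Y} in
theorem le_of_id {k : K D} {U V : Opens (Y.obj k)} {b : k ⟶ k} (e : b = 𝟙 k)
    (h : U ≤ (Opens.map (Y.map b)).obj V) : U ≤ V := by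
  subst e
  intro x hx
  have h1 := h hx
  change Y.map (𝟙 k) x ∈ V at h1
  rwa [Y.map_id] at h1

theorem bot_ext {k : K D} (a b : k ⟶ FibDesc.bot D) : a = b := (botTerminal (D := D)).hom_ext a b

instance isContinuous_eps : (FibDesc.eps (F Y)).IsContinuous (J Y (FibDesc.bot D))
    (FibDesc.totAug (F Y) (J Y)) :=
  Groth.Agent.H14FibSite.isContinuous_ι (isPreFibSite Y) _

instance isCocontinuous_eps : (FibDesc.eps (F Y)).IsCocontinuous (J Y (FibDesc.bot D))
    (FibDesc.totAug (F Y) (J Y)) where
  cover_lift {U S} hS := by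
    rw [Groth.Agent.H14FibSite.mem_total_iff (isPreFibSite Y)] at hS
    exact hS

instance faithful_eps : (FibDesc.eps (F Y)).Faithful where
  map_injective {U V} := fun {a b} _ => @Subsingleton.elim _
    (show Subsingleton ((show Opens (Y.obj (FibDesc.bot D)) from U) ⟶ V) from inferInstance) a b

instance full_eps : (FibDesc.eps (F Y)).Full where
  map_surjective {U V} f := by
    have h := le_of_hom f
    have e : f.base = 𝟙 (FibDesc.bot D) := bot_ext _ _
    exact ⟨(show (show Opens (Y.obj (FibDesc.bot D)) from U) ⟶ V from homOfLE (le_of_id e h)), hom_ext e.symm⟩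

instance flat_eps : RepresentablyFlat (FibDesc.eps (F Y)) where
  cofiltered X := by
    let A : Opens (Y.obj (FibDesc.bot D)) → Prop := fun V =>
      fib X ≤ (Opens.map (Y.map ((botTerminal (D := D)).from X.base))).obj V
    let mk : ∀ V, A V → StructuredArrow X (FibDesc.eps (F Y)) := fun V hV =>
      StructuredArrow.mk (Y := V) (mkHom X ((FibDesc.eps (F Y)).obj V) ((botTerminal (D := D)).from X.base) hV)
    have hA : ∀ Z : StructuredArrow X (FibDesc.eps (F Y)), A Z.right := fun Z => by
      have h := le_of_hom Z.hom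
      rw [bot_ext Z.hom.base ((botTerminal (D := D)).from X.base)] at h
      exact h
    haveI : Nonempty (StructuredArrow X (FibDesc.eps (F Y))) := ⟨mk ⊤ (fun _ _ => trivial)⟩
    haveI : IsCofilteredOrEmpty (StructuredArrow X (FibDesc.eps (F Y))) :=
      { cone_objs := fun P Q =>
          ⟨mk ((show Opens (Y.obj (FibDesc.bot D)) from P.right) ⊓ (show Opens (Y.obj (FibDesc.bot D)) from Q.right))
              (fun x hx => ⟨hA P hx, hA Q hx⟩),
            StructuredArrow.homMk (show ((show Opens (Y.obj (FibDesc.bot D)) from P.right) ⊓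
              (show Opens (Y.obj (FibDesc.bot D)) from Q.right)) ⟶ P.right from homOfLE inf_le_left) (hom_ext (bot_ext _ _)),
            StructuredArrow.homMk (show ((show Opens (Y.obj (FibDesc.bot D)) from P.right) ⊓
              (show Opens (Y.obj (FibDesc.bot D)) from Q.right)) ⟶ Q.right from homOfLE inf_le_right) (hom_ext (bot_ext _ _)), trivial⟩
        cone_maps := fun P Q a b => ⟨P, 𝟙 P, by
          congr 1
          exact StructuredArrow.ext _ _ (@Subsingleton.elim _
            (show Subsingleton ((show Opens (Y.obj (FibDesc.bot D)) from P.right) ⟶ Q.right) from inferInstance) _ _)⟩ }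
    exact ⟨⟩

end Eps

section Transform

variable (Y) {ψ : K D ⥤ Dᵒᵖ} (h : Y ⟶ idx ψ ⋙ Y)

/-- `⟨k, U⟩ ↦ ⟨k, h⁻¹ U⟩`. -/
def Φ : ∫ᶜ (G Y ψ) ⥤ ∫ᶜ (F Y) where
  obj X := ⟨X.base, (Opens.map (h.app X.base)).obj X.fiber⟩
  map {X Z} f := mkHom _ _ f.base (by
    intro x hx
    have := le_of_G_hom f hx
    change (h.app Z.base) ((Y.map f.base) x) ∈ fibG Z
    rw [show (h.app Z.base) ((Y.map f.base) x) = (Y.map ((idx ψ).map f.base)) (h.app X.base x) from
      ConcreteCategory.congr_hom (h.naturality f.base) x]
    exact this)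
  map_id X := hom_ext rfl
  map_comp f g := hom_ext rfl

instance isContinuous_Φ : (Φ Y h).IsContinuous (FibSite.totalTopology (G Y ψ) (JG Y ψ))
    (FibDesc.totAug (F Y) (J Y)) := by
  rw [Groth.Agent.H14FibSite.isContinuous_total_iff (isPreFibSite_G Y ψ)]
  intro k
  have := Groth.Agent.H14FibSite.isContinuous_ι (isPreFibSite Y) k
  haveI : (Opens.map (h.app k)).IsContinuous (Opens.grothendieckTopology (Y.obj ((idx ψ).obj k)))
      (Opens.grothendieckTopology (Y.obj k)) :=
    inferInstanceAs ((Opens.map (show Y.obj k ⟶ Y.obj ((idx ψ).obj k) from h.app k)).IsContinuous _ _)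
  exact Functor.isContinuous_comp' (F₁ := Opens.map (h.app k)) (F₂ := ι (F Y) k)
    (NatIso.ofComponents (fun U => Iso.refl _) (fun {U V} r => hom_ext ((Category.comp_id _).trans (Category.id_comp _).symm)))
    (Opens.grothendieckTopology (Y.obj ((idx ψ).obj k))) (Opens.grothendieckTopology (Y.obj k)) _

instance flat_Φ : RepresentablyFlat (Φ Y h) where
  cofiltered X := by
    haveI : Nonempty (StructuredArrow X (Φ Y h)) :=
      ⟨StructuredArrow.mk (Y := objG X.base ⊤) (mkHom X _ (𝟙 X.base) (fun x _ => trivial))⟩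
    haveI : IsCofilteredOrEmpty (StructuredArrow X (Φ Y h)) :=
      { cone_objs := fun P Q => by
          let Z : ∫ᶜ (G Y ψ) := objG X.base
            ((Opens.map (Y.map ((idx ψ).map P.hom.base))).obj (fibG P.right) ⊓
              (Opens.map (Y.map ((idx ψ).map Q.hom.base))).obj (fibG Q.right))
          let z : X ⟶ (Φ Y h).obj Z := mkHom X _ (𝟙 X.base) (by
            intro x hx
            change Y.map (𝟙 X.base) x ∈ (Opens.map (h.app X.base)).obj (fibG Z)
            rw [Y.map_id]
            change h.app X.base x ∈ fibG Z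
            refine ⟨?_, ?_⟩
            · change (Y.map ((idx ψ).map P.hom.base)) (h.app X.base x) ∈ fibG P.right
              rw [← show (h.app P.right.base) ((Y.map P.hom.base) x) = (Y.map ((idx ψ).map P.hom.base)) (h.app X.base x)
                from ConcreteCategory.congr_hom (h.naturality P.hom.base) x]
              exact le_of_hom P.hom hx
            · change (Y.map ((idx ψ).map Q.hom.base)) (h.app X.base x) ∈ fibG Q.right
              rw [← show (h.app Q.right.base) ((Y.map Q.hom.base) x) = (Y.map ((idx ψ).map Q.hom.base)) (h.app X.base x)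
                from ConcreteCategory.congr_hom (h.naturality Q.hom.base) x]
              exact le_of_hom Q.hom hx)
          exact ⟨StructuredArrow.mk z,
            StructuredArrow.homMk (mkG Z P.right P.hom.base inf_le_left) (hom_ext (Category.id_comp _)),
            StructuredArrow.homMk (mkG Z Q.right Q.hom.base inf_le_right) (hom_ext (Category.id_comp _)), trivial⟩
        cone_maps := fun P Q a b => by
          let Z : ∫ᶜ (G Y ψ) := objG X.base ((Opens.map (Y.map ((idx ψ).map P.hom.base))).obj (fibG P.right))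
          let z : X ⟶ (Φ Y h).obj Z := mkHom X _ (𝟙 X.base) (by
            intro x hx
            change Y.map (𝟙 X.base) x ∈ (Opens.map (h.app X.base)).obj (fibG Z)
            rw [Y.map_id]
            change (Y.map ((idx ψ).map P.hom.base)) (h.app X.base x) ∈ fibG P.right
            rw [← show (h.app P.right.base) ((Y.map P.hom.base) x) = (Y.map ((idx ψ).map P.hom.base)) (h.app X.base x)
              from ConcreteCategory.congr_hom (h.naturality P.hom.base) x]
            exact le_of_hom P.hom hx)
          refine ⟨StructuredArrow.mk z,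
            StructuredArrow.homMk (mkG Z P.right P.hom.base le_rfl) (hom_ext (Category.id_comp _)),
            StructuredArrow.ext _ _ (G_hom_ext ?_)⟩
          have ha := congrArg CoGrothendieck.Hom.base (StructuredArrow.w a)
          have hb := congrArg CoGrothendieck.Hom.base (StructuredArrow.w b)
          exact ha.trans hb.symm }
    exact ⟨⟩

end Transform

end Groth.Agent.H15Site.OpensFib
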