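import Groth.Agent.H15Site.CechTop
import Mathlib.Data.Finsupp.Basic
import Mathlib.Data.Fintype.EquivFin

/-!
# The full Čech complex of a finite cover is homotopic to one bounded by the number of opens
-/

set_option autoImplicit false
set_option linter.style.haveILetI false
set_option linter.unusedSectionVars false

universe u

open CategoryTheory CategoryTheory.Limits Opposite TopologicalSpace

namespace Groth.Agent.H15Site.OrdCech

open scoped Classical

variable {ι : Type u}

/-- Chains on tuples. -/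
abbrev Ch (ι : Type u) (q : ℕ) : Type u := (Fin (q + 1) → ι) →₀ ℤ

/-- Linear extension. -/
noncomputable def lin {q : ℕ} {M : Type*} [AddCommGroup M] (g : (Fin (q + 1) → ι) → M) : Ch ι q →+ M :=
  Finsupp.liftAddHom fun a => zmultiplesHom M (g a)

lemma lin_single {q : ℕ} {M : Type*} [AddCommGroup M] (g : (Fin (q + 1) → ι) → M) (a : Fin (q + 1) → ι) :
    lin g (Finsupp.single a 1) = g a := by
  simp [lin]

lemma lin_ext {q : ℕ} {M : Type*} [AddCommGroup M] {f g : Ch ι q →+ M}
    (h : ∀ a, f (Finsupp.single a 1) = g (Finsupp.single a 1)) : f = g :=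
  Finsupp.addHom_ext fun a n => by
    have e : Finsupp.single a n = n • Finsupp.single a (1 : ℤ) := by simp
    rw [e, map_zsmul, map_zsmul, h]

/-- The boundary. -/
noncomputable def bd (q : ℕ) : Ch ι (q + 1) →+ Ch ι q :=
  lin fun σ => ∑ j : Fin (q + 2), ((-1 : ℤ) ^ (j : ℕ)) • Finsupp.single (σ ∘ j.succAbove) 1

/-- The augmentation. -/
noncomputable def aug : Ch ι 0 →+ ℤ := lin fun _ => 1

/-- Cones. -/
noncomputable def cone (s : ι) (q : ℕ) : Ch ι q →+ Ch ι (q + 1) :=
  lin fun τ => Finsupp.single (Fin.cons s τ) 1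

lemma bd_single {q : ℕ} (σ : Fin (q + 2) → ι) : bd q (Finsupp.single σ 1) =
    ∑ j : Fin (q + 2), ((-1 : ℤ) ^ (j : ℕ)) • Finsupp.single (σ ∘ j.succAbove) 1 := lin_single _ _

lemma cons_comp_succAbove_succ {q : ℕ} (s : ι) (τ : Fin (q + 2) → ι) (j : Fin (q + 2)) :
    (Fin.cons s τ : Fin (q + 3) → ι) ∘ j.succ.succAbove = Fin.cons s (τ ∘ j.succAbove) := by
  funext k
  refine Fin.cases ?_ (fun k => ?_) k
  · simp
  · simp

lemma bd_cons {q : ℕ} (s : ι) (τ : Fin (q + 2) → ι) :
    bd (q + 1) (Finsupp.single (Fin.cons s τ) 1) =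
      Finsupp.single τ 1 - cone s q (bd q (Finsupp.single τ 1)) := by
  rw [bd_single, bd_single, Fin.sum_univ_succ, map_sum, sub_eq_add_neg, ← Finset.sum_neg_distrib]
  congr 1
  · simp [Function.comp_def]
  · refine Finset.sum_congr rfl fun j _ => ?_
    rw [cons_comp_succAbove_succ, map_zsmul, cone, lin_single, Fin.val_succ, pow_succ, mul_neg_one, neg_smul]

lemma bd_cons_zero (s : ι) (τ : Fin 1 → ι) :
    bd 0 (Finsupp.single (Fin.cons s τ) 1) = Finsupp.single τ 1 - Finsupp.single (fun _ => s) 1 := by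
  rw [bd_single, Fin.sum_univ_two]
  have h0 : (Fin.cons s τ : Fin 2 → ι) ∘ (0 : Fin 2).succAbove = τ := by
    funext k; simp
  have h1 : (Fin.cons s τ : Fin 2 → ι) ∘ (1 : Fin 2).succAbove = fun _ => s := by
    funext k
    rw [Fin.eq_zero k]
    simp
  rw [h0, h1]
  simp [sub_eq_add_neg]

lemma bd_cone {q : ℕ} (s : ι) (χ : Ch ι (q + 1)) :
    bd (q + 1) (cone s (q + 1) χ) = χ - cone s q (bd q χ) :=
  DFunLike.congr_fun (lin_ext (f := (bd (q + 1)).comp (cone s (q + 1)))
    (g := AddMonoidHom.id _ - (cone s q).comp (bd q)) fun a => by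
      simp only [AddMonoidHom.coe_comp, Function.comp_apply, cone, lin_single, AddMonoidHom.sub_apply,
        AddMonoidHom.id_apply]
      exact bd_cons s a) χ

lemma bd_cone_zero (s : ι) (χ : Ch ι 0) :
    bd 0 (cone s 0 χ) = χ - aug χ • Finsupp.single (fun _ => s) 1 :=
  DFunLike.congr_fun (lin_ext (f := (bd 0).comp (cone s 0))
    (g := AddMonoidHom.id _ - (zmultiplesHom _ (Finsupp.single (fun _ => s) 1)).comp aug) fun a => by
      simp only [AddMonoidHom.coe_comp, Function.comp_apply, cone, lin_single, AddMonoidHom.sub_apply,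
        AddMonoidHom.id_apply, aug, zmultiplesHom_apply, one_smul]
      exact bd_cons_zero s a) χ

lemma aug_bd (χ : Ch ι 1) : aug (bd 0 χ) = 0 :=
  DFunLike.congr_fun (lin_ext (f := aug.comp (bd 0)) (g := 0) fun a => by
    simp [bd_single, Fin.sum_univ_two, aug, lin_single]) χ

lemma bd_bd : ∀ (q : ℕ) (χ : Ch ι (q + 2)), bd q (bd (q + 1) χ) = 0
  | 0, χ => DFunLike.congr_fun (lin_ext (f := (bd 0).comp (bd 1)) (g := 0) fun a => by
      show bd 0 (bd 1 (Finsupp.single a 1)) = 0
      rw [← Fin.cons_self_tail a, bd_cons, map_sub, bd_cone_zero, aug_bd]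
      simp) χ
  | q + 1, χ => DFunLike.congr_fun (lin_ext (f := (bd (q + 1)).comp (bd (q + 2))) (g := 0) fun a => by
      show bd (q + 1) (bd (q + 2) (Finsupp.single a 1)) = 0
      rw [← Fin.cons_self_tail a, bd_cons, map_sub, bd_cone, bd_bd q, map_zero, sub_zero, sub_self]) χ

/-- Chains carried by a set. -/
noncomputable def carr (S : Set ι) (q : ℕ) : AddSubgroup (Ch ι q) :=
  AddSubgroup.closure ((fun τ => Finsupp.single τ 1) '' {τ : Fin (q + 1) → ι | Set.range τ ⊆ S})

lemma mem_carr {S : Set ι} {q : ℕ} {τ : Fin (q + 1) → ι} (h : Set.range τ ⊆ S) :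
    Finsupp.single τ 1 ∈ carr S q :=
  AddSubgroup.subset_closure ⟨τ, h, rfl⟩

lemma carr_le {S : Set ι} {q : ℕ} {T : AddSubgroup (Ch ι q)}
    (h : ∀ τ : Fin (q + 1) → ι, Set.range τ ⊆ S → Finsupp.single τ 1 ∈ T) : carr S q ≤ T :=
  (AddSubgroup.closure_le _).2 fun _ ⟨τ, hτ, e⟩ => e ▸ h τ hτ

lemma map_carr {S : Set ι} {q : ℕ} {M : Type*} [AddCommGroup M] (f : Ch ι q →+ M) {T : AddSubgroup M}
    (h : ∀ τ : Fin (q + 1) → ι, Set.range τ ⊆ S → f (Finsupp.single τ 1) ∈ T) {χ : Ch ι q} (hχ : χ ∈ carr S q) :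
    f χ ∈ T :=
  carr_le (T := T.comap f) h hχ

lemma range_comp_subset {q m : ℕ} (σ : Fin (q + 1) → ι) (f : Fin (m + 1) → Fin (q + 1)) :
    Set.range (σ ∘ f) ⊆ Set.range σ := Set.range_comp_subset_range f σ

lemma bd_mem_carr {S : Set ι} {q : ℕ} {χ : Ch ι (q + 1)} (hχ : χ ∈ carr S (q + 1)) : bd q χ ∈ carr S q :=
  map_carr (bd q) (fun τ hτ => by
    rw [bd_single]
    exact sum_mem fun j _ => zsmul_mem (mem_carr ((range_comp_subset τ _).trans hτ)) _) hχ

variable [LinearOrder ι]

/-- Increasing chains starting at least at `s`. -/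
noncomputable def incr (s : ι) (S : Set ι) (q : ℕ) : AddSubgroup (Ch ι q) :=
  AddSubgroup.closure ((fun τ => Finsupp.single τ 1) ''
    {τ : Fin (q + 1) → ι | StrictMono τ ∧ s ≤ τ 0 ∧ Set.range τ ⊆ S})

lemma incr_le_carr (s : ι) (S : Set ι) (q : ℕ) : incr s S q ≤ carr S q :=
  (AddSubgroup.closure_le _).2 fun _ ⟨_, hτ, e⟩ => e ▸ mem_carr hτ.2.2

lemma incr_mono {s s' : ι} {S S' : Set ι} (h : s' ≤ s) (hS : S ⊆ S') (q : ℕ) : incr s S q ≤ incr s' S' q :=
  (AddSubgroup.closure_le _).2 fun _ ⟨τ, hτ, e⟩ =>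
    e ▸ AddSubgroup.subset_closure ⟨τ, ⟨hτ.1, h.trans hτ.2.1, hτ.2.2.trans hS⟩, rfl⟩

/-- The cone on chains not starting at `s`. -/
noncomputable def cone' (s : ι) (q : ℕ) : Ch ι q →+ Ch ι (q + 1) :=
  lin fun τ => if τ 0 = s then 0 else Finsupp.single (Fin.cons s τ) 1

lemma cone'_mem {s : ι} {S : Set ι} (hs : s ∈ S) {q : ℕ} {χ : Ch ι q} (hχ : χ ∈ incr s S q) :
    cone' s q χ ∈ incr s S (q + 1) := by
  refine (AddSubgroup.closure_le (K := (incr s S (q + 1)).comap (cone' s q))).2 ?_ hχ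
  rintro _ ⟨τ, ⟨hτ, h0, hr⟩, rfl⟩
  rw [SetLike.mem_coe, AddSubgroup.mem_comap, cone', lin_single]
  split_ifs with h
  · exact zero_mem _
  · refine AddSubgroup.subset_closure ⟨_, ⟨?_, le_of_eq (Fin.cons_zero (α := fun _ => ι) s τ).symm, ?_⟩, rfl⟩
    · have hlt : s < τ 0 := lt_of_le_of_ne h0 (Ne.symm h)
      refine Fin.strictMono_iff_lt_succ.2 fun k => ?_
      refine Fin.cases ?_ (fun k => ?_) k
      · simpa using hlt
      · rw [← Fin.succ_castSucc, Fin.cons_succ, Fin.cons_succ]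
        exact hτ Fin.castSucc_lt_succ
    · rw [Fin.range_cons]
      exact Set.insert_subset hs hr

lemma bd_cone' {s : ι} {S : Set ι} {q : ℕ} {χ : Ch ι (q + 1)} (hχ : χ ∈ incr s S (q + 1)) :
    bd (q + 1) (cone' s (q + 1) χ) = χ - cone' s q (bd q χ) := by
  let D : Ch ι (q + 1) →+ Ch ι (q + 1) :=
    (bd (q + 1)).comp (cone' s (q + 1)) - (AddMonoidHom.id _ - (cone' s q).comp (bd q))
  have : D χ = 0 := by
    refine AddMonoidHom.mem_ker.1 ((AddSubgroup.closure_le (K := D.ker)).2 ?_ hχ)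
    rintro _ ⟨τ, ⟨hτ, h0, -⟩, rfl⟩
    refine AddMonoidHom.mem_ker.2 (sub_eq_zero.2 ?_)
    show bd (q + 1) (cone' s (q + 1) (Finsupp.single τ 1)) =
      Finsupp.single τ 1 - cone' s q (bd q (Finsupp.single τ 1))
    by_cases h : τ 0 = s
    · rw [cone', lin_single, if_pos h, map_zero, bd_single, map_sum, Fin.sum_univ_succ]
      have h1 : ∀ j : Fin (q + 1), cone' s q
          (((-1 : ℤ) ^ (j.succ : ℕ)) • Finsupp.single (τ ∘ j.succ.succAbove) 1) = 0 := fun j => by
        rw [map_zsmul, cone', lin_single, if_pos (by simpa using h), smul_zero]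
      rw [show (cone' s q : Ch ι q →+ Ch ι (q + 1)) = lin _ from rfl] at h1 ⊢
      rw [Finset.sum_eq_zero fun j _ => h1 j, add_zero, map_zsmul, lin_single, if_neg ?_]
      · have e : (Fin.cons s (τ ∘ (0 : Fin (q + 2)).succAbove) : Fin (q + 2) → ι) = τ := by
          funext k
          refine Fin.cases ?_ (fun k => ?_) k <;> simp [h]
        rw [e]
        simp
      · intro e
        have : τ 0 < τ ((0 : Fin (q + 2)).succAbove 0) := hτ (by simp)
        exact absurd (h.trans e.symm) this.ne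
    · rw [cone', lin_single, if_neg h, bd_cons]
      refine congrArg (fun t => Finsupp.single τ 1 - t) ?_
      rw [bd_single, map_sum, map_sum]
      refine Finset.sum_congr rfl fun j _ => ?_
      rw [map_zsmul, map_zsmul, cone, lin_single, cone', lin_single, if_neg]
      intro e
      have h2 : τ 0 ≤ (τ ∘ j.succAbove) 0 := hτ.monotone (Fin.zero_le _)
      exact h (le_antisymm (h2.trans_eq e) h0)
  exact sub_eq_zero.1 this

lemma bd_cone'_zero {s : ι} {S : Set ι} {χ : Ch ι 0} (hχ : χ ∈ incr s S 0) :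
    bd 0 (cone' s 0 χ) = χ - aug χ • Finsupp.single (fun _ => s) 1 := by
  let D : Ch ι 0 →+ Ch ι 0 :=
    (bd 0).comp (cone' s 0) - (AddMonoidHom.id _ - (zmultiplesHom _ (Finsupp.single (fun _ => s) 1)).comp aug)
  have : D χ = 0 := by
    refine AddMonoidHom.mem_ker.1 ((AddSubgroup.closure_le (K := D.ker)).2 ?_ hχ)
    rintro _ ⟨τ, -, rfl⟩
    refine AddMonoidHom.mem_ker.2 (sub_eq_zero.2 ?_)
    show bd 0 (cone' s 0 (Finsupp.single τ 1)) =
      Finsupp.single τ 1 - aug (Finsupp.single τ 1) • Finsupp.single (fun _ => s) 1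
    rw [cone', lin_single, aug, lin_single, one_smul]
    by_cases h : τ 0 = s
    · have e : τ = fun _ => s := funext fun k => by rw [Fin.eq_zero k]; exact h
      rw [if_pos h, map_zero, e, sub_self]
    · rw [if_neg h, bd_cons_zero]
  exact sub_eq_zero.1 this

/-- The least element of a tuple. -/
noncomputable def least {q : ℕ} (σ : Fin (q + 1) → ι) : ι :=
  (Finset.univ.image σ).min' (Finset.univ_nonempty.image σ)

lemma least_mem {q : ℕ} (σ : Fin (q + 1) → ι) : least σ ∈ Set.range σ := by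
  have := Finset.min'_mem (Finset.univ.image σ) (Finset.univ_nonempty.image σ)
  simpa [least] using this

lemma least_le {q : ℕ} (σ : Fin (q + 1) → ι) (k : Fin (q + 1)) : least σ ≤ σ k :=
  Finset.min'_le _ _ (by simp)

lemma least_le_comp {q m : ℕ} (σ : Fin (q + 1) → ι) (f : Fin (m + 1) → Fin (q + 1)) : least σ ≤ least (σ ∘ f) := by
  obtain ⟨k, hk⟩ := least_mem (σ ∘ f)
  rw [← hk]
  exact least_le σ (f k)

/-- The projection onto increasing chains. -/
noncomputable def phi : ∀ q, (Fin (q + 1) → ι) → Ch ι q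
  | 0 => fun σ => Finsupp.single σ 1
  | q + 1 => fun σ => cone' (least σ) q (lin (phi q) (bd q (Finsupp.single σ 1)))

lemma phi_pre {q : ℕ} (σ : Fin (q + 2) → ι)
    (h : ∀ τ : Fin (q + 1) → ι, phi q τ ∈ incr (least τ) (Set.range τ) q) :
    lin (phi q) (bd q (Finsupp.single σ 1)) ∈ incr (least σ) (Set.range σ) q := by
  rw [bd_single, map_sum]
  refine sum_mem fun j _ => ?_
  rw [map_zsmul, lin_single]
  exact zsmul_mem (incr_mono (least_le_comp σ _) (range_comp_subset σ _) q (h _)) _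

lemma phi_mem : ∀ (q : ℕ) (σ : Fin (q + 1) → ι), phi q σ ∈ incr (least σ) (Set.range σ) q
  | 0, σ => AddSubgroup.subset_closure ⟨σ, ⟨fun a b h => absurd h (by omega), least_le σ 0, subset_rfl⟩, rfl⟩
  | q + 1, σ => cone'_mem (least_mem σ) (phi_pre σ (phi_mem q))

lemma bd_phi : ∀ (q : ℕ) (σ : Fin (q + 2) → ι), bd q (phi (q + 1) σ) = lin (phi q) (bd q (Finsupp.single σ 1))
  | 0, σ => by
    refine (bd_cone'_zero (phi_pre σ (phi_mem 0))).trans ?_
    have : aug (lin (phi 0) (bd 0 (Finsupp.single σ 1))) = 0 := by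
      rw [show lin (phi (ι := ι) 0) = AddMonoidHom.id _ from lin_ext fun a => lin_single _ _]
      exact aug_bd _
    rw [this, zero_smul, sub_zero]
  | q + 1, σ => by
    refine (bd_cone' (phi_pre σ (phi_mem (q + 1)))).trans ?_
    have : ∀ χ : Ch ι (q + 1), bd q (lin (phi (q + 1)) χ) = lin (phi q) (bd q χ) := fun χ =>
      DFunLike.congr_fun (lin_ext (f := (bd q).comp (lin (phi (q + 1)))) (g := (lin (phi q)).comp (bd q))
        fun a => by
          show bd q (lin (phi (q + 1)) (Finsupp.single a 1)) = lin (phi q) (bd q (Finsupp.single a 1))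
          rw [lin_single]
          exact bd_phi q a) χ
    rw [this, bd_bd, map_zero, map_zero, sub_zero]

lemma phi_eq_zero [Finite ι] {q : ℕ} (hq : Nat.card ι ≤ q) (σ : Fin (q + 1) → ι) : phi q σ = 0 := by
  have h := phi_mem q σ
  have e : {τ : Fin (q + 1) → ι | StrictMono τ ∧ least σ ≤ τ 0 ∧ Set.range τ ⊆ Set.range σ} = ∅ := by
    refine Set.eq_empty_iff_forall_notMem.2 fun τ hτ => ?_
    have := Nat.card_le_card_of_injective τ hτ.1.injective
    simp only [Nat.card_eq_fintype_card, Fintype.card_fin] at this hq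
    omega
  rw [incr, e, Set.image_empty, AddSubgroup.closure_empty] at h
  exact h

/-- The homotopy. -/
noncomputable def htpy : ∀ q, (Fin (q + 1) → ι) → Ch ι (q + 1)
  | 0 => fun _ => 0
  | q + 1 => fun σ => cone (least σ) (q + 1)
      (Finsupp.single σ 1 - phi (q + 1) σ - lin (htpy q) (bd q (Finsupp.single σ 1)))

lemma htpy_mem : ∀ (q : ℕ) (σ : Fin (q + 1) → ι), htpy q σ ∈ carr (Set.range σ) (q + 1)
  | 0, _ => zero_mem _
  | q + 1, σ => by
    refine map_carr (cone (least σ) (q + 1)) (fun τ hτ => ?_) (S := Set.range σ) ?_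
    · rw [cone, lin_single]
      refine mem_carr ?_
      rw [Fin.range_cons]
      exact Set.insert_subset (least_mem σ) hτ
    · refine sub_mem (sub_mem (mem_carr subset_rfl) (incr_le_carr _ _ _ (phi_mem _ σ))) ?_
      rw [bd_single, map_sum]
      refine sum_mem fun j _ => ?_
      rw [map_zsmul, lin_single]
      refine zsmul_mem ?_ _
      exact carr_le (fun τ hτ => mem_carr (hτ.trans (range_comp_subset σ _))) (htpy_mem q _)

lemma bd_htpy : ∀ (q : ℕ) (σ : Fin (q + 2) → ι),
    bd (q + 1) (htpy (q + 1) σ) + lin (htpy q) (bd q (Finsupp.single σ 1)) =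
      Finsupp.single σ 1 - phi (q + 1) σ
  | 0, σ => by
    have h0 : lin (htpy (ι := ι) 0) (bd 0 (Finsupp.single σ 1)) = 0 := by
      rw [show lin (htpy (ι := ι) 0) = 0 from lin_ext fun a => lin_single _ _]
      rfl
    have hz : bd 0 (Finsupp.single σ 1 - phi 1 σ) = 0 := by
      rw [map_sub, bd_phi, show lin (phi (ι := ι) 0) = AddMonoidHom.id _ from lin_ext fun a => lin_single _ _]
      exact sub_self _
    show bd 1 (cone _ 1 _) + _ = _
    rw [h0, sub_zero, bd_cone, hz, map_zero, sub_zero, add_zero]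
  | q + 1, σ => by
    have key : ∀ χ : Ch ι (q + 1), bd (q + 1) (lin (htpy (q + 1)) χ) + lin (htpy q) (bd q χ) =
        χ - lin (phi (q + 1)) χ := fun χ =>
      DFunLike.congr_fun (lin_ext (f := (bd (q + 1)).comp (lin (htpy (q + 1))) + (lin (htpy q)).comp (bd q))
        (g := AddMonoidHom.id _ - lin (phi (q + 1))) fun a => by
          simp only [AddMonoidHom.add_apply, AddMonoidHom.coe_comp, Function.comp_apply, lin_single,
            AddMonoidHom.sub_apply, AddMonoidHom.id_apply]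
          exact bd_htpy q a) χ
    have hz : bd (q + 1) (Finsupp.single σ 1 - phi (q + 2) σ -
        lin (htpy (q + 1)) (bd (q + 1) (Finsupp.single σ 1))) = 0 := by
      have := key (bd (q + 1) (Finsupp.single σ 1))
      rw [bd_bd, map_zero, add_zero] at this
      rw [map_sub, map_sub, bd_phi, this, sub_self]
    show bd (q + 2) (cone _ (q + 2) _) + _ = _
    rw [bd_cone, hz, map_zero, sub_zero, sub_add_cancel]

section Cochains

open CechTop

variable {X : TopCat.{u}} (U : ι → Opens X) (P : (Opens X)ᵒᵖ ⥤ AddCommGrpCat.{u})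

lemma cap_le_of_range {q m : ℕ} {σ : Fin (m + 1) → ι} {τ : Fin (q + 1) → ι} (h : Set.range τ ⊆ Set.range σ) :
    cap U σ ≤ cap U τ := le_iInf fun k => by
  obtain ⟨l, hl⟩ := h ⟨k, rfl⟩
  rw [← hl]
  exact iInf_le (fun l => U (σ l)) l

/-- Evaluation of a cochain on chains carried by a tuple. -/
noncomputable def ev {q m : ℕ} (σ : Fin (m + 1) → ι) (x : C U P q) : Ch ι q →+ P.obj (op (cap U σ)) :=
  lin fun τ => if h : Set.range τ ⊆ Set.range σ then res P (cap_le_of_range U h) ((proj U P τ).hom x) else 0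

lemma ev_single {q m : ℕ} (σ : Fin (m + 1) → ι) (x : C U P q) (τ : Fin (q + 1) → ι)
    (h : Set.range τ ⊆ Set.range σ) :
    ev U P σ x (Finsupp.single τ 1) = res P (cap_le_of_range U h) ((proj U P τ).hom x) := by
  rw [ev, lin_single, dif_pos h]

lemma ev_bd {q m : ℕ} (σ : Fin (m + 1) → ι) (x : C U P q) {χ : Ch ι (q + 1)}
    (hχ : χ ∈ carr (Set.range σ) (q + 1)) : ev U P σ ((d U P q).hom x) χ = ev U P σ x (bd q χ) := by
  have : ev U P σ ((d U P q).hom x) χ - ev U P σ x (bd q χ) = 0 := by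
    refine AddMonoidHom.mem_ker.1 (carr_le
      (T := (ev U P σ ((d U P q).hom x) - (ev U P σ x).comp (bd q)).ker) (fun τ hτ => ?_) hχ)
    refine AddMonoidHom.mem_ker.2 (sub_eq_zero.2 ?_)
    show ev U P σ _ (Finsupp.single τ 1) = ev U P σ x (bd q (Finsupp.single τ 1))
    rw [ev_single U P σ _ τ hτ, proj_d, map_sum, bd_single, map_sum]
    refine Finset.sum_congr rfl fun j _ => ?_
    rw [map_zsmul, map_zsmul, ev_single U P σ x _ ((range_comp_subset τ _).trans hτ), res_res]
  exact sub_eq_zero.1 this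

lemma ev_face {q m m' : ℕ} (σ : Fin (m + 1) → ι) (σ' : Fin (m' + 1) → ι) (h : Set.range σ' ⊆ Set.range σ)
    (x : C U P q) {χ : Ch ι q} (hχ : χ ∈ carr (Set.range σ') q) :
    res P (cap_le_of_range U h) (ev U P σ' x χ) = ev U P σ x χ := by
  have : res P (cap_le_of_range U h) (ev U P σ' x χ) - ev U P σ x χ = 0 := by
    refine AddMonoidHom.mem_ker.1 (carr_le
      (T := ((res P (cap_le_of_range U h)).comp (ev U P σ' x) - ev U P σ x).ker) (fun τ hτ => ?_) hχ)
    refine AddMonoidHom.mem_ker.2 (sub_eq_zero.2 ?_)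
    show res P _ (ev U P σ' x (Finsupp.single τ 1)) = ev U P σ x (Finsupp.single τ 1)
    rw [ev_single U P σ' x τ hτ, ev_single U P σ x τ (hτ.trans h), res_res]
  exact sub_eq_zero.1 this

/-- Cocycles of degree at least the number of opens are coboundaries. -/
theorem exists_eq_d [Finite ι] {q : ℕ} (hq : Nat.card ι ≤ q + 1) (x : C U P (q + 1))
    (hx : (d U P (q + 1)).hom x = 0) : ∃ y : C U P q, (d U P q).hom y = x := by
  obtain ⟨y, hy⟩ := exists_proj_eq U P fun σ : Fin (q + 1) → ι => ev U P σ x (htpy q σ)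
  refine ⟨y, CechTop.hom_ext U P fun σ => ?_⟩
  have h1 : ev U P σ x (bd (q + 1) (htpy (q + 1) σ)) = 0 := by
    rw [← ev_bd U P σ x (htpy_mem (q + 1) σ), hx, ev]
    have : (fun τ : Fin (q + 3) → ι => if h : Set.range τ ⊆ Set.range σ then
        res P (cap_le_of_range U h) ((proj U P τ).hom (0 : C U P (q + 2))) else 0) = 0 := by
      funext τ
      split_ifs <;> simp
    rw [this, show lin (0 : (Fin (q + 3) → ι) → P.obj (op (cap U σ))) = 0 from lin_ext fun a => lin_single _ _]
    rfl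
  have h2 := congrArg (ev U P σ x) (bd_htpy q σ)
  rw [map_add, h1, zero_add, phi_eq_zero hq, sub_zero, ev_single U P σ x σ subset_rfl, res_self] at h2
  rw [← h2, proj_d, bd_single, map_sum, map_sum]
  refine Finset.sum_congr rfl fun j _ => ?_
  rw [map_zsmul, map_zsmul, lin_single, hy]
  exact congrArg _ (ev_face U P σ _ (range_comp_subset σ _) x (htpy_mem q _))

end Cochains

end Groth.Agent.H15Site.OrdCech
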