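import Groth.Agent.H15Site.LanExact
import Groth.Agent.H16Derived.ExactAdj
import Mathlib.CategoryTheory.Limits.Final
import Mathlib.CategoryTheory.Sites.Over
import Mathlib.Algebra.Category.Grp.AB

/-!
# Extension by zero from a localised site is exact on abelian sheaves
-/

set_option autoImplicit false
set_option linter.style.haveILetI false
set_option backward.isDefEq.respectTransparency false

universe u

open CategoryTheory CategoryTheory.Limits Opposite

namespace Groth.Agent.H15Site.OverShriek

variable {C : Type u} [SmallCategory C] (U : C)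

/-- The initial objects of the components of the comma category. -/
def comp (c : Cᵒᵖ) : Discrete (c.unop ⟶ U) ⥤ CostructuredArrow (Over.forget U).op c :=
  Discrete.functor fun v => CostructuredArrow.mk (Y := op (Over.mk v))
    (𝟙 c : (Over.forget U).op.obj (op (Over.mk v)) ⟶ c)

instance (c : Cᵒᵖ) : (comp U c).Final where
  out A := by
    have key : ∀ {v : c.unop ⟶ U} (g : A ⟶ (comp U c).obj ⟨v⟩),
        g.left.unop.left = A.hom.unop ∧ v = A.hom.unop ≫ A.left.unop.hom := by
      intro v g
      have h : g.left.unop.left = A.hom.unop := by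
        have := congrArg Quiver.Hom.unop (CostructuredArrow.w g)
        simpa [comp] using this
      exact ⟨h, by rw [← h]; exact (Over.w g.left.unop).symm⟩
    haveI : Nonempty (StructuredArrow A (comp U c)) :=
      ⟨StructuredArrow.mk (Y := Discrete.mk (A.hom.unop ≫ A.left.unop.hom : c.unop ⟶ U))
        (CostructuredArrow.homMk (Over.homMk A.hom.unop rfl : Over.mk (A.hom.unop ≫ A.left.unop.hom) ⟶ A.left.unop).op
          (Category.comp_id _))⟩
    refine zigzag_isConnected fun B B' => Zigzag.of_hom ?_
    refine StructuredArrow.homMk (Discrete.eqToHom ((key B.hom).2.trans (key B'.hom).2.symm)) ?_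
    apply CostructuredArrow.hom_ext
    apply Quiver.Hom.unop_inj
    apply Over.OverMorphism.ext
    exact (key (B.hom ≫ (comp U c).map _)).1.trans (key B'.hom).1.symm

theorem lan_map_app_injective {M N : (Over U)ᵒᵖ ⥤ AddCommGrpCat.{u}} (f : M ⟶ N) [Mono f] (c : Cᵒᵖ) :
    Mono (((Over.forget U).op.lan.map f).app c) := by
  let w := lanEvaluationIsoColim (E := AddCommGrpCat.{u}) (Over.forget U).op c
  let i := Functor.Final.colimIso (comp U c) (E := AddCommGrpCat.{u})
  let Φ : ((Over U)ᵒᵖ ⥤ AddCommGrpCat.{u}) ⥤ AddCommGrpCat.{u} :=
    ((Functor.whiskeringLeft _ _ _).obj (CostructuredArrow.proj (Over.forget U).op c)) ⋙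
      ((Functor.whiskeringLeft _ _ _).obj (comp U c)) ⋙ colim
  let e : (Over.forget U).op.lan ⋙ (evaluation _ _).obj c ≅ Φ :=
    w ≪≫ Functor.isoWhiskerLeft _ i.symm
  haveI : Mono (Φ.map f) := by
    haveI hf : ∀ X, Mono (f.app X) := (NatTrans.mono_iff_mono_app f).1 inferInstance
    haveI : Mono (Functor.whiskerLeft (comp U c)
        (Functor.whiskerLeft (CostructuredArrow.proj (Over.forget U).op c) f)) :=
      (NatTrans.mono_iff_mono_app _).2 fun A => hf _
    exact (colim (J := Discrete (c.unop ⟶ U)) (C := AddCommGrpCat.{u})).map_mono _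
  have : Mono (((Over.forget U).op.lan ⋙ (evaluation _ _).obj c).map f ≫ e.hom.app N) := by
    rw [e.hom.naturality f]
    infer_instance
  exact mono_of_mono (((Over.forget U).op.lan ⋙ (evaluation _ _).obj c).map f) (e.hom.app N)

attribute [local instance 10000] SiteInst.hasSheafifySite SiteInst.hasWeakSheafifySite

/-- Extension by zero of abelian sheaves is left exact. -/
instance preservesFiniteLimits (J : GrothendieckTopology C) :
    PreservesFiniteLimits ((Over.forget U).sheafPullback AddCommGrpCat.{u} (J.over U) J) :=
  LanExact.preservesFiniteLimits_of_locallyInjective _ _ _ fun {M N} f hf =>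
    Presheaf.isLocallyInjective_of_injective J _ fun X =>
      haveI : Mono f := (NatTrans.mono_iff_mono_app f).2 fun Y => (AddCommGrpCat.mono_iff_injective _).2 (hf Y)
      (AddCommGrpCat.mono_iff_injective _).1 (lan_map_app_injective U f X)

/-- Restriction to a localised site preserves K-injective complexes. -/
theorem isKInjective_restrict (J : GrothendieckTopology C)
    (I : CochainComplex (Sheaf J AddCommGrpCat.{u}) ℤ) (hI : I.IsKInjective) :
    CochainComplex.IsKInjective ((((Over.forget U).sheafPushforwardContinuous AddCommGrpCat.{u} (J.over U) J).mapHomologicalComplex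
      (ComplexShape.up ℤ)).obj I) :=
  haveI := hI
  let adj := (Over.forget U).sheafAdjunctionContinuous AddCommGrpCat.{u} (J.over U) J
  haveI : PreservesColimitsOfSize.{0, 0} ((Over.forget U).sheafPullback AddCommGrpCat.{u} (J.over U) J) :=
    adj.leftAdjoint_preservesColimits
  haveI : PreservesFiniteColimits ((Over.forget U).sheafPullback AddCommGrpCat.{u} (J.over U) J) :=
    PreservesColimitsOfSize.preservesFiniteColimits _
  haveI : ((Over.forget U).sheafPushforwardContinuous AddCommGrpCat.{u} (J.over U) J).Additive :=
    ⟨fun {_ _ _ _} => rfl⟩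
  haveI : ((Over.forget U).sheafPullback AddCommGrpCat.{u} (J.over U) J).Additive := adj.left_adjoint_additive
  H16Derived.ExactAdj.isKInjective_map adj I

end Groth.Agent.H15Site.OverShriek
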