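import Groth.Agent.H15Site.PullExpl
import Groth.Agent.H15Site.CoverFlat
import Groth.Agent.H15Site.ModRel

/-!
Elements of `G ⊗ expl M` and their evaluation on cones of `c/fn`.
-/

universe u

open CategoryTheory CategoryTheory.Limits MonoidalCategory Opposite TensorProduct
open scoped Classical

namespace Groth.Agent.H15Site.PullTensor

open ModTensor

attribute [local instance 10000] SiteInst.hasSheafifySite SiteInst.hasWeakSheafifySite

variable {C D : Type u} [SmallCategory C] [SmallCategory D] {J : GrothendieckTopology C}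
  {K : GrothendieckTopology D} {O_C : Sheaf J CommRingCat.{u}} {O_D : Sheaf K CommRingCat.{u}}
  (f : ModSite.RMor O_C O_D)

/-- The sections of `G` over `c`, as a module over `O_D d` through `b : c ⟶ fn d`. -/
def Rs {c : C} {d : D} (b : c ⟶ f.fn.obj d) (G : PMod O_C) : Type u := G.obj (op c)

noncomputable instance {c : C} {d : D} (b : c ⟶ f.fn.obj d) (G : PMod O_C) :
    AddCommGroup (Rs f b G) :=
  inferInstanceAs (AddCommGroup (G.obj (op c)))

noncomputable instance {c : C} {d : D} (b : c ⟶ f.fn.obj d) (G : PMod O_C) :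
    Module (O_D.obj.obj (op d)) (Rs f b G) :=
  letI : Module (O_C.obj.obj (op c)) (Rs f b G) := (G.obj (op c)).isModule
  Module.compHom (Rs f b G) (rho (f := f) (StructuredArrow.mk b))

/-- Identification. -/
noncomputable def toRs {c : C} {d : D} (b : c ⟶ f.fn.obj d) (G : PMod O_C) :
    G.obj (op c) ≃+ Rs f b G :=
  AddEquiv.refl (G.obj (op c))

lemma smul_toRs {c : C} {d : D} (b : c ⟶ f.fn.obj d) (G : PMod O_C)
    (r : O_D.obj.obj (op d)) (g : G.obj (op c)) :
    r • toRs f b G g = toRs f b G (rho (StructuredArrow.mk b) r • g) := rfl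

/-- The relation map, on sections. -/
noncomputable abbrev relC (M : PMod O_D) (c : C) :
    (RelD f M c →₀ O_C.obj.obj (op c)) →ₗ[O_C.obj.obj (op c)] (Idx f M c →₀ O_C.obj.obj (op c)) :=
  ((relHom f M).app (op c)).hom

/-- The projection, on sections. -/
noncomputable abbrev projC (M : PMod O_D) (c : C) :
    (Idx f M c →₀ O_C.obj.obj (op c)) →ₗ[O_C.obj.obj (op c)] (expl f M).obj (op c) :=
  ((explπ f M).app (op c)).hom

/-- The values of the relations, as finitely supported functions. -/
noncomputable def relValC (M : PMod O_D) {c : C} (r : RelD f M c) :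
    Idx f M c →₀ O_C.obj.obj (op c) :=
  relVal f M r

lemma relValC_add (M : PMod O_D) {c : C} (X : StructuredArrow c f.fn) (m m' : M.obj (op X.right)) :
    relValC f M (.add X m m') = Finsupp.single (⟨X, m + m'⟩ : Idx f M c) 1 -
      Finsupp.single ⟨X, m⟩ 1 - Finsupp.single ⟨X, m'⟩ 1 := rfl

lemma relValC_smul (M : PMod O_D) {c : C} (X : StructuredArrow c f.fn)
    (r : O_D.obj.obj (op X.right)) (m : M.obj (op X.right)) :
    relValC f M (.smul X r m) = Finsupp.single (⟨X, r • m⟩ : Idx f M c) 1 -
      rho X r • Finsupp.single (⟨X, m⟩ : Idx f M c) (1 : O_C.obj.obj (op c)) := rfl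

lemma relValC_res (M : PMod O_D) {c : C} (X : StructuredArrow c f.fn) (d : D) (g : X.right ⟶ d)
    (m : M.obj (op d)) :
    relValC f M (.res X d g m) = Finsupp.single (⟨X, rs M g.op m⟩ : Idx f M c) 1 -
      Finsupp.single ⟨StructuredArrow.mk (X.hom ≫ f.fn.map g), m⟩ 1 := rfl

variable (M : PMod O_D) (G : PMod O_C)

/-- Coordinates `(Idx c →₀ G c) ≅ G c ⊗ free`. -/
noncomputable def coord (c : C) :
    (G.obj (op c) ⊗[O_C.obj.obj (op c)] (Idx f M c →₀ O_C.obj.obj (op c))) ≃ₗ[O_C.obj.obj (op c)]
      (Idx f M c →₀ G.obj (op c)) :=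
  TensorProduct.finsuppScalarRight _ _ _ _

/-- The element of `(G ⊗ free)(c)` with given coordinates. -/
noncomputable def vec {c : C} : (Idx f M c →₀ G.obj (op c)) →+
    (G ⊗ fr O_C (idxP f M)).obj (op c) :=
  (coord f M G c).symm.toLinearMap.toAddMonoidHom

lemma vec_single {c : C} (i : Idx f M c) (g : G.obj (op c)) :
    vec f M G (Finsupp.single i g) = g ⊗ₜ[O_C.obj.obj (op c)] dl O_C (P := idxP f M) i :=
  TensorProduct.finsuppScalarRight_symm_apply_single i g

lemma vec_surjective {c : C} : Function.Surjective (vec f M G (c := c)) :=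
  (coord f M G c).symm.surjective

/-- The class in `G ⊗ expl M`. -/
noncomputable def cls {c : C} : (Idx f M c →₀ G.obj (op c)) →+ (G ⊗ expl f M).obj (op c) :=
  (((G ◁ explπ f M).app (op c)).hom.toAddMonoidHom).comp (vec f M G)

lemma cls_single {c : C} (i : Idx f M c) (g : G.obj (op c)) :
    cls f M G (Finsupp.single i g) = g ⊗ₜ[O_C.obj.obj (op c)] cl f M i.X i.m := by
  show ((G ◁ explπ f M).app (op c)).hom (vec f M G (Finsupp.single i g)) = _
  rw [vec_single]
  rfl

lemma cls_surjective {c : C} : Function.Surjective (cls f M G (c := c)) := by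
  have h : Function.Surjective ((explπ f M).app (op c)).hom :=
    PresheafOfModules.surjective_of_epi (explπ f M) (op c)
  exact (LinearMap.lTensor_surjective (G.obj (op c)) h).comp (vec_surjective f M G)

variable {f M G}

/-- Evaluation on a cone. -/
noncomputable def evc {c c' : C} {v : c' ⟶ c} {S : Finset (StructuredArrow c f.fn)}
    {T : Finset (PullSets.Arr f.fn c)} (κ : PullSets.DCone f.fn v S T) :
    (Idx f M c →₀ G.obj (op c)) →+
      (Rs f κ.b G ⊗[O_D.obj.obj (op κ.e)] M.obj (op κ.e)) :=
  Finsupp.liftAddHom fun i =>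
    if hi : i.X ∈ S then
      { toFun := fun g => toRs f κ.b G (rs G v.op g) ⊗ₜ[O_D.obj.obj (op κ.e)]
          rs M (κ.h i.X hi).op i.m
        map_zero' := by
          rw [ModRel.rs_zero, map_zero]
          exact TensorProduct.zero_tmul _ _
        map_add' := fun a b => by
          rw [rs_add, map_add]
          exact TensorProduct.add_tmul _ _ _ }
    else 0

lemma evc_single {c c' : C} {v : c' ⟶ c} {S : Finset (StructuredArrow c f.fn)}
    {T : Finset (PullSets.Arr f.fn c)} (κ : PullSets.DCone f.fn v S T) (i : Idx f M c)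
    (hi : i.X ∈ S) (g : G.obj (op c)) :
    evc κ (Finsupp.single i g) =
      toRs f κ.b G (rs G v.op g) ⊗ₜ[O_D.obj.obj (op κ.e)]
        rs M (κ.h i.X hi).op i.m := by
  rw [evc, Finsupp.liftAddHom_apply_single, dif_pos hi]
  rfl

/-- Vectors killed by all sufficiently fine cones. -/
def Good {c : C} (z : Idx f M c →₀ G.obj (op c)) : Prop :=
  ∃ (S : Finset (StructuredArrow c f.fn)) (T : Finset (PullSets.Arr f.fn c)),
    ∀ (S' : Finset (StructuredArrow c f.fn)) (T' : Finset (PullSets.Arr f.fn c)), S ⊆ S' → T ⊆ T' →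
      ∀ (c' : C) (v : c' ⟶ c) (κ : PullSets.DCone f.fn v S' T'), evc κ z = 0

lemma Good.zero {c : C} : Good (0 : Idx f M c →₀ G.obj (op c)) :=
  ⟨∅, ∅, fun _ _ _ _ _ _ _ => map_zero _⟩

lemma Good.add {c : C} {z z' : Idx f M c →₀ G.obj (op c)} (h : Good z) (h' : Good z') :
    Good (z + z') := by
  classical
  obtain ⟨S, T, h⟩ := h
  obtain ⟨S', T', h'⟩ := h'
  refine ⟨S ∪ S', T ∪ T', fun A B hA hB c' v κ => ?_⟩
  rw [map_add, h A B (Finset.union_subset_left hA) (Finset.union_subset_left hB) c' v κ,
    h' A B (Finset.union_subset_right hA) (Finset.union_subset_right hB) c' v κ, add_zero]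

lemma rho_cone {c c' : C} {v : c' ⟶ c} {S : Finset (StructuredArrow c f.fn)}
    {T : Finset (PullSets.Arr f.fn c)} (κ : PullSets.DCone f.fn v S T)
    (X : StructuredArrow c f.fn) (hX : X ∈ S) (r : O_D.obj.obj (op X.right)) :
    rho (StructuredArrow.mk κ.b) ((O_D.obj.map (κ.h X hX).op).hom r) =
      (O_C.obj.map v.op).hom (rho X r) := by
  show (O_C.obj.map κ.b.op).hom ((f.sharp.hom.app (op κ.e)).hom
    ((O_D.obj.map (κ.h X hX).op).hom r)) =
      (O_C.obj.map v.op).hom ((O_C.obj.map X.hom.op).hom ((f.sharp.hom.app (op X.right)).hom r))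
  have e := NatTrans.naturality_apply f.sharp.hom (κ.h X hX).op r
  refine (congrArg (fun t => (O_C.obj.map κ.b.op).hom t) e).trans ?_
  show ModRel.rr O_C κ.b.op (ModRel.rr O_C (f.fn.map (κ.h X hX)).op _) =
    ModRel.rr O_C v.op (ModRel.rr O_C X.hom.op _)
  rw [ModRel.rr_rr, ModRel.rr_rr, ← op_comp, ← op_comp, κ.w X hX]

set_option maxHeartbeats 400000 in
lemma good_rel {c : C} (r : RelD f M c) (g : G.obj (op c)) :
    Good ((coord f M G c) (g ⊗ₜ[O_C.obj.obj (op c)] relValC f M r)) := by
  classical
  have hsingle : ∀ (i : Idx f M c) (a : O_C.obj.obj (op c)),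
      coord f M G c (g ⊗ₜ[O_C.obj.obj (op c)] Finsupp.single i a) = Finsupp.single i (a • g) := by
    intro i a
    refine (TensorProduct.finsuppScalarRight_apply_tmul g _).trans ?_
    exact Finsupp.sum_single_index (by simp)
  rcases r with ⟨X, m, m'⟩ | ⟨X, a, m⟩ | ⟨X, d', h, m⟩
  · refine ⟨{X}, ∅, fun S T hS _ c' v κ => ?_⟩
    have hX : X ∈ S := hS (Finset.mem_singleton_self X)
    rw [relValC_add]
    rw [tmul_sub, tmul_sub]
    simp only [map_sub, hsingle]
    rw [evc_single κ _ hX, evc_single κ _ hX, evc_single κ _ hX, rs_add, tmul_add]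
    abel
  · refine ⟨{X}, ∅, fun S T hS _ c' v κ => ?_⟩
    have hX : X ∈ S := hS (Finset.mem_singleton_self X)
    rw [relValC_smul]
    rw [tmul_sub, Finsupp.smul_single', mul_one]
    simp only [map_sub, hsingle]
    rw [evc_single κ _ hX, evc_single κ _ hX, one_smul, ModRel.rs_smul', ModRel.rs_smul',
      tmul_smul, smul_tmul', smul_toRs, sub_eq_zero]
    congr 1
    exact congrArg (fun t => toRs f κ.b G (t • rs G v.op g))
      (rho_cone κ X hX a)
  · let Y : StructuredArrow c f.fn := StructuredArrow.mk (X.hom ≫ f.fn.map h)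
    let φ : X ⟶ Y := StructuredArrow.homMk h rfl
    refine ⟨{X, Y}, {⟨X, Y, φ⟩}, fun S T hS hT c' v κ => ?_⟩
    have hX : X ∈ S := hS (by simp)
    have hY : Y ∈ S := hS (by simp)
    rw [relValC_res]
    rw [tmul_sub]
    simp only [map_sub, hsingle]
    rw [evc_single κ _ hX, evc_single κ _ hY, rs_rs]
    have hc : κ.h X hX ≫ h = κ.h Y hY := κ.compat ⟨X, Y, φ⟩ (hT (Finset.mem_singleton_self _)) hX hY
    rw [← op_comp, hc]
    exact sub_self _

theorem good_of_cls_eq_zero {c : C} (z : Idx f M c →₀ G.obj (op c)) (hz : cls f M G z = 0) :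
    Good z := by
  have hsurj : Function.Surjective (projC f M c) :=
    PresheafOfModules.surjective_of_epi (explπ f M) (op c)
  let SC := ShortComplex.mk (relHom f M) (explπ f M) (cokernel.condition (relHom f M))
  have hSC : SC.Exact := ShortComplex.exact_of_g_is_cokernel _ (cokernelIsCokernel (relHom f M))
  have hex : Function.Exact (relC f M c) (projC f M c) :=
    (ShortComplex.ShortExact.moduleCat_exact_iff_function_exact _).1
      (hSC.map (PresheafOfModules.evaluation _ (op c)))
  obtain ⟨y, hy⟩ := (lTensor_exact (G.obj (op c)) hex hsurj ((coord f M G c).symm z)).1 hz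
  have hz' : z = coord f M G c ((coord f M G c).symm z) :=
    ((coord f M G c).apply_symm_apply z).symm
  rw [hz', ← hy]
  clear hy hz hz'
  induction y using TensorProduct.induction_on with
  | zero =>
    rw [map_zero, map_zero]
    exact Good.zero
  | tmul g ρ =>
    rw [LinearMap.lTensor_tmul]
    induction ρ using Finsupp.induction_linear with
    | zero =>
      rw [map_zero, tmul_zero, map_zero]
      exact Good.zero
    | add ρ₁ ρ₂ h₁ h₂ =>
      rw [map_add, tmul_add, map_add]
      exact h₁.add h₂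
    | single r a =>
      rw [← Finsupp.smul_single_one, map_smul, ← TensorProduct.smul_tmul]
      have e : relC f M c (Finsupp.single r 1) = relValC f M r := relHom_dl f M r
      rw [e]
      exact good_rel r (a • g)
  | add y₁ y₂ h₁ h₂ =>
    rw [map_add, map_add]
    exact h₁.add h₂

/-- From a cone back to `G ⊗ expl M`. -/
noncomputable def psiC {c : C} {d : D} (b : c ⟶ f.fn.obj d) :
    (Rs f b G ⊗[O_D.obj.obj (op d)] M.obj (op d)) →+ (G ⊗ expl f M).obj (op c) :=
  TensorProduct.liftAddHom
    { toFun := fun g =>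
        { toFun := fun n => ((toRs f b G).symm g) ⊗ₜ[O_C.obj.obj (op c)] cl f M (StructuredArrow.mk b) n
          map_zero' := by
            have h0 : cl f M (StructuredArrow.mk b) (0 : M.obj (op d)) = 0 := by
              have := cl_add f M (StructuredArrow.mk b) 0 0
              simpa using this
            rw [h0]
            exact TensorProduct.tmul_zero _ _
          map_add' := fun n n' => by
            rw [cl_add]
            exact TensorProduct.tmul_add _ _ _ }
      map_zero' := by
        ext n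
        show (toRs f b G).symm 0 ⊗ₜ[O_C.obj.obj (op c)] _ = _
        rw [map_zero, TensorProduct.zero_tmul]
        rfl
      map_add' := fun g g' => by
        ext n
        show (toRs f b G).symm (g + g') ⊗ₜ[O_C.obj.obj (op c)] _ = _
        rw [map_add, TensorProduct.add_tmul]
        rfl }
    (fun r g n => by
      show (rho (StructuredArrow.mk b) r • (toRs f b G).symm g) ⊗ₜ[O_C.obj.obj (op c)] cl f M (StructuredArrow.mk b) n =
        (toRs f b G).symm g ⊗ₜ[O_C.obj.obj (op c)] cl f M (StructuredArrow.mk b) (r • n : M.obj (op d))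
      rw [cl_smul]
      exact TensorProduct.smul_tmul _ _ _)

lemma psiC_tmul {c : C} {d : D} (b : c ⟶ f.fn.obj d) (g : G.obj (op c))
    (n : M.obj (op d)) :
    psiC b (toRs f b G g ⊗ₜ[O_D.obj.obj (op d)] n) =
      g ⊗ₜ[O_C.obj.obj (op c)] cl f M (StructuredArrow.mk b) n :=
  rfl

theorem psiC_evc {c c' : C} {v : c' ⟶ c} {S : Finset (StructuredArrow c f.fn)}
    {T : Finset (PullSets.Arr f.fn c)} (κ : PullSets.DCone f.fn v S T)
    (z : Idx f M c →₀ G.obj (op c)) (hz : ∀ i ∈ z.support, i.X ∈ S) :
    psiC κ.b (evc κ z) = rs (G ⊗ expl f M) v.op (cls f M G z) := by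
  classical
  conv_lhs => rw [← Finsupp.sum_single z]
  conv_rhs => rw [← Finsupp.sum_single z]
  rw [Finsupp.sum, map_sum, map_sum, map_sum, ModRel.rs_sum]
  refine Finset.sum_congr rfl fun i hi => ?_
  rw [evc_single κ i (hz i hi), cls_single]
  erw [psiC_tmul]
  show _ = rs G v.op (z i) ⊗ₜ[O_C.obj.obj (op c')] rs (expl f M) v.op (cl f M i.X i.m)
  rw [rs_cl]
  congr 1
  exact cl_res f M (X := StructuredArrow.mk κ.b) (Y := mv f v i.X)
    (StructuredArrow.homMk (κ.h i.X (hz i hi)) (κ.w i.X (hz i hi))) i.m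

end Groth.Agent.H15Site.PullTensor
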