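import Groth.Agent.H15Site.PullFree
import Mathlib.Algebra.Category.ModuleCat.Presheaf.Abelian

/-!
An explicit presheaf whose sheafification is the inverse image of a module: generators
`(d, c ⟶ fn d, m ∈ M d)` with the evident relations.
-/

universe u

open CategoryTheory CategoryTheory.Limits MonoidalCategory Opposite

namespace Groth.Agent.H15Site.PullTensor

open ModTensor

attribute [local instance 10000] SiteInst.hasSheafifySite SiteInst.hasWeakSheafifySite

variable {C D : Type u} [SmallCategory C] [SmallCategory D] {J : GrothendieckTopology C}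
  {K : GrothendieckTopology D} {O_C : Sheaf J CommRingCat.{u}} {O_D : Sheaf K CommRingCat.{u}}
  (f : ModSite.RMor O_C O_D) (M : PMod O_D)

/-- Generators over `c`. -/
structure Idx (c : C) : Type u where
  /-- the object of `c/fn` -/
  X : StructuredArrow c f.fn
  /-- the section -/
  m : M.obj (op X.right)

/-- Change of the base point. -/
abbrev mv {c c' : C} (v : c' ⟶ c) (X : StructuredArrow c f.fn) : StructuredArrow c' f.fn :=
  StructuredArrow.mk (v ≫ X.hom)

/-- The presheaf of generators. -/
def idxP : Cᵒᵖ ⥤ Type u where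
  obj c := Idx f M c.unop
  map v := ↾fun i => ⟨mv f v.unop i.X, i.m⟩
  map_id c := by
    ext i
    obtain ⟨X, m⟩ := i
    simp [mv, ← StructuredArrow.eq_mk]
  map_comp v w := by
    ext i
    simp [mv]

/-- Relations. -/
inductive RelD (c : C) : Type u
  | add (X : StructuredArrow c f.fn) (m m' : M.obj (op X.right))
  | smul (X : StructuredArrow c f.fn) (r : O_D.obj.obj (op X.right)) (m : M.obj (op X.right))
  | res (X : StructuredArrow c f.fn) (d : D) (g : X.right ⟶ d) (m : M.obj (op d))

/-- Change of the base point of a relation. -/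
def RelD.mv {c c' : C} (v : c' ⟶ c) : RelD f M c → RelD f M c'
  | .add X m m' => .add (PullTensor.mv f v X) m m'
  | .smul X r m => .smul (PullTensor.mv f v X) r m
  | .res X d g m => .res (PullTensor.mv f v X) d g m

variable {f M}

/-- The image of `r ∈ O_D d` in `O_C c` along an object of `c/fn`. -/
noncomputable def rho {c : C} (X : StructuredArrow c f.fn) :
    O_D.obj.obj (op X.right) →+* O_C.obj.obj (op c) :=
  RingHom.comp (O_C.obj.map X.hom.op).hom (f.sharp.hom.app (op X.right)).hom

lemma rho_mv {c c' : C} (v : c' ⟶ c) (X : StructuredArrow c f.fn) (r : O_D.obj.obj (op X.right)) :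
    rho (mv f v X) r = (O_C.obj.map v.op).hom (rho X r) := by
  simp [rho, mv]

variable (f M)

/-- Values of the relations. -/
noncomputable def relVal {c : C} : RelD f M c → (fr O_C (idxP f M)).obj (op c)
  | .add X m m' => dl O_C (P := idxP f M) ⟨X, m + m'⟩ - dl O_C (P := idxP f M) ⟨X, m⟩ -
      dl O_C (P := idxP f M) ⟨X, m'⟩
  | .smul X r m => dl O_C (P := idxP f M) ⟨X, r • m⟩ - rho X r • dl O_C (P := idxP f M) ⟨X, m⟩
  | .res X d g m => dl O_C (P := idxP f M) ⟨X, rs M g.op m⟩ -
      dl O_C (P := idxP f M) ⟨StructuredArrow.mk (X.hom ≫ f.fn.map g), m⟩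

lemma rs_sub (N : PMod O_C) {X Y : Cᵒᵖ} (g : X ⟶ Y) (a b : N.obj X) :
    rs N g (a - b) = rs N g a - rs N g b :=
  map_sub (N.presheaf.map g).hom a b

lemma rs_relVal {c c' : C} (v : c' ⟶ c) (r : RelD f M c) :
    rs (fr O_C (idxP f M)) v.op (relVal f M r) = relVal f M (r.mv f M v) := by
  rcases r with ⟨X, m, m'⟩ | ⟨X, r, m⟩ | ⟨X, d', g, m⟩
  · show rs _ _ (_ - _ - _) = _
    rw [rs_sub, rs_sub, rs_dl, rs_dl, rs_dl]
    rfl
  · show rs _ _ (_ - _) = _
    rw [rs_sub, rs_smul, rs_dl, rs_dl]
    show _ = dl O_C (P := idxP f M) ⟨mv f v X, r • m⟩ -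
      rho (mv f v X) r • dl O_C (P := idxP f M) ⟨mv f v X, m⟩
    rw [rho_mv]
    rfl
  · show rs _ _ (_ - _) = _
    rw [rs_sub, rs_dl, rs_dl]
    show _ - dl O_C (P := idxP f M) ⟨StructuredArrow.mk (v ≫ (X.hom ≫ f.fn.map g)), m⟩ =
      _ - dl O_C (P := idxP f M) ⟨StructuredArrow.mk ((v ≫ X.hom) ≫ f.fn.map g), m⟩
    rw [Category.assoc]
    rfl

/-- The presheaf of relations. -/
def relP : Cᵒᵖ ⥤ Type u where
  obj c := RelD f M c.unop
  map v := ↾fun r => r.mv f M v.unop
  map_id c := by
    ext r
    rcases r with ⟨X, m, m'⟩ | ⟨X, r, m⟩ | ⟨X, d', g, m⟩ <;>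
      simp [RelD.mv, mv, ← StructuredArrow.eq_mk]
  map_comp v w := by
    ext r
    rcases r with ⟨X, m, m'⟩ | ⟨X, r, m⟩ | ⟨X, d', g, m⟩ <;> simp [RelD.mv, mv]

/-- The relation map. -/
noncomputable def relHom : fr O_C (relP f M) ⟶ fr O_C (idxP f M) :=
  PresheafOfModules.freeObjDesc
    { app := fun c => ↾fun r => relVal f M r
      naturality := fun c c' v => by
        ext r
        exact (rs_relVal f M v.unop r).symm }

lemma relHom_dl {c : C} (r : RelD f M c) :
    ((relHom f M).app (op c)).hom (dl O_C (P := relP f M) r) = relVal f M r :=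
  ModuleCat.freeDesc_apply _ r

/-- The explicit presheaf inverse image. -/
noncomputable def expl : PMod O_C := cokernel (relHom f M)

/-- The projection. -/
noncomputable def explπ : fr O_C (idxP f M) ⟶ expl f M := cokernel.π (relHom f M)

instance : Epi (explπ f M) := inferInstanceAs (Epi (cokernel.π (relHom f M)))

/-- The class of a generator. -/
noncomputable def cl {c : C} (X : StructuredArrow c f.fn) (m : M.obj (op X.right)) :
    (expl f M).obj (op c) :=
  ((explπ f M).app (op c)).hom (dl O_C (P := idxP f M) ⟨X, m⟩)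

lemma explπ_relVal {c : C} (r : RelD f M c) :
    ((explπ f M).app (op c)).hom (relVal f M r) = 0 := by
  rw [← relHom_dl]
  exact ConcreteCategory.congr_hom (congrArg (fun k => PresheafOfModules.Hom.app k (op c))
    (cokernel.condition (relHom f M))) _

lemma cl_add {c : C} (X : StructuredArrow c f.fn) (m m' : M.obj (op X.right)) :
    cl f M X (m + m') = cl f M X m + cl f M X m' := by
  have := explπ_relVal f M (.add X m m')
  simp only [relVal, map_sub] at this
  rw [sub_sub, sub_eq_zero] at this
  exact this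

lemma cl_smul {c : C} (X : StructuredArrow c f.fn) (r : O_D.obj.obj (op X.right))
    (m : M.obj (op X.right)) : cl f M X (r • m : M.obj (op X.right)) = rho X r • cl f M X m := by
  have := explπ_relVal f M (.smul X r m)
  simp only [relVal, map_sub, map_smul, sub_eq_zero] at this
  exact this

lemma cl_res {c : C} {X Y : StructuredArrow c f.fn} (g : X ⟶ Y) (m : M.obj (op Y.right)) :
    cl f M X (rs M g.right.op m) = cl f M Y m := by
  have := explπ_relVal f M (.res X Y.right g.right m)
  simp only [relVal, map_sub, sub_eq_zero] at this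
  refine this.trans ?_
  rw [StructuredArrow.w g]
  rfl

lemma rs_cl {c c' : C} (v : c' ⟶ c) (X : StructuredArrow c f.fn) (m : M.obj (op X.right)) :
    rs (expl f M) v.op (cl f M X m) = cl f M (mv f v X) m := by
  show rs _ _ (((explπ f M).app (op c)).hom _) = _
  rw [← rs_app, rs_dl]
  rfl

/-- The unit `M ⟶ fn^* expl M`. -/
noncomputable def explσ : M ⟶ (pushP f).obj (expl f M) where
  app d := ModuleCat.ofHom
    (Y := (ModuleCat.restrictScalars ((phi f).app d).hom).obj
      ((expl f M).obj (op (f.fn.obj d.unop))))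
    { toFun := fun m =>
        (cl f M (StructuredArrow.mk (T := f.fn) (Y := d.unop) (𝟙 (f.fn.obj d.unop))) m :)
      map_add' := fun m m' =>
        cl_add f M (StructuredArrow.mk (T := f.fn) (Y := d.unop) (𝟙 (f.fn.obj d.unop))) m m'
      map_smul' := fun r m => by
        refine (cl_smul f M (StructuredArrow.mk (T := f.fn) (Y := d.unop) (𝟙 _)) r m).trans ?_
        have : rho (StructuredArrow.mk (T := f.fn) (Y := d.unop) (𝟙 (f.fn.obj d.unop))) r =
            (f.sharp.hom.app d).hom r := by
          simp [rho]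
          rfl
        rw [this]
        rfl }
  naturality {d d'} g := by
    refine ModuleCat.hom_ext (LinearMap.ext fun m => ?_)
    show cl f M (StructuredArrow.mk (T := f.fn) (𝟙 (f.fn.obj d'.unop))) (rs M g m) =
      rs (expl f M) (f.fn.map g.unop).op (cl f M (StructuredArrow.mk (T := f.fn) (𝟙 (f.fn.obj d.unop))) m)
    rw [rs_cl]
    exact cl_res f M (X := StructuredArrow.mk (T := f.fn) (𝟙 (f.fn.obj d'.unop)))
      (Y := mv f (f.fn.map g.unop) (StructuredArrow.mk (T := f.fn) (𝟙 (f.fn.obj d.unop))))
      (StructuredArrow.homMk g.unop (by simp [mv])) m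

theorem univ_explσ : Univ f (explσ f M) := fun L => by
  constructor
  · intro g g' h
    refine (cancel_epi (explπ f M)).1 ?_
    refine PresheafOfModules.hom_ext fun c => ModuleCat.free_hom_ext fun i => ?_
    obtain ⟨X, m⟩ := i
    have e : ∀ k : expl f M ⟶ (forg O_C).obj L, (k.app c).hom (cl f M X m) =
        rs ((forg O_C).obj L) X.hom.op
          (((explσ f M ≫ (pushP f).map k).app (op X.right)).hom m) := by
      intro k
      show _ = rs _ _ ((k.app _).hom (cl f M (StructuredArrow.mk (𝟙 _)) m))
      rw [← rs_app, rs_cl]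
      congr 2
      · simp [mv, ← StructuredArrow.eq_mk]
    show (g.app c).hom (cl f M X m) = (g'.app c).hom (cl f M X m)
    rw [e g, e g']
    exact congrArg (fun k : M ⟶ (pushP f).obj ((forg O_C).obj L) =>
      rs ((forg O_C).obj L) X.hom.op ((k.app (op X.right)).hom m)) h
  · intro φ
    let F : fr O_C (idxP f M) ⟶ (forg O_C).obj L := PresheafOfModules.freeObjDesc
      { app := fun c => ↾fun i => rs ((forg O_C).obj L) i.X.hom.op (ev φ i.m)
        naturality := fun c c' v => by
          ext i
          exact (rs_rs ((forg O_C).obj L) i.X.hom.op v (ev φ i.m)).symm }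
    have hF : ∀ {c : C} (X : StructuredArrow c f.fn) (m : M.obj (op X.right)),
        (F.app (op c)).hom (dl O_C (P := idxP f M) ⟨X, m⟩) =
          rs ((forg O_C).obj L) X.hom.op (ev φ m) :=
      fun X m => ModuleCat.freeDesc_apply _ _
    have hrel : relHom f M ≫ F = 0 := by
      refine PresheafOfModules.hom_ext fun c => ModuleCat.free_hom_ext fun r => ?_
      show (F.app c).hom (((relHom f M).app c).hom (dl O_C (P := relP f M) r)) = 0
      rw [relHom_dl]
      rcases r with ⟨X, m, m'⟩ | ⟨X, r, m⟩ | ⟨X, d', g, m⟩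
      · simp only [relVal, map_sub, hF, ev_add, rs_add]
        abel
      · simp only [relVal, map_sub, map_smul, hF]
        rw [ev_smul, rs_smul]
        exact sub_self _
      · simp only [relVal, map_sub, hF]
        rw [ev_rs, rs_rs]
        exact sub_self _
    refine ⟨cokernel.desc _ F hrel, ?_⟩
    refine PresheafOfModules.hom_ext fun d => ModuleCat.hom_ext (LinearMap.ext fun m => ?_)
    show ((cokernel.desc _ F hrel).app _).hom (((explπ f M).app _).hom
      (dl O_C (P := idxP f M) ⟨StructuredArrow.mk (𝟙 _), m⟩)) = ev φ m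
    refine (ConcreteCategory.congr_hom (congrArg (fun k => PresheafOfModules.Hom.app k _)
      (cokernel.π_desc (relHom f M) F hrel)) _).trans ?_
    refine (hF (StructuredArrow.mk (T := f.fn) (Y := d.unop) (𝟙 _)) m).trans ?_
    exact rs_id _ _

end Groth.Agent.H15Site.PullTensor
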