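import Groth.Agent.H15Site.ModOver
import Mathlib.Algebra.Category.ModuleCat.Sheaf.LocallyFree
import Mathlib.Algebra.Category.ModuleCat.Sheaf.Quasicoherent

/-!
# Tensor products of presented sheaves of modules

`presT`: the tensor product of two presented modules is presented; `isQuasicoherent_tensor`,
`isFinitePresentation_tensor`, `isLocallyFree_tensor`, `isFiniteType_tensor`, `lgdT` on a site
with fibre products.
-/

universe u

open CategoryTheory CategoryTheory.Limits Opposite

set_option linter.style.haveILetI false
set_option backward.isDefEq.respectTransparency false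
set_option linter.unusedSectionVars false

namespace Groth.Agent.H15Site.TensorPres

open ModTensor

attribute [local instance 10000] SiteInst.hasSheafifySite SiteInst.hasWeakSheafifySite

variable {C : Type u} [SmallCategory C] {J : GrothendieckTopology C} {O : Sheaf J CommRingCat.{u}}

/-- `M ⊗ N`. -/
noncomputable abbrev T (M N : ModSite.Mod O) : ModSite.Mod O :=
  ((ModSite.tensorBi O).obj M).obj N

variable (O) in
/-- The free module. -/
noncomputable abbrev fr₀ (I : Type u) : ModSite.Mod O :=
  SheafOfModules.free (R := ModSite.ringSh O) I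

/-- A coproduct of free modules is free. -/
noncomputable def sigmaFreeIso (I I' : Type u) : (∐ fun _ : I' => fr₀ O I) ≅ fr₀ O (I × I') :=
  sigmaSigmaIso (fun _ : I' => I) (fun _ _ => SheafOfModules.unit (ModSite.ringSh O)) ≪≫
    Sigma.whiskerEquiv (g := fun _ : I × I' => SheafOfModules.unit (ModSite.ringSh O))
      ((Equiv.sigmaEquivProd I' I).trans (Equiv.prodComm I' I)) (fun _ => Iso.refl _)

/-- `O^I ⊗ O^{I'} = O^{I × I'}`. -/
noncomputable def freeTensorFree (I I' : Type u) :
    T (fr₀ O I) (fr₀ O I') ≅ fr₀ O (I × I') :=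
  haveI := preservesColimits_tL (O := O) (fr₀ O I)
  PreservesCoproduct.iso ((ModSite.tensorBi O).obj (fr₀ O I))
      (fun _ : I' => SheafOfModules.unit (ModSite.ringSh O)) ≪≫
    Sigma.mapIso (fun _ => ((tLIso (ModSite.unit O)).symm ≪≫
      ModOver.tensorUnitIso O).app (fr₀ O I)) ≪≫ sigmaFreeIso I I'

/-- `u ⊗ v`. -/
noncomputable def tMap {M M' N N' : ModSite.Mod O} (a : M ⟶ M') (b : N ⟶ N') : T M N ⟶ T M' N' :=
  (tR N).map a ≫ ((ModSite.tensorBi O).obj M').map b

theorem epi_tMap {M M' N N' : ModSite.Mod O} (a : M ⟶ M') (b : N ⟶ N') [Epi a] [Epi b] :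
    Epi (tMap a b) := by
  haveI := preservesFiniteColimits_tR (O := O) N
  haveI := preservesColimits_tL (O := O) M'
  haveI : PreservesFiniteColimits ((ModSite.tensorBi O).obj M') :=
    PreservesColimitsOfSize.preservesFiniteColimits _
  haveI : Epi ((tR N).map a) := inferInstance
  haveI : Epi (((ModSite.tensorBi O).obj M').map b) := inferInstance
  exact epi_comp _ _

section Gen

variable {M N : ModSite.Mod O} (P : M.GeneratingSections) (Q : N.GeneratingSections)

/-- The generating map of a tensor product. -/
noncomputable def genMap : fr₀ O (P.I × Q.I) ⟶ T M N :=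
  (freeTensorFree P.I Q.I).inv ≫ tMap P.π Q.π

theorem epi_genMap : Epi (genMap P Q) :=
  haveI := epi_tMap P.π Q.π
  epi_comp _ _

theorem isIso_genMap [IsIso P.π] [IsIso Q.π] : IsIso (genMap P Q) := by
  haveI : IsIso ((tR (fr₀ O Q.I)).map P.π) := inferInstance
  haveI : IsIso (((ModSite.tensorBi O).obj M).map Q.π) := inferInstance
  unfold genMap tMap
  infer_instance

/-- Generators of a tensor product. -/
noncomputable def genT : (T M N).GeneratingSections where
  I := P.I × Q.I
  s := (T M N).freeHomEquiv (genMap P Q)
  epi := by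
    rw [Equiv.symm_apply_apply]
    exact epi_genMap P Q

lemma genT_π : (genT P Q).π = genMap P Q := (T M N).freeHomEquiv.symm_apply_apply _

end Gen

section Pres

variable {M N : ModSite.Mod O} (P : M.Presentation) (Q : N.Presentation)

/-- The relations as a map of free modules. -/
noncomputable def relMap : fr₀ O P.relations.I ⟶ fr₀ O P.generators.I :=
  P.relations.π ≫ kernel.ι P.generators.π

lemma relMap_π : relMap P ≫ P.generators.π = 0 := by simp [relMap]

/-- The relations of a tensor product. -/
noncomputable def relT :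
    fr₀ O ((P.relations.I × Q.generators.I) ⊕ (P.generators.I × Q.relations.I)) ⟶
      fr₀ O (P.generators.I × Q.generators.I) :=
  Sigma.desc (Sum.elim
    (fun k => SheafOfModules.ιFree k ≫ (freeTensorFree P.relations.I Q.generators.I).inv ≫
      (tR (fr₀ O Q.generators.I)).map (relMap P) ≫
      (freeTensorFree P.generators.I Q.generators.I).hom)
    (fun k => SheafOfModules.ιFree k ≫ (freeTensorFree P.generators.I Q.relations.I).inv ≫
      ((ModSite.tensorBi O).obj (fr₀ O P.generators.I)).map (relMap Q) ≫
      (freeTensorFree P.generators.I Q.generators.I).hom))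

lemma interchange {M M' N N' : ModSite.Mod O} (a : M ⟶ M') (b : N ⟶ N') :
    (tR N).map a ≫ ((ModSite.tensorBi O).obj M').map b =
      ((ModSite.tensorBi O).obj M).map b ≫ (tR N').map a :=
  (((ModSite.tensorBi O).map a).naturality b).symm

lemma relT_genMap : relT P Q ≫ genMap P.generators Q.generators = 0 := by
  refine Sigma.hom_ext _ _ fun k => ?_
  rw [relT, Sigma.ι_desc_assoc, comp_zero]
  haveI := additive_tR (O := O) (fr₀ O Q.generators.I)
  haveI := preservesColimits_tL (O := O) M
  haveI : PreservesFiniteColimits ((ModSite.tensorBi O).obj M) :=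
    PreservesColimitsOfSize.preservesFiniteColimits _
  haveI := additive_of_preservesFiniteColimits ((ModSite.tensorBi O).obj M)
  haveI := additive_tR (O := O) (fr₀ O Q.relations.I)
  rcases k with k | k <;> simp only [Sum.elim_inl, Sum.elim_inr, genMap, tMap, Category.assoc,
    Iso.hom_inv_id_assoc]
  · rw [← Functor.map_comp_assoc, relMap_π]
    simp
  · rw [← Category.assoc (((ModSite.tensorBi O).obj _).map (relMap Q)), ← interchange,
      Category.assoc, ← Functor.map_comp, relMap_π]
    simp

/-- The presentation of a tensor product is exact. -/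
noncomputable def isColimitT :
    IsColimit (CokernelCofork.ofπ (genMap P.generators Q.generators) (relT_genMap P Q)) :=
  haveI := epi_genMap P.generators Q.generators
  CokernelCofork.IsColimit.ofπ' _ _ fun {Z} h hh => Nonempty.some <| by
    haveI := additive_tR (O := O) (fr₀ O Q.generators.I)
    haveI := additive_tR (O := O) (fr₀ O Q.relations.I)
    haveI := preservesFiniteColimits_tR (O := O) (fr₀ O Q.generators.I)
    haveI := preservesFiniteColimits_tR (O := O) (fr₀ O Q.relations.I)
    haveI := preservesColimits_tL (O := O) M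
    haveI : PreservesFiniteColimits ((ModSite.tensorBi O).obj M) :=
      PreservesColimitsOfSize.preservesFiniteColimits _
    haveI := additive_of_preservesFiniteColimits ((ModSite.tensorBi O).obj M)
    let e := freeTensorFree (O := O) P.generators.I Q.generators.I
    have h₁ : (tR (fr₀ O Q.generators.I)).map (relMap P) ≫ e.hom ≫ h = 0 := by
      rw [← cancel_epi (freeTensorFree P.relations.I Q.generators.I).inv, comp_zero]
      refine Sigma.hom_ext _ _ fun k => ?_
      have := Sigma.ι _ (Sum.inl k) ≫= hh
      rw [comp_zero, relT, Sigma.ι_desc_assoc] at this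
      simpa [SheafOfModules.ιFree] using this
    obtain ⟨h', hh'⟩ := CokernelCofork.IsColimit.desc'
      (CokernelCofork.mapIsColimit _ P.isColimit (tR (fr₀ O Q.generators.I))) (e.hom ≫ h) h₁
    change (tR _).map P.generators.π ≫ h' = e.hom ≫ h at hh'
    have h₂ : ((ModSite.tensorBi O).obj M).map (relMap Q) ≫ h' = 0 := by
      rw [← cancel_epi ((tR (fr₀ O Q.relations.I)).map P.generators.π), comp_zero,
        ← Category.assoc, interchange, Category.assoc, hh',
        ← cancel_epi (freeTensorFree P.generators.I Q.relations.I).inv, comp_zero]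
      refine Sigma.hom_ext _ _ fun k => ?_
      have := Sigma.ι _ (Sum.inr k) ≫= hh
      rw [comp_zero, relT, Sigma.ι_desc_assoc] at this
      simpa [SheafOfModules.ιFree] using this
    obtain ⟨h'', hh''⟩ := CokernelCofork.IsColimit.desc'
      (CokernelCofork.mapIsColimit _ Q.isColimit ((ModSite.tensorBi O).obj M)) h' h₂
    change ((ModSite.tensorBi O).obj M).map Q.generators.π ≫ h'' = h' at hh''
    refine ⟨⟨h'', ?_⟩⟩
    rw [genMap, tMap, Category.assoc, Category.assoc, hh'', hh', Iso.inv_hom_id_assoc]

/-- The tensor product of two presented modules is presented. -/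
noncomputable def presT : (T M N).Presentation :=
  SheafOfModules.presentationOfIsCokernelFree (relT P Q) (genMap P.generators Q.generators)
    (relT_genMap P Q) (isColimitT P Q)

theorem isFinite_presT [P.IsFinite] [Q.IsFinite] : (presT P Q).IsFinite where
  isFiniteType_generators := ⟨inferInstanceAs (Finite (P.generators.I × Q.generators.I))⟩
  isFiniteType_relations :=
    ⟨inferInstanceAs (Finite ((P.relations.I × Q.generators.I) ⊕ (P.generators.I × Q.relations.I)))⟩

end Pres

/-! ### Globalisation -/

section Global

variable [HasPullbacks C] {F G : ModSite.Mod O}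

theorem preservesColimits_overMap {W V : C} (a : W ⟶ V) :
    PreservesColimitsOfSize.{u, u} (SheafOfModules.overMap.{u} (ModSite.ringSh O) a) :=
  (Adjunction.ofIsLeftAdjoint _).leftAdjoint_preservesColimits

attribute [local instance] preservesColimits_overMap

/-- Restriction of generators. -/
noncomputable def resGen {W V : C} (a : W ⟶ V)
    (σ : ((ModSite.restr O V).obj F).GeneratingSections) :
    ((ModSite.restr O W).obj F).GeneratingSections :=
  haveI := preservesColimits_overMap (O := O) a
  (σ.map (SheafOfModules.overMap.{u} (ModSite.ringSh O) a)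
    (SheafOfModules.overMapUnitIso a).symm).ofEpi
      ((SheafOfModules.overFunctorMap (ModSite.ringSh O) a).app F).hom

theorem isIso_resGen {W V : C} (a : W ⟶ V)
    (σ : ((ModSite.restr O V).obj F).GeneratingSections) [IsIso σ.π] : IsIso (resGen a σ).π := by
  haveI := preservesColimits_overMap (O := O) a
  rw [resGen, SheafOfModules.GeneratingSections.ofEpi_π]
  haveI : IsIso (σ.map (SheafOfModules.overMap.{u} (ModSite.ringSh O) a)
      (SheafOfModules.overMapUnitIso a).symm).π := inferInstance
  exact IsIso.comp_isIso

/-- Restriction of presentations. -/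
noncomputable def resPres {W V : C} (a : W ⟶ V)
    (σ : ((ModSite.restr O V).obj F).Presentation) : ((ModSite.restr O W).obj F).Presentation :=
  haveI := preservesColimits_overMap (O := O) a
  (σ.map (SheafOfModules.overMap.{u} (ModSite.ringSh O) a)
    (SheafOfModules.overMapUnitIso a).symm).ofIsIso
      ((SheafOfModules.overFunctorMap (ModSite.ringSh O) a).app F).hom

theorem isFinite_resPres {W V : C} (a : W ⟶ V)
    (σ : ((ModSite.restr O V).obj F).Presentation) [σ.IsFinite] : (resPres a σ).IsFinite := by
  haveI := preservesColimits_overMap (O := O) a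
  haveI : (σ.map (SheafOfModules.overMap.{u} (ModSite.ringSh O) a)
      (SheafOfModules.overMapUnitIso a).symm).IsFinite :=
    { isFiniteType_generators := ⟨inferInstanceAs (Finite σ.generators.I)⟩
      isFiniteType_relations := ⟨inferInstanceAs (Finite σ.relations.I)⟩ }
  exact ⟨⟨inferInstanceAs (Finite σ.generators.I)⟩, ⟨inferInstanceAs (Finite σ.relations.I)⟩⟩

/-- The common refinement of two families. -/
abbrev Ref {ι κ : Type u} (X : ι → C) (Y : κ → C) : Type u :=
  Σ (W : C) (i : ι) (k : κ), (W ⟶ X i) × (W ⟶ Y k)


theorem coversTop_ref {ι κ : Type u} {X : ι → C} {Y : κ → C} (hX : J.CoversTop X)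
    (hY : J.CoversTop Y) : J.CoversTop (fun r : Ref X Y => r.1) := fun Z => by
  refine J.superset_covering (fun W g hg => ?_) (J.intersection_covering (hX Z) (hY Z))
  obtain ⟨i, ⟨a⟩⟩ := (Sieve.mem_ofObjects_iff ..).1 hg.1
  obtain ⟨k, ⟨b⟩⟩ := (Sieve.mem_ofObjects_iff ..).1 hg.2
  exact (Sieve.mem_ofObjects_iff ..).2 ⟨⟨W, i, k, a, b⟩, ⟨𝟙 W⟩⟩

/-- Local generators of a tensor product. -/
noncomputable def lgdT (p : SheafOfModules.LocalGeneratorsData.{u} (R := ModSite.ringSh O) F)
    (q : SheafOfModules.LocalGeneratorsData.{u} (R := ModSite.ringSh O) G) :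
    SheafOfModules.LocalGeneratorsData.{u} (R := ModSite.ringSh O) (T F G) where
  I := Ref p.X q.X
  X r := r.1
  coversTop := coversTop_ref p.coversTop q.coversTop
  generators r := (genT (O := O.over r.1) (resGen r.2.2.2.1 (p.generators r.2.1))
    (resGen r.2.2.2.2 (q.generators r.2.2.1))).ofEpi (ModOver.restrTensor O r.1 F G).inv

theorem isFiniteType_tensor [hF : SheafOfModules.IsFiniteType (R := ModSite.ringSh O) F]
    [hG : SheafOfModules.IsFiniteType (R := ModSite.ringSh O) G] :
    SheafOfModules.IsFiniteType (R := ModSite.ringSh O) (T F G) := by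
  obtain ⟨p, hp⟩ := hF.exists_localGeneratorsData
  obtain ⟨q, hq⟩ := hG.exists_localGeneratorsData
  refine { exists_localGeneratorsData := ⟨lgdT p q, ?_⟩ }
  constructor
  intro r
  constructor
  haveI := (hp.isFiniteType r.2.1).finite
  haveI := (hq.isFiniteType r.2.2.1).finite
  exact inferInstanceAs (Finite ((p.generators r.2.1).I × (q.generators r.2.2.1).I))

theorem isLocallyFree_tensor [hF : SheafOfModules.IsLocallyFree (R := ModSite.ringSh O) F]
    [hG : SheafOfModules.IsLocallyFree (R := ModSite.ringSh O) G] :
    SheafOfModules.IsLocallyFree (R := ModSite.ringSh O) (T F G) := by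
  obtain ⟨p, hp⟩ := hF.exists_isLocallyFreeData
  obtain ⟨q, hq⟩ := hG.exists_isLocallyFreeData
  refine { exists_isLocallyFreeData := ⟨lgdT p q, ?_⟩ }
  constructor
  intro r
  haveI := hp.isIso r.2.1
  haveI := hq.isIso r.2.2.1
  haveI := isIso_resGen r.2.2.2.1 (p.generators r.2.1)
  haveI := isIso_resGen r.2.2.2.2 (q.generators r.2.2.1)
  haveI := isIso_genMap (O := O.over r.1) (resGen r.2.2.2.1 (p.generators r.2.1))
    (resGen r.2.2.2.2 (q.generators r.2.2.1))
  show IsIso ((genT (O := O.over r.1) _ _).ofEpi _).π
  rw [SheafOfModules.GeneratingSections.ofEpi_π, genT_π]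
  infer_instance

/-- Quasi-coherence data of a tensor product. -/
noncomputable def qcdT (p : SheafOfModules.QuasicoherentData.{u} (R := ModSite.ringSh O) F)
    (q : SheafOfModules.QuasicoherentData.{u} (R := ModSite.ringSh O) G) :
    SheafOfModules.QuasicoherentData.{u} (R := ModSite.ringSh O) (T F G) where
  I := Ref p.X q.X
  X r := r.1
  coversTop := coversTop_ref p.coversTop q.coversTop
  presentation r := (presT (O := O.over r.1) (resPres r.2.2.2.1 (p.presentation r.2.1))
    (resPres r.2.2.2.2 (q.presentation r.2.2.1))).ofIsIso (ModOver.restrTensor O r.1 F G).inv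

theorem isQuasicoherent_tensor [hF : SheafOfModules.IsQuasicoherent (R := ModSite.ringSh O) F]
    [hG : SheafOfModules.IsQuasicoherent (R := ModSite.ringSh O) G] :
    SheafOfModules.IsQuasicoherent (R := ModSite.ringSh O) (T F G) := by
  obtain ⟨p⟩ := hF.nonempty_quasicoherentData
  obtain ⟨q⟩ := hG.nonempty_quasicoherentData
  exact { nonempty_quasicoherentData := ⟨qcdT p q⟩ }

theorem isFinitePresentation_tensor
    [hF : SheafOfModules.IsFinitePresentation (R := ModSite.ringSh O) F]
    [hG : SheafOfModules.IsFinitePresentation (R := ModSite.ringSh O) G] :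
    SheafOfModules.IsFinitePresentation (R := ModSite.ringSh O) (T F G) := by
  obtain ⟨p, hp⟩ := hF.exists_quasicoherentData
  obtain ⟨q, hq⟩ := hG.exists_quasicoherentData
  refine { exists_quasicoherentData := ⟨qcdT p q, ?_⟩ }
  constructor
  intro r
  haveI := hp.isFinite_presentation r.2.1
  haveI := hq.isFinite_presentation r.2.2.1
  haveI := isFinite_resPres r.2.2.2.1 (p.presentation r.2.1)
  haveI := isFinite_resPres r.2.2.2.2 (q.presentation r.2.2.1)
  haveI := isFinite_presT (O := O.over r.1) (resPres r.2.2.2.1 (p.presentation r.2.1))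
    (resPres r.2.2.2.2 (q.presentation r.2.2.1))
  exact inferInstanceAs (SheafOfModules.Presentation.IsFinite
    (SheafOfModules.Presentation.ofIsIso _ (presT (O := O.over r.1) _ _)))

end Global

end Groth.Agent.H15Site.TensorPres
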