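import Groth.Agent.H15Site.PullPure
import Groth.Agent.H15Site.TensorPres
import Groth.Prelude.Def_ModSite2

/-!
# Flatness over the base of a morphism of ringed sites

`RefTriv f G`: linear relations in `G` with coefficients coming from `O_D` are trivial after
refinement on `C` and on `D`.  Under this hypothesis `M ↦ f^* M ⊗ F` is exact
(`preservesFiniteLimits_pull_tR`), so `f^*` is exact if `O_C` satisfies it (`isFlat_of_refTriv`).
-/

universe u

open CategoryTheory CategoryTheory.Limits MonoidalCategory Opposite TensorProduct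
open scoped Classical

set_option linter.style.haveILetI false
set_option linter.unusedSectionVars false

namespace Groth.Agent.H15Site.PullTensor

open ModTensor ModRel

attribute [local instance 10000] SiteInst.hasSheafifySite SiteInst.hasWeakSheafifySite

variable {C D : Type u} [SmallCategory C] [SmallCategory D] {J : GrothendieckTopology C}
  {K : GrothendieckTopology D} {O_C : Sheaf J CommRingCat.{u}} {O_D : Sheaf K CommRingCat.{u}}
  (f : ModSite.RMor O_C O_D)

/-- The conclusion of `RefTriv` for a family of relations `α` on `z`, along `v`. -/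
def RefAlong (G : PMod O_C) {c c' : C} {e : D} (b : c ⟶ f.fn.obj e) (v : c' ⟶ c) {ι : Type} {n : ℕ}
    (α : ι → Fin n → O_D.obj.obj (op e)) (z : Fin n → G.obj (op c)) : Prop :=
  ∃ (e' : D) (g : e' ⟶ e) (b' : c' ⟶ f.fn.obj e'), b' ≫ f.fn.map g = v ≫ b ∧
    ∃ (l : ℕ) (y : Fin l → G.obj (op c')) (a : Fin n → Fin l → O_D.obj.obj (op e')),
      (∀ j, rs G v.op (z j) = ∑ k, rho (StructuredArrow.mk b') (a j k) • y k) ∧
      ∀ i k, ∑ j, a j k * rr O_D g.op (α i j) = 0

/-- Relations with coefficients from `O_D` are trivial after refinement. -/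
def RefTriv (G : PMod O_C) : Prop :=
  ∀ (c : C) (e : D) (b : c ⟶ f.fn.obj e) (n : ℕ) (α : Fin n → O_D.obj.obj (op e))
    (z : Fin n → G.obj (op c)), ∑ j, rho (StructuredArrow.mk b) (α j) • z j = 0 →
    ∃ S ∈ J c, ∀ ⦃c' : C⦄ (v : c' ⟶ c), S v → RefAlong f G b v (fun _ : Unit => α) z

variable {f}

lemma rho_rr_mk {c c' : C} {e e' : D} {b : c ⟶ f.fn.obj e} {v : c' ⟶ c} {g : e' ⟶ e}
    {b' : c' ⟶ f.fn.obj e'} (w : b' ≫ f.fn.map g = v ≫ b) (r : O_D.obj.obj (op e)) :
    rr O_C v.op (rho (StructuredArrow.mk b) r) = rho (StructuredArrow.mk b') (rr O_D g.op r) :=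
  (rho_lift b v g b' w r).symm

theorem RefTriv.multi_fin {G : PMod O_C} (hG : RefTriv f G) : ∀ (m : ℕ) (c : C) (e : D)
    (b : c ⟶ f.fn.obj e) (n : ℕ) (α : Fin m → Fin n → O_D.obj.obj (op e))
    (z : Fin n → G.obj (op c)), (∀ i, ∑ j, rho (StructuredArrow.mk b) (α i j) • z j = 0) →
    ∃ S ∈ J c, ∀ ⦃c' : C⦄ (v : c' ⟶ c), S v → RefAlong f G b v α z := by
  intro m
  induction m with
  | zero =>
    intro c e b n α z _
    refine ⟨⊤, J.top_mem c, fun c' v _ => ⟨e, 𝟙 e, v ≫ b, by simp, n, fun k => rs G v.op (z k),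
      fun j k => if j = k then 1 else 0, fun j => ?_, fun i => i.elim0⟩⟩
    simp [apply_ite, ite_smul]
  | succ m ih =>
    intro c e b n α z hz
    obtain ⟨S, hS, hS'⟩ := hG c e b n (α 0) z (hz 0)
    have key : ∀ ⦃c' : C⦄ (v : c' ⟶ c), S v → ∃ T ∈ J c', ∀ ⦃c'' : C⦄ (w : c'' ⟶ c'), T w →
        RefAlong f G b (w ≫ v) α z := by
      intro c' v hv
      obtain ⟨e', g, b', hb, l, y, a, hzy, ha⟩ := hS' v hv
      obtain ⟨T, hT, hT'⟩ := ih c' e' b' l (fun i k => ∑ j, a j k * rr O_D g.op (α i.succ j)) y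
        (fun i => by
          have h0 := congrArg (rs G v.op) (hz i.succ)
          rw [ModRel.rs_sum, ModRel.rs_zero] at h0
          simp_rw [rs_smul', rho_rr_mk hb, hzy, Finset.smul_sum, smul_smul, ← map_mul] at h0
          rw [Finset.sum_comm] at h0
          refine Eq.trans (Finset.sum_congr rfl fun k _ => ?_) h0
          rw [map_sum, Finset.sum_smul]
          exact Finset.sum_congr rfl fun j _ => by rw [mul_comm])
      refine ⟨T, hT, fun c'' w hw => ?_⟩
      obtain ⟨e'', g', b'', hb', l', y', a', hy, ha'⟩ := hT' w hw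
      refine ⟨e'', g' ≫ g, b'', by rw [f.fn.map_comp, ← Category.assoc, hb', Category.assoc, hb,
        Category.assoc], l', y', fun j q => ∑ k, rr O_D g'.op (a j k) * a' k q, fun j => ?_,
        fun i q => ?_⟩
      · rw [op_comp, ← rs_rs, hzy, ModRel.rs_sum]
        simp_rw [rs_smul', rho_rr_mk hb', hy, Finset.smul_sum, smul_smul, map_sum,
          Finset.sum_smul, map_mul]
        exact Finset.sum_comm
      · simp_rw [op_comp, ← rr_rr g.op g'.op, Finset.sum_mul]
        rw [Finset.sum_comm]
        refine Fin.cases ?_ (fun i' => ?_) i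
        · refine Finset.sum_eq_zero fun k _ => ?_
          have := congrArg (rr O_D g'.op) (ha () k)
          simp only [rr, map_sum, map_zero, map_mul] at this
          calc ∑ j, rr O_D g'.op (a j k) * a' k q * rr O_D g'.op (rr O_D g.op (α 0 j))
              = a' k q * ∑ j, rr O_D g'.op (a j k) * rr O_D g'.op (rr O_D g.op (α 0 j)) := by
                rw [Finset.mul_sum]
                exact Finset.sum_congr rfl fun j _ => by ring
            _ = 0 := by rw [this, mul_zero]
        · refine Eq.trans (Finset.sum_congr rfl fun k _ => ?_) (ha' i' q)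
          simp only [rr, map_sum, map_mul, Finset.mul_sum]
          exact Finset.sum_congr rfl fun j _ => by ring
    choose T hT hT' using key
    refine ⟨Sieve.bind S.arrows T, J.bind_covering hS hT, fun c'' u hu => ?_⟩
    obtain ⟨c', w, v, hv, hw, rfl⟩ := hu
    exact hT' v hv w hw

section Kill

variable {G : PMod O_C} (hG : RefTriv f G) {M' M : PMod O_D} (u : M' ⟶ M)
  (hu : ∀ X, Function.Injective ((u.app X).hom))

include hG hu in
lemma kill_refTriv {c : C} {e : D} (b : c ⟶ f.fn.obj e)
    (w : Rs f b G ⊗[O_D.obj.obj (op e)] M'.obj (op e))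
    (hw : LinearMap.lTensor (Rs f b G) (sectLin u e) w = 0) :
    ∃ S ∈ J c, ∀ ⦃c' : C⦄ (v : c' ⟶ c), S v → rs (G ⊗ expl f M') v.op (psiC b w) = 0 := by
  obtain ⟨n, x, m, rfl⟩ := exists_sum_toRs b w
  have hw' : ∑ i, (u.app (op e)).hom (m i) ⊗ₜ[O_D.obj.obj (op e)] toRs f b G (x i) = 0 := by
    have := congrArg (TensorProduct.comm (O_D.obj.obj (op e)) (Rs f b G) (M.obj (op e))) hw
    simpa only [map_sum, map_zero, LinearMap.lTensor_tmul, TensorProduct.comm_tmul] using this
  obtain ⟨k, l, g₂, a, a', nn, hm, h0, hg⟩ := TensorRel.exists_rel _ _ hw'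
  let z : Fin l → G.obj (op c) := fun j => (toRs f b G).symm (nn j)
  have hz : ∀ t, ∑ j, rho (StructuredArrow.mk b) (a' t j) • z j = 0 := fun t => h0 t
  obtain ⟨S, hS, hS'⟩ := hG.multi_fin k c e b l a' z hz
  refine ⟨S, hS, fun c' v hv => ?_⟩
  obtain ⟨e', g, b', hb, l', y, A, hzy, hA⟩ := hS' v hv
  rw [rs_psiC_sum b v g b' hb]
  refine Eq.trans ?_ (map_zero (psiC b'))
  congr 1
  have key : ∑ i, rs M' g.op (m i) ⊗ₜ[O_D.obj.obj (op e')] toRs f b' G (rs G v.op (x i)) = 0 := by
    refine sum_tmul_eq_zero _ _ (fun i q => ∑ j, rr O_D g.op (a i j) * A j q)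
      (fun q => toRs f b' G (y q)) (fun i => ?_) (fun q => ?_)
    · have hx : rs G v.op (x i) = ∑ j, rho (StructuredArrow.mk b') (rr O_D g.op (a i j)) •
          rs G v.op (z j) := by
        have hxi : x i = ∑ j, rho (StructuredArrow.mk b) (a i j) • z j := hm i
        rw [hxi, ModRel.rs_sum]
        exact Finset.sum_congr rfl fun j _ => by rw [rs_smul', rho_rr_mk hb]
      show toRs f b' G (rs G v.op (x i)) = ∑ q, (∑ j, rr O_D g.op (a i j) * A j q) • toRs f b' G (y q)
      simp only [smul_toRs, ← map_sum]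
      congr 1
      rw [hx]
      simp_rw [hzy, Finset.smul_sum, smul_smul, map_sum, map_mul, Finset.sum_smul]
      exact Finset.sum_comm
    · apply hu (op e')
      rw [map_sum, map_zero]
      have hj : ∀ j, ∑ i, rr O_D g.op (a i j) • (u.app (op e')).hom (rs M' g.op (m i)) =
          -∑ t, rr O_D g.op (a' t j) • rs M g.op (g₂ t) := by
        intro j
        have := congrArg (rs M g.op) (hg j)
        rw [rs_add, ModRel.rs_sum, ModRel.rs_sum, ModRel.rs_zero] at this
        simp only [rs_smul'] at this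
        simp only [rs_app]
        exact eq_neg_of_add_eq_zero_left this
      simp_rw [map_smul, Finset.sum_smul]
      rw [Finset.sum_comm]
      simp_rw [mul_comm (rr O_D g.op _) (A _ q), ← smul_smul, ← Finset.smul_sum, hj, smul_neg,
        Finset.sum_neg_distrib, Finset.smul_sum, smul_smul]
      rw [Finset.sum_comm]
      simp_rw [← Finset.sum_smul, hA, zero_smul]
      simp
  have := congrArg (TensorProduct.comm (O_D.obj.obj (op e')) (M'.obj (op e')) (Rs f b' G)) key
  simpa only [map_sum, map_zero, TensorProduct.comm_tmul] using this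

include hG hu in
theorem mono_aSh_whiskerLeft_refTriv : Mono ((aSh O_C).map (G ◁ explMap f u)) := by
  refine mono_aSh_map _ fun c ζ hζ => ?_
  obtain ⟨z, rfl⟩ := cls_surjective f M' G ζ
  rw [← cls_mapI] at hζ
  obtain ⟨A, T, hgood⟩ := good_of_cls_eq_zero _ hζ
  let S₁ := A ∪ z.support.image Idx.X
  rcases S₁.eq_empty_or_nonempty with h | h
  · have : z = 0 := by
      rw [← Finsupp.support_eq_empty]
      simp only [S₁, Finset.union_eq_empty, Finset.image_eq_empty] at h
      exact h.2
    refine ⟨⊤, J.top_mem c, fun c' v _ => ?_⟩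
    rw [this, map_zero, ModRel.rs_zero]
  obtain ⟨U, hU, hU'⟩ := PullSets.locally_cone (K := K) (J := J) f.fn S₁ h T
  have key : ∀ ⦃c' : C⦄ (v : c' ⟶ c), U v → ∃ W ∈ J c', ∀ ⦃c'' : C⦄ (t : c'' ⟶ c'), W t →
      rs (G ⊗ expl f M') (t ≫ v).op (cls f M' G z) = 0 := by
    intro c' v hv
    obtain ⟨κ⟩ := hU' v hv
    have hsupp : ∀ i ∈ z.support, i.X ∈ S₁ := fun i hi =>
      Finset.mem_union_right _ (Finset.mem_image_of_mem _ hi)
    have hzero := hgood S₁ T Finset.subset_union_left (Finset.Subset.refl T) c' v κ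
    rw [evc_mapI u κ z hsupp] at hzero
    obtain ⟨W, hW, hW'⟩ := kill_refTriv hG u hu κ.b (evc κ z) hzero
    refine ⟨W, hW, fun c'' t ht => ?_⟩
    rw [op_comp, ← rs_rs, ← psiC_evc κ z hsupp]
    exact hW' t ht
  choose W hW hW' using key
  refine ⟨Sieve.bind U.arrows W, J.bind_covering hU hW, fun c'' w hw => ?_⟩
  obtain ⟨c', t, v, hv, ht, rfl⟩ := hw
  exact hW' v hv t ht

end Kill

theorem explIso_naturality {M M' : ModSite.Mod O_D} (φ : M ⟶ M') :
    (aSh O_C).map (explMap f ((forg O_D).map φ)) ≫ (explIso f M').hom =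
      (explIso f M).hom ≫ f.pull.map φ := by
  have e := psi_naturality (explσ f ((forg O_D).obj M)) (explσ f ((forg O_D).obj M'))
    ((forg O_D).map φ) _ (explσ_explMap _)
  simp only [explIso, Iso.trans_hom, Iso.symm_hom, asIso_inv, Functor.mapIso_hom, asIso_hom,
    Category.assoc]
  rw [IsIso.eq_inv_comp, reassoc_of% e, IsIso.hom_inv_id_assoc]
  erw [← f.pull.map_comp, ← f.pull.map_comp]
  exact congrArg _ ((adj O_D).counit.naturality φ)

theorem mono_tR_pull_map {F : ModSite.Mod O_C} (hF : RefTriv f ((forg O_C).obj F))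
    {M' M : ModSite.Mod O_D} (i : M' ⟶ M) [Mono i] : Mono ((tR F).map (f.pull.map i)) := by
  have := ModOver.preservesMonomorphisms_forg (O := O_D)
  have hu : ∀ X, Function.Injective ((((forg O_D).map i).app X).hom) := fun X => by
    have : Mono ((forg O_D).map i) := inferInstance
    exact PresheafOfModules.injective_of_mono ((forg O_D).map i) X
  have h1 := mono_aSh_whiskerLeft_refTriv hF ((forg O_D).map i) hu
  let q := explMap f ((forg O_D).map i)
  have h2 : Mono ((aSh O_C).map (q ▷ (forg O_C).obj F)) :=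
    (((MorphismProperty.monomorphisms (ModSite.Mod O_C)).arrow_mk_iso_iff
      (Arrow.isoMk ((aSh O_C).mapIso (β_ _ _)) ((aSh O_C).mapIso (β_ _ _))
        (by
          show (aSh O_C).map _ ≫ (aSh O_C).map _ = (aSh O_C).map _ ≫ (aSh O_C).map _
          rw [← Functor.map_comp, ← Functor.map_comp]
          exact congrArg _ (BraidedCategory.braiding_naturality_right _ _).symm))).1 h1)
  have h3 : Mono ((tR F).map ((aSh O_C).map q)) :=
    (((MorphismProperty.monomorphisms (ModSite.Mod O_C)).arrow_mk_iso_iff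
      (Arrow.isoMk ((aShTR F).app _) ((aShTR F).app _) ((aShTR F).hom.naturality q).symm)).2 h2)
  exact (((MorphismProperty.monomorphisms (ModSite.Mod O_C)).arrow_mk_iso_iff
    (Arrow.isoMk ((tR F).mapIso (explIso f M')) ((tR F).mapIso (explIso f M))
      (by
        show (tR F).map _ ≫ (tR F).map _ = (tR F).map _ ≫ (tR F).map _
        rw [← Functor.map_comp, ← Functor.map_comp]
        exact congrArg _ (explIso_naturality i).symm))).1 h3)

variable (f) in
theorem preservesFiniteColimits_pull_tR (F : ModSite.Mod O_C) :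
    PreservesFiniteColimits (f.pull ⋙ tR F) := by
  have := preservesColimits_pull f
  have : PreservesFiniteColimits f.pull := PreservesColimitsOfSize.preservesFiniteColimits _
  have := preservesFiniteColimits_tR F
  exact comp_preservesFiniteColimits _ _

theorem preservesFiniteLimits_pull_tR {F : ModSite.Mod O_C} (hF : RefTriv f ((forg O_C).obj F)) :
    PreservesFiniteLimits (f.pull ⋙ tR F) := by
  have := preservesFiniteColimits_pull_tR f F
  have := additive_of_preservesFiniteColimits (f.pull ⋙ tR F)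
  refine (Functor.preservesFiniteLimits_iff_forall_exact_map_and_mono _).2 fun S hS => ?_
  have := hS.mono_f
  exact ⟨(exact_and_epi_map _ hS).1, mono_tR_pull_map hF S.f⟩

theorem isFlat_of_refTriv (h : RefTriv f ((forg O_C).obj (ModSite.unit O_C))) : f.IsFlat := by
  have := preservesFiniteLimits_pull_tR h
  exact preservesFiniteLimits_of_natIso (Functor.isoWhiskerLeft f.pull
    ((tLIso (ModSite.unit O_C)).symm ≪≫ ModOver.tensorUnitIso O_C) ≪≫ f.pull.rightUnitor)

end Groth.Agent.H15Site.PullTensor
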