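import Groth.Agent.H15Site.PullFlat
import Groth.Agent.H15Site.PullTensor
import Groth.Agent.H15Site.ModKFlat
import Groth.Agent.H16Derived.KFlat.Cone

/-!
Inverse image of K-flat complexes with flat terms along a morphism of ringed sites.
-/

universe u

open CategoryTheory CategoryTheory.Limits Opposite

namespace Groth.Agent.H15Site.PullKFlat

open Groth.Agent.H15Site.ModTensor Groth.Agent.H16Derived

attribute [local instance 10000] SiteInst.hasSheafifySite SiteInst.hasWeakSheafifySite

variable {C D : Type u} [SmallCategory C] [SmallCategory D] {J : GrothendieckTopology C}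
  {K : GrothendieckTopology D} {O_C : Sheaf J CommRingCat.{u}} {O_D : Sheaf K CommRingCat.{u}}
  (f : ModSite.RMor O_C O_D)

/-- Cycles of an acyclic K-flat complex with flat terms are flat. -/
theorem isFlat_cycles {O : Sheaf J CommRingCat.{u}} {L : CochainComplex (ModSite.Mod O) ℤ}
    (hL : KFlat.IsKFlat (ModSite.tensorBi O) L) (hac : L.Acyclic)
    (hfl : ∀ i : ℤ, ModSite.IsFlat (L.X i)) (n : ℤ) : ModSite.IsFlat (L.cycles n) := by
  refine ModKFlat.isFlat_of_mono_into_flat (L.iCycles n) (hfl n) fun M => ?_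
  have h := (HomologicalComplex.exactAt_iff' _ (n - 2) (n - 1) n (by simp; omega) (by simp)).1
    (ModKFlat.acyclic_tL_map_of_isKFlat M hL hac (n - 1))
  have := preservesColimits_tL M
  have := PreservesColimitsOfSize.preservesFiniteColimits ((ModSite.tensorBi O).obj M)
  have he : Epi (L.toCycles (n - 1) n) := by
    refine Preadditive.epi_of_cancel_zero _ fun {P} g hg => ?_
    have hc := (L.homologyIsCokernel (n - 1) n (by simp)).fac (CokernelCofork.ofπ g hg)
      WalkingParallelPair.one
    exact hc.symm.trans ((congrArg (· ≫ _) ((hac n).isZero_homology.eq_of_tgt _ 0)).trans zero_comp)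
  have w : L.d (n - 2) (n - 1) ≫ L.toCycles (n - 1) n = 0 := L.d_toCycles (n - 2) (n - 1) n
  have w' : ((ModSite.tensorBi O).obj M).map (L.d (n - 2) (n - 1)) ≫
      ((ModSite.tensorBi O).obj M).map (L.toCycles (n - 1) n ≫ L.iCycles n) = 0 := by
    rw [HomologicalComplex.toCycles_i, ← Functor.map_comp, HomologicalComplex.d_comp_d,
      Functor.map_zero]
  refine ModKFlat.mono_map_of_exact_map _ (L.d (n - 2) (n - 1)) (L.toCycles (n - 1) n)
    (L.iCycles n) w w' ?_
  refine ShortComplex.exact_of_iso ?_ h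
  exact ShortComplex.isoMk (Iso.refl _) (Iso.refl _) (Iso.refl _)
    ((Category.id_comp _).trans (Category.comp_id _).symm)
    ((Category.id_comp _).trans ((congrArg ((ModSite.tensorBi O).obj M).map
      (L.toCycles_i (n - 1) n)).trans (Category.comp_id _).symm))

theorem additive_pull : f.pull.Additive :=
  have := PullTensor.preservesColimits_pull f
  have : PreservesFiniteColimits f.pull := PreservesColimitsOfSize.preservesFiniteColimits _
  additive_of_preservesFiniteColimits _

attribute [local instance] additive_pull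

/-- The pull-back of a colimit of bounded above flat complexes is K-flat. -/
theorem isKFlat_pull_colimit {F : ℕ ⥤ CochainComplex (ModSite.Mod O_D) ℤ} {c : Cocone F}
    (hc : IsColimit c) (b : ℕ → ℤ) (hz : ∀ j q, b j < q → IsZero ((F.obj j).X q))
    (hfl : ∀ j q, ModSite.IsFlat ((F.obj j).X q)) :
    KFlat.IsKFlat (ModSite.tensorBi O_C)
      ((f.pull.mapHomologicalComplex (ComplexShape.up ℤ)).obj c.pt) := by
  have := ModKFlat.countableAB4 (O := O_C)
  have := ModKFlat.hasExactColimitsOfShape_nat (O := O_C)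
  have := H10Coh.isGrothendieckAbelian_sheafOfModules (ModSite.ringSh O_D)
  have := PullTensor.preservesColimits_pull f
  have : PreservesColimitsOfSize.{0, 0} f.pull := preservesColimitsOfSize_shrink.{0, u, 0, u} _
  have : PreservesColimit F (f.pull.mapHomologicalComplex (ComplexShape.up ℤ)) :=
    ⟨fun {c} hc => ⟨HomologicalComplex.isColimitOfEval _ _ fun q =>
      isColimitOfPreserves (HomologicalComplex.eval _ _ q ⋙ f.pull) hc⟩⟩
  let G := f.pull.mapHomologicalComplex (ComplexShape.up ℤ)
  refine KFlat.isKFlat_of_isColimit (F := ModSite.tensorBi O_C) (c := G.mapCocone c)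
    (isColimitOfPreserves G hc) fun j => ?_
  show KFlat.IsKFlat (ModSite.tensorBi O_C) (G.obj (F.obj j))
  exact KFlat.isKFlat_of_boundedAbove (F := ModSite.tensorBi O_C) (G.obj (F.obj j)) (b j)
    (fun q hq => f.pull.map_isZero (hz j q hq))
    (fun q => (ModKFlat.isFlatObj_iff _).2 (PullTensor.isFlat_pull f _ (hfl j q)))

/-- The pull-back of an acyclic K-flat complex with flat terms is K-flat. -/
theorem isKFlat_pull_of_acyclic {L : CochainComplex (ModSite.Mod O_D) ℤ}
    (hL : KFlat.IsKFlat (ModSite.tensorBi O_D) L) (hac : L.Acyclic)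
    (hfl : ∀ i : ℤ, ModSite.IsFlat (L.X i)) :
    KFlat.IsKFlat (ModSite.tensorBi O_C)
      ((f.pull.mapHomologicalComplex (ComplexShape.up ℤ)).obj L) := by
  refine isKFlat_pull_colimit f (c := KFlat.Res.truncCocone L) (KFlat.Res.isColimitTruncCocone L) (fun j => (j : ℤ))
    (fun j q hq => CochainComplex.isZero_of_isStrictlyLE (L.truncLE (j : ℤ)) (j : ℤ) q hq) ?_
  intro j q
  show ModSite.IsFlat ((L.truncLE (j : ℤ)).X q)
  rcases lt_trichotomy q (j : ℤ) with h | h | h
  · exact isFlat_of_iso (L.truncLEXIso (j : ℤ) q h).symm (hfl q)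
  · subst h
    exact isFlat_of_iso (L.truncLEXIsoCycles (j : ℤ)).symm (isFlat_cycles hL hac hfl _)
  · exact (ModKFlat.isFlatObj_iff _).1
      (KFlat.isFlatObj_of_isZero (CochainComplex.isZero_of_isStrictlyLE _ (j : ℤ) q h))

/-- The pull-back of the K-flat resolution is K-flat. -/
theorem isKFlat_pull_res (G : CochainComplex (ModSite.Mod O_D) ℤ) :
    KFlat.IsKFlat (ModSite.tensorBi O_C)
      ((f.pull.mapHomologicalComplex (ComplexShape.up ℤ)).obj (ModKFlat.res G)) :=
  have := ModKFlat.hasExactColimitsOfShape_nat (O := O_D)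
  have := ModKFlat.countableAB4 (O := O_D)
  isKFlat_pull_colimit f
    (colimit.isColimit ((KFlat.Res.seqP (ModKFlat.cover O_D) (ModKFlat.coverπ O_D)).flip.obj G))
    (fun j => (j : ℤ))
    (fun j q hq => KFlat.Res.isZero_stage_X (G.truncLE j) j
      (fun p hp => CochainComplex.isZero_of_isStrictlyLE _ (j : ℤ) p hp) (2 * j) q hq)
    (fun _ q => (ModKFlat.isFlatObj_iff _).1
      (KFlat.Res.isFlatObj_stage (fun M => (ModKFlat.isFlatObj_iff _).2 (ModKFlat.isFlat_cover M))
        _ _ _ q))

theorem isKFlat_pull (L : CochainComplex (ModSite.Mod O_D) ℤ)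
    (hL : ModSite.IsKFlat L) (hfl : ∀ n : ℤ, ModSite.IsFlat (L.X n)) :
    ModSite.IsKFlat ((f.pull.mapHomologicalComplex (ComplexShape.up ℤ)).obj L) := by
  have := ModKFlat.countableAB4 (O := O_D)
  have := ModKFlat.countableAB4 (O := O_C)
  have := H10Coh.isGrothendieckAbelian_sheafOfModules (ModSite.ringSh O_D)
  rw [ModKFlat.isKFlat_iff] at hL ⊢
  have hq := (ModKFlat.quasiIso_resψ L).1
  let ψ := ModKFlat.resψ L
  have hac : (CochainComplex.mappingCone ψ).Acyclic := by
    exact (AcyclicLES.quasiIso_iff_acyclic_mappingCone ψ).1 hq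
  have hC := isKFlat_pull_of_acyclic f
    (KFlat.IsKFlat.mappingCone ψ (ModKFlat.isKFlat_res L) hL) hac (fun q =>
      (ModKFlat.isFlatObj_iff _).1 (KFlat.isFlatObj_mappingCone_X ψ
        (fun i => (ModKFlat.isFlatObj_iff _).2 (ModKFlat.isFlat_res_X L i))
        (fun i => (ModKFlat.isFlatObj_iff _).2 (hfl i)) q))
  have hC' := hC.of_iso (CochainComplex.mappingCone.mapHomologicalComplexIso ψ f.pull)
  exact (KFlat.isFSES_of_splitting (F := ModSite.tensorBi O_C)
    (CochainComplex.mappingCone.triangleRotateShortComplex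
      ((f.pull.mapHomologicalComplex (ComplexShape.up ℤ)).map ψ)) fun q =>
      ⟨CochainComplex.mappingCone.triangleRotateShortComplexSplitting _ q⟩).isKFlat₁ hC'
    ((isKFlat_pull_res f L).shift 1)

end Groth.Agent.H15Site.PullKFlat
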