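import Mathlib.CategoryTheory.Sites.Pullback
import Mathlib.CategoryTheory.Sites.LeftExact
import Mathlib.CategoryTheory.Limits.Shapes.FunctorToTypes
import Mathlib.CategoryTheory.Sites.Canonical

/-!
Inverse image of sheaves of sets along a continuous functor with exact pullback: "universal" pairs of
presheaves `τ : P ⟶ fn^* Q` (i.e. `f⁻¹ a P ≅ a Q`), stable under binary products.
-/

universe u

open CategoryTheory CategoryTheory.Limits Opposite

namespace Groth.Agent.H15Site.PullSets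

variable {C D : Type u} [SmallCategory C] [SmallCategory D] {J : GrothendieckTopology C}
  {K : GrothendieckTopology D} (fn : D ⥤ C)

variable (J) in
/-- `τ : P ⟶ fn^* Q` induces bijections `Hom(Q, L) = Hom(P, fn^* L)` for sheaves `L`. -/
def Univ {P : Dᵒᵖ ⥤ Type u} {Q : Cᵒᵖ ⥤ Type u} (τ : P ⟶ fn.op ⋙ Q) : Prop :=
  ∀ L : Sheaf J (Type u),
    Function.Bijective (fun g : Q ⟶ L.obj => τ ≫ Functor.whiskerLeft fn.op g)

/-- The canonical map `yU ⟶ fn^* y(fn U)`. -/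
def yMap (U : D) : yoneda.obj U ⟶ fn.op ⋙ yoneda.obj (fn.obj U) :=
  yonedaEquiv.symm (𝟙 (fn.obj U))

theorem univ_yMap (U : D) : Univ J fn (yMap fn U) := fun L => by
  constructor
  · intro g g' h
    apply yonedaEquiv.injective
    have := congrArg (fun k => yonedaEquiv k) h
    simp [yonedaEquiv_comp, yMap] at this
    exact this
  · intro k
    let x : L.obj.obj (op (fn.obj U)) := k.app (op U) (𝟙 U)
    refine ⟨yonedaEquiv.symm x, ?_⟩
    apply yonedaEquiv.injective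
    simp [yMap, yonedaEquiv, x]

variable [fn.IsContinuous K J]

/-- `P ↦ f⁻¹ a P` is left adjoint to restriction of sheaves to presheaves. -/
noncomputable def adjP : presheafToSheaf K (Type u) ⋙ fn.sheafPullback (Type u) K J ⊣
    fn.sheafPushforwardContinuous (Type u) K J ⋙ sheafToPresheaf K (Type u) :=
  (sheafificationAdjunction K (Type u)).comp (fn.sheafAdjunctionContinuous (Type u) K J)

variable {fn}

/-- The map `f⁻¹ a P ⟶ a Q` of a map `P ⟶ fn^* Q`. -/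
noncomputable def θ {P : Dᵒᵖ ⥤ Type u} {Q : Cᵒᵖ ⥤ Type u} (τ : P ⟶ fn.op ⋙ Q) :
    (fn.sheafPullback (Type u) K J).obj ((presheafToSheaf K (Type u)).obj P) ⟶
      (presheafToSheaf J (Type u)).obj Q :=
  ((adjP (K := K) (J := J) fn).homEquiv P _).symm
    (τ ≫ Functor.whiskerLeft fn.op ((sheafificationAdjunction J (Type u)).unit.app Q))

lemma homEquiv_θ_comp {P : Dᵒᵖ ⥤ Type u} {Q : Cᵒᵖ ⥤ Type u} (τ : P ⟶ fn.op ⋙ Q)
    (L : Sheaf J (Type u)) (k : (presheafToSheaf J (Type u)).obj Q ⟶ L) :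
    (adjP (K := K) (J := J) fn).homEquiv P L (θ τ ≫ k) =
      τ ≫ Functor.whiskerLeft fn.op ((sheafificationAdjunction J (Type u)).homEquiv Q L k) := by
  rw [Adjunction.homEquiv_naturality_right, θ, Equiv.apply_symm_apply,
    Adjunction.homEquiv_unit, Functor.whiskerLeft_comp]
  rfl

theorem univ_iff_isIso {P : Dᵒᵖ ⥤ Type u} {Q : Cᵒᵖ ⥤ Type u} (τ : P ⟶ fn.op ⋙ Q) :
    Univ J fn τ ↔ IsIso (θ (K := K) (J := J) τ) := by
  have key : ∀ L : Sheaf J (Type u),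
      (adjP (K := K) (J := J) fn).homEquiv P L ∘
        (fun k : (presheafToSheaf J (Type u)).obj Q ⟶ L => θ τ ≫ k) =
      (fun g : Q ⟶ L.obj => τ ≫ Functor.whiskerLeft fn.op g) ∘
        (sheafificationAdjunction J (Type u)).homEquiv Q L := fun L => funext (homEquiv_θ_comp τ L)
  constructor
  · intro h
    refine isIso_of_coyoneda_map_bijective _ (fun L => ?_)
    exact (Equiv.comp_bijective _ _).1
      ((key L).symm ▸ (h L).comp ((sheafificationAdjunction J (Type u)).homEquiv Q L).bijective)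
  · intro h L
    refine (Equiv.bijective_comp ((sheafificationAdjunction J (Type u)).homEquiv Q L) _).1 ?_
    rw [← key L]
    exact ((adjP (K := K) (J := J) fn).homEquiv P L).bijective.comp
      ⟨fun a b hab => (cancel_epi (θ τ)).1 hab, fun k => ⟨inv (θ τ) ≫ k, by simp⟩⟩

lemma θ_naturality {P P₁ : Dᵒᵖ ⥤ Type u} {Q Q₁ : Cᵒᵖ ⥤ Type u} (τ : P ⟶ fn.op ⋙ Q)
    (τ₁ : P₁ ⟶ fn.op ⋙ Q₁) (p : P ⟶ P₁) (q : Q ⟶ Q₁)
    (h : τ ≫ Functor.whiskerLeft fn.op q = p ≫ τ₁) :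
    θ (K := K) (J := J) τ ≫ (presheafToSheaf J (Type u)).map q =
      (fn.sheafPullback (Type u) K J).map ((presheafToSheaf K (Type u)).map p) ≫ θ τ₁ := by
  apply ((adjP (K := K) (J := J) fn).homEquiv P _).injective
  rw [homEquiv_θ_comp]
  erw [Adjunction.homEquiv_naturality_left]
  rw [θ, Equiv.apply_symm_apply, Adjunction.homEquiv_unit, ← Category.assoc, ← h, Category.assoc]
  erw [← Functor.whiskerLeft_comp]
  exact congrArg (fun k => τ ≫ Functor.whiskerLeft fn.op k)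
    ((sheafificationAdjunction J (Type u)).unit.naturality q).symm

/-- Product of two maps. -/
def prodMap {P₁ P₂ : Dᵒᵖ ⥤ Type u} {Q₁ Q₂ : Cᵒᵖ ⥤ Type u} (τ₁ : P₁ ⟶ fn.op ⋙ Q₁)
    (τ₂ : P₂ ⟶ fn.op ⋙ Q₂) :
    FunctorToTypes.prod P₁ P₂ ⟶ fn.op ⋙ FunctorToTypes.prod Q₁ Q₂ where
  app X := ↾fun p => (τ₁.app X p.1, τ₂.app X p.2)
  naturality X Y g := by
    ext p
    exact (congrArg₂ Prod.mk (NatTrans.naturality_apply τ₁ g p.1)
      (NatTrans.naturality_apply τ₂ g p.2) :)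

theorem Univ.prod [PreservesFiniteLimits (fn.sheafPullback (Type u) K J)]
    {P₁ P₂ : Dᵒᵖ ⥤ Type u} {Q₁ Q₂ : Cᵒᵖ ⥤ Type u} {τ₁ : P₁ ⟶ fn.op ⋙ Q₁}
    {τ₂ : P₂ ⟶ fn.op ⋙ Q₂} (h₁ : Univ J fn τ₁) (h₂ : Univ J fn τ₂) :
    Univ J fn (prodMap τ₁ τ₂) := by
  rw [univ_iff_isIso (K := K)] at h₁ h₂ ⊢
  set F := presheafToSheaf K (Type u) ⋙ fn.sheafPullback (Type u) K J
  set G := presheafToSheaf J (Type u)
  have e₁ : θ (K := K) (J := J) (prodMap τ₁ τ₂) ≫ G.map FunctorToTypes.prod.fst =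
      F.map FunctorToTypes.prod.fst ≫ θ τ₁ :=
    θ_naturality _ _ _ _ rfl
  have e₂ : θ (K := K) (J := J) (prodMap τ₁ τ₂) ≫ G.map FunctorToTypes.prod.snd =
      F.map FunctorToTypes.prod.snd ≫ θ τ₂ :=
    θ_naturality _ _ _ _ rfl
  let hF := mapIsLimitOfPreservesOfIsLimit F _ _ (FunctorToTypes.binaryProductLimit P₁ P₂)
  let hG := mapIsLimitOfPreservesOfIsLimit G _ _ (FunctorToTypes.binaryProductLimit Q₁ Q₂)
  let φ : pair (F.obj P₁) (F.obj P₂) ≅ pair (G.obj Q₁) (G.obj Q₂) :=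
    mapPairIso (@asIso _ _ _ _ _ h₁) (@asIso _ _ _ _ _ h₂)
  have heq : θ (K := K) (J := J) (prodMap τ₁ τ₂) = (IsLimit.conePointsIsoOfNatIso hF hG φ).hom := by
    refine BinaryFan.IsLimit.hom_ext hG ?_ ?_
    · exact e₁.trans (IsLimit.conePointsIsoOfNatIso_hom_comp hF hG φ ⟨WalkingPair.left⟩).symm
    · exact e₂.trans (IsLimit.conePointsIsoOfNatIso_hom_comp hF hG φ ⟨WalkingPair.right⟩).symm
  rw [heq]
  infer_instance

end Groth.Agent.H15Site.PullSets
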