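import Groth.Agent.H15Site.ModFlat
import Groth.Agent.H15Site.PullSets

/-!
Inverse image along a morphism of ringed sites at the level of presheaves of modules: universal maps
`A ⟶ fn^* A'`, and the pairing map `A ⊗ B ⟶ fn^*(A' ⊗ B')`.
-/

universe u

open CategoryTheory CategoryTheory.Limits MonoidalCategory Opposite

namespace Groth.Agent.H15Site.PullTensor

open ModTensor

attribute [local instance 10000] SiteInst.hasSheafifySite SiteInst.hasWeakSheafifySite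

variable {C D : Type u} [SmallCategory C] [SmallCategory D] {J : GrothendieckTopology C}
  {K : GrothendieckTopology D} {O_C : Sheaf J CommRingCat.{u}} {O_D : Sheaf K CommRingCat.{u}}
  (f : ModSite.RMor O_C O_D)

/-- The structure map on presheaves of rings. -/
noncomputable abbrev phi :
    O_D.obj ⋙ forget₂ CommRingCat.{u} RingCat.{u} ⟶
      f.fn.op ⋙ (O_C.obj ⋙ forget₂ CommRingCat.{u} RingCat.{u}) :=
  f.sharpR.hom

/-- Direct image of presheaves of modules. -/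
noncomputable abbrev pushP : PMod O_C ⥤ PMod O_D := PresheafOfModules.pushforward (phi f)

/-- Inverse image of a presheaf of modules. -/
noncomputable abbrev FP : PMod O_D ⥤ ModSite.Mod O_C := aSh O_D ⋙ f.pull

/-- `FP` is left adjoint to restriction. -/
noncomputable def fpAdj : FP f ⊣ forg O_C ⋙ pushP f :=
  (adj O_D).comp f.adj

/-- `σ` induces bijections `Hom(A', L) = Hom(A, fn^* L)` for sheaves of modules `L`. -/
def Univ {A : PMod O_D} {A' : PMod O_C} (σ : A ⟶ (pushP f).obj A') : Prop :=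
  ∀ L : ModSite.Mod O_C,
    Function.Bijective (fun g : A' ⟶ (forg O_C).obj L => σ ≫ (pushP f).map g)

variable {f}

/-- The map `f^* a A ⟶ a A'` of a map `A ⟶ fn^* A'`. -/
noncomputable def psi {A : PMod O_D} {A' : PMod O_C} (σ : A ⟶ (pushP f).obj A') :
    (FP f).obj A ⟶ (aSh O_C).obj A' :=
  ((fpAdj f).homEquiv A _).symm (σ ≫ (pushP f).map ((adj O_C).unit.app A'))

lemma homEquiv_psi_comp {A : PMod O_D} {A' : PMod O_C} (σ : A ⟶ (pushP f).obj A')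
    (L : ModSite.Mod O_C) (k : (aSh O_C).obj A' ⟶ L) :
    (fpAdj f).homEquiv A L (psi σ ≫ k) = σ ≫ (pushP f).map ((adj O_C).homEquiv A' L k) := by
  rw [Adjunction.homEquiv_naturality_right, psi, Equiv.apply_symm_apply,
    Adjunction.homEquiv_unit, Functor.map_comp, Category.assoc]
  rfl

theorem univ_iff_isIso {A : PMod O_D} {A' : PMod O_C} (σ : A ⟶ (pushP f).obj A') :
    Univ f σ ↔ IsIso (psi σ) := by
  have key : ∀ L : ModSite.Mod O_C,
      (fpAdj f).homEquiv A L ∘ (fun k : (aSh O_C).obj A' ⟶ L => psi σ ≫ k) =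
      (fun g : A' ⟶ (forg O_C).obj L => σ ≫ (pushP f).map g) ∘ (adj O_C).homEquiv A' L :=
    fun L => funext (homEquiv_psi_comp σ L)
  constructor
  · intro h
    refine isIso_of_coyoneda_map_bijective _ (fun L => ?_)
    exact (Equiv.comp_bijective _ _).1
      ((key L).symm ▸ (h L).comp ((adj O_C).homEquiv A' L).bijective)
  · intro h L
    refine (Equiv.bijective_comp ((adj O_C).homEquiv A' L) _).1 ?_
    rw [← key L]
    exact ((fpAdj f).homEquiv A L).bijective.comp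
      ⟨fun a b hab => (cancel_epi (psi σ)).1 hab, fun k => ⟨inv (psi σ) ≫ k, by simp⟩⟩

lemma psi_naturality {A A₁ : PMod O_D} {A' A₁' : PMod O_C} (σ : A ⟶ (pushP f).obj A')
    (σ₁ : A₁ ⟶ (pushP f).obj A₁') (p : A ⟶ A₁) (q : A' ⟶ A₁')
    (h : σ ≫ (pushP f).map q = p ≫ σ₁) :
    psi σ ≫ (aSh O_C).map q = (FP f).map p ≫ psi σ₁ := by
  apply ((fpAdj f).homEquiv A _).injective
  rw [homEquiv_psi_comp, Adjunction.homEquiv_naturality_left, psi, Equiv.apply_symm_apply,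
    Adjunction.homEquiv_unit, ← Category.assoc, ← h, Category.assoc, ← Functor.map_comp]
  exact congrArg (fun k => σ ≫ (pushP f).map k) ((adj O_C).unit.naturality q).symm

variable {A A₁ B B₁ : PMod O_D} {A' A₁' B' B₁' : PMod O_C}

/-- Sectionwise map of a morphism `A ⟶ fn^* A'`. -/
noncomputable def ev (σ : A ⟶ (pushP f).obj A') {X : Dᵒᵖ} (a : A.obj X) :
    A'.obj (f.fn.op.obj X) :=
  (σ.app X).hom a

lemma ev_smul (σ : A ⟶ (pushP f).obj A') {X : Dᵒᵖ} (r : O_D.obj.obj X) (a : A.obj X) :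
    ev σ (X := X) (r • a) =
      (show O_C.obj.obj (f.fn.op.obj X) from ((phi f).app X).hom r) • ev σ a :=
  (σ.app X).hom.map_smul r a

lemma ev_add (σ : A ⟶ (pushP f).obj A') {X : Dᵒᵖ} (a b : A.obj X) :
    ev σ (a + b) = ev σ a + ev σ b :=
  map_add (σ.app X).hom a b

lemma ev_rs (σ : A ⟶ (pushP f).obj A') {X Y : Dᵒᵖ} (g : X ⟶ Y) (a : A.obj X) :
    ev σ (rs A g a) = rs A' (f.fn.op.map g) (ev σ a) :=
  PresheafOfModules.naturality_apply σ g a

/-- `a ↦ σ a ⊗ b` as a morphism of presheaves of modules `A ⊗ B ⟶ fn^* (A' ⊗ B')`. -/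
noncomputable def tσ (σ : A ⟶ (pushP f).obj A') (τ : B ⟶ (pushP f).obj B') :
    A ⊗ B ⟶ (pushP f).obj (A' ⊗ B') where
  app X := ModuleCat.MonoidalCategory.tensorLift
    (fun a b => ev σ a ⊗ₜ[O_C.obj.obj (f.fn.op.obj X)] ev τ b)
    (fun a a' b => by rw [ev_add, TensorProduct.add_tmul]; rfl)
    (fun r a b => by rw [ev_smul]; exact (TensorProduct.smul_tmul' _ _ _).symm)
    (fun a b b' => by rw [ev_add, TensorProduct.tmul_add]; rfl)
    (fun r a b => by rw [ev_smul]; exact TensorProduct.tmul_smul _ _ _)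
  naturality {X Y} g := ModuleCat.MonoidalCategory.tensor_ext (fun a b => by
    show ev σ (rs A g a) ⊗ₜ[O_C.obj.obj (f.fn.op.obj Y)] ev τ (rs B g b) = _
    rw [ev_rs, ev_rs]
    rfl)

lemma tσ_tmul (σ : A ⟶ (pushP f).obj A') (τ : B ⟶ (pushP f).obj B') {X : Dᵒᵖ} (a : A.obj X)
    (b : B.obj X) :
    ((tσ σ τ).app X).hom (a ⊗ₜ[O_D.obj.obj X] b) =
      ev σ a ⊗ₜ[O_C.obj.obj (f.fn.op.obj X)] ev τ b := rfl

lemma tσ_naturality {σ : A ⟶ (pushP f).obj A'} {τ : B ⟶ (pushP f).obj B'}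
    {σ₁ : A₁ ⟶ (pushP f).obj A₁'} {τ₁ : B₁ ⟶ (pushP f).obj B₁'} {p : A ⟶ A₁} {p' : A' ⟶ A₁'}
    {q : B ⟶ B₁} {q' : B' ⟶ B₁'} (hσ : σ ≫ (pushP f).map p' = p ≫ σ₁)
    (hτ : τ ≫ (pushP f).map q' = q ≫ τ₁) :
    tσ σ τ ≫ (pushP f).map (p' ⊗ₘ q') = (p ⊗ₘ q) ≫ tσ σ₁ τ₁ := by
  refine PresheafOfModules.hom_ext (fun X => ModuleCat.MonoidalCategory.tensor_ext (fun a b => ?_))
  show (p'.app _).hom (ev σ a) ⊗ₜ[O_C.obj.obj (f.fn.op.obj X)] (q'.app _).hom (ev τ b) =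
    ev σ₁ ((p.app X).hom a) ⊗ₜ[O_C.obj.obj (f.fn.op.obj X)] ev τ₁ ((q.app X).hom b)
  have e1 := ConcreteCategory.congr_hom (congrArg (fun k => PresheafOfModules.Hom.app k X) hσ) a
  have e2 := ConcreteCategory.congr_hom (congrArg (fun k => PresheafOfModules.Hom.app k X) hτ) b
  exact congrArg₂ (fun x y => x ⊗ₜ[O_C.obj.obj (f.fn.op.obj X)] y) e1 e2

/-- The map `f^* a(A ⊗ B) ⟶ a(A' ⊗ B')`. -/
noncomputable def Φ (σ : A ⟶ (pushP f).obj A') (τ : B ⟶ (pushP f).obj B') :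
    (FP f).obj (A ⊗ B) ⟶ (aSh O_C).obj (A' ⊗ B') :=
  psi (tσ σ τ)

lemma Φ_naturality {σ : A ⟶ (pushP f).obj A'} {τ : B ⟶ (pushP f).obj B'}
    {σ₁ : A₁ ⟶ (pushP f).obj A₁'} {τ₁ : B₁ ⟶ (pushP f).obj B₁'} {p : A ⟶ A₁} {p' : A' ⟶ A₁'}
    {q : B ⟶ B₁} {q' : B' ⟶ B₁'} (hσ : σ ≫ (pushP f).map p' = p ≫ σ₁)
    (hτ : τ ≫ (pushP f).map q' = q ≫ τ₁) :
    Φ σ τ ≫ (aSh O_C).map (p' ⊗ₘ q') = (FP f).map (p ⊗ₘ q) ≫ Φ σ₁ τ₁ :=
  psi_naturality _ _ _ _ (tσ_naturality hσ hτ)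

end Groth.Agent.H15Site.PullTensor
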