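import Groth.Agent.H15Site.InvRingChart
import Groth.Agent.H15Site.PullFlatness

/-!
# Flatness over the inverse image ring gives refinable relations

`refTriv_of_locTriv`: if linear relations in `F` over `f⁻¹O_D` are locally trivial, then `RefTriv f F`.
-/

universe u

open CategoryTheory CategoryTheory.Limits Opposite

set_option linter.style.haveILetI false
set_option backward.isDefEq.respectTransparency false
set_option linter.unusedSectionVars false

namespace Groth.Agent.H15Site.InvRingChart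

open ModTensor ModRel PullTensor

attribute [local instance 10000] SiteInst.hasSheafifySite SiteInst.hasWeakSheafifySite

variable {C D : Type u} [SmallCategory C] [SmallCategory D] {J : GrothendieckTopology C}
  {K : GrothendieckTopology D} {O_C : Sheaf J CommRingCat.{u}} {O_D : Sheaf K CommRingCat.{u}}
  (f : ModSite.RMor O_C O_D)

/-- `P` holds on refinements of `(c, e, b)` covering `c`. -/
def Refines {c : C} {e : D} (b : c ⟶ f.fn.obj e)
    (P : ∀ (c' : C) (_ : c' ⟶ c) (e' : D) (_ : e' ⟶ e) (_ : c' ⟶ f.fn.obj e'), Prop) : Prop :=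
  ∃ S ∈ J c, ∀ ⦃c' : C⦄ (v : c' ⟶ c), S v →
    ∃ (e' : D) (g : e' ⟶ e) (b' : c' ⟶ f.fn.obj e'), b' ≫ f.fn.map g = v ≫ b ∧ P c' v e' g b'

variable {f}

lemma Refines.bind {c : C} {e : D} {b : c ⟶ f.fn.obj e}
    {P Q : ∀ (c' : C) (_ : c' ⟶ c) (e' : D) (_ : e' ⟶ e) (_ : c' ⟶ f.fn.obj e'), Prop}
    (h : Refines f b P)
    (hQ : ∀ (c' : C) (v : c' ⟶ c) (e' : D) (g : e' ⟶ e) (b' : c' ⟶ f.fn.obj e'),
      b' ≫ f.fn.map g = v ≫ b → P c' v e' g b' →
        Refines f b' (fun c'' w e'' g' b'' => Q c'' (w ≫ v) e'' (g' ≫ g) b'')) :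
    Refines f b Q := by
  obtain ⟨S, hS, hS'⟩ := h
  have key : ∀ ⦃c' : C⦄ (v : c' ⟶ c), S v → ∃ W ∈ J c', ∀ ⦃c'' : C⦄ (w : c'' ⟶ c'), W w →
      ∃ (e'' : D) (g : e'' ⟶ e) (b'' : c'' ⟶ f.fn.obj e''),
        b'' ≫ f.fn.map g = (w ≫ v) ≫ b ∧ Q c'' (w ≫ v) e'' g b'' := by
    intro c' v hv
    obtain ⟨e', g, b', hb, hP⟩ := hS' v hv
    obtain ⟨W, hW, hW'⟩ := hQ c' v e' g b' hb hP
    refine ⟨W, hW, fun c'' w hw => ?_⟩
    obtain ⟨e'', g', b'', hb', hq⟩ := hW' w hw
    exact ⟨e'', g' ≫ g, b'', by rw [f.fn.map_comp, ← Category.assoc, hb', Category.assoc, hb,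
      Category.assoc], hq⟩
  choose W hW hW' using key
  refine ⟨Sieve.bind S.arrows W, J.bind_covering hS hW, ?_⟩
  rintro c'' _ ⟨c', w, v, hv, hw, rfl⟩
  exact hW' v hv w hw

lemma Refines.of_forall {c : C} {e : D} {b : c ⟶ f.fn.obj e}
    {P : ∀ (c' : C) (_ : c' ⟶ c) (e' : D) (_ : e' ⟶ e) (_ : c' ⟶ f.fn.obj e'), Prop}
    (h : ∀ (c' : C) (v : c' ⟶ c), P c' v e (𝟙 e) (v ≫ b)) : Refines f b P :=
  ⟨⊤, J.top_mem c, fun c' v _ => ⟨e, 𝟙 e, v ≫ b, by simp, h c' v⟩⟩

variable (f)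

theorem refines_chart {c : C} {e : D} (b : c ⟶ f.fn.obj e) (a : f.invRing.obj.obj (op c)) :
    Refines f b (fun c' v e' _ b' =>
      ∃ r : O_D.obj.obj (op e'), rr f.invRing v.op a = χ f (StructuredArrow.mk b') r) := by
  obtain ⟨S, hS, hS'⟩ := exists_chart_rep f a
  have key : ∀ ⦃c' : C⦄ (v : c' ⟶ c), S v → ∃ W ∈ J c', ∀ ⦃c'' : C⦄ (w : c'' ⟶ c'), W w →
      ∃ (e' : D) (g : e' ⟶ e) (b' : c'' ⟶ f.fn.obj e'), b' ≫ f.fn.map g = (w ≫ v) ≫ b ∧
        ∃ r : O_D.obj.obj (op e'), rr f.invRing (w ≫ v).op a = χ f (StructuredArrow.mk b') r := by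
    intro c' v hv
    obtain ⟨e₁, b₁, r, hr⟩ := hS' v hv
    obtain ⟨W, hW, hW'⟩ := PullSets.locally_pair (K := K) (J := J) f.fn
      (StructuredArrow.mk (v ≫ b)) (StructuredArrow.mk b₁)
    refine ⟨W, hW, fun c'' w hw => ?_⟩
    obtain ⟨e', b', p, q, hp, hq⟩ := hW' w hw
    refine ⟨e', p, b', hp.trans (Category.assoc _ _ _).symm, rr O_D q.op r, ?_⟩
    rw [op_comp, ← rr_rr, hr]
    exact χ_lift f b₁ w q b' hq r
  choose W hW hW' using key
  refine ⟨Sieve.bind S.arrows W, J.bind_covering hS hW, ?_⟩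
  rintro c'' _ ⟨c', w, v, hv, hw, rfl⟩
  exact hW' v hv w hw

theorem refines_charts : ∀ (m : ℕ) {c : C} {e : D} (b : c ⟶ f.fn.obj e)
    (a : Fin m → f.invRing.obj.obj (op c)), Refines f b (fun c' v e' _ b' =>
      ∃ r : Fin m → O_D.obj.obj (op e'),
        ∀ i, rr f.invRing v.op (a i) = χ f (StructuredArrow.mk b') (r i)) := by
  intro m
  induction m with
  | zero => exact fun b _ => Refines.of_forall fun _ _ => ⟨fun i => i.elim0, fun i => i.elim0⟩
  | succ m ih =>
    intro c e b a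
    refine (ih b (fun i => a i.succ)).bind fun c' v e' g b' hb hr => ?_
    obtain ⟨r, hr⟩ := hr
    refine (refines_chart f b' (rr f.invRing v.op (a 0))).bind fun c'' w e'' g' b'' hb' hs => ?_
    obtain ⟨s, hs⟩ := hs
    refine Refines.of_forall fun c₃ u => ⟨Fin.cases s (fun i => rr O_D g'.op (r i)), fun i => ?_⟩
    rw [op_comp, op_comp, ← rr_rr, ← rr_rr]
    refine Fin.cases ?_ (fun j => ?_) i
    · simp only [Fin.cases_zero, hs]
      exact rr_χ f u (StructuredArrow.mk b'') s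
    · simp only [Fin.cases_succ, hr, χ_lift f b' w g' b'' hb']
      exact rr_χ f u (StructuredArrow.mk b'') (rr O_D g'.op (r j))

theorem refines_zeros : ∀ (m : ℕ) {c : C} {e : D} (b : c ⟶ f.fn.obj e)
    (r : Fin m → O_D.obj.obj (op e)), (∀ i, χ f (StructuredArrow.mk b) (r i) = 0) →
      Refines f b (fun _ _ _ g _ => ∀ i, rr O_D g.op (r i) = 0) := by
  intro m
  induction m with
  | zero => exact fun b _ _ => Refines.of_forall fun _ _ i => i.elim0
  | succ m ih =>
    intro c e b r hr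
    refine (ih b (fun i => r i.succ) (fun i => hr _)).bind fun c' v e' g b' hb hz => ?_
    obtain ⟨S, hS, hS'⟩ := χ_eq_zero f b' (rr O_D g.op (r 0))
      ((χ_lift f b v g b' hb (r 0)).symm.trans (by rw [hr]; exact map_zero _))
    refine ⟨S, hS, fun c'' w hw => ?_⟩
    obtain ⟨e'', b'', g', hb', h0⟩ := hS' w hw
    refine ⟨e'', g', b'', hb', fun i => ?_⟩
    rw [op_comp, ← rr_rr]
    refine Fin.cases ?_ (fun j => ?_) i
    · exact h0
    · rw [hz]
      exact map_zero _

/-- `F` as a module over `f⁻¹ O_D`. -/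
noncomputable abbrev resInv (F : ModSite.Mod O_C) : ModSite.Mod f.invRing :=
  (SheafOfModules.restrictScalars
    ((sheafCompose J (forget₂ CommRingCat.{u} RingCat.{u})).map f.invSharp)).obj F

variable {f}

theorem refTriv_of_locTriv {F : ModSite.Mod O_C} (h : LocTriv (resInv f F)) :
    RefTriv f ((forg O_C).obj F) := by
  intro c e b n α z hz
  have hsmul : ∀ {c' : C} {e' : D} (b' : c' ⟶ f.fn.obj e') (r : O_D.obj.obj (op e'))
      (x : ((forg f.invRing).obj (resInv f F)).obj (op c')),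
      χ f (StructuredArrow.mk b') r • x =
        (show ((forg O_C).obj F).obj (op c') from
          rho (StructuredArrow.mk b') r • (show ((forg O_C).obj F).obj (op c') from x)) :=
    fun b' r x => congrArg (fun t => t • (show ((forg O_C).obj F).obj (op _) from x))
      (invSharp_χ f (StructuredArrow.mk b') r)
  have h0 : ∑ j, χ f (StructuredArrow.mk b) (α j) •
      (show ((forg f.invRing).obj (resInv f F)).obj (op c) from z j) = 0 :=
    (Finset.sum_congr rfl fun j _ => hsmul b (α j) (z j)).trans hz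
  obtain ⟨S, hS, hS'⟩ := h c n (fun j => χ f (StructuredArrow.mk b) (α j)) z h0
  have hR : Refines f b (fun c' v e' g b' =>
      ∃ (l : ℕ) (y : Fin l → ((forg O_C).obj F).obj (op c'))
        (a : Fin n → Fin l → O_D.obj.obj (op e')),
        (∀ j, rs ((forg O_C).obj F) v.op (z j) = ∑ k, rho (StructuredArrow.mk b') (a j k) • y k) ∧
        ∀ (_ : Unit) (k : Fin l), ∑ j, a j k * rr O_D g.op (α j) = 0) := by
    refine Refines.bind
      (show Refines f b (fun c' v _ _ _ => S v) from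
        ⟨S, hS, fun c' v hv => ⟨e, 𝟙 e, v ≫ b, by simp, hv⟩⟩) fun c' v e' g b' hb hv => ?_
    obtain ⟨l, t, a, hzt, ha⟩ := hS' v hv
    refine (refines_charts f (n * l) b' (fun i => a (finProdFinEquiv.symm i).1
      (finProdFinEquiv.symm i).2)).bind fun c'' w e'' g' b'' hb' hr => ?_
    obtain ⟨r, hr⟩ := hr
    have hr' : ∀ j k, rr f.invRing w.op (a j k) =
        χ f (StructuredArrow.mk b'') (r (finProdFinEquiv (j, k))) := fun j k => by
      simpa using hr (finProdFinEquiv (j, k))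
    have hbb : b'' ≫ f.fn.map (g' ≫ g) = (w ≫ v) ≫ b := by
      rw [f.fn.map_comp, ← Category.assoc, hb', Category.assoc, hb, Category.assoc]
    refine (refines_zeros f l b'' (fun k => ∑ j, r (finProdFinEquiv (j, k)) *
      rr O_D (g' ≫ g).op (α j)) (fun k => ?_)).bind fun c₃ u e₃ g₃ b₃ hb₃ hz₃ => ?_
    · have e0 := congrArg (f.invRing.obj.map w.op).hom (ha k)
      rw [map_sum, map_zero] at e0
      rw [map_sum]
      refine Eq.trans (Finset.sum_congr rfl fun j _ => ?_) e0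
      rw [map_mul, map_mul]
      refine congrArg₂ (· * ·) (hr' j k).symm ?_
      refine Eq.trans ?_ (rr_rr (O := f.invRing) v.op w.op _).symm
      exact (χ_lift f b (w ≫ v) (g' ≫ g) b'' hbb (α j)).symm
    refine Refines.of_forall fun c₄ u' => ⟨l, fun k => rs ((forg O_C).obj F) (u' ≫ u ≫ w).op (t k),
      fun j k => rr O_D g₃.op (r (finProdFinEquiv (j, k))), fun j => ?_, fun _ k => ?_⟩
    · have e1 := congrArg (rs ((forg f.invRing).obj (resInv f F)) (u' ≫ u ≫ w).op) (hzt j)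
      rw [ModRel.rs_sum, rs_rs] at e1
      simp only [rs_smul'] at e1
      refine Eq.trans ?_ (e1.trans (Finset.sum_congr rfl fun k _ => ?_))
      · show rs ((forg O_C).obj F) _ (z j) = rs ((forg O_C).obj F) _ (z j)
        congr 2
        simp
      · have e2 : rr f.invRing (u' ≫ u ≫ w).op (a j k) =
            χ f (StructuredArrow.mk (u' ≫ b₃)) (rr O_D g₃.op (r (finProdFinEquiv (j, k)))) := by
          rw [op_comp, op_comp, ← rr_rr, ← rr_rr, hr', χ_lift f b'' u g₃ b₃ hb₃]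
          exact rr_χ f u' (StructuredArrow.mk b₃) _
        rw [e2]
        exact hsmul _ _ _
    · have e3 := hz₃ k
      simp only [rr, map_sum, map_mul] at e3
      refine Eq.trans (Finset.sum_congr rfl fun j _ => ?_) e3
      congr 1
      simp [rr]
  exact hR

theorem isFlat_of_locTriv_baseMod (h : LocTriv f.baseMod) : f.IsFlat :=
  isFlat_of_refTriv (refTriv_of_locTriv h)

end Groth.Agent.H15Site.InvRingChart
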