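import Groth.Prelude.Def_CohCx
import Groth.Agent.H15Site.FlasquePush
import Groth.Agent.H15Site.PBC.Germs
import Mathlib.CategoryTheory.Abelian.RightDerived
import Mathlib.Algebra.Homology.HomologySequence
import Mathlib.Algebra.Homology.HomologicalComplexBiprod
import Mathlib.Algebra.Homology.HomologicalComplexAbelian

/-!
# Relative Mayer-Vietoris
-/

set_option autoImplicit false
set_option linter.style.haveILetI false
set_option linter.unusedSectionVars false
set_option backward.isDefEq.respectTransparency false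
set_option backward.isDefEq.respectTransparency.types false

universe u

open CategoryTheory CategoryTheory.Limits Opposite TopologicalSpace

namespace Groth.Agent.H15Site.RelMV

attribute [local instance 10000] H10Coh.hasSheafifyAb H10Coh.hasWeakSheafifyAb H10Coh.hasExtAb H10Coh.enoughInjAb

variable {X Y : TopCat.{u}} (f : X ⟶ Y) (U V : Opens X)

/-- The functor `F ↦ (f|U)_* (F|U)`. -/
noncomputable abbrev A : CohTop.Ab X ⥤ CohTop.Ab Y :=
  CohTop.restrFunctor U ⋙ CohTop.push (CohCx.incl U ≫ f)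

/-- The open of `X` on which its sections over `W` live. -/
abbrev O (W : Opens Y) : Opens X :=
  (Topology.IsOpenEmbedding.functor (f := CohCx.incl U) U.isOpenEmbedding').obj
    ((Opens.map (CohCx.incl U ≫ f)).obj W)

lemma mem_O {W : Opens Y} {x : X} : x ∈ O f U W ↔ x ∈ U ∧ f x ∈ W := by
  refine ⟨?_, fun h => ⟨⟨x, h.1⟩, h.2, rfl⟩⟩
  rintro ⟨z, hz, rfl⟩
  exact ⟨z.2, hz⟩

theorem injective_pair (hUV : U ⊔ V = ⊤) (G : CohTop.Ab X) (W : Opens Y)
    (s : G.obj.obj (op ((Opens.map f).obj W)))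
    (h₁ : ((CohCx.pushToRestrPush f U).app G).hom.app (op W) s = 0)
    (h₂ : ((CohCx.pushToRestrPush f V).app G).hom.app (op W) s = 0) : s = 0 := by
  refine TopCat.Presheaf.section_ext (G : TopCat.Sheaf AddCommGrpCat.{u} X) _ _ _ fun x hx => ?_
  refine Eq.trans ?_ (map_zero _).symm
  have hcov : x ∈ U ⊔ V := hUV.symm ▸ Opens.mem_top x
  rcases hcov with hU | hV
  · refine (TopCat.Presheaf.germ_res_apply G.obj (homOfLE (show O f U W ≤ _ from fun y hy => ((mem_O f U).1 hy).2))
      x ((mem_O f U).2 ⟨hU, hx⟩) s).symm.trans ((congrArg _ h₁).trans (map_zero _))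
  · refine (TopCat.Presheaf.germ_res_apply G.obj (homOfLE (show O f V W ≤ _ from fun y hy => ((mem_O f V).1 hy).2))
      x ((mem_O f V).2 ⟨hV, hx⟩) s).symm.trans ((congrArg _ h₂).trans (map_zero _))

theorem exists_glue (hUV : U ⊔ V = ⊤) (G : CohTop.Ab X) (W : Opens Y)
    (a : G.obj.obj (op (O f U W))) (b : G.obj.obj (op (O f V W)))
    (h : ((CohCx.restrPushToRestrPush f (inf_le_left : U ⊓ V ≤ U)).app G).hom.app (op W) a =
      ((CohCx.restrPushToRestrPush f (inf_le_right : U ⊓ V ≤ V)).app G).hom.app (op W) b) :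
    ∃ s : G.obj.obj (op ((Opens.map f).obj W)),
      ((CohCx.pushToRestrPush f U).app G).hom.app (op W) s = a ∧
        ((CohCx.pushToRestrPush f V).app G).hom.app (op W) s = b := by
  let C : ULift.{u} Bool → Opens X := fun i => Bool.rec (O f V W) (O f U W) i.down
  let sf : ∀ i, G.obj.obj (op (C i)) := fun i => match i with
    | ⟨true⟩ => a
    | ⟨false⟩ => b
  have hC : ∀ i, C i ≤ (Opens.map f).obj W := by
    rintro ⟨i⟩
    cases i
    · exact fun y hy => ((mem_O f V).1 hy).2
    · exact fun y hy => ((mem_O f U).1 hy).2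
  have hab : ∀ x (h₁ : x ∈ O f U W) (h₂ : x ∈ O f V W), PBC.gm G x h₁ a = PBC.gm G x h₂ b := fun x h₁ h₂ => by
    have hmem : x ∈ O f (U ⊓ V) W :=
      (mem_O f _).2 ⟨⟨((mem_O f U).1 h₁).1, ((mem_O f V).1 h₂).1⟩, ((mem_O f U).1 h₁).2⟩
    exact (TopCat.Presheaf.germ_res_apply G.obj _ x hmem a).symm.trans
      ((congrArg (PBC.gm G x hmem) h).trans (TopCat.Presheaf.germ_res_apply G.obj _ x hmem b))
  obtain ⟨s, hs, -⟩ := TopCat.Sheaf.existsUnique_gluing' (F := (G : TopCat.Sheaf AddCommGrpCat.{u} X))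
    C ((Opens.map f).obj W) (fun i => homOfLE (hC i)) (fun x hx => by
      have hcov : x ∈ U ⊔ V := hUV.symm ▸ Opens.mem_top x
      rcases hcov with hU | hV
      · exact Opens.mem_iSup.2 ⟨⟨true⟩, (mem_O f U).2 ⟨hU, hx⟩⟩
      · exact Opens.mem_iSup.2 ⟨⟨false⟩, (mem_O f V).2 ⟨hV, hx⟩⟩) sf
    (fun i j => TopCat.Presheaf.section_ext (G : TopCat.Sheaf AddCommGrpCat.{u} X) _ _ _ fun x hx => by
      refine (TopCat.Presheaf.germ_res_apply G.obj _ x hx (sf i)).trans
        (Eq.trans ?_ (TopCat.Presheaf.germ_res_apply G.obj _ x hx (sf j)).symm)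
      obtain ⟨i⟩ := i
      obtain ⟨j⟩ := j
      cases i <;> cases j
      · rfl
      · exact (hab x hx.2 hx.1).symm
      · exact hab x hx.1 hx.2
      · rfl)
  exact ⟨s, hs ⟨true⟩, hs ⟨false⟩⟩

theorem surjective_inter {G : CohTop.Ab X} (hG : H10Coh.Flasque G) (W : Opens Y) :
    Function.Surjective (((CohCx.restrPushToRestrPush f (inf_le_left : U ⊓ V ≤ U)).app G).hom.app (op W)) :=
  hG _

section LES

open HomologicalComplex

variable (hUV : U ⊔ V = ⊤) {F : CohTop.Ab X} (I : InjectiveResolution F)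

/-- The complex computing the derived functors. -/
noncomputable abbrev cxA : CochainComplex (CohTop.Ab Y) ℕ :=
  ((A f U).mapHomologicalComplex (ComplexShape.up ℕ)).obj I.cocomplex

/-- The complex computing the higher direct images. -/
noncomputable abbrev cxF : CochainComplex (CohTop.Ab Y) ℕ :=
  ((CohTop.push f).mapHomologicalComplex (ComplexShape.up ℕ)).obj I.cocomplex

/-- Restriction. -/
noncomputable abbrev resF : cxF f I ⟶ cxA f U I :=
  (NatTrans.mapHomologicalComplex (CohCx.pushToRestrPush f U) (ComplexShape.up ℕ)).app I.cocomplex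

/-- Restriction. -/
noncomputable abbrev resA {U' : Opens X} (h : U' ≤ U) : cxA f U I ⟶ cxA f U' I :=
  (NatTrans.mapHomologicalComplex (CohCx.restrPushToRestrPush f h) (ComplexShape.up ℕ)).app I.cocomplex

theorem resF_resA {U' : Opens X} (h : U' ≤ U) : resF f U I ≫ resA f U I h = resF f U' I := by
  ext k : 1
  refine CategoryTheory.Sheaf.hom_ext (NatTrans.ext (funext fun W => ?_))
  show (I.cocomplex.X k).obj.map _ ≫ (I.cocomplex.X k).obj.map _ = (I.cocomplex.X k).obj.map _
  exact ((I.cocomplex.X k).obj.map_comp _ _).symm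

/-- The sequence of complexes. -/
noncomputable def seq : ShortComplex (CochainComplex (CohTop.Ab Y) ℕ) :=
  ShortComplex.mk (biprod.lift (resF f U I) (resF f V I))
    (biprod.desc (resA f U I (inf_le_left : U ⊓ V ≤ U)) (-resA f V I (inf_le_right : U ⊓ V ≤ V))) (by
      rw [biprod.lift_desc, resF_resA, Preadditive.comp_neg, resF_resA, add_neg_cancel])

include hUV in
theorem seq_shortExact : (seq f U V I).ShortExact := by
  refine HomologicalComplex.shortExact_of_degreewise_shortExact _ fun k => ?_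
  let G := I.cocomplex.X k
  let S := (seq f U V I).map (eval (CohTop.Ab Y) (ComplexShape.up ℕ) k)
  have hfst : S.f ≫ (biprod.fst : cxA f U I ⊞ cxA f V I ⟶ _).f k = (CohCx.pushToRestrPush f U).app G :=
    (comp_f _ _ k).symm.trans (congrArg (fun φ => Hom.f φ k) (biprod.lift_fst (resF f U I) (resF f V I)))
  have hsnd : S.f ≫ (biprod.snd : cxA f U I ⊞ cxA f V I ⟶ _).f k = (CohCx.pushToRestrPush f V).app G :=
    (comp_f _ _ k).symm.trans (congrArg (fun φ => Hom.f φ k) (biprod.lift_snd (resF f U I) (resF f V I)))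
  have hg : S.g = (biprod.fst : cxA f U I ⊞ cxA f V I ⟶ _).f k ≫
      (CohCx.restrPushToRestrPush f (inf_le_left : U ⊓ V ≤ U)).app G -
        (biprod.snd : cxA f U I ⊞ cxA f V I ⟶ _).f k ≫
          (CohCx.restrPushToRestrPush f (inf_le_right : U ⊓ V ≤ V)).app G := by
    show (biprod.desc (resA f U I (inf_le_left : U ⊓ V ≤ U)) (-resA f V I (inf_le_right : U ⊓ V ≤ V))).f k = _
    rw [biprod.desc_eq, Preadditive.comp_neg, ← sub_eq_add_neg, sub_f_apply, comp_f, comp_f]
    rfl
  have hinl : (biprod.inl : cxA f U I ⟶ cxA f U I ⊞ cxA f V I).f k ≫ S.g =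
      (CohCx.restrPushToRestrPush f (inf_le_left : U ⊓ V ≤ U)).app G :=
    (comp_f _ _ k).symm.trans (congrArg (fun φ => Hom.f φ k)
      (biprod.inl_desc (resA f U I (inf_le_left : U ⊓ V ≤ U)) (-resA f V I (inf_le_right : U ⊓ V ≤ V))))
  have hm : ∀ (W : Opens Y) (s : G.obj.obj (op ((Opens.map f).obj W))),
      ((CohCx.pushToRestrPush f U).app G).hom.app (op W) s = 0 →
      ((CohCx.pushToRestrPush f V).app G).hom.app (op W) s = 0 → s = 0 := fun W s => injective_pair f U V hUV G W s
  haveI : Mono S.f := by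
    refine Preadditive.mono_of_cancel_zero _ fun {T} φ hφ => ?_
    refine CategoryTheory.Sheaf.hom_ext (NatTrans.ext (funext fun W => ?_))
    ext t
    refine hm W.unop _ ?_ ?_
    · have h1 : φ ≫ (CohCx.pushToRestrPush f U).app G = 0 := by
        rw [← hfst, ← Category.assoc, hφ, zero_comp]
      exact congr($(congrArg (fun ψ : T ⟶ _ => ψ.hom.app W) h1) t)
    · have h1 : φ ≫ (CohCx.pushToRestrPush f V).app G = 0 := by
        rw [← hsnd, ← Category.assoc, hφ, zero_comp]
      exact congr($(congrArg (fun ψ : T ⟶ _ => ψ.hom.app W) h1) t)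
  haveI : Epi ((CohCx.restrPushToRestrPush f (inf_le_left : U ⊓ V ≤ U)).app G) := by
    have : ∀ W, Epi (((CohCx.restrPushToRestrPush f (inf_le_left : U ⊓ V ≤ U)).app G).hom.app W) := fun W =>
      (AddCommGrpCat.epi_iff_surjective _).2 (surjective_inter f U V (H10Coh.flasque_of_injective G) W.unop)
    have : Epi ((sheafToPresheaf _ _).map ((CohCx.restrPushToRestrPush f (inf_le_left : U ⊓ V ≤ U)).app G)) :=
      @NatTrans.epi_of_epi_app _ _ _ _ _ _ _ this
    exact (sheafToPresheaf _ _).epi_of_epi_map this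
  haveI : Epi S.g := @epi_of_epi_fac _ _ _ _ _ _ _ _ ‹_› hinl
  refine { exact := ShortComplex.exact_of_f_is_kernel _ (KernelFork.IsLimit.ofι' S.f S.zero fun {T} φ hφ => ?_) }
  let p := φ ≫ (biprod.fst : cxA f U I ⊞ cxA f V I ⟶ _).f k
  let q := φ ≫ (biprod.snd : cxA f U I ⊞ cxA f V I ⟶ _).f k
  have hpq : p ≫ (CohCx.restrPushToRestrPush f (inf_le_left : U ⊓ V ≤ U)).app G =
      q ≫ (CohCx.restrPushToRestrPush f (inf_le_right : U ⊓ V ≤ V)).app G := by
    rw [← sub_eq_zero, Category.assoc, Category.assoc, ← Preadditive.comp_sub, ← hg]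
    exact hφ
  choose s hs₁ hs₂ using fun (W : Opens Y) (t : T.obj.obj (op W)) =>
    exists_glue f U V hUV G W (p.hom.app (op W) t) (q.hom.app (op W) t)
      (congr($(congrArg (fun ψ : T ⟶ _ => ψ.hom.app (op W)) hpq) t))
  have huniq : ∀ (W : Opens Y) (t : T.obj.obj (op W)) (s' : G.obj.obj (op ((Opens.map f).obj W))),
      ((CohCx.pushToRestrPush f U).app G).hom.app (op W) s' = p.hom.app (op W) t →
      ((CohCx.pushToRestrPush f V).app G).hom.app (op W) s' = q.hom.app (op W) t → s' = s W t :=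
    fun W t s' h₁ h₂ => sub_eq_zero.1 (hm W _
      ((map_sub _ _ _).trans (sub_eq_zero.2 (h₁.trans (hs₁ W t).symm)))
      ((map_sub _ _ _).trans (sub_eq_zero.2 (h₂.trans (hs₂ W t).symm))))
  have hadd : ∀ (W : Opens Y) (a b : T.obj.obj (op W)), s W (a + b) = s W a + s W b := fun W a b =>
    (huniq W (a + b) _
      ((map_add _ _ _).trans ((congrArg₂ (· + ·) (hs₁ W a) (hs₁ W b)).trans (map_add _ a b).symm))
      ((map_add _ _ _).trans ((congrArg₂ (· + ·) (hs₂ W a) (hs₂ W b)).trans (map_add _ a b).symm))).symm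
  let app : ∀ W : (Opens Y)ᵒᵖ, T.obj.obj W ⟶ ((CohTop.push f).obj G).obj.obj W := fun W =>
    AddCommGrpCat.ofHom (AddMonoidHom.mk' (s W.unop) (hadd W.unop))
  refine ⟨⟨{ app := app, naturality := fun W W' i => ?_ }⟩, ?_⟩
  · ext t
    refine (huniq W'.unop (T.obj.map i t) _ ?_ ?_).symm
    · refine (ConcreteCategory.congr_hom (((CohCx.pushToRestrPush f U).app G).hom.naturality i) _).trans ?_
      refine (congrArg _ (hs₁ W.unop t)).trans ?_
      exact (ConcreteCategory.congr_hom (p.hom.naturality i) t).symm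
    · refine (ConcreteCategory.congr_hom (((CohCx.pushToRestrPush f V).app G).hom.naturality i) _).trans ?_
      refine (congrArg _ (hs₂ W.unop t)).trans ?_
      exact (ConcreteCategory.congr_hom (q.hom.naturality i) t).symm
  · refine (cancel_mono (biprodXIso (cxA f U I) (cxA f V I) k).hom).1 (biprod.hom_ext _ _ ?_ ?_) <;>
      simp only [Category.assoc, biprodXIso_hom_fst, biprodXIso_hom_snd]
    · refine (congrArg (_ ≫ ·) hfst).trans ?_
      refine CategoryTheory.Sheaf.hom_ext (NatTrans.ext (funext fun W => ?_))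
      ext t
      exact hs₁ W.unop t
    · refine (congrArg (_ ≫ ·) hsnd).trans ?_
      refine CategoryTheory.Sheaf.hom_ext (NatTrans.ext (funext fun W => ?_))
      ext t
      exact hs₂ W.unop t

/-- The homology of the middle term. -/
noncomputable def midIso (n : ℕ) :
    (seq f U V I).X₂.homology n ≅ (CohCx.RpushOn f U n).obj F ⊞ (CohCx.RpushOn f V n).obj F where
  hom := biprod.lift (homologyMap (biprod.fst : cxA f U I ⊞ cxA f V I ⟶ _) n ≫ (I.isoRightDerivedObj (A f U) n).inv)
    (homologyMap (biprod.snd : cxA f U I ⊞ cxA f V I ⟶ _) n ≫ (I.isoRightDerivedObj (A f V) n).inv)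
  inv := biprod.desc ((I.isoRightDerivedObj (A f U) n).hom ≫ homologyMap (biprod.inl : _ ⟶ cxA f U I ⊞ cxA f V I) n)
    ((I.isoRightDerivedObj (A f V) n).hom ≫ homologyMap (biprod.inr : _ ⟶ cxA f U I ⊞ cxA f V I) n)
  hom_inv_id := by
    rw [biprod.lift_desc]
    simp only [Category.assoc, Iso.inv_hom_id_assoc]
    rw [← homologyMap_comp, ← homologyMap_comp, ← homologyMap_add, biprod.total, homologyMap_id]
    rfl
  inv_hom_id := by
    refine biprod.hom_ext' _ _ (biprod.hom_ext _ _ ?_ ?_) (biprod.hom_ext _ _ ?_ ?_) <;>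
      simp only [biprod.inl_desc_assoc, biprod.inr_desc_assoc, Category.assoc, biprod.lift_fst, biprod.lift_snd,
        Category.comp_id, biprod.inl_fst, biprod.inl_snd, biprod.inr_fst, biprod.inr_snd,
        ← homologyMap_comp_assoc, homologyMap_id, homologyMap_zero, zero_comp, comp_zero, Category.id_comp,
        Iso.hom_inv_id]

theorem homologyMap_f (n : ℕ) : homologyMap (seq f U V I).f n ≫ (midIso f U V I n).hom =
    (I.isoRightDerivedObj (CohTop.push f) n).inv ≫
      biprod.lift ((NatTrans.rightDerived (CohCx.pushToRestrPush f U) n).app F)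
        ((NatTrans.rightDerived (CohCx.pushToRestrPush f V) n).app F) := by
  refine biprod.hom_ext _ _ ?_ ?_ <;>
    simp only [midIso, Category.assoc, biprod.lift_fst, biprod.lift_snd]
  · rw [InjectiveResolution.rightDerived_app_eq _ I n, Iso.inv_hom_id_assoc, ← homologyMap_comp_assoc]
    exact congrArg (fun φ => homologyMap φ n ≫ _) (biprod.lift_fst (resF f U I) (resF f V I))
  · rw [InjectiveResolution.rightDerived_app_eq _ I n, Iso.inv_hom_id_assoc, ← homologyMap_comp_assoc]
    exact congrArg (fun φ => homologyMap φ n ≫ _) (biprod.lift_snd (resF f U I) (resF f V I))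

theorem homologyMap_g (n : ℕ) : homologyMap (seq f U V I).g n ≫ (I.isoRightDerivedObj (A f (U ⊓ V)) n).inv =
    (midIso f U V I n).hom ≫ biprod.desc
      ((NatTrans.rightDerived (CohCx.restrPushToRestrPush f (inf_le_left : U ⊓ V ≤ U)) n).app F)
      (-((NatTrans.rightDerived (CohCx.restrPushToRestrPush f (inf_le_right : U ⊓ V ≤ V)) n).app F)) := by
  rw [← cancel_epi (midIso f U V I n).inv, Iso.inv_hom_id_assoc]
  refine biprod.hom_ext' _ _ ?_ ?_ <;>
    simp only [midIso, biprod.inl_desc_assoc, biprod.inr_desc_assoc, biprod.inl_desc, biprod.inr_desc, Category.assoc]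
  · rw [InjectiveResolution.rightDerived_app_eq _ I n, ← homologyMap_comp_assoc]
    exact congrArg (fun φ => _ ≫ homologyMap φ n ≫ _)
      (biprod.inl_desc (resA f U I (inf_le_left : U ⊓ V ≤ U)) (-resA f V I (inf_le_right : U ⊓ V ≤ V)))
  · rw [InjectiveResolution.rightDerived_app_eq _ I n, ← homologyMap_comp_assoc]
    refine (congrArg (fun φ => _ ≫ homologyMap φ n ≫ _)
      (biprod.inr_desc (resA f U I (inf_le_left : U ⊓ V ≤ U)) (-resA f V I (inf_le_right : U ⊓ V ≤ V)))).trans ?_
    rw [homologyMap_neg, Preadditive.neg_comp, Preadditive.comp_neg]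
    rfl

theorem exact_of_iso₂ {B : Type*} [Category B] [Abelian B] {S : ShortComplex B} (hS : S.Exact)
    {P Q R : B} (a : P ⟶ Q) (b : Q ⟶ R) (e₁ : S.X₁ ≅ P) (e₂ : S.X₂ ≅ Q) (e₃ : S.X₃ ≅ R)
    (ha : e₁.hom ≫ a = S.f ≫ e₂.hom) (hb : e₂.hom ≫ b = S.g ≫ e₃.hom) :
    (ComposableArrows.mk₂ a b).Exact := by
  have w : a ≫ b = 0 := by
    rw [← cancel_epi e₁.hom, ← Category.assoc, ha, Category.assoc, hb, ← Category.assoc, S.zero, zero_comp,
      comp_zero]
  exact (ShortComplex.exact_of_iso (ShortComplex.isoMk e₁ e₂ e₃ ha hb : S ≅ ShortComplex.mk a b w) hS).exact_toComposableArrows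

include hUV in
/-- **Relative Mayer-Vietoris.** -/
theorem exists_les (F : CohTop.Ab X) :
    ∃ δ : ∀ n : ℕ, (CohCx.RpushOn f (U ⊓ V) n).obj F ⟶ (CohTop.Rpush f (n + 1)).obj F,
      Mono (biprod.lift ((NatTrans.rightDerived (CohCx.pushToRestrPush f U) 0).app F)
        ((NatTrans.rightDerived (CohCx.pushToRestrPush f V) 0).app F)) ∧
      ∀ n : ℕ,
        (ComposableArrows.mk₂
          (biprod.lift ((NatTrans.rightDerived (CohCx.pushToRestrPush f U) n).app F)
            ((NatTrans.rightDerived (CohCx.pushToRestrPush f V) n).app F))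
          (biprod.desc
            ((NatTrans.rightDerived (CohCx.restrPushToRestrPush f (inf_le_left : U ⊓ V ≤ U)) n).app F)
            (-((NatTrans.rightDerived (CohCx.restrPushToRestrPush f (inf_le_right : U ⊓ V ≤ V)) n).app F)))).Exact ∧
        (ComposableArrows.mk₂
          (biprod.desc
            ((NatTrans.rightDerived (CohCx.restrPushToRestrPush f (inf_le_left : U ⊓ V ≤ U)) n).app F)
            (-((NatTrans.rightDerived (CohCx.restrPushToRestrPush f (inf_le_right : U ⊓ V ≤ V)) n).app F)))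
          (δ n)).Exact ∧
        (ComposableArrows.mk₂ (δ n)
          (biprod.lift ((NatTrans.rightDerived (CohCx.pushToRestrPush f U) (n + 1)).app F)
            ((NatTrans.rightDerived (CohCx.pushToRestrPush f V) (n + 1)).app F))).Exact := by
  let J := injectiveResolution F
  have hS := seq_shortExact f U V hUV J
  let δ : ∀ n : ℕ, (CohCx.RpushOn f (U ⊓ V) n).obj F ⟶ (CohTop.Rpush f (n + 1)).obj F := fun n =>
    (J.isoRightDerivedObj (A f (U ⊓ V)) n).hom ≫ hS.δ n (n + 1) rfl ≫
      (J.isoRightDerivedObj (CohTop.push f) (n + 1)).inv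
  have hf : ∀ n, (J.isoRightDerivedObj (CohTop.push f) n).symm.hom ≫
      biprod.lift ((NatTrans.rightDerived (CohCx.pushToRestrPush f U) n).app F)
        ((NatTrans.rightDerived (CohCx.pushToRestrPush f V) n).app F) =
      homologyMap (seq f U V J).f n ≫ (midIso f U V J n).hom := fun n => (homologyMap_f f U V J n).symm
  refine ⟨δ, ?_, fun n => ⟨?_, ?_, ?_⟩⟩
  · haveI := hS.mono_f
    haveI : Mono (((seq f U V J).f).f 0) := (hS.map_of_exact (eval (CohTop.Ab Y) (ComplexShape.up ℕ) 0)).mono_f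
    haveI : Mono (homologyMap (seq f U V J).f 0) :=
      mono_homologyMap_of_mono_of_not_rel _ 0 (fun i h => by simp at h)
    have : biprod.lift ((NatTrans.rightDerived (CohCx.pushToRestrPush f U) 0).app F)
        ((NatTrans.rightDerived (CohCx.pushToRestrPush f V) 0).app F) =
        (J.isoRightDerivedObj (CohTop.push f) 0).hom ≫ homologyMap (seq f U V J).f 0 ≫ (midIso f U V J 0).hom := by
      rw [← hf 0, Iso.symm_hom, Iso.hom_inv_id_assoc]
    rw [this]
    infer_instance
  · exact exact_of_iso₂ (hS.homology_exact₂ n) _ _ (J.isoRightDerivedObj (CohTop.push f) n).symm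
      (midIso f U V J n) (J.isoRightDerivedObj (A f (U ⊓ V)) n).symm (hf n) (homologyMap_g f U V J n).symm
  · exact exact_of_iso₂ (hS.homology_exact₃ n (n + 1) rfl) _ _ (midIso f U V J n)
      (J.isoRightDerivedObj (A f (U ⊓ V)) n).symm (J.isoRightDerivedObj (CohTop.push f) (n + 1)).symm
      (homologyMap_g f U V J n).symm (Iso.inv_hom_id_assoc _ _)
  · exact exact_of_iso₂ (hS.homology_exact₁ n (n + 1) rfl) _ _ (J.isoRightDerivedObj (A f (U ⊓ V)) n).symm
      (J.isoRightDerivedObj (CohTop.push f) (n + 1)).symm (midIso f U V J (n + 1))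
      (Iso.inv_hom_id_assoc _ _) (hf (n + 1))

end LES

end Groth.Agent.H15Site.RelMV
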