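import Mathlib.Algebra.Homology.HomologicalComplexAbelian
import Mathlib.Algebra.Homology.ShortComplex.HomologicalComplex
import Mathlib.Algebra.Homology.ShortComplex.Abelian
import Mathlib.Algebra.Homology.Embedding.CochainComplex
import Mathlib.CategoryTheory.Abelian.Refinements
import Mathlib.CategoryTheory.ObjectProperty.ContainsZero
import Mathlib.Algebra.Homology.QuasiIso

/-!
# Factorisations `K ↪ K' ↠ T` of maps of bounded above complexes by a class of objects covering
everything: `K ⟶ K'` is degreewise split with cokernel in the class and `K' ⟶ T` is a degreewise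
surjective quasi-isomorphism.
-/

set_option autoImplicit false
set_option linter.unusedSectionVars false
set_option linter.style.haveILetI false
set_option backward.isDefEq.respectTransparency false

universe v u

open CategoryTheory CategoryTheory.Limits
open scoped ZeroObject

namespace Groth.Agent.H15Site.ResFactor

variable {A : Type u} [Category.{v} A] [Abelian A] {P : ObjectProperty A}
  {K T : CochainComplex A ℤ} (φ : K ⟶ T)

variable (P) in
/-- The construction in degree `j`. -/
structure St (j : ℤ) where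
  Q : A
  hQ : P Q
  fQ : Q ⟶ T.X j
  Zc : A
  z : Zc ⟶ K.X j ⊞ Q
  mono_z : Mono z
  g : Zc ⟶ T.cycles j
  g_i : g ≫ T.iCycles j = z ≫ biprod.desc (φ.f j) fQ
  c : ∀ i, K.X i ⟶ Zc
  c_z : ∀ i, c i ≫ z = K.d i j ≫ biprod.inl
  epi_g : Epi g

attribute [instance] St.mono_z St.epi_g

/-- The map to the target. -/
noncomputable def St.f {j : ℤ} (s : St P φ j) : K.X j ⊞ s.Q ⟶ T.X j := biprod.desc (φ.f j) s.fQ

/-- Consecutive degrees. -/
structure Link {i j : ℤ} (hij : i + 1 = j) (s : St P φ i) (s' : St P φ j) where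
  d : K.X i ⊞ s.Q ⟶ s'.Zc
  inl_d : biprod.inl ≫ d = s'.c i
  d_g : d ≫ s'.g = s.f φ ≫ T.toCycles i j
  z_d : s.z ≫ d = 0
  lift : ∀ {W : A} (x : W ⟶ K.X i ⊞ s.Q), x ≫ d = 0 → ∃ y, y ≫ s.z = x
  surj : ∀ {W : A} (x : W ⟶ s'.Zc) (t : W ⟶ T.X i), x ≫ s'.g = t ≫ T.toCycles i j →
    ∃ (W' : A) (q : W' ⟶ W) (_ : Epi q) (y : W' ⟶ K.X i ⊞ s.Q),
      y ≫ d = q ≫ x ∧ y ≫ s.f φ = q ≫ t

section Base

variable [P.ContainsZero] [P.IsClosedUnderIsomorphisms]

/-- Where both complexes vanish. -/
noncomputable def base (j : ℤ) (hK : IsZero (K.X j)) (hT : IsZero (T.X j)) : St P φ j where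
  Q := 0
  hQ := P.prop_zero
  fQ := 0
  Zc := 0
  z := 0
  mono_z := ⟨fun _ _ _ => (isZero_zero A).eq_of_tgt _ _⟩
  g := 0
  g_i := hT.eq_of_tgt _ _
  c i := 0
  c_z i := by
    rw [zero_comp, show K.d i j = 0 from hK.eq_of_tgt _ _, zero_comp]
  epi_g := ⟨fun _ _ _ => (IsZero.of_mono (T.iCycles j) hT).eq_of_src _ _⟩

theorem isZero_base_X (j : ℤ) (hK : IsZero (K.X j)) (hT : IsZero (T.X j)) :
    IsZero (K.X j ⊞ (base (P := P) φ j hK hT).Q) := by
  rw [IsZero.iff_id_eq_zero]
  exact biprod.hom_ext' _ _ (hK.eq_of_src _ _) ((isZero_zero A).eq_of_src _ _)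

end Base

variable (P) in
/-- Enough objects of the class. -/
def Enough : Prop := ∀ W : A, ∃ (Q : A) (_ : P Q) (p : Q ⟶ W), Epi p

section Next

variable (hP : Enough P) {j : ℤ} (s' : St P φ j) (i : ℤ)

/-- Pairs of a cycle and a preimage of its image. -/
noncomputable abbrev W : A := pullback s'.g (T.toCycles i j)

/-- The new summand. -/
noncomputable abbrev cov : A := (hP (W φ s' i)).choose

/-- Its map to the pairs. -/
noncomputable abbrev covMap : cov φ hP s' i ⟶ W φ s' i :=
  (hP (W φ s' i)).choose_spec.choose_spec.choose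

instance epi_covMap : Epi (covMap φ hP s' i) :=
  (hP (W φ s' i)).choose_spec.choose_spec.choose_spec

/-- The differential. -/
noncomputable abbrev dNext : K.X i ⊞ cov φ hP s' i ⟶ s'.Zc :=
  biprod.desc (s'.c i) (covMap φ hP s' i ≫ pullback.fst _ _)

/-- The map to the target. -/
noncomputable abbrev fNext : K.X i ⊞ cov φ hP s' i ⟶ T.X i :=
  biprod.desc (φ.f i) (covMap φ hP s' i ≫ pullback.snd _ _)

theorem dNext_g : dNext φ hP s' i ≫ s'.g = fNext φ hP s' i ≫ T.toCycles i j := by
  apply biprod.hom_ext'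
  · simp only [biprod.inl_desc_assoc]
    rw [← cancel_mono (T.iCycles j)]
    simp only [Category.assoc, s'.g_i, HomologicalComplex.toCycles_i]
    rw [← Category.assoc, s'.c_z i, Category.assoc, biprod.inl_desc]
    exact (φ.comm i j).symm
  · simp only [biprod.inr_desc_assoc, Category.assoc, pullback.condition]

variable (hij : i + 1 = j)

include hij in
theorem cycles_cond : (kernel.ι (dNext φ hP s' i) ≫ fNext φ hP s' i) ≫ T.d i j = 0 := by
  rw [← T.toCycles_i i j, Category.assoc, ← Category.assoc (fNext φ hP s' i), ← dNext_g,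
    Category.assoc, ← Category.assoc, kernel.condition, zero_comp]

include hij in
theorem c_cond (k : ℤ) : (K.d k i ≫ biprod.inl) ≫ dNext φ hP s' i = 0 := by
  rw [← cancel_mono s'.z, zero_comp, Category.assoc, Category.assoc, biprod.inl_desc_assoc, s'.c_z,
    K.d_comp_d_assoc, zero_comp]

/-- One step down. -/
noncomputable def next : St P φ i where
  Q := cov φ hP s' i
  hQ := (hP (W φ s' i)).choose_spec.choose
  fQ := covMap φ hP s' i ≫ pullback.snd _ _
  Zc := kernel (dNext φ hP s' i)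
  z := kernel.ι _
  mono_z := inferInstance
  g := T.liftCycles (kernel.ι _ ≫ fNext φ hP s' i) j ((ComplexShape.up ℤ).next_eq' hij)
    (cycles_cond φ hP s' i hij)
  g_i := T.liftCycles_i _ _ _ _
  c k := kernel.lift _ (K.d k i ≫ biprod.inl) (c_cond φ hP s' i hij k)
  c_z k := kernel.lift_ι _ _ _
  epi_g := by
    rw [epi_iff_surjective_up_to_refinements]
    intro V t
    have h0 : (0 : V ⟶ s'.Zc) ≫ s'.g = (t ≫ T.iCycles i) ≫ T.toCycles i j := by
      rw [zero_comp, ← cancel_mono (T.iCycles j), zero_comp, Category.assoc, Category.assoc,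
        T.toCycles_i, T.iCycles_d, comp_zero]
    obtain ⟨V', q, hq, y, hy⟩ := surjective_up_to_refinements_of_epi (covMap φ hP s' i)
      (pullback.lift 0 (t ≫ T.iCycles i) h0)
    have h1 : (y ≫ biprod.inr) ≫ dNext φ hP s' i = 0 := by
      rw [Category.assoc, biprod.inr_desc, ← Category.assoc, ← hy, Category.assoc, pullback.lift_fst,
        comp_zero]
    refine ⟨V', q, hq, kernel.lift _ _ h1, ?_⟩
    rw [← cancel_mono (T.iCycles i), Category.assoc, Category.assoc, T.liftCycles_i,
      kernel.lift_ι_assoc, Category.assoc, biprod.inr_desc, ← Category.assoc y, ← hy, Category.assoc,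
      pullback.lift_snd]

/-- The step is linked. -/
noncomputable def linkNext : Link φ hij (next φ hP s' i hij) s' where
  d := dNext φ hP s' i
  inl_d := biprod.inl_desc _ _
  d_g := dNext_g φ hP s' i
  z_d := kernel.condition _
  lift x hx := ⟨kernel.lift _ x hx, kernel.lift_ι _ _ _⟩
  surj {V} x t h := by
    obtain ⟨V', q, hq, y, hy⟩ := surjective_up_to_refinements_of_epi (covMap φ hP s' i)
      (pullback.lift x t h)
    refine ⟨V', q, hq, y ≫ biprod.inr, ?_, ?_⟩
    · rw [Category.assoc]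
      change y ≫ biprod.inr ≫ biprod.desc _ _ = _
      rw [biprod.inr_desc, ← Category.assoc, ← hy, Category.assoc, pullback.lift_fst]
    · rw [Category.assoc]
      change y ≫ biprod.inr ≫ biprod.desc _ (covMap φ hP s' i ≫ pullback.snd _ _) = _
      rw [biprod.inr_desc, ← Category.assoc, ← hy, Category.assoc, pullback.lift_snd]

end Next

section Rec

variable [P.ContainsZero] [P.IsClosedUnderIsomorphisms] (hP : Enough P) (b : ℤ)
  [K.IsStrictlyLE b] [T.IsStrictlyLE b]

/-- The states by distance from the bound. -/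
noncomputable def stN : ∀ (m : ℕ) (i : ℤ), b + 1 ≤ i + m → St P φ i
  | 0, i, h => base φ i (K.isZero_of_isStrictlyLE b i (by omega)) (T.isZero_of_isStrictlyLE b i (by omega))
  | m + 1, i, h => next φ hP (stN m (i + 1) (by omega)) i rfl

/-- The state in a degree. -/
noncomputable def sT (i : ℤ) : St P φ i := stN φ hP b (b + 1 - i).toNat i (by omega)

theorem stN_congr (m m' : ℕ) (i : ℤ) (h : b + 1 ≤ i + m) (h' : b + 1 ≤ i + m') (e : m = m') :
    stN φ hP b m i h = stN φ hP b m' i h' := by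
  subst e
  rfl

theorem sT_base (i : ℤ) (hi : b < i) : sT φ hP b i =
    base φ i (K.isZero_of_isStrictlyLE b i hi) (T.isZero_of_isStrictlyLE b i hi) :=
  stN_congr φ hP b _ 0 i _ (by omega) (by omega)

/-- All degrees are linked. -/
noncomputable def links (i : ℤ) : Link φ rfl (sT φ hP b i) (sT φ hP b (i + 1)) := by
  by_cases h : i ≤ b
  · have e : sT φ hP b i = next φ hP (sT φ hP b (i + 1)) i rfl :=
      stN_congr φ hP b _ ((b + 1 - (i + 1)).toNat + 1) i _ (by omega) (by omega)
    exact e.symm ▸ linkNext φ hP (sT φ hP b (i + 1)) i rfl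
  · have e := sT_base φ hP b i (by omega)
    have e' := sT_base φ hP b (i + 1) (by omega)
    have hz := isZero_base_X (P := P) φ i (K.isZero_of_isStrictlyLE b i (by omega))
      (T.isZero_of_isStrictlyLE b i (by omega))
    rw [e, e']
    exact
      { d := 0
        inl_d := (isZero_zero A).eq_of_tgt _ _
        d_g := hz.eq_of_src _ _
        z_d := comp_zero
        lift := fun {V} x _ => ⟨0, hz.eq_of_tgt _ _⟩
        surj := fun {V} x t _ => ⟨V, 𝟙 V, inferInstance, 0, (isZero_zero A).eq_of_tgt _ _,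
          (T.isZero_of_isStrictlyLE b i (by omega)).eq_of_tgt _ _⟩ }

/-- The differential of the new complex. -/
noncomputable def dT (i : ℤ) :
    K.X i ⊞ (sT φ hP b i).Q ⟶ K.X (i + 1) ⊞ (sT φ hP b (i + 1)).Q :=
  (links φ hP b i).d ≫ (sT φ hP b (i + 1)).z

/-- The new complex. -/
noncomputable def mid : CochainComplex A ℤ :=
  CochainComplex.of (fun i => K.X i ⊞ (sT φ hP b i).Q) (dT φ hP b) (fun i => by
    simp only [dT, Category.assoc, reassoc_of% (links φ hP b (i + 1)).z_d, zero_comp, comp_zero])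

theorem mid_d (i : ℤ) : (mid φ hP b).d i (i + 1) = dT φ hP b i :=
  CochainComplex.of_d (fun i => K.X i ⊞ (sT φ hP b i).Q) (dT φ hP b) i

/-- The inclusion. -/
noncomputable def incl : K ⟶ mid φ hP b :=
  { f := fun i => biprod.inl
    comm' := fun i j hij => by
      obtain rfl : i + 1 = j := hij
      rw [mid_d, dT, ← Category.assoc]
      exact (congrArg (· ≫ _) (links φ hP b i).inl_d).trans ((sT φ hP b (i + 1)).c_z i) }

theorem f_d (i : ℤ) : (sT φ hP b i).f φ ≫ T.d i (i + 1) = dT φ hP b i ≫ (sT φ hP b (i + 1)).f φ := by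
  rw [dT, Category.assoc, ← T.toCycles_i i (i + 1), ← Category.assoc, ← (links φ hP b i).d_g,
    Category.assoc, (sT φ hP b (i + 1)).g_i]
  rfl

/-- The projection. -/
noncomputable def proj : mid φ hP b ⟶ T :=
  { f := fun i => (sT φ hP b i).f φ
    comm' := fun i j hij => by
      obtain rfl : i + 1 = j := hij
      rw [mid_d]
      exact f_d φ hP b i }

theorem incl_proj : incl φ hP b ≫ proj φ hP b = φ := by
  ext i
  exact biprod.inl_desc _ _

theorem epi_proj_f (i : ℤ) : Epi ((proj φ hP b).f i) := by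
  change Epi ((sT φ hP b i).f φ)
  rw [epi_iff_surjective_up_to_refinements]
  intro V t
  obtain ⟨V', q, hq, x, hx⟩ :=
    surjective_up_to_refinements_of_epi (sT φ hP b (i + 1)).g (t ≫ T.toCycles i (i + 1))
  obtain ⟨V'', q', hq', y, -, hy⟩ := (links φ hP b i).surj x (q ≫ t) (by rw [← hx, Category.assoc])
  exact ⟨V'', q' ≫ q, inferInstance, y, by rw [hy, Category.assoc]⟩

theorem z_mid_d (i j : ℤ) (hij : i + 1 = j) : (sT φ hP b i).z ≫ (mid φ hP b).d i j = 0 := by
  subst hij
  rw [mid_d, dT, ← Category.assoc]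
  exact (congrArg (· ≫ _) (links φ hP b i).z_d).trans zero_comp

theorem exists_lift_z {V : A} (i : ℤ) (x : V ⟶ (mid φ hP b).X i)
    (hx : x ≫ (mid φ hP b).d i (i + 1) = 0) : ∃ y, y ≫ (sT φ hP b i).z = x := by
  rw [mid_d, dT, ← Category.assoc] at hx
  exact (links φ hP b i).lift x ((cancel_mono (sT φ hP b (i + 1)).z).1 (hx.trans zero_comp.symm))

theorem quasiIso_proj : QuasiIso (proj φ hP b) := by
  rw [quasiIso_iff]
  intro n
  obtain ⟨i, rfl⟩ : ∃ i, i + 1 = n := ⟨n - 1, by omega⟩
  rw [quasiIsoAt_iff' (proj φ hP b) i (i + 1) (i + 1 + 1) (by simp) (by simp),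
    ShortComplex.quasiIso_iff]
  have hm : Mono (ShortComplex.homologyMap ((HomologicalComplex.shortComplexFunctor' A
      (ComplexShape.up ℤ) i (i + 1) (i + 1 + 1)).map (proj φ hP b))) := by
    rw [ShortComplex.mono_homologyMap_iff_up_to_refinements]
    intro V x₂ hx₂ y₁ hy
    change V ⟶ K.X (i + 1) ⊞ (sT φ hP b (i + 1)).Q at x₂
    obtain ⟨x, rfl⟩ := exists_lift_z φ hP b (i + 1) x₂ hx₂
    have h : x ≫ (sT φ hP b (i + 1)).g = y₁ ≫ T.toCycles i (i + 1) := by
      rw [← cancel_mono (T.iCycles (i + 1)), Category.assoc, Category.assoc, T.toCycles_i,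
        (sT φ hP b (i + 1)).g_i, ← Category.assoc]
      exact hy
    obtain ⟨V', q, hq, y, hy₁, -⟩ := (links φ hP b i).surj x y₁ h
    refine ⟨V', q, hq, y, ?_⟩
    change q ≫ x ≫ _ = y ≫ (mid φ hP b).d i (i + 1)
    rw [mid_d, dT, ← Category.assoc, ← hy₁, Category.assoc]
  have he : Epi (ShortComplex.homologyMap ((HomologicalComplex.shortComplexFunctor' A
      (ComplexShape.up ℤ) i (i + 1) (i + 1 + 1)).map (proj φ hP b))) := by
    rw [ShortComplex.epi_homologyMap_iff_up_to_refinements]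
    intro V y₂ hy₂
    obtain ⟨V', q, hq, x, hx⟩ := surjective_up_to_refinements_of_epi (sT φ hP b (i + 1)).g
      (T.liftCycles y₂ (i + 1 + 1) (by simp) hy₂)
    refine ⟨V', q, hq, x ≫ (sT φ hP b (i + 1)).z, ?_, 0, ?_⟩
    · change (x ≫ (sT φ hP b (i + 1)).z) ≫ (mid φ hP b).d (i + 1) (i + 1 + 1) = 0
      rw [Category.assoc, z_mid_d φ hP b _ _ rfl, comp_zero]
    · rw [zero_comp, add_zero]
      have h := congrArg (· ≫ T.iCycles (i + 1)) hx
      simp only [Category.assoc, T.liftCycles_i, (sT φ hP b (i + 1)).g_i] at h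
      exact h.trans (Category.assoc _ _ _).symm
  exact isIso_of_mono_of_epi _

theorem isStrictlyLE_mid : (mid φ hP b).IsStrictlyLE b := by
  rw [CochainComplex.isStrictlyLE_iff]
  intro i hi
  have e := sT_base φ hP b i hi
  change IsZero (K.X i ⊞ (sT φ hP b i).Q)
  rw [e]
  exact isZero_base_X φ i _ _

include hP in
/-- The factorisation. -/
theorem exists_factor : ∃ (K' : CochainComplex A ℤ) (ι : K ⟶ K') (π : K' ⟶ T), ι ≫ π = φ ∧
    QuasiIso π ∧ (∀ i, Epi (π.f i)) ∧ K'.IsStrictlyLE b ∧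
    ∀ i, ∃ (Q : A) (_ : P Q) (e : K'.X i ≅ K.X i ⊞ Q), ι.f i ≫ e.hom = biprod.inl :=
  ⟨mid φ hP b, incl φ hP b, proj φ hP b, incl_proj φ hP b, quasiIso_proj φ hP b, epi_proj_f φ hP b,
    isStrictlyLE_mid φ hP b, fun i => ⟨_, (sT φ hP b i).hQ, Iso.refl _, Category.comp_id _⟩⟩

end Rec

end Groth.Agent.H15Site.ResFactor
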