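import Groth.Agent.H15Site.ResFactor
import Groth.Agent.H15Site.FreeOn
import Groth.Agent.H26Tor.Exact
import Groth.Agent.H10Coh.ModGroth
import Mathlib.CategoryTheory.Functor.OfSequence
import Mathlib.CategoryTheory.Limits.Constructions.EventuallyConstant
import Mathlib.CategoryTheory.Limits.Shapes.BinaryBiproducts
import Mathlib.Algebra.Homology.HomologicalComplexLimits

/-!
# Resolution systems of a complex by sums of free modules
-/

set_option autoImplicit false
set_option linter.unusedSectionVars false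
set_option linter.style.haveILetI false
set_option backward.isDefEq.respectTransparency false

universe u v w

open CategoryTheory CategoryTheory.Limits Opposite
open scoped ZeroObject

namespace Groth.Agent.H15Site.ResSystem

section General

variable {A : Type u} [Category.{v} A] [Abelian A] [HasColimitsOfSize.{0, 0} A]
  [HasExactColimitsOfShape ℕ A]
  (P : ObjectProperty A) [P.ContainsZero] [P.IsClosedUnderIsomorphisms]
  (hP : ResFactor.Enough P) (hsum : ∀ X Y, P X → P Y → P (X ⊞ Y)) (G : CochainComplex A ℤ)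

/-- `τ_{≤ n+1} G`. -/
noncomputable abbrev tr (n : ℕ) : CochainComplex A ℤ := G.truncLE ((n : ℤ) + 1)

/-- `τ_{≤ n+1} G ⟶ τ_{≤ n+2} G`. -/
noncomputable def trSucc (n : ℕ) : tr G n ⟶ tr G (n + 1) :=
  haveI : (tr G n).IsStrictlyLE (((n + 1 : ℕ) : ℤ) + 1) :=
    (tr G n).isStrictlyLE_of_le ((n : ℤ) + 1) _ (by omega)
  inv ((tr G n).ιTruncLE (((n + 1 : ℕ) : ℤ) + 1)) ≫
    CochainComplex.truncLEMap (G.ιTruncLE ((n : ℤ) + 1)) (((n + 1 : ℕ) : ℤ) + 1)

theorem trSucc_ι (n : ℕ) :
    trSucc G n ≫ G.ιTruncLE (((n + 1 : ℕ) : ℤ) + 1) = G.ιTruncLE ((n : ℤ) + 1) := by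
  rw [trSucc, Category.assoc, CochainComplex.ιTruncLE_naturality, IsIso.inv_hom_id_assoc]

/-- A stage of the system. -/
structure Stage (n : ℕ) where
  X : CochainComplex A ℤ
  π : X ⟶ tr G n
  le : X.IsStrictlyLE ((n : ℤ) + 1)
  qis : QuasiIso π
  epi : ∀ i, Epi (π.f i)
  mem : ∀ i, P (X.X i)

/-- Two consecutive stages. -/
structure Step (n : ℕ) (s : Stage P G n) (s' : Stage P G (n + 1)) where
  ι : s.X ⟶ s'.X
  w : ι ≫ s'.π = s.π ≫ trSucc G n
  split : ∀ i, ∃ (Q : A) (_ : P Q) (e : s'.X.X i ≅ s.X.X i ⊞ Q), ι.f i ≫ e.hom = biprod.inl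

include hP hsum in
theorem exists_first : Nonempty (Stage P G 0) := by
  haveI : (0 : CochainComplex A ℤ).IsStrictlyLE (((0 : ℕ) : ℤ) + 1) :=
    ⟨fun i _ => Functor.map_isZero (HomologicalComplex.eval _ _ _) (isZero_zero _)⟩
  obtain ⟨X, ι, π, -, hq, he, hle, hs⟩ :=
    ResFactor.exists_factor (0 : (0 : CochainComplex A ℤ) ⟶ tr G 0) hP (((0 : ℕ) : ℤ) + 1)
  refine ⟨⟨X, π, hle, hq, he, fun i => ?_⟩⟩
  obtain ⟨Q, hQ, e, -⟩ := hs i
  exact P.prop_of_iso e.symm (hsum _ _ (P.prop_of_iso ((isZero_zero A).iso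
    (Functor.map_isZero (HomologicalComplex.eval _ _ i) (isZero_zero _))) P.prop_zero) hQ)

include hP hsum in
theorem exists_succ (n : ℕ) (s : Stage P G n) :
    Nonempty (Σ s' : Stage P G (n + 1), Step P G n s s') := by
  haveI := s.le
  haveI : s.X.IsStrictlyLE (((n + 1 : ℕ) : ℤ) + 1) :=
    s.X.isStrictlyLE_of_le ((n : ℤ) + 1) _ (by omega)
  obtain ⟨X, ι, π, hw, hq, he, hle, hs⟩ :=
    ResFactor.exists_factor (s.π ≫ trSucc G n) hP (((n + 1 : ℕ) : ℤ) + 1)
  refine ⟨⟨⟨X, π, hle, hq, he, fun i => ?_⟩, ⟨ι, hw, hs⟩⟩⟩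
  obtain ⟨Q, hQ, e, -⟩ := hs i
  exact P.prop_of_iso e.symm (hsum _ _ (s.mem i) hQ)

/-- The stages. -/
noncomputable def stage : ∀ n : ℕ, Stage P G n
  | 0 => (exists_first P hP hsum G).some
  | n + 1 => (exists_succ P hP hsum G n (stage n)).some.1

/-- The steps. -/
noncomputable def step (n : ℕ) :
    Step P G n (stage P hP hsum G n) (stage P hP hsum G (n + 1)) :=
  (exists_succ P hP hsum G n (stage P hP hsum G n)).some.2

/-- The system. -/
noncomputable def system : ℕ ⥤ CochainComplex A ℤ :=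
  Functor.ofSequence fun n => (step P hP hsum G n).ι

theorem system_map_succ (n : ℕ) :
    (system P hP hsum G).map (homOfLE (Nat.le_succ n)) = (step P hP hsum G n).ι :=
  Functor.ofSequence_map_homOfLE_succ _ n

theorem comp_succ (n : ℕ) : (step P hP hsum G n).ι ≫
      (stage P hP hsum G (n + 1)).π ≫ G.ιTruncLE (((n + 1 : ℕ) : ℤ) + 1) =
    (stage P hP hsum G n).π ≫ G.ιTruncLE ((n : ℤ) + 1) := by
  rw [← Category.assoc, (step P hP hsum G n).w, Category.assoc, trSucc_ι]

/-- The cocone. -/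
noncomputable def toG : system P hP hsum G ⟶ (Functor.const ℕ).obj G :=
  NatTrans.ofSequence (fun n => (stage P hP hsum G n).π ≫ G.ιTruncLE ((n : ℤ) + 1)) fun n => by
    rw [system_map_succ]
    exact (comp_succ P hP hsum G n).trans (Category.comp_id _).symm

theorem isIso_homology (n : ℕ) (i : ℤ) (hi : i ≤ (n : ℤ) + 1) :
    IsIso (HomologicalComplex.homologyMap ((toG P hP hsum G).app n) i) := by
  change IsIso (HomologicalComplex.homologyMap
    ((stage P hP hsum G n).π ≫ G.ιTruncLE ((n : ℤ) + 1)) i)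
  haveI := (stage P hP hsum G n).qis
  haveI := G.quasiIsoAt_ιTruncLE ((n : ℤ) + 1) i hi
  rw [HomologicalComplex.homologyMap_comp]
  infer_instance

theorem quasiIso_desc :
    QuasiIso (colimit.desc (system P hP hsum G) ⟨G, toG P hP hsum G⟩) := by
  rw [quasiIso_iff]
  intro i
  rw [quasiIsoAt_iff_isIso_homologyMap]
  let H := HomologicalComplex.homologyFunctor A (ComplexShape.up ℤ) i
  haveI : PreservesColimitsOfShape ℕ (𝟭 (CochainComplex A ℤ) ⋙ H) :=
    Groth.Agent.H26Tor.preservesColimitsOfShape_homology (𝟭 _) i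
  haveI : PreservesColimit (system P hP hsum G) H :=
    inferInstanceAs (PreservesColimit (system P hP hsum G) (𝟭 (CochainComplex A ℤ) ⋙ H))
  let hc := isColimitOfPreserves H (colimit.isColimit (system P hP hsum G))
  let n := i.toNat
  have hev : (system P hP hsum G ⋙ H).IsEventuallyConstantFrom n := fun m a => by
    haveI := isIso_homology P hP hsum G n i (by omega)
    haveI := isIso_homology P hP hsum G m i (by have := leOfHom a; omega)
    have h : (system P hP hsum G).map a ≫ (toG P hP hsum G).app m = (toG P hP hsum G).app n := by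
      exact ((toG P hP hsum G).naturality a).trans (Category.comp_id _)
    haveI : IsIso ((system P hP hsum G ⋙ H).map a ≫
        HomologicalComplex.homologyMap ((toG P hP hsum G).app m) i) := by
      change IsIso (HomologicalComplex.homologyMap _ i ≫ HomologicalComplex.homologyMap _ i)
      rw [← HomologicalComplex.homologyMap_comp, h]
      infer_instance
    exact IsIso.of_isIso_comp_right _
      (HomologicalComplex.homologyMap ((toG P hP hsum G).app m) i)
  haveI : IsIso ((H.mapCocone (colimit.cocone (system P hP hsum G))).ι.app n) :=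
    hev.isIso_ι_of_isColimit hc
  haveI := isIso_homology P hP hsum G n i (by omega)
  haveI : IsIso (HomologicalComplex.homologyMap (colimit.ι (system P hP hsum G) n) i ≫
      HomologicalComplex.homologyMap
        (colimit.desc (system P hP hsum G) ⟨G, toG P hP hsum G⟩) i) := by
    rw [← HomologicalComplex.homologyMap_comp, colimit.ι_desc]
    infer_instance
  haveI : IsIso (HomologicalComplex.homologyMap (colimit.ι (system P hP hsum G) n) i) := ‹_›
  exact IsIso.of_isIso_comp_left (HomologicalComplex.homologyMap (colimit.ι (system P hP hsum G) n) i) _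

include hP hsum in
/-- The resolution system. -/
theorem exists_system :
    ∃ (Kc : ℕ ⥤ CochainComplex A ℤ) (π : ∀ n : ℕ, Kc.obj n ⟶ G.truncLE ((n : ℤ) + 1)),
      (∀ n : ℕ, Kc.map (homOfLE (Nat.le_succ n)) ≫ π (n + 1) ≫ G.ιTruncLE (((n + 1 : ℕ) : ℤ) + 1) =
        π n ≫ G.ιTruncLE ((n : ℤ) + 1)) ∧
      (∀ n : ℕ, QuasiIso (π n) ∧ ∀ i : ℤ, Epi ((π n).f i)) ∧
      (∀ n : ℕ, ∃ b : ℤ, (Kc.obj n).IsStrictlyLE b) ∧
      (∀ (n : ℕ) (i : ℤ), P ((Kc.obj n).X i)) ∧
      (∀ (n : ℕ) (i : ℤ), ∃ r : (Kc.obj (n + 1)).X i ⟶ (Kc.obj n).X i,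
        (Kc.map (homOfLE (Nat.le_succ n))).f i ≫ r = 𝟙 _ ∧
        P (cokernel ((Kc.map (homOfLE (Nat.le_succ n))).f i))) ∧
      ∃ c : colimit Kc ⟶ G, (∀ n : ℕ, colimit.ι Kc n ≫ c = π n ≫ G.ιTruncLE ((n : ℤ) + 1)) ∧
        QuasiIso c := by
  refine ⟨system P hP hsum G, fun n => (stage P hP hsum G n).π, fun n => ?_,
    fun n => ⟨(stage P hP hsum G n).qis, (stage P hP hsum G n).epi⟩,
    fun n => ⟨_, (stage P hP hsum G n).le⟩, fun n i => (stage P hP hsum G n).mem i, fun n i => ?_,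
    _, fun n => colimit.ι_desc _ _, quasiIso_desc P hP hsum G⟩
  · rw [system_map_succ]
    exact comp_succ P hP hsum G n
  · rw [system_map_succ]
    obtain ⟨Q, hQ, e, he⟩ := (step P hP hsum G n).split i
    refine ⟨e.hom ≫ biprod.fst, (Category.assoc _ _ _).symm.trans ((congrArg (· ≫ biprod.fst) he).trans biprod.inl_fst), P.prop_of_iso ?_ hQ⟩
    exact (IsColimit.coconePointUniqueUpToIso (cokernelIsCokernel (biprod.inl : _ ⟶ _ ⊞ Q))
      (biprod.isCokernelInlCokernelFork _ _)).symm ≪≫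
      (cokernel.mapIso _ _ (Iso.refl _) e (by rw [Iso.refl_hom, Category.id_comp, he])).symm

end General

section Free

variable {C : Type u} [SmallCategory C] {J : GrothendieckTopology C} (O : Sheaf J CommRingCat.{u})

/-- Sums of free modules on objects. -/
def freeSum : ObjectProperty (ModSite.Mod O) := fun X =>
  ∃ (ι : Type u) (U : ι → C), Nonempty (X ≅ ∐ fun j => ModSite.freeOn O (U j))

instance : (freeSum O).IsClosedUnderIsomorphisms where
  of_iso e := fun ⟨ι, U, ⟨a⟩⟩ => ⟨ι, U, ⟨e.symm ≪≫ a⟩⟩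

instance : (freeSum O).ContainsZero where
  exists_zero := by
    have hz : IsZero (∐ fun j : PEmpty.{u + 1} => ModSite.freeOn O (j.elim : C)) := by
      rw [IsZero.iff_id_eq_zero]
      exact Sigma.hom_ext _ _ fun j => j.elim
    exact ⟨_, hz, PEmpty, fun j => j.elim, ⟨Iso.refl _⟩⟩

theorem freeSum_biprod (X Y : ModSite.Mod O) (hX : freeSum O X) (hY : freeSum O Y) :
    freeSum O (X ⊞ Y) := by
  obtain ⟨ι, U, ⟨a⟩⟩ := hX
  obtain ⟨κ, V, ⟨b⟩⟩ := hY
  let F : ι ⊕ κ → ModSite.Mod O := fun j => ModSite.freeOn O (Sum.elim U V j)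
  refine ⟨ι ⊕ κ, Sum.elim U V, ⟨biprod.mapIso a b ≪≫
    ⟨biprod.desc (Sigma.desc fun j => Sigma.ι F (Sum.inl j)) (Sigma.desc fun j => Sigma.ι F (Sum.inr j)),
      Sigma.desc (fun j : ι ⊕ κ => match j with
        | Sum.inl j => Sigma.ι (fun j => ModSite.freeOn O (U j)) j ≫ biprod.inl
        | Sum.inr j => Sigma.ι (fun j => ModSite.freeOn O (V j)) j ≫ biprod.inr), ?_, ?_⟩⟩⟩
  · refine biprod.hom_ext' _ _ (Sigma.hom_ext _ _ fun j => ?_) (Sigma.hom_ext _ _ fun j => ?_) <;>
      simp [F]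
  · refine Sigma.hom_ext _ _ fun j => ?_
    cases j <;> simp [F]

theorem enough_freeSum : ResFactor.Enough (freeSum O) := fun W => by
  let I := Σ U : C, ((SheafOfModules.toSheaf (ModSite.ringSh O)).obj W).obj.obj (op U)
  refine ⟨∐ fun j : I => ModSite.freeOn O j.1, ⟨I, fun j => j.1, ⟨Iso.refl _⟩⟩,
    Sigma.desc fun j => (FreeOn.homEquiv O j.1 W).symm j.2, ?_⟩
  refine Preadditive.epi_of_cancel_zero _ fun {Z} g hg => ?_
  apply SheafOfModules.hom_ext
  ext U x
  have h := congrArg (fun t => Sigma.ι (fun j : I => ModSite.freeOn O j.1) ⟨U.unop, x⟩ ≫ t) hg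
  simp only [comp_zero, colimit.ι_desc_assoc] at h
  have h2 := congrArg (FreeOn.homEquiv O U.unop Z) h
  rw [FreeOn.homEquiv_comp, map_zero] at h2
  exact (congrArg _ ((FreeOn.homEquiv O U.unop W).apply_symm_apply x).symm).trans h2

end Free

end Groth.Agent.H15Site.ResSystem
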