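import Groth.Agent.H15Site.OverShriek
import Groth.Agent.H15Site.HDUNeg
import Mathlib.Topology.Sheaves.Over

/-!
# Hypercohomology over an open and restriction
-/

set_option autoImplicit false
set_option linter.style.haveILetI false
set_option backward.isDefEq.respectTransparency false

universe u

open CategoryTheory CategoryTheory.Limits Opposite TopologicalSpace DerivedCategory

namespace Groth.Agent.H15Site.RestrHDU

attribute [local instance 10000] SiteInst.hasSheafifySite SiteInst.hasWeakSheafifySite

variable {X : TopCat.{u}} (U : Opens X)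

/-- Extension by zero from an open. -/
noncomputable def shriek : CohTop.Ab (TopCat.of U) ⥤ CohTop.Ab X :=
  (U.sheafEquivOver (A := AddCommGrpCat.{u})).inverse ⋙
    (Over.forget U).sheafPullback AddCommGrpCat.{u} ((Opens.grothendieckTopology X).over U) (Opens.grothendieckTopology X)

/-- The adjunction with restriction. -/
noncomputable def adj : shriek U ⊣ CohTop.restrFunctor U :=
  ((U.sheafEquivOver (A := AddCommGrpCat.{u})).symm.toAdjunction.comp
    ((Over.forget U).sheafAdjunctionContinuous AddCommGrpCat.{u} ((Opens.grothendieckTopology X).over U)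
      (Opens.grothendieckTopology X))).ofNatIsoRight U.overPullbackSheafEquivOver

instance : PreservesFiniteLimits (shriek U) := comp_preservesFiniteLimits _ _

instance : PreservesFiniteColimits (shriek U) :=
  haveI : PreservesColimitsOfSize.{0, 0} (shriek U) := (adj U).leftAdjoint_preservesColimits
  PreservesColimitsOfSize.preservesFiniteColimits _

instance : (shriek U).Additive := (adj U).left_adjoint_additive

/-- Extension by zero of the free sheaf on everything is the free sheaf on the open. -/
theorem nonempty_free_iso : Nonempty ((shriek U).obj (CohCx.freeSheaf (Opens.grothendieckTopology (TopCat.of U)) ⊤) ≅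
    CohCx.freeSheaf (Opens.grothendieckTopology X) U) := by
  let img := U.isOpenEmbedding.isOpenMap.functor
  have hU : img.obj ⊤ = U := Opens.ext (by
    ext x
    exact ⟨fun ⟨y, _, hy⟩ => hy ▸ y.2, fun hx => ⟨⟨x, hx⟩, trivial, rfl⟩⟩)
  let S := CohFree.homEquivSect (Opens.grothendieckTopology X) U
  let E : ∀ M, ((shriek U).obj (CohCx.freeSheaf (Opens.grothendieckTopology (TopCat.of U)) ⊤) ⟶ M) ≃
      (CohCx.freeSheaf (Opens.grothendieckTopology X) U ⟶ M) := fun M =>
    ((adj U).homEquiv _ M).trans
      (((CohFree.homEquivSect (Opens.grothendieckTopology (TopCat.of U)) ⊤ ((CohTop.restrFunctor U).obj M)).toEquiv.trans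
        (CategoryTheory.Iso.toEquiv ((forget AddCommGrpCat.{u}).mapIso (M.obj.mapIso (eqToIso (congrArg op hU)))))).trans
      (S M).toEquiv.symm)
  have hE : ∀ {M M' : CohTop.Ab X}
      (φ : (shriek U).obj (CohCx.freeSheaf (Opens.grothendieckTopology (TopCat.of U)) ⊤) ⟶ M) (χ : M ⟶ M'),
      E M' (φ ≫ χ) = E M φ ≫ χ := by
    intro M M' φ χ
    apply (S M').injective
    simp only [E, Equiv.trans_apply]
    erw [AddEquiv.apply_symm_apply]
    rw [(adj U).homEquiv_naturality_right]
    refine Eq.trans ?_ (congrArg (χ.hom.app (op U)) ((S M).apply_symm_apply _).symm)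
    exact (ConcreteCategory.congr_hom (χ.hom.naturality (eqToHom (congrArg op hU))) _).symm
  suffices h : IsIso (E _ (𝟙 _)) from ⟨(@asIso _ _ _ _ _ h).symm⟩
  refine ⟨(E _).symm (𝟙 _), ?_, ?_⟩
  · rw [← hE, Category.id_comp, Equiv.apply_symm_apply]
  · apply (E _).injective
    rw [hE, Equiv.apply_symm_apply, Category.id_comp]

/-- The comparison. -/
theorem main [HasDerivedCategory.{u} (CohTop.Ab X)] [HasDerivedCategory.{u} (CohTop.Ab (TopCat.of U))]
    [PreservesFiniteLimits (CohTop.restrFunctor U)] [PreservesFiniteColimits (CohTop.restrFunctor U)]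
    (K : DerivedCategory (CohTop.Ab X)) (p : ℤ) :
    Nonempty (CohCx.HDU K p U ≃+ CohCx.HDU ((CohTop.restrFunctor U).mapDerivedCategory.obj K) p ⊤) := by
  obtain ⟨e⟩ := nonempty_free_iso U
  let a := H16Derived.ExactAdj.mapDerivedCategoryAdj (adj U)
  let i₁ := ((shriek U).mapDerivedCategorySingleFunctor (0 : ℤ)).app
      (CohCx.freeSheaf (Opens.grothendieckTopology (TopCat.of U)) ⊤) ≪≫ (singleFunctor _ 0).mapIso e
  let i₂ := ((CohTop.restrFunctor U).mapDerivedCategory.commShiftIso p).app K
  refine ⟨?_⟩
  refine AddEquiv.trans (AddEquiv.mk' i₁.homFromEquiv.symm fun x y => ?_)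
    ((a.homAddEquiv _ _).trans (AddEquiv.mk' i₂.homToEquiv fun x y => ?_))
  · exact Preadditive.comp_add _ _ _ _ x y
  · exact Preadditive.add_comp _ _ _ x y _

end Groth.Agent.H15Site.RestrHDU
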