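import Groth.Agent.H15Site.ModOver
import Groth.Agent.H16Derived.KFlat.TotCompare

/-!
Restriction of K-flat complexes of modules to a localised ringed site.
-/

universe u

open CategoryTheory CategoryTheory.Limits MonoidalCategory Opposite

namespace Groth.Agent.H15Site.ModOver

open Groth.Agent.H15Site.ModTensor Groth.Agent.H16Derived

attribute [local instance 10000] SiteInst.hasSheafifySite SiteInst.hasWeakSheafifySite

attribute [local instance] additive_extZero

variable {C : Type u} [SmallCategory C] {J : GrothendieckTopology C} (O : Sheaf J CommRingCat.{u})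
  (U : C)

/-- `j_!(P ⊗ N|U) ≅ j_! P ⊗ N`, components natural in both variables. -/
noncomputable def projApp (P : ModSite.Mod (O.over U)) (N : ModSite.Mod O) :
    (ModSite.extZero O U).obj (((ModSite.tensorBi (O.over U)).obj P).obj
        ((ModSite.restr O U).obj N)) ≅
      ((ModSite.tensorBi O).obj ((ModSite.extZero O U).obj P)).obj N :=
  extProj O U P N

lemma projApp_naturality_left {P P' : ModSite.Mod (O.over U)} (a : P ⟶ P') (N : ModSite.Mod O) :
    (ModSite.extZero O U).map (((ModSite.tensorBi (O.over U)).map a).app
        ((ModSite.restr O U).obj N)) ≫ (projApp O U P' N).hom =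
      (projApp O U P N).hom ≫
        ((ModSite.tensorBi O).map ((ModSite.extZero O U).map a)).app N :=
  (extProjL O U N).hom.naturality a

lemma projApp_naturality_right (P : ModSite.Mod (O.over U)) {N N' : ModSite.Mod O} (b : N ⟶ N') :
    (ModSite.extZero O U).map (((ModSite.tensorBi (O.over U)).obj P).map
        ((ModSite.restr O U).map b)) ≫ (projApp O U P N').hom =
      (projApp O U P N).hom ≫
        ((ModSite.tensorBi O).obj ((ModSite.extZero O U).obj P)).map b :=
  (extProjR O U P).hom.naturality b

/-- A faithful exact functor reflects acyclicity. -/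
theorem acyclic_of_map {A B : Type*} [Category A] [Category B] [Abelian A] [Abelian B] (G : A ⥤ B)
    [G.Additive] [PreservesFiniteLimits G] [PreservesFiniteColimits G] [G.Faithful]
    (L : CochainComplex A ℤ)
    (h : ((G.mapHomologicalComplex (ComplexShape.up ℤ)).obj L).Acyclic) : L.Acyclic := fun i => by
  rw [HomologicalComplex.exactAt_iff]
  exact ((L.sc i).exact_map_iff_of_faithful G).1
    ((HomologicalComplex.exactAt_iff _ i).1 (h i))

theorem isKFlat_restr (K : CochainComplex (ModSite.Mod O) ℤ) (hK : ModSite.IsKFlat K) :
    ModSite.IsKFlat (((ModSite.restr O U).mapHomologicalComplex (ComplexShape.up ℤ)).obj K) := by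
  have := ModKFlat.countableAB4 (O := O)
  have := ModKFlat.countableAB4 (O := O.over U)
  have : (ModSite.extZero O U).Additive := additive_extZero O U
  have := preservesFiniteLimits_extZero O U
  have := preservesFiniteColimits_extZero O U
  have := faithful_extZero O U
  have := preservesColimits_extZero O U
  have : PreservesColimitsOfSize.{0, 0} (ModSite.extZero O U) :=
    preservesColimitsOfSize_shrink.{0, u, 0, u} _
  rw [ModKFlat.isKFlat_iff] at hK ⊢
  intro L hL
  have hL' : (((ModSite.extZero O U).mapHomologicalComplex (ComplexShape.up ℤ)).obj L).Acyclic := by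
    intro i
    rw [HomologicalComplex.exactAt_iff]
    exact ((HomologicalComplex.exactAt_iff _ i).1 (hL i)).map (ModSite.extZero O U)
  have e := KFlat.TotCompare.iso (F₁ := ModSite.tensorBi (O.over U)) (F₂ := ModSite.tensorBi O)
    (G₁ := ModSite.extZero O U) (G₂ := 𝟭 (ModSite.Mod O)) L
    (((ModSite.restr O U).mapHomologicalComplex (ComplexShape.up ℤ)).obj K)
    (((ModSite.extZero O U).mapHomologicalComplex (ComplexShape.up ℤ)).obj L) K
    (fun p q => projApp O U (L.X p) (K.X q))
    (fun p q => projApp_naturality_left O U (L.d p (p + 1)) (K.X q))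
    (fun p q => projApp_naturality_right O U (L.X p) (K.d q (q + 1)))
  refine acyclic_of_map (ModSite.extZero O U) _ (KFlat.acyclic_of_iso e.symm ?_)
  exact KFlat.acyclic_of_iso ((Functor.mapHomologicalComplexIdIso _ _).app _).symm (hK _ hL')

end Groth.Agent.H15Site.ModOver
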