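import Groth.Agent.H15Site.AcyclicBasis
import Groth.Prelude.Def_DCoh2

/-!
# Cohomology sheaves of derived limits of systems which are acyclic on a class of objects
-/

set_option autoImplicit false
set_option linter.style.haveILetI false
set_option backward.isDefEq.respectTransparency false

universe w u

open CategoryTheory CategoryTheory.Limits Opposite DerivedCategory DerivedCategory.TStructure

namespace Groth.Agent.H15Site.RlimAcyclic

open SiteGen RlimTrunc SiteGenInst

attribute [local instance 10000] SiteInst.hasSheafifySite SiteInst.hasWeakSheafifySite SiteInst.enoughInjSite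

variable {C : Type u} [SmallCategory C] {J : GrothendieckTopology C}
  [HasDerivedCategory.{w} (Sheaf J AddCommGrpCat.{u})]
  (B : Set C)
  (hB : ∀ U : C, ∃ (ι : Type u) (Y : ι → C) (f : ∀ i, Y i ⟶ U), Sieve.ofArrows Y f ∈ J U ∧ ∀ i, Y i ∈ B)

include hB in
theorem bijective_map₀ (L : DerivedCategory (Sheaf J AddCommGrpCat.{u}))
    (h : ∀ U ∈ B, ∀ (p : ℕ) (q : ℤ), Subsingleton (CohSite.HU (CohCx.HD L q) (p + 1) U)) (U : C) (hU : U ∈ B) :
    Function.Bijective fun y : (singleFunctor _ 0).obj ((genAb J).G.obj U) ⟶ L =>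
      (homologyFunctor (Sheaf J AddCommGrpCat.{u}) 0).map y := by
  let A := Sheaf J AddCommGrpCat.{u}
  haveI : HasProduct (CohCx.truncTower L) :=
    H16Derived.KInjRes.Countable.hasProduct_of_isGE _ fun n =>
      ⟨-(n : ℤ), inferInstanceAs (t.IsGE ((t.truncGE (-(n : ℤ))).obj L) (-(n : ℤ)))⟩
  have hvan : ∀ V ∈ B, ∀ (k : ℕ) (q : ℤ), 0 < k → Van (genAb J) k V (CohCx.HD L q) := fun V hV k q hk => by
    obtain ⟨p, rfl⟩ : ∃ p, k = p + 1 := ⟨k - 1, by omega⟩
    exact (van_ab_iff _ _ _).2 (h V hV p q)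
  have hR : CohCx.IsRlimVia (CohCx.truncTower L) (CohCx.truncTowerMap L) L (CohCx.toTruncTower L) := by
    refine RlimTruncApps.isRlimVia_truncTower_of_bound (genAb J) L B hB fun V hV => ⟨fun _ => 0, fun T hT => ?_⟩
    obtain ⟨ι, Y, g, h1, h2, h3⟩ := exists_cofinal_mem B hB hT
    exact ⟨ι, Y, g, h1, h2, fun i m k hk => hvan (Y i) (h3 i) k _ (by simpa using hk)⟩
  have hg : GoodTr (genAb J) (CohCx.truncTower L) (CohCx.truncTowerMap L) 0 0 U :=
    goodTr_truncTower (genAb J) L 0 0 U fun i hi k hk => hvan U hU k _ (by omega)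
  let M := CohCx.truncTower L 0
  haveI : M.IsGE 0 :=
    haveI : t.IsGE M (-((0 : ℕ) : ℤ)) :=
      inferInstanceAs (t.IsGE ((t.truncGE (-((0 : ℕ) : ℤ))).obj L) (-((0 : ℕ) : ℤ)))
    t.isGE_of_ge M 0 (-((0 : ℕ) : ℤ)) (by omega)
  let τ : L ⟶ M := CohCx.toTruncTower L 0
  let z := shiftFunctorZero (DerivedCategory A) ℤ
  have hpost : Function.Bijective fun y : (singleFunctor _ 0).obj ((genAb J).G.obj U) ⟶ L => y ≫ τ := by
    refine ⟨fun y y' hy => ?_, fun x => ?_⟩
    · rw [← cancel_mono (z.inv.app L), ← sub_eq_zero]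
      refine detInj_of_goodTr (genAb J) (CohCx.toTruncTower L) hR hg _ ?_
      have hn : z.inv.app L ≫ τ⟦(0 : ℤ)⟧' = τ ≫ z.inv.app M := (z.inv.naturality τ).symm
      simp only at hy
      rw [Preadditive.sub_comp, Category.assoc, Category.assoc, sub_eq_zero]
      erw [hn]
      exact (reassoc_of% hy) _
    · obtain ⟨y, hy⟩ := detSurj_of_goodTr (genAb J) (CohCx.toTruncTower L) hR hg (x ≫ z.inv.app M)
      refine ⟨y ≫ z.hom.app L, ?_⟩
      have hn : τ⟦(0 : ℤ)⟧' ≫ z.hom.app M = z.hom.app L ≫ τ := z.hom.naturality τ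
      change (y ≫ z.hom.app L) ≫ τ = x
      refine (Category.assoc _ _ _).trans ((congrArg (y ≫ ·) hn.symm).trans ?_)
      refine (Category.assoc _ _ _).symm.trans ((congrArg (· ≫ z.hom.app M) hy).trans ?_)
      simp
  haveI : IsIso ((homologyFunctor A 0).map τ) :=
    H16Derived.DTrunc.isIso_homology_truncGEπ L (-((0 : ℕ) : ℤ)) 0 (by omega)
  refine (Function.Bijective.of_comp_iff' ((asIso ((homologyFunctor A 0).map τ)).homToEquiv
    (Z := (homologyFunctor A 0).obj ((singleFunctor _ 0).obj ((genAb J).G.obj U)))).bijective _).1 ?_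
  convert (HDUNeg.bijective_cls_of_isGE ((genAb J).G.obj U) M).comp hpost using 1
  funext y
  exact ((homologyFunctor A 0).map_comp y τ).symm

include hB in
theorem bijective_cls (K : DerivedCategory (Sheaf J AddCommGrpCat.{u}))
    (h : ∀ U ∈ B, ∀ (p : ℕ) (q : ℤ), Subsingleton (CohSite.HU (CohCx.HD K q) (p + 1) U))
    (U : C) (hU : U ∈ B) (q : ℤ) :
    Function.Bijective fun y : (singleFunctor _ 0).obj ((genAb J).G.obj U) ⟶ K⟦q⟧ => cls y := by
  have hL : ∀ V ∈ B, ∀ (p : ℕ) (i : ℤ), Subsingleton (CohSite.HU (CohCx.HD (K⟦q⟧) i) (p + 1) V) := fun V hV p i =>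
    (van_ab_iff _ _ _).1 (van_of_iso (genAb J)
      (((homologyFunctor (Sheaf J AddCommGrpCat.{u}) 0).shiftIso q i (q + i) rfl).app K)
      ((van_ab_iff _ _ _).2 (h V hV p (q + i))))
  have e : (fun y : (singleFunctor _ 0).obj ((genAb J).G.obj U) ⟶ K⟦q⟧ => cls y) =
      (Iso.homCongr (ιX ((genAb J).G.obj U)).symm (σ K q)) ∘
        (fun y => (homologyFunctor _ 0).map y) := by
    funext y
    simp only [cls, Function.comp_apply, Iso.homCongr_apply, Iso.symm_inv]
  rw [e]
  exact (Iso.homCongr _ _).bijective.comp (bijective_map₀ B hB (K⟦q⟧) hL U hU)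

variable {K : ℕ → DerivedCategory (Sheaf J AddCommGrpCat.{u})} {τ : ∀ n, K (n + 1) ⟶ K n} [HasProduct K]
  {L : DerivedCategory (Sheaf J AddCommGrpCat.{u})} (a : ∀ n, L ⟶ K n)

include hB in
/-- `H^q` of the derived limit is the limit. -/
theorem main (hL : CohCx.IsRlimVia K τ L a)
    (h1 : ∀ U ∈ B, ∀ (p : ℕ) (q : ℤ) (n : ℕ), Subsingleton (CohSite.HU (CohCx.HD (K n) q) (p + 1) U))
    (h2 : ∀ U ∈ B, ∀ (q : ℤ), CohCx.LimOneIsZero (fun n => (CohCx.HD (K n) q).obj.obj (op U))
      (fun n => (((homologyFunctor _ q).map (τ n)).hom.app (op U)).hom))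
    (q : ℤ) :
    Nonempty (CohCx.HD L q ≅ limit (CohCx.opSequence (fun n => CohCx.HD (K n) q)
      (fun n => (homologyFunctor _ q).map (τ n)))) := by
  let H := homologyFunctor (Sheaf J AddCommGrpCat.{u}) q
  let D := CohCx.opSequence (fun n => CohCx.HD (K n) q) (fun n => H.map (τ n))
  have hD : ∀ n, D.map (homOfLE (Nat.le_add_right n 1)).op = H.map (τ n) := fun n =>
    Functor.ofOpSequence_map_homOfLE_succ _ n
  have hcomm := comm_of_isRlimVia a hL
  let π : (Functor.const ℕᵒᵖ).obj (H.obj L) ⟶ D :=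
    NatTrans.ofOpSequence (fun n => H.map (a n)) fun n => by
      rw [hD, ← H.map_comp, hcomm]
      exact Category.id_comp _
  let c : H.obj L ⟶ limit D := limit.lift D ⟨_, π⟩
  have hc : ∀ n, c ≫ limit.π D (op n) = H.map (a n) := fun n => limit.lift_π _ _
  have inj : ∀ (V : C) (_ : V ∈ B) (r : ℤ) (n : ℕ)
      (y y' : (singleFunctor _ 0).obj ((genAb J).G.obj V) ⟶ (K n)⟦r⟧), cls y = cls y' → y = y' :=
    fun V hV r n y y' hy => (bijective_cls B hB (K n) (fun U hU p i => h1 U hU p i n) V hV r).1 hy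
  have surj : ∀ (V : C) (_ : V ∈ B) (r : ℤ) (n : ℕ)
      (s : (genAb J).G.obj V ⟶ (homologyFunctor _ r).obj (K n)),
      ∃ y : (singleFunctor _ 0).obj ((genAb J).G.obj V) ⟶ (K n)⟦r⟧, cls y = s :=
    fun V hV r n s => (bijective_cls B hB (K n) (fun U hU p i => h1 U hU p i n) V hV r).2 s
  haveI : Mono c := Preadditive.mono_of_cancel_zero _ fun {Q} g hg => (genAb J).gen g fun U h => by
    obtain ⟨S, hS, hlift⟩ := exists_local_lift (genAb J) (h ≫ g)
    obtain ⟨ι, Yf, f, hf, hcov, hY⟩ := exists_cofinal_mem B hB hS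
    refine (genAb J).sep hcov _ ?_
    rintro W _ ⟨_, p, _, ⟨i⟩, rfl⟩
    obtain ⟨y, hy⟩ := hlift (f i) (hf i)
    have hy0 : ∀ n, y ≫ (a n)⟦q⟧' = 0 := fun n => inj (Yf i) (hY i) q n _ _ (by
      rw [cls_comp, hy, cls_zero]
      rw [Category.assoc, Category.assoc, ← hc, ← Category.assoc g, hg, zero_comp, comp_zero, comp_zero])
    have hy1 : y = 0 := RlimTriang.eq_zero hL q (fun z => by
      obtain ⟨w, hw⟩ := h2 (Yf i) (hY i) (q - 1) fun n => CohFree.homEquivSect J (Yf i) _ (cls (z n))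
      choose x hx using fun n => surj (Yf i) (hY i) (q - 1) n ((CohFree.homEquivSect J (Yf i) _).symm (w n))
      refine ⟨x, fun n => inj (Yf i) (hY i) (q - 1) n _ _ ?_⟩
      apply (CohFree.homEquivSect J (Yf i) _).injective
      have hsub : cls (x n - x (n + 1) ≫ (τ n)⟦q - 1⟧') =
          cls (x n) - cls (x (n + 1) ≫ (τ n)⟦q - 1⟧') := by
        simp only [cls, Functor.map_sub, Preadditive.sub_comp, Preadditive.comp_sub]
      rw [hsub, cls_comp, hx, hx, map_sub, AddEquiv.apply_symm_apply]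
      refine Eq.trans ?_ (congrFun hw n)
      refine congrArg (w n - ·) ?_
      exact congrArg (((homologyFunctor _ (q - 1)).map (τ n)).hom.app (op (Yf i))).hom
        ((CohFree.homEquivSect J (Yf i) _).apply_symm_apply (w (n + 1)))) y hy0
    rw [hy1, cls_zero] at hy
    rw [Functor.map_comp, Category.assoc]
    exact (congrArg (_ ≫ ·) hy.symm).trans comp_zero
  haveI : Epi c := Preadditive.epi_of_cancel_zero _ fun {Q} φ hφ => (genAb J).gen φ fun U s => by
    obtain ⟨ι, Yf, f, hcov, hY⟩ := hB U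
    refine (genAb J).sep hcov _ ?_
    rintro W _ ⟨_, p, _, ⟨i⟩, rfl⟩
    choose x hx using fun n => surj (Yf i) (hY i) q n ((genAb J).G.map (f i) ≫ s ≫ limit.π D (op n))
    obtain ⟨y, hy⟩ := RlimTriang.exists_lift hL q x fun n => inj (Yf i) (hY i) q n _ _ (by
      rw [cls_comp, hx, hx, Category.assoc, Category.assoc, ← hD, limit.w])
    have e : cls y ≫ c = (genAb J).G.map (f i) ≫ s := limit.hom_ext fun n => by
      induction n with
      | op n => rw [Category.assoc, hc, ← cls_comp, hy, hx, Category.assoc]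
    rw [Functor.map_comp, Category.assoc, ← Category.assoc ((genAb J).G.map (f i)), ← e, Category.assoc, hφ,
      comp_zero, comp_zero]
  exact ⟨@asIso _ _ _ _ c (isIso_of_mono_of_epi c)⟩

end Groth.Agent.H15Site.RlimAcyclic
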