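import Groth.Agent.H15Site.RlimTruncApps

/-!
# Sections of the cohomology of a derived limit
-/

set_option autoImplicit false
set_option linter.style.haveILetI false
set_option linter.unusedSectionVars false

universe w u

open CategoryTheory CategoryTheory.Limits Opposite DerivedCategory

namespace Groth.Agent.H15Site.RlimSect

open SiteGen SiteGenInst

attribute [local instance 10000] SiteInst.hasSheafifySite SiteInst.hasWeakSheafifySite
  SiteInst.hasExtSite SiteInst.enoughInjSite

variable {C : Type u} [SmallCategory C] {J : GrothendieckTopology C}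
  [HasDerivedCategory.{w} (Sheaf J AddCommGrpCat.{u})]
  {K : ℕ → DerivedCategory (Sheaf J AddCommGrpCat.{u})} {t : ∀ n, K (n + 1) ⟶ K n} [HasProduct K]
  {L : DerivedCategory (Sheaf J AddCommGrpCat.{u})} {a : ∀ n, L ⟶ K n}

theorem comp_transition (hL : CohCx.IsRlimVia K t L a) (N : ℕ) :
    ∀ k, a (N + k) ≫ CohCx.transition K t N k = a N := by
  intro k
  induction k with
  | zero => exact Category.comp_id _
  | succ k ih =>
    change a (N + k + 1) ≫ t (N + k) ≫ CohCx.transition K t N k = a N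
    rw [← Category.assoc, comm_of_isRlimVia a hL, ih]

theorem detInj_of_limOne (hL : CohCx.IsRlimVia K t L a) (m : ℤ) (N : ℕ) (Y : C)
    (h1 : CohCx.LimOneIsZero (fun n => CohCx.HDU (K n) (m - 1) Y)
      (fun n => Preadditive.rightComp _ ((shiftFunctor _ (m - 1)).map (t n))))
    (h2 : ∀ k : ℕ, Function.Injective
      (Preadditive.rightComp _ ((shiftFunctor _ m).map (CohCx.transition K t N k)) :
        CohCx.HDU (K (N + k)) m Y → CohCx.HDU (K N) m Y)) :
    DetInj (genAb J) a m N Y := fun y hy => by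
  refine RlimTriang.eq_zero hL m (fun z => ?_) y fun n => ?_
  · obtain ⟨w, hw⟩ := h1 z
    exact ⟨w, fun n => congrFun hw n⟩
  · rcases le_or_gt N n with hn | hn
    · obtain ⟨k, rfl⟩ := Nat.exists_eq_add_of_le hn
      refine h2 k (Eq.trans ?_ (map_zero (Preadditive.rightComp _
        ((shiftFunctor _ m).map (CohCx.transition K t N k)))).symm)
      change (y ≫ (a (N + k))⟦m⟧') ≫ (CohCx.transition K t N k)⟦m⟧' = 0
      rw [Category.assoc, ← Functor.map_comp, comp_transition hL, hy]
    · obtain ⟨k, rfl⟩ := Nat.exists_eq_add_of_le hn.le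
      rw [← comp_transition hL n k, Functor.map_comp, ← Category.assoc]
      exact (congrArg (· ≫ _) hy).trans zero_comp

/-- A section of `H^m(L)` killed at stage `N` is, locally, given by classes killed at stage `N`. -/
theorem exists_class_killed {V : C} (m : ℤ) (N : ℕ)
    (s : (genAb J).G.obj V ⟶ (homologyFunctor _ m).obj L)
    (hs : s ≫ (homologyFunctor _ m).map (a N) = 0) :
    ∃ S ∈ J V, ∀ ⦃Y : C⦄ (g : Y ⟶ V), S g →
      ∃ y : (singleFunctor _ 0).obj ((genAb J).G.obj Y) ⟶ L⟦m⟧,
        cls y = (genAb J).G.map g ≫ s ∧ y ≫ (a N)⟦m⟧' = 0 := by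
  obtain ⟨S, hS, hlift⟩ := exists_local_lift (genAb J) s
  choose y hy using hlift
  have key : ∀ ⦃Y : C⦄ (g : Y ⟶ V) (hg : S g), ∃ R ∈ J Y, ∀ ⦃Z : C⦄ (p : Z ⟶ Y), R p →
      (singleFunctor _ 0).map ((genAb J).G.map p) ≫ y g hg ≫ (a N)⟦m⟧' = 0 := fun Y g hg =>
    exists_local_zero (genAb J) _ (by rw [cls_comp, hy g hg, Category.assoc, hs, comp_zero])
  choose R hR hR' using key
  refine ⟨Sieve.bind S.arrows R, J.bind_covering hS hR, ?_⟩
  rintro Z _ ⟨W, q, f, hf, hq, rfl⟩
  refine ⟨(singleFunctor _ 0).map ((genAb J).G.map q) ≫ y f hf, ?_, ?_⟩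
  · rw [cls_precomp, hy f hf, Functor.map_comp, Category.assoc]
  · rw [Category.assoc, hR' f hf q hq]

theorem section_eq_zero_of_comp (m : ℤ) (N : ℕ) {V : C}
    (s : ((homologyFunctor _ m).obj L).obj.obj (op V))
    (hs : (((homologyFunctor _ m).map (a N)).hom.app (op V)).hom s = 0) :
    ∃ S ∈ J V, ∀ ⦃Y : C⦄ (g : Y ⟶ V), S g → DetInj (genAb J) a m N Y →
      (((homologyFunctor _ m).obj L).obj.map g.op).hom s = 0 := by
  let φ : (genAb J).G.obj V ⟶ (homologyFunctor _ m).obj L :=
    (CohFree.homEquivSect J V _).symm s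
  have hφ : φ ≫ (homologyFunctor _ m).map (a N) = 0 := by
    refine (CohFree.homEquivSect J V _).injective (Eq.trans ?_ (map_zero _).symm)
    refine Eq.trans ?_ hs
    exact congrArg (((homologyFunctor _ m).map (a N)).hom.app (op V)).hom
      ((CohFree.homEquivSect J V _).apply_symm_apply s)
  obtain ⟨S, hS, h⟩ := exists_class_killed m N φ hφ
  refine ⟨S, hS, fun Y g hg hdet => ?_⟩
  obtain ⟨y, hy, hy0⟩ := h g hg
  have h0 : (genAb J).G.map g ≫ φ = 0 := by rw [← hy, hdet y hy0, cls_zero]
  have h1 := congrArg (CohFree.homEquivSect J Y _) h0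
  refine Eq.trans ?_ (h1.trans (map_zero (CohFree.homEquivSect J Y _)))
  refine Eq.trans ?_ (CohFree.evalGen_freeSheafMap_comp J g _ φ).symm
  exact congrArg _ ((CohFree.homEquivSect J V _).apply_symm_apply s).symm

end Groth.Agent.H15Site.RlimSect
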