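import Groth.Agent.H15Site.RlimAcyclic

/-!
# Derived limits of systems of acyclic sheaves
-/

set_option autoImplicit false
set_option linter.style.haveILetI false
set_option backward.isDefEq.respectTransparency false

universe w u

open CategoryTheory CategoryTheory.Limits Opposite DerivedCategory DerivedCategory.TStructure

namespace Groth.Agent.H15Site.RlimSingle

open SiteGen RlimTrunc SiteGenInst

attribute [local instance 10000] SiteInst.hasSheafifySite SiteInst.hasWeakSheafifySite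

variable {C : Type u} [SmallCategory C] {J : GrothendieckTopology C}
  [HasDerivedCategory.{w} (Sheaf J AddCommGrpCat.{u})]

theorem isZero_HD_single (M : Sheaf J AddCommGrpCat.{u}) (q : ℤ) (hq : q ≠ 0) :
    IsZero ((homologyFunctor (Sheaf J AddCommGrpCat.{u}) q).obj ((singleFunctor _ 0).obj M)) := by
  rcases lt_or_gt_of_ne hq with h | h
  · exact isZero_of_isGE _ 0 q h
  · exact isZero_of_isLE _ 0 q h

theorem subsingleton_sections {M : Sheaf J AddCommGrpCat.{u}} (h : IsZero M) (U : C) :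
    Subsingleton (M.obj.obj (op U)) :=
  AddCommGrpCat.subsingleton_of_isZero ((sheafToPresheaf J AddCommGrpCat.{u} ⋙ (evaluation _ _).obj (op U)).map_isZero h)

variable (F : ℕ → Sheaf J AddCommGrpCat.{u}) (t : ∀ n, F (n + 1) ⟶ F n)
    [HasProduct fun n => (singleFunctor (Sheaf J AddCommGrpCat.{u}) 0).obj (F n)]
    (B : Set C)
    (hB : ∀ U : C, ∃ (ι : Type u) (Y : ι → C) (f : ∀ i, Y i ⟶ U), Sieve.ofArrows Y f ∈ J U ∧ ∀ i, Y i ∈ B)

include hB in
/-- The theorem. -/
theorem main (h1 : ∀ U ∈ B, ∀ (p n : ℕ), Subsingleton (CohSite.HU (F n) (p + 1) U))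
    (h2 : ∀ U ∈ B, CohCx.LimOneIsZero (fun n => (F n).obj.obj (op U)) (fun n => ((t n).hom.app (op U)).hom)) :
    DCoh.IsRlim (fun n => (singleFunctor _ 0).obj (F n))
      (fun n => (singleFunctor _ 0).map (t n))
      ((singleFunctor _ 0).obj (limit (CohCx.opSequence F t))) ∧
    ∀ U ∈ B, ∀ p : ℕ, Subsingleton (CohSite.HU (limit (CohCx.opSequence F t)) (p + 1) U) := by
  let A := Sheaf J AddCommGrpCat.{u}
  let K := fun n => (singleFunctor A 0).obj (F n)
  let τ := fun n => (singleFunctor A 0).map (t n)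
  obtain ⟨L, a, hL⟩ := RlimTriang.exists_isRlimVia K τ
  let ι₀ := singleFunctorCompHomologyFunctorIso A 0
  have hK : ∀ U ∈ B, ∀ (p : ℕ) (q : ℤ) (n : ℕ), Subsingleton (CohSite.HU (CohCx.HD (K n) q) (p + 1) U) :=
    fun U hU p q n => (van_ab_iff _ _ _).1 <| by
      rcases eq_or_ne q 0 with rfl | hq
      · exact van_of_iso (genAb J) (ι₀.app (F n)) ((van_ab_iff _ _ _).2 (h1 U hU p n))
      · exact van_of_isZero (genAb J) (isZero_HD_single (F n) q hq)
  have hlim : ∀ U ∈ B, ∀ (q : ℤ), CohCx.LimOneIsZero (fun n => (CohCx.HD (K n) q).obj.obj (op U))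
      (fun n => (((homologyFunctor _ q).map (τ n)).hom.app (op U)).hom) := fun U hU q z => by
    rcases eq_or_ne q 0 with rfl | hq
    · let e := fun n => ((sheafToPresheaf J AddCommGrpCat.{u} ⋙ (evaluation _ _).obj (op U)).mapIso
        (ι₀.app (F n))).addCommGroupIsoToAddEquiv
      obtain ⟨w, hw⟩ := h2 U hU fun n => e n (z n)
      refine ⟨fun n => (e n).symm (w n), funext fun n => (e n).injective ?_⟩
      change e n ((e n).symm (w n) - _) = _
      rw [map_sub, AddEquiv.apply_symm_apply]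
      refine Eq.trans ?_ (congrFun hw n)
      refine congrArg (w n - ·) ?_
      have hn := ConcreteCategory.congr_hom (congrArg (fun φ => φ.hom.app (op U))
        (ι₀.hom.naturality (t n))) ((e (n + 1)).symm (w (n + 1)))
      exact hn.trans (congrArg ((t n).hom.app (op U)).hom ((e (n + 1)).apply_symm_apply _))
    · exact ⟨0, funext fun n => (subsingleton_sections (isZero_HD_single (F n) q hq) U).elim _ _⟩
  have hH := RlimAcyclic.main B hB a hL hK hlim
  have hz : ∀ q : ℤ, q ≠ 0 → IsZero (CohCx.HD L q) := fun q hq => by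
    obtain ⟨e⟩ := hH q
    refine IsZero.of_iso ?_ e
    refine (IsZero.iff_id_eq_zero _).2 (limit.hom_ext fun n => ?_)
    exact (isZero_HD_single (F n.unop) q hq).eq_of_tgt _ _
  haveI : L.IsGE 0 := (isGE_iff L 0).2 fun i hi => hz i (by omega)
  haveI : L.IsLE 0 := (isLE_iff L 0).2 fun i hi => hz i (by omega)
  obtain ⟨M, ⟨eM⟩⟩ := exists_iso_singleFunctor_obj_of_isGE_of_isLE L 0
  obtain ⟨e⟩ := hH 0
  let D₁ := CohCx.opSequence (fun n => CohCx.HD (K n) 0) (fun n => (homologyFunctor A 0).map (τ n))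
  let eD : D₁ ≅ CohCx.opSequence F t :=
    NatIso.ofComponents (fun n => ι₀.app (F n.unop)) (fun {n m} f =>
      (NatTrans.ofOpSequence (F := D₁) (G := CohCx.opSequence F t) (fun n => ι₀.hom.app (F n)) fun n => by
        simp only [D₁, CohCx.opSequence, Functor.ofOpSequence_map_homOfLE_succ]
        exact ι₀.hom.naturality (t n)).naturality f)
  let eL : L ≅ (singleFunctor A 0).obj (limit (CohCx.opSequence F t)) :=
    eM ≪≫ (singleFunctor A 0).mapIso
      ((ι₀.app M).symm ≪≫ (homologyFunctor A 0).mapIso eM.symm ≪≫ e ≪≫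
        (HasLimit.isoOfNatIso eD : limit D₁ ≅ limit (CohCx.opSequence F t)))
  have hL' := RlimTriang.isRlimVia_of_iso hL eL.symm (fun n => eL.inv ≫ a n) (fun n => rfl)
  refine ⟨?_, fun U hU p => (van_ab_iff _ _ _).1 ?_⟩
  · obtain ⟨c, hc⟩ := hL'
    exact ⟨_, c, hc⟩
  · refine ⟨fun y y' => sub_eq_zero.1 (RlimTriang.eq_zero hL' ((p + 1 : ℕ) : ℤ) (fun z => ?_) (y - y') fun n => ?_)⟩
    · rcases Nat.eq_zero_or_pos p with rfl | hp
      · obtain ⟨w, hw⟩ := hlim U hU (((0 + 1 : ℕ) : ℤ) - 1) fun n => CohFree.homEquivSect J U _ (cls (z n))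
        have hb := fun n => RlimAcyclic.bijective_cls B hB (K n) (fun V hV p i => hK V hV p i n) U hU (((0 + 1 : ℕ) : ℤ) - 1)
        choose x hx using fun n => (hb n).2 ((CohFree.homEquivSect J U _).symm (w n))
        simp only at hx
        refine ⟨x, fun n => (hb n).1 ?_⟩
        apply (CohFree.homEquivSect J U _).injective
        change CohFree.homEquivSect J U _ (cls (x n - x (n + 1) ≫ (τ n)⟦((0 + 1 : ℕ) : ℤ) - 1⟧')) =
          CohFree.homEquivSect J U _ (cls (z n))
        have hsub : cls (x n - x (n + 1) ≫ (τ n)⟦((0 + 1 : ℕ) : ℤ) - 1⟧') =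
            cls (x n) - cls (x (n + 1) ≫ (τ n)⟦((0 + 1 : ℕ) : ℤ) - 1⟧') := by
          simp only [cls, Functor.map_sub, Preadditive.sub_comp, Preadditive.comp_sub]
          rfl
        rw [hsub, cls_comp, hx, hx, map_sub, AddEquiv.apply_symm_apply]
        refine Eq.trans ?_ (congrFun hw n)
        refine congrArg (w n - ·) ?_
        exact congrArg (((homologyFunctor A (((0 + 1 : ℕ) : ℤ) - 1)).map (τ n)).hom.app (op U)).hom
          ((CohFree.homEquivSect J U _).apply_symm_apply (w (n + 1)))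
      · refine ⟨fun _ => 0, fun n => ?_⟩
        obtain ⟨p, rfl⟩ : ∃ p', p = p' + 1 := ⟨p - 1, by omega⟩
        haveI := (van_ab_iff (p + 1) U (F n)).2 (h1 U hU p n)
        have hs : ∀ z : (singleFunctor A 0).obj ((genAb J).G.obj U) ⟶ (K n)⟦((p + 1 + 1 : ℕ) : ℤ) - 1⟧, z = 0 := by
          rw [show ((p + 1 + 1 : ℕ) : ℤ) - 1 = ((p + 1 : ℕ) : ℤ) by omega]
          exact fun z => Subsingleton.elim (α := (singleFunctor A 0).obj ((genAb J).G.obj U) ⟶ (K n)⟦((p + 1 : ℕ) : ℤ)⟧) (h := this) z 0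
        exact (hs _).trans (hs _).symm
    · exact Subsingleton.elim (α := (singleFunctor A 0).obj ((genAb J).G.obj U) ⟶ (K n)⟦((p + 1 : ℕ) : ℤ)⟧)
        (h := (van_ab_iff (p + 1) U (F n)).2 (h1 U hU p n)) _ _

end Groth.Agent.H15Site.RlimSingle
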