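import Groth.Prelude.Def_CohCx
import Mathlib.CategoryTheory.Triangulated.Pretriangulated
import Mathlib.CategoryTheory.Preadditive.LeftExact

/-!
# Morphisms into derived limits and into cones, in a pretriangulated category
-/

set_option autoImplicit false
set_option linter.style.haveILetI false
set_option linter.unusedSectionVars false

universe v u

open CategoryTheory CategoryTheory.Limits CategoryTheory.Pretriangulated

namespace Groth.Agent.H15Site.RlimTriang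

variable {T : Type u} [Category.{v} T] [Preadditive T] [HasZeroObject T] [HasShift T ℤ]
  [∀ n : ℤ, (shiftFunctor T n).Additive] [Pretriangulated T]

section Shift

/-- Moving a shift from the target to the source. -/
noncomputable def shEquiv (P X : T) (m : ℤ) : (P⟦-m⟧ ⟶ X) ≃ (P ⟶ X⟦m⟧) :=
  (shiftEquiv' T (-m) m (neg_add_cancel m)).toAdjunction.homEquiv P X

theorem shEquiv_comp {P X Y : T} {m : ℤ} (x : P⟦-m⟧ ⟶ X) (f : X ⟶ Y) :
    shEquiv P Y m (x ≫ f) = shEquiv P X m x ≫ f⟦m⟧' :=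
  (shiftEquiv' T (-m) m (neg_add_cancel m)).toAdjunction.homEquiv_naturality_right x f

theorem shEquiv_symm_comp {P X Y : T} {m : ℤ} (x : P ⟶ X⟦m⟧) (f : X ⟶ Y) :
    (shEquiv P Y m).symm (x ≫ f⟦m⟧') = (shEquiv P X m).symm x ≫ f :=
  (shiftEquiv' T (-m) m (neg_add_cancel m)).toAdjunction.homEquiv_naturality_right_symm x f

theorem shEquiv_zero (P X : T) (m : ℤ) : shEquiv P X m 0 = 0 := by
  simpa using shEquiv_comp (0 : P⟦-m⟧ ⟶ X) (0 : X ⟶ X)

theorem shEquiv_sub {P X : T} {m : ℤ} (x y : P⟦-m⟧ ⟶ X) :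
    shEquiv P X m (x - y) = shEquiv P X m x - shEquiv P X m y := by
  have e : ∀ w : P⟦-m⟧ ⟶ X, shEquiv P X m w =
      (shiftEquiv' T (-m) m (neg_add_cancel m)).toAdjunction.unit.app P ≫
        (shiftFunctor T m).map w := fun w =>
    (shiftEquiv' T (-m) m (neg_add_cancel m)).toAdjunction.homEquiv_unit P X w
  rw [e, e, e]
  exact (congrArg (_ ≫ ·) ((shiftFunctor T m).map_sub (f := x) (g := y))).trans
    (Preadditive.comp_sub _ _ _)

end Shift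

section Cone

variable {X Y : T} (f : X ⟶ Y) {Z : T} (g : Y ⟶ Z) (d : Z ⟶ X⟦(1 : ℤ)⟧)

theorem surjective_of_cone (h : Triangle.mk f g d ∈ distTriang T) (P : T)
    (hZ : ∀ z : P ⟶ Z, z = 0) (x : P ⟶ Y) : ∃ x', x' ≫ f = x := by
  obtain ⟨x', hx'⟩ := Triangle.coyoneda_exact₂ _ h x (hZ _)
  exact ⟨x', hx'.symm⟩

theorem injective_of_cone (h : Triangle.mk f g d ∈ distTriang T) (P : T)
    (hZ : ∀ z : P⟦(1 : ℤ)⟧ ⟶ Z, z = 0) (x : P ⟶ X) (hx : x ≫ f = 0) : x = 0 := by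
  obtain ⟨z, hz⟩ := Triangle.coyoneda_exact₁ _ h (x⟦(1 : ℤ)⟧') (by
    change x⟦(1 : ℤ)⟧' ≫ f⟦(1 : ℤ)⟧' = 0
    rw [← Functor.map_comp, hx, Functor.map_zero])
  rw [show z = 0 from hZ z] at hz
  replace hz := hz.trans zero_comp
  exact (shiftFunctor T (1 : ℤ)).map_injective (hz.trans (Functor.map_zero _ _ _).symm)

/-- Vanishing of the maps into the cone gives surjectivity in degree `m`. -/
theorem surjective_shift_of_cone (h : Triangle.mk f g d ∈ distTriang T) (P : T) (m : ℤ)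
    (hZ : ∀ z : P ⟶ Z⟦m⟧, z = 0) (x : P ⟶ Y⟦m⟧) : ∃ x', x' ≫ f⟦m⟧' = x := by
  obtain ⟨x', hx'⟩ := surjective_of_cone f g d h (P⟦-m⟧) (fun z => (shEquiv P Z m).injective
    ((hZ _).trans (hZ _).symm)) ((shEquiv P Y m).symm x)
  refine ⟨shEquiv P X m x', ?_⟩
  rw [← shEquiv_comp, hx', Equiv.apply_symm_apply]

/-- Vanishing of the maps into the cone gives injectivity one degree higher. -/
theorem injective_shift_of_cone (h : Triangle.mk f g d ∈ distTriang T) (P : T) (m : ℤ)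
    (hZ : ∀ z : P ⟶ Z⟦m - 1⟧, z = 0) (x : P ⟶ X⟦m⟧) (hx : x ≫ f⟦m⟧' = 0) : x = 0 := by
  have h0 : (shEquiv P X m).symm x = 0 := by
    refine injective_of_cone f g d h _ (fun z => ?_) _ ?_
    · let e : P⟦-(m - 1)⟧ ≅ (P⟦-m⟧)⟦(1 : ℤ)⟧ :=
        (shiftFunctorAdd' T (-m) (1 : ℤ) (-(m - 1)) (by omega)).app P
      have : e.hom ≫ z = 0 := (shEquiv P Z (m - 1)).injective ((hZ _).trans (hZ _).symm)
      rwa [← cancel_epi e.hom, comp_zero]
    · rw [← shEquiv_symm_comp, hx]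
      apply (shEquiv P Y m).injective
      rw [Equiv.apply_symm_apply, shEquiv_zero]
  rw [← (shEquiv P X m).apply_symm_apply x, h0, shEquiv_zero]

end Cone

section Tower

variable {K : ℕ → T} {t : ∀ n, K (n + 1) ⟶ K n} [HasProduct K]

/-- The map `1 - t` on the product of a tower. -/
noncomputable abbrev diff (K : ℕ → T) (t : ∀ n, K (n + 1) ⟶ K n) [HasProduct K] : ∏ᶜ K ⟶ ∏ᶜ K :=
  Pi.lift fun n => Pi.π K n - Pi.π K (n + 1) ≫ t n

theorem comp_lift_diff {P : T} (x : ∀ n, P ⟶ K n) (n : ℕ) :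
    (Pi.lift x ≫ diff K t) ≫ Pi.π K n = x n - x (n + 1) ≫ t n := by
  rw [Category.assoc, Pi.lift_π, Preadditive.comp_sub, Pi.lift_π, Pi.lift_π_assoc]

theorem exists_lift₀ {L : T} {a : ∀ n, L ⟶ K n} (hL : CohCx.IsRlimVia K t L a) {P : T}
    (x : ∀ n, P ⟶ K n) (hx : ∀ n, x (n + 1) ≫ t n = x n) : ∃ y : P ⟶ L, ∀ n, y ≫ a n = x n := by
  obtain ⟨c, hT⟩ := hL
  obtain ⟨y, hy⟩ : ∃ y : P ⟶ L, Pi.lift x = y ≫ Pi.lift a :=
    Triangle.coyoneda_exact₂ _ hT (Pi.lift x) (by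
    refine Pi.hom_ext _ _ fun n => ?_
    change (Pi.lift x ≫ diff K t) ≫ Pi.π K n = 0 ≫ Pi.π K n
    rw [comp_lift_diff, hx, sub_self, zero_comp])
  refine ⟨y, fun n => ?_⟩
  have h2 : Pi.lift x ≫ Pi.π K n = (y ≫ Pi.lift a) ≫ Pi.π K n := congrArg (· ≫ Pi.π K n) hy
  rw [Category.assoc, Pi.lift_π, Pi.lift_π] at h2
  exact h2.symm

theorem eq_zero₀ {L : T} {a : ∀ n, L ⟶ K n} (hL : CohCx.IsRlimVia K t L a) {P : T}
    (h1 : ∀ z : ∀ n, P⟦(1 : ℤ)⟧ ⟶ K n, ∃ w : ∀ n, P⟦(1 : ℤ)⟧ ⟶ K n,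
      ∀ n, w n - w (n + 1) ≫ t n = z n)
    (y : P ⟶ L) (hy : ∀ n, y ≫ a n = 0) : y = 0 := by
  obtain ⟨c, hT⟩ := hL
  obtain ⟨z, hz⟩ : ∃ z : P⟦(1 : ℤ)⟧ ⟶ ∏ᶜ K, y⟦(1 : ℤ)⟧' = z ≫ c :=
    Triangle.coyoneda_exact₁ _ hT (y⟦(1 : ℤ)⟧') (by
    change y⟦(1 : ℤ)⟧' ≫ (Pi.lift a)⟦(1 : ℤ)⟧' = 0
    have : y ≫ Pi.lift a = 0 := Pi.hom_ext _ _ fun n => by
      rw [Category.assoc, Pi.lift_π, hy, zero_comp]
    rw [← Functor.map_comp, this, Functor.map_zero])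
  obtain ⟨w, hw⟩ := h1 fun n => z ≫ Pi.π K n
  have hzw : z = Pi.lift w ≫ diff K t := Pi.hom_ext _ _ fun n => by
    rw [comp_lift_diff]
    exact (hw n).symm
  have h0 : diff K t ≫ c = 0 := comp_distTriang_mor_zero₂₃ _ hT
  apply (shiftFunctor T (1 : ℤ)).map_injective
  refine hz.trans (Eq.trans ?_ (Functor.map_zero _ _ _).symm)
  rw [hzw, Category.assoc, h0, comp_zero]

/-- Compatible classes lift to the derived limit. -/
theorem exists_lift {L : T} {a : ∀ n, L ⟶ K n} (hL : CohCx.IsRlimVia K t L a) {P : T} (m : ℤ)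
    (x : ∀ n, P ⟶ (K n)⟦m⟧) (hx : ∀ n, x (n + 1) ≫ (t n)⟦m⟧' = x n) :
    ∃ y : P ⟶ L⟦m⟧, ∀ n, y ≫ (a n)⟦m⟧' = x n := by
  obtain ⟨y, hy⟩ := exists_lift₀ hL (fun n => (shEquiv P (K n) m).symm (x n)) fun n => by
    rw [← shEquiv_symm_comp, hx]
  refine ⟨shEquiv P L m y, fun n => ?_⟩
  rw [← shEquiv_comp, hy, Equiv.apply_symm_apply]

/-- If `R¹lim` of the classes one degree lower vanishes, a class with zero images is zero. -/
theorem eq_zero {L : T} {a : ∀ n, L ⟶ K n} (hL : CohCx.IsRlimVia K t L a) {P : T} (m : ℤ)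
    (h1 : ∀ z : ∀ n, P ⟶ (K n)⟦m - 1⟧, ∃ w : ∀ n, P ⟶ (K n)⟦m - 1⟧,
      ∀ n, w n - w (n + 1) ≫ (t n)⟦m - 1⟧' = z n)
    (y : P ⟶ L⟦m⟧) (hy : ∀ n, y ≫ (a n)⟦m⟧' = 0) : y = 0 := by
  let e : P⟦-(m - 1)⟧ ≅ (P⟦-m⟧)⟦(1 : ℤ)⟧ :=
    (shiftFunctorAdd' T (-m) (1 : ℤ) (-(m - 1)) (by omega)).app P
  have h0 : (shEquiv P L m).symm y = 0 := by
    refine eq_zero₀ hL (fun z => ?_) _ fun n => ?_
    · obtain ⟨w, hw⟩ := h1 fun n => shEquiv P (K n) (m - 1) (e.hom ≫ z n)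
      refine ⟨fun n => e.inv ≫ (shEquiv P (K n) (m - 1)).symm (w n), fun n => ?_⟩
      rw [← cancel_epi e.hom]
      simp only [Preadditive.comp_sub, Category.assoc, Iso.hom_inv_id_assoc]
      rw [← shEquiv_symm_comp]
      apply (shEquiv P (K n) (m - 1)).injective
      rw [shEquiv_sub, Equiv.apply_symm_apply, Equiv.apply_symm_apply]
      exact hw n
    · rw [← shEquiv_symm_comp, hy]
      apply (shEquiv P (K n) m).injective
      rw [Equiv.apply_symm_apply, shEquiv_zero]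
  rw [← (shEquiv P L m).apply_symm_apply y, h0, shEquiv_zero]

/-- A derived limit of any tower exists. -/
theorem exists_isRlimVia (K : ℕ → T) (t : ∀ n, K (n + 1) ⟶ K n) [HasProduct K] :
    ∃ (L : T) (a : ∀ n, L ⟶ K n), CohCx.IsRlimVia K t L a := by
  obtain ⟨L, f, h, hT⟩ := Pretriangulated.distinguished_cocone_triangle₁ (diff K t)
  refine ⟨L, fun n => f ≫ Pi.π K n, h, ?_⟩
  have : Pi.lift (fun n => f ≫ Pi.π K n) = f := Pi.hom_ext _ _ fun n => Pi.lift_π _ _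
  rw [this]
  exact hT

/-- Being a derived limit is invariant under isomorphism of the limit. -/
theorem isRlimVia_of_iso {L L' : T} {a : ∀ n, L ⟶ K n} (hL : CohCx.IsRlimVia K t L a)
    (e : L' ≅ L) (a' : ∀ n, L' ⟶ K n) (h : ∀ n, e.hom ≫ a n = a' n) :
    CohCx.IsRlimVia K t L' a' := by
  obtain ⟨c, hT⟩ := hL
  refine ⟨c ≫ e.inv⟦(1 : ℤ)⟧', isomorphic_distinguished _ hT _ ?_⟩
  refine Triangle.isoMk _ _ e (Iso.refl _) (Iso.refl _) ?_ ?_ ?_
  · change Pi.lift a' ≫ 𝟙 (∏ᶜ K) = e.hom ≫ Pi.lift a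
    refine Pi.hom_ext _ _ fun n => ?_
    rw [Category.comp_id, Category.assoc, Pi.lift_π, Pi.lift_π, h]
  · change diff K t ≫ 𝟙 (∏ᶜ K) = 𝟙 (∏ᶜ K) ≫ diff K t
    rw [Category.comp_id, Category.id_comp]
  · change (c ≫ e.inv⟦(1 : ℤ)⟧') ≫ e.hom⟦(1 : ℤ)⟧' = 𝟙 (∏ᶜ K) ≫ c
    rw [Category.assoc, ← Functor.map_comp, Iso.inv_hom_id, CategoryTheory.Functor.map_id, Category.comp_id,
      Category.id_comp]

/-- Eventually surjective towers have vanishing `R¹lim`. -/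
theorem exists_sub_eq {M : ℕ → Type*} [∀ n, AddCommGroup (M n)] (s : ∀ n, M (n + 1) →+ M n)
    (N : ℕ) (hs : ∀ n, N ≤ n → Function.Surjective (s n)) (z : ∀ n, M n) :
    ∃ w : ∀ n, M n, ∀ n, w n - s n (w (n + 1)) = z n := by
  induction N generalizing M with
  | zero =>
    choose r hr using fun n => hs n (Nat.zero_le _)
    let w : ∀ n, M n := fun n => Nat.rec 0 (fun k wk => r k (wk - z k)) n
    refine ⟨w, fun n => ?_⟩
    change w n - s n (r n (w n - z n)) = z n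
    rw [hr, sub_sub_cancel]
  | succ N ih =>
    obtain ⟨w, hw⟩ := ih (M := fun n => M (n + 1)) (fun n => s (n + 1))
      (fun n hn => hs (n + 1) (by omega)) (fun n => z (n + 1))
    let w' : ∀ n, M n := fun n => match n with
      | 0 => z 0 + s 0 (w 0)
      | k + 1 => w k
    refine ⟨w', fun n => ?_⟩
    match n with
    | 0 => exact add_sub_cancel_right _ _
    | k + 1 => exact hw k

end Tower

end Groth.Agent.H15Site.RlimTriang
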