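import Groth.Agent.H15Site.SiteGen

/-!
# Truncation towers and eventually constant towers
-/

set_option autoImplicit false
set_option linter.style.haveILetI false
set_option linter.unusedSectionVars false

universe w u

open CategoryTheory CategoryTheory.Limits CategoryTheory.Pretriangulated CategoryTheory.Triangulated
open DerivedCategory DerivedCategory.TStructure

namespace Groth.Agent.H15Site.RlimTrunc

open SiteGen

variable {C : Type u} [SmallCategory C] {J : GrothendieckTopology C}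
  {A : Type (u + 1)} [Category.{u} A] [Abelian A] [HasDerivedCategory.{w} A] (𝔾 : Gen J A)

/-- `Extᵏ(G Y, H) = 0`. -/
def Van (k : ℕ) (Y : C) (H : A) : Prop :=
  Subsingleton ((singleFunctor A 0).obj (𝔾.G.obj Y) ⟶ ((singleFunctor A 0).obj H)⟦(k : ℤ)⟧)

theorem van_of_iso {k : ℕ} {Y : C} {H H' : A} (e : H ≅ H') (h : Van 𝔾 k Y H') : Van 𝔾 k Y H := by
  haveI : Subsingleton ((singleFunctor A 0).obj (𝔾.G.obj Y) ⟶
      ((singleFunctor A 0).obj H')⟦(k : ℤ)⟧) := h
  exact ⟨fun x y => (cancel_mono (((singleFunctor A 0).map e.hom)⟦(k : ℤ)⟧')).1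
    (Subsingleton.elim (α := (singleFunctor A 0).obj (𝔾.G.obj Y) ⟶
      ((singleFunctor A 0).obj H')⟦(k : ℤ)⟧) _ _)⟩

theorem van_of_isZero {k : ℕ} {Y : C} {H : A} (h : IsZero H) : Van 𝔾 k Y H :=
  ⟨fun x y => ((shiftFunctor (DerivedCategory A) (k : ℤ)).map_isZero
    ((singleFunctor A 0).map_isZero h)).eq_of_tgt x y⟩

variable {K K' Z : DerivedCategory A} (f : K' ⟶ K) (g : K ⟶ Z) (d : Z ⟶ K'⟦(1 : ℤ)⟧)
  (hT : Triangle.mk f g d ∈ distTriang _)

include hT in
theorem isGE_cone (a : ℤ) [K.IsGE (a - 1)] [K'.IsGE a] : Z.IsGE (a - 1) := by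
  haveI : DerivedCategory.IsGE (K'⟦(1 : ℤ)⟧) (a - 1) := t.isGE_shift K' a 1 (a - 1) (by omega)
  rw [isGE_iff]
  intro i hi
  have h1 := isZero_of_isGE K (a - 1) i hi
  have h2 := isZero_of_isGE K' a (i + 1) (by omega)
  exact (HomologySequence.exact₃ _ hT i (i + 1) rfl).isZero_of_both_zeros
    (h1.eq_of_src _ _) (h2.eq_of_tgt _ _)

include hT in
/-- The vanishing which makes a transition map good, read on the cohomology of its cone. -/
theorem good_of_cone (a : ℤ) [Z.IsGE a] (Y : C) (m : ℤ)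
    (h : ∀ i : ℤ, (i = m - 1 ∨ i = m) → ∀ (k : ℕ) (q : ℤ), q + k = i →
      Van 𝔾 k Y ((homologyFunctor A q).obj Z)) :
    (∀ x : (singleFunctor A 0).obj (𝔾.G.obj Y) ⟶ K⟦m - 1⟧, ∃ x', x' ≫ f⟦m - 1⟧' = x) ∧
    (∀ x : (singleFunctor A 0).obj (𝔾.G.obj Y) ⟶ K⟦m⟧, ∃ x', x' ≫ f⟦m⟧' = x) ∧
    (∀ x : (singleFunctor A 0).obj (𝔾.G.obj Y) ⟶ K'⟦m⟧, x ≫ f⟦m⟧' = 0 → x = 0) := by
  have h0 : ∀ i : ℤ, (i = m - 1 ∨ i = m) →
      ∀ z : (singleFunctor A 0).obj (𝔾.G.obj Y) ⟶ Z⟦i⟧, z = 0 := fun i hi z =>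
    DVanish.eq_zero_of_homology (𝔾.G.obj Y) Z a i (h i hi) z
  exact ⟨RlimTriang.surjective_shift_of_cone f g d hT _ (m - 1) (h0 _ (Or.inl rfl)),
    RlimTriang.surjective_shift_of_cone f g d hT _ m (h0 _ (Or.inr rfl)),
    RlimTriang.injective_shift_of_cone f g d hT _ m (h0 _ (Or.inl rfl))⟩

include hT in
/-- Cohomology of the cone vanishes where the map is an isomorphism. -/
theorem isZero_cone (q : ℤ) [IsIso ((homologyFunctor A q).map f)]
    [IsIso ((homologyFunctor A (q + 1)).map f)] : IsZero ((homologyFunctor A q).obj Z) := by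
  haveI e1 : Epi ((homologyFunctor A q).map (Triangle.mk f g d).mor₁) :=
    inferInstanceAs (Epi ((homologyFunctor A q).map f))
  haveI e2 : Mono ((homologyFunctor A (q + 1)).map (Triangle.mk f g d).mor₁) :=
    inferInstanceAs (Mono ((homologyFunctor A (q + 1)).map f))
  exact (HomologySequence.exact₃ _ hT q (q + 1) rfl).isZero_of_both_zeros
    ((HomologySequence.epi_homologyMap_mor₁_iff _ hT q).1 e1)
    ((HomologySequence.mono_homologyMap_mor₁_iff _ hT q (q + 1)).1 e2)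

include hT in
/-- Where the target has no cohomology, the cone has that of the source, shifted. -/
theorem nonempty_cone_iso (q : ℤ) (h1 : IsZero ((homologyFunctor A q).obj K))
    (h2 : IsZero ((homologyFunctor A (q + 1)).obj K)) :
    Nonempty ((homologyFunctor A q).obj Z ≅ (homologyFunctor A (q + 1)).obj K') := by
  let δ := HomologySequence.δ (Triangle.mk f g d) q (q + 1) rfl
  haveI : Mono δ := (HomologySequence.exact₃ _ hT q (q + 1) rfl).mono_g (h1.eq_of_src _ _)
  haveI : Epi δ := (HomologySequence.exact₁ _ hT q (q + 1) rfl).epi_f (h2.eq_of_tgt _ _)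
  exact ⟨@asIso _ _ _ _ δ (isIso_of_mono_of_epi δ)⟩

/-- The vanishing required of the truncation tower. -/
def VanTail (E : DerivedCategory A) (m : ℤ) (N : ℕ) (Y : C) : Prop :=
  ∀ i : ℤ, (i = m ∨ i = m + 1) → ∀ k : ℕ, i + N < k →
    Van 𝔾 k Y ((homologyFunctor A (i - k)).obj E)

theorem isIso_truncTowerMap (E : DerivedCategory A) (n : ℕ) (j : ℤ) (h : -(n : ℤ) ≤ j) :
    IsIso ((homologyFunctor A j).map (CohCx.truncTowerMap E n)) := by
  haveI : IsIso ((homologyFunctor A j).map (CohCx.toTruncTower E (n + 1))) :=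
    H16Derived.DTrunc.isIso_homology_truncGEπ E (-((n + 1 : ℕ) : ℤ)) j (by omega)
  have h1 : IsIso ((homologyFunctor A j).map (CohCx.toTruncTower E n)) :=
    H16Derived.DTrunc.isIso_homology_truncGEπ E (-(n : ℤ)) j h
  have e : CohCx.toTruncTower E (n + 1) ≫ CohCx.truncTowerMap E n = CohCx.toTruncTower E n :=
    t.π_natTransTruncGEOfLE_app _ _ _ E
  haveI : IsIso ((homologyFunctor A j).map (CohCx.toTruncTower E (n + 1)) ≫
      (homologyFunctor A j).map (CohCx.truncTowerMap E n)) := by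
    rw [← Functor.map_comp, e]
    exact h1
  exact IsIso.of_isIso_comp_left ((homologyFunctor A j).map (CohCx.toTruncTower E (n + 1))) _

theorem goodTr_truncTower (E : DerivedCategory A) (m : ℤ) (N : ℕ) (Y : C)
    (h : VanTail 𝔾 E m N Y) :
    GoodTr 𝔾 (CohCx.truncTower E) (CohCx.truncTowerMap E) m N Y := fun n hn => by
  obtain ⟨Z, g, d, hT⟩ := Pretriangulated.distinguished_cocone_triangle (CohCx.truncTowerMap E n)
  haveI : DerivedCategory.IsGE (CohCx.truncTower E (n + 1)) (-((n + 1 : ℕ) : ℤ)) :=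
    inferInstanceAs (t.IsGE ((t.truncGE (-((n + 1 : ℕ) : ℤ))).obj E) (-((n + 1 : ℕ) : ℤ)))
  haveI hK : DerivedCategory.IsGE (CohCx.truncTower E n) (-(n : ℤ)) :=
    inferInstanceAs (t.IsGE ((t.truncGE (-(n : ℤ))).obj E) (-(n : ℤ)))
  haveI : DerivedCategory.IsGE (CohCx.truncTower E n) (-((n + 1 : ℕ) : ℤ) - 1) :=
    t.isGE_of_ge _ _ (-(n : ℤ)) (by omega)
  haveI := isGE_cone _ g d hT (-((n + 1 : ℕ) : ℤ))
  refine good_of_cone 𝔾 _ g d hT (-((n + 1 : ℕ) : ℤ) - 1) Y m fun i hi k q hq => ?_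
  rcases lt_trichotomy q (-(n : ℤ) - 2) with h' | h' | h'
  · exact van_of_isZero 𝔾 (isZero_of_isGE Z (-((n + 1 : ℕ) : ℤ) - 1) q (by omega))
  · obtain ⟨e⟩ := nonempty_cone_iso _ g d hT q
      (isZero_of_isGE (CohCx.truncTower E n) (-(n : ℤ)) q (by omega))
      (isZero_of_isGE (CohCx.truncTower E n) (-(n : ℤ)) (q + 1) (by omega))
    haveI : IsIso ((homologyFunctor A (q + 1)).map (CohCx.toTruncTower E (n + 1))) :=
      H16Derived.DTrunc.isIso_homology_truncGEπ E (-((n + 1 : ℕ) : ℤ)) (q + 1) (by omega)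
    refine van_of_iso 𝔾 (e ≪≫
      (asIso ((homologyFunctor A (q + 1)).map (CohCx.toTruncTower E (n + 1)))).symm) ?_
    rw [show q + 1 = i + 1 - k by omega]
    exact h (i + 1) (by omega) k (by omega)
  · rcases eq_or_ne q (-(n : ℤ) - 1) with rfl | h''
    · haveI := isIso_truncTowerMap E n (-(n : ℤ) - 1 + 1) (by omega)
      have hz : IsZero ((homologyFunctor A (-(n : ℤ) - 1)).obj (CohCx.truncTower E n)) :=
        isZero_of_isGE _ (-(n : ℤ)) _ (by omega)
      refine van_of_isZero 𝔾 ((HomologySequence.exact₃ _ hT (-(n : ℤ) - 1) (-(n : ℤ) - 1 + 1)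
        rfl).isZero_of_both_zeros (hz.eq_of_src _ _) ?_)
      exact (HomologySequence.mono_homologyMap_mor₁_iff _ hT (-(n : ℤ) - 1) (-(n : ℤ) - 1 + 1)).1
        (inferInstanceAs (Mono ((homologyFunctor A _).map (CohCx.truncTowerMap E n))))
    · haveI := isIso_truncTowerMap E n q (by omega)
      haveI := isIso_truncTowerMap E n (q + 1) (by omega)
      exact van_of_isZero 𝔾 (isZero_cone _ g d hT q)

/-- A complex is the derived limit of its truncations when, locally, cohomology of the deep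
cohomology objects vanishes in high degrees. -/
theorem isRlimVia_truncTower (E : DerivedCategory A) [HasProduct (CohCx.truncTower E)]
    (hE : ∀ (m : ℤ) (U : C), CofAt J U (VanTail 𝔾 E m)) :
    CohCx.IsRlimVia (CohCx.truncTower E) (CohCx.truncTowerMap E) E (CohCx.toTruncTower E) := by
  obtain ⟨L, a, hL⟩ := RlimTriang.exists_isRlimVia (CohCx.truncTower E) (CohCx.truncTowerMap E)
  obtain ⟨f, hf⟩ := RlimTriang.exists_lift₀ hL (fun n => CohCx.toTruncTower E n)
    (fun n => t.π_natTransTruncGEOfLE_app _ _ _ E)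
  suffices IsIso f from RlimTriang.isRlimVia_of_iso hL (asIso f) _ hf
  rw [DerivedCategory.isIso_iff]
  intro m
  let n₀ := (-m).toNat
  haveI : IsIso ((homologyFunctor A m).map (a n₀)) := by
    refine isIso_homology 𝔾 a hL n₀ (fun n hn => isIso_truncTowerMap E n m (by omega)) fun U => ?_
    refine (hE m U).mono (fun N => max N n₀) fun N Y h => ⟨le_max_right _ _, ?_⟩
    exact goodTr_truncTower 𝔾 E m _ Y fun i hi k hk => h i hi k (by omega)
  haveI : IsIso ((homologyFunctor A m).map f ≫ (homologyFunctor A m).map (a n₀)) := by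
    rw [← Functor.map_comp, hf]
    exact H16Derived.DTrunc.isIso_homology_truncGEπ E (-(n₀ : ℤ)) m (by omega)
  exact IsIso.of_isIso_comp_right _ ((homologyFunctor A m).map (a n₀))

/-- Derived limit of an eventually constant tower in `D⁺` with cohomology in a weak Serre class. -/
theorem isIso_homology_of_eventually_constant (P : ObjectProperty A)
    {K : ℕ → DerivedCategory A} {τ : ∀ n, K (n + 1) ⟶ K n} [HasProduct K]
    {L : DerivedCategory A} (a : ∀ n, L ⟶ K n) (hL : CohCx.IsRlimVia K τ L a)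
    (hGE : ∀ n, ∃ b : ℤ, (K n).IsGE b)
    (hP : ∀ n (Z : DerivedCategory A) (g : K n ⟶ Z) (d : Z ⟶ (K (n + 1))⟦(1 : ℤ)⟧),
      Triangle.mk (τ n) g d ∈ distTriang _ → ∀ q, P ((homologyFunctor A q).obj Z))
    (hconst : ∀ j : ℤ, ∃ n₀ : ℕ, ∀ n, n₀ ≤ n → IsIso ((homologyFunctor A j).map (τ n)))
    (hcof : ∀ U, CofAt J U (fun d Y => ∀ F, P F → ∀ k : ℕ, d < k → Van 𝔾 k Y F)) (j : ℤ) :
    ∃ n₀ : ℕ, ∀ n, n₀ ≤ n → IsIso ((homologyFunctor A j).map (a n)) := by
  classical
  choose c hc using hconst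
  refine ⟨c j, fun n₁ hn₁ => ?_⟩
  refine isIso_homology 𝔾 a hL n₁ (fun n hn => hc j n (hn₁.trans hn)) fun U => ?_
  let bound : ℕ → ℕ := fun d => n₁ + ∑ r ∈ Finset.range (d + 3), c (j - d - 1 + r)
  refine (hcof U).mono bound fun d Y h => ⟨Nat.le_add_right _ _, fun n hn => ?_⟩
  have hiso : ∀ q : ℤ, j - d - 1 ≤ q → q ≤ j + 1 → IsIso ((homologyFunctor A q).map (τ n)) :=
    fun q h1 h2 => by
      obtain ⟨r, hr⟩ : ∃ r : ℕ, q = j - d - 1 + r := ⟨(q - (j - d - 1)).toNat, by omega⟩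
      refine hc q n (le_trans ?_ hn)
      refine le_trans ?_ (Nat.le_add_left _ n₁)
      rw [hr]
      exact Finset.single_le_sum (f := fun r : ℕ => c (j - d - 1 + r)) (fun _ _ => Nat.zero_le _)
        (Finset.mem_range.2 (by omega))
  obtain ⟨Z, g, δ, hT⟩ := Pretriangulated.distinguished_cocone_triangle (τ n)
  obtain ⟨b, hb⟩ := hGE n
  obtain ⟨b', hb'⟩ := hGE (n + 1)
  haveI : (K (n + 1)).IsGE (min b b') := t.isGE_of_ge _ _ b' (min_le_right _ _)
  haveI : (K n).IsGE (min b b' - 1) := t.isGE_of_ge _ _ b (by omega)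
  haveI := isGE_cone _ g δ hT (min b b')
  refine good_of_cone 𝔾 _ g δ hT (min b b' - 1) Y j fun i hi k q hq => ?_
  by_cases hk : d < k
  · exact h _ (hP n Z g δ hT q) k hk
  · haveI := hiso q (by omega) (by omega)
    haveI := hiso (q + 1) (by omega) (by omega)
    exact van_of_isZero 𝔾 (isZero_cone _ g δ hT q)

end Groth.Agent.H15Site.RlimTrunc
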