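import Groth.Agent.H15Site.SiteGenInst
import Groth.Prelude.Def_CohTop
import Mathlib.CategoryTheory.Sites.Spaces

/-!
# The truncation criterion, in the forms used by the statements
-/

set_option autoImplicit false
set_option linter.style.haveILetI false

universe w u

open CategoryTheory CategoryTheory.Limits Opposite TopologicalSpace

namespace Groth.Agent.H15Site.RlimTruncApps

open SiteGen RlimTrunc SiteGenInst

variable {C : Type u} [SmallCategory C] {J : GrothendieckTopology C}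
  {A : Type (u + 1)} [Category.{u} A] [Abelian A] [HasDerivedCategory.{w} A] (𝔾 : Gen J A)

theorem vanTail_of_bound (E : DerivedCategory A) (p : ℤ → ℤ) (Y : C)
    (h : ∀ (m : ℤ) (k : ℕ), p m < k →
      Van 𝔾 k Y ((DerivedCategory.homologyFunctor A (m - k)).obj E)) (m : ℤ) :
    VanTail 𝔾 E m (max (p m - m) (p (m + 1) - (m + 1))).toNat Y := fun i hi k hk =>
  h i k (by rcases hi with rfl | rfl <;> omega)

/-- Version with a class of objects and cofinal systems of coverings. -/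
theorem isRlimVia_truncTower_of_bound (E : DerivedCategory A) [HasProduct (CohCx.truncTower E)]
    (B : Set C)
    (hB : ∀ U : C, ∃ (ι : Type u) (Y : ι → C) (f : ∀ i, Y i ⟶ U), Sieve.ofArrows Y f ∈ J U ∧ ∀ i, Y i ∈ B)
    (h : ∀ V ∈ B, ∃ p : ℤ → ℤ, ∀ T ∈ J V, ∃ (ι : Type u) (Y : ι → C) (f : ∀ i, Y i ⟶ V),
      (∀ i, T.arrows (f i)) ∧ Sieve.ofArrows Y f ∈ J V ∧ ∀ (i : ι) (m : ℤ) (k : ℕ), p m < k →
        Van 𝔾 k (Y i) ((DerivedCategory.homologyFunctor A (m - k)).obj E)) :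
    CohCx.IsRlimVia (CohCx.truncTower E) (CohCx.truncTowerMap E) E (CohCx.toTruncTower E) := by
  refine isRlimVia_truncTower 𝔾 E fun m U => cofAt_of_cofinal B _ hB (fun V hV => ?_) U
  obtain ⟨p, hp⟩ := h V hV
  refine ⟨(max (p m - m) (p (m + 1) - (m + 1))).toNat, fun T hT => ?_⟩
  obtain ⟨ι, Y, f, h1, h2, h3⟩ := hp T hT
  exact ⟨ι, Y, f, h1, h2, fun l => vanTail_of_bound 𝔾 E p (Y l) (h3 l) m⟩

/-- Cofinality on a space, pointwise. -/
theorem cofAt_opens {X : TopCat.{u}} (P : ℕ → Opens X → Prop)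
    (h : ∀ x : X, ∃ N : ℕ, ∀ V : Opens X, x ∈ V → ∃ U : Opens X, x ∈ U ∧ U ≤ V ∧ P N U)
    (U : Opens X) : CofAt (Opens.grothendieckTopology X) U P := by
  intro T hT
  choose N hN using h
  let S : Sieve U :=
    { arrows := fun Y g => ∃ (Z : Opens X) (p : Y ⟶ Z) (g' : Z ⟶ U) (N : ℕ),
        p ≫ g' = g ∧ T N g' ∧ P N Z
      downward_closed := by
        rintro Y Y' g ⟨Z, p, g', N, rfl, hT', hP⟩ q
        exact ⟨Z, q ≫ p, g', N, Category.assoc _ _ _, hT', hP⟩ }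
  refine ⟨S, fun x hx => ?_, fun Y g hg => hg⟩
  obtain ⟨V, f, hf, hxV⟩ := hT (N x) x hx
  obtain ⟨W, hxW, hWV, hP⟩ := hN x V hxV
  exact ⟨W, homOfLE hWV ≫ f, ⟨W, 𝟙 W, homOfLE hWV ≫ f, N x, Category.id_comp _,
    (T (N x)).downward_closed hf _, hP⟩, hxW⟩

/-- Version for spaces. -/
theorem isRlimVia_truncTower_opens {X : TopCat.{u}} [HasDerivedCategory.{w} (CohTop.Ab X)]
    (E : DerivedCategory (CohTop.Ab X)) [HasProduct (CohCx.truncTower E)]
    (h : ∀ x : X, ∃ p : ℤ → ℤ, ∀ V : Opens X, x ∈ V → ∃ U : Opens X, x ∈ U ∧ U ≤ V ∧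
      ∀ (m : ℤ) (k : ℕ), p m < k → Subsingleton (CohTop.HU (CohCx.HD E (m - k)) k U)) :
    CohCx.IsRlimVia (CohCx.truncTower E) (CohCx.truncTowerMap E) E (CohCx.toTruncTower E) := by
  refine isRlimVia_truncTower (genAb (Opens.grothendieckTopology X)) E fun m U =>
    cofAt_opens _ (fun x => ?_) U
  obtain ⟨p, hp⟩ := h x
  refine ⟨(max (p m - m) (p (m + 1) - (m + 1))).toNat, fun V hV => ?_⟩
  obtain ⟨W, h1, h2, h3⟩ := hp V hV
  exact ⟨W, h1, h2, vanTail_of_bound _ E p W (fun m k hk => (van_ab_iff _ _ _).2 (h3 m k hk)) m⟩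

end Groth.Agent.H15Site.RlimTruncApps
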