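import Groth.Agent.H15Site.SheafEpi
import Groth.Agent.S5217
import Mathlib.CategoryTheory.Sites.CartesianMonoidal
import Mathlib.CategoryTheory.Monoidal.Cartesian.Grp
import Mathlib.CategoryTheory.Monoidal.Grp

/-!
# Quotients by subgroups in sheaves of sets
-/

set_option autoImplicit false
set_option linter.unusedSectionVars false
set_option linter.style.haveILetI false
set_option backward.isDefEq.respectTransparency false

universe w v₁ u₁

noncomputable section

open CategoryTheory CategoryTheory.Limits MonoidalCategory CartesianMonoidalCategory MonObj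

namespace Groth.Agent.H15Site.SheafQuot

variable {C : Type u₁} [Category.{v₁} C] {J : GrothendieckTopology C} [HasSheafify J (Type w)]

lemma effEpi {X Y : Sheaf J (Type w)} (f : X ⟶ Y) [Epi f] : EffectiveEpi f := by
  haveI := IsRegularEpiCategory.regularEpiOfEpi f
  infer_instance

lemma epi_of_isPullback {P F G H : Sheaf J (Type w)} {f' : P ⟶ H} {g' : P ⟶ F} {g : H ⟶ G} {f : F ⟶ G}
    (h : IsPullback f' g' g f) [Epi f] : Epi f' := by
  haveI := (Sheaf.isLocallySurjective_iff_epi f).2 inferInstance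
  haveI := Groth.Agent.H15Site.isLocallySurjective_of_isPullback h
  exact (Sheaf.isLocallySurjective_iff_epi f').1 inferInstance

lemma exists_desc {X Y Z : Sheaf J (Type w)} (p : X ⟶ Y) [Epi p] (e : X ⟶ Z)
    (h : ∀ ⦃T : Sheaf J (Type w)⦄ (a b : T ⟶ X), a ≫ p = b ≫ p → a ≫ e = b ≫ e) :
    ∃ d : Y ⟶ Z, p ≫ d = e := by
  haveI := effEpi p
  exact ⟨EffectiveEpi.desc p e fun a b hab => h a b hab, EffectiveEpi.fac p e _⟩

/-- A map lifts along a monomorphism once it does so locally. -/
lemma exists_lift_mono {X Y A B : Sheaf J (Type w)} (p : X ⟶ Y) [Epi p] (m : A ⟶ B) [Mono m] (b : Y ⟶ B)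
    (a : X ⟶ A) (h : a ≫ m = p ≫ b) : ∃ c : Y ⟶ A, c ≫ m = b := by
  obtain ⟨c, hc⟩ := exists_desc p a fun T s t hst => by
    rw [← cancel_mono m, Category.assoc, Category.assoc, h, reassoc_of% hst]
  exact ⟨c, by rw [← cancel_epi p, ← h, reassoc_of% hc]⟩

/-- Local choice of a preimage along an epimorphism. -/
lemma exists_local_preimage {X Y T : Sheaf J (Type w)} (p : X ⟶ Y) [Epi p] (t : T ⟶ Y) :
    ∃ (W : Sheaf J (Type w)) (s : W ⟶ T) (x : W ⟶ X), Epi s ∧ x ≫ p = s ≫ t :=
  ⟨pullback t p, pullback.fst t p, pullback.snd t p,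
    epi_of_isPullback (IsPullback.of_hasPullback t p), pullback.condition.symm⟩

lemma isPullback_whiskerLeft {A : Type*} [Category A] [CartesianMonoidalCategory A] (Z : A)
    {X Y : A} (f : X ⟶ Y) : IsPullback (Z ◁ f) (snd Z X) (snd Z Y) f :=
  ⟨⟨whiskerLeft_snd Z f⟩, ⟨PullbackCone.IsLimit.mk _ (fun s => lift (s.fst ≫ fst Z Y) s.snd)
    (fun s => by apply CartesianMonoidalCategory.hom_ext <;> simp [s.condition])
    (fun s => by simp)
    (fun s m h₁ h₂ => by apply CartesianMonoidalCategory.hom_ext <;> simp [← h₁, ← h₂])⟩⟩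

lemma isPullback_whiskerRight {A : Type*} [Category A] [CartesianMonoidalCategory A] (Z : A)
    {X Y : A} (f : X ⟶ Y) : IsPullback (f ▷ Z) (fst X Z) (fst Y Z) f :=
  ⟨⟨whiskerRight_fst f Z⟩, ⟨PullbackCone.IsLimit.mk _ (fun s => lift s.snd (s.fst ≫ snd Y Z))
    (fun s => by apply CartesianMonoidalCategory.hom_ext <;> simp [s.condition])
    (fun s => by simp)
    (fun s m h₁ h₂ => by apply CartesianMonoidalCategory.hom_ext <;> simp [← h₁, ← h₂])⟩⟩

lemma epi_whiskerLeft (Z : Sheaf J (Type w)) {X Y : Sheaf J (Type w)} (f : X ⟶ Y) [Epi f] : Epi (Z ◁ f) :=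
  epi_of_isPullback (isPullback_whiskerLeft Z f)

lemma epi_whiskerRight (Z : Sheaf J (Type w)) {X Y : Sheaf J (Type w)} (f : X ⟶ Y) [Epi f] : Epi (f ▷ Z) :=
  epi_of_isPullback (isPullback_whiskerRight Z f)

lemma epi_tensorHom {X Y X' Y' : Sheaf J (Type w)} (f : X ⟶ Y) (g : X' ⟶ Y') [Epi f] [Epi g] :
    Epi (f ⊗ₘ g) := by
  haveI := epi_whiskerRight X' f
  haveI := epi_whiskerLeft Y g
  rw [tensorHom_def]
  exact epi_comp _ _

section Quot

variable {H G : Sheaf J (Type w)} [GrpObj H] [GrpObj G] (u : H ⟶ G)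

/-- The multiplication map `G × H ⟶ G`. -/
abbrev act : G ⊗ H ⟶ G := (G ◁ u) ≫ μ[G]

/-- The quotient map `G ⟶ G/H`. -/
abbrev π : G ⟶ coequalizer (fst G H) (act u) := coequalizer.π (fst G H) (act u)

lemma lift_act {T : Sheaf J (Type w)} (a : T ⟶ G) (h : T ⟶ H) : lift a h ≫ act u = a * (h ≫ u) := by
  rw [act, lift_whiskerLeft_assoc, Hom.mul_def]

variable [Mono u] [IsMonHom u]

/-- The right translation relation of a subgroup is an equivalence relation. -/
def equivalenceRelation : EquivalenceRelation (fst G H) (act u) where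
  right_cancellation A a b h₁ h₂ := by
    obtain ⟨a₁, a₂, rfl⟩ : ∃ a₁ a₂, a = lift a₁ a₂ :=
      ⟨a ≫ fst G H, a ≫ snd G H, (CartesianMonoidalCategory.lift_comp_fst_snd a).symm⟩
    obtain ⟨b₁, b₂, rfl⟩ : ∃ b₁ b₂, b = lift b₁ b₂ :=
      ⟨b ≫ fst G H, b ≫ snd G H, (CartesianMonoidalCategory.lift_comp_fst_snd b).symm⟩
    simp only [lift_fst] at h₁
    subst h₁
    rw [lift_act, lift_act] at h₂
    rw [(cancel_mono u).1 (mul_left_cancel h₂)]
  r := lift (𝟙 G) 1
  reflexivity₁ := lift_fst _ _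
  reflexivity₂ := by rw [lift_act, MonObj.one_comp, _root_.mul_one]
  s := lift (act u) (snd G H)⁻¹
  symmetry₁ := lift_fst _ _
  symmetry₂ := by
    have e : act u = fst G H * (snd G H ≫ u) := by
      rw [← lift_act, lift_fst_snd, Category.id_comp]
    rw [lift_act, e, GrpObj.inv_comp, mul_inv_cancel_right]
  c := pullback.cone (act u) (fst G H)
  isLimit := limit.isLimit _
  t := lift (pullback.fst (act u) (fst G H) ≫ fst G H)
    ((pullback.fst (act u) (fst G H) ≫ snd G H) * (pullback.snd (act u) (fst G H) ≫ snd G H))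
  transitivity₁ := lift_fst _ _
  transitivity₂ := by
    have h := pullback.condition (f := act u) (g := fst G H)
    rw [← lift_comp_fst_snd (pullback.fst (act u) (fst G H)), lift_act] at h
    have e : pullback.snd (act u) (fst G H) ≫ act u =
        (pullback.snd (act u) (fst G H) ≫ fst G H) *
          ((pullback.snd (act u) (fst G H) ≫ snd G H) ≫ u) := by
      rw [← lift_act, lift_comp_fst_snd]
    rw [lift_act, MonObj.mul_comp, ← _root_.mul_assoc, h]
    exact e.symm

lemma isKernelPair : IsKernelPair (π u) (fst G H) (act u) := by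
  haveI := (equivalenceRelation u).isEquivalenceRelation
  obtain ⟨e⟩ := (Groth.Agent.S5217.result J (fst G H) (act u)).1
  let i := IsColimit.coconePointUniqueUpToIso e.toEffectiveEquivalenceRelation.isCoequalizer
    (coequalizerIsCoequalizer (fst G H) (act u))
  have hi : e.π ≫ i.hom = π u := IsColimit.comp_coconePointUniqueUpToIso_hom
    e.toEffectiveEquivalenceRelation.isCoequalizer _ WalkingParallelPair.one
  exact e.isKernelPair.of_iso (Iso.refl _) (Iso.refl _) (Iso.refl _) i (by simp) (by simp)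
    (by simp [hi]) (by simp [hi])

lemma comp_π_eq_iff {T : Sheaf J (Type w)} (a b : T ⟶ G) :
    a ≫ π u = b ≫ π u ↔ ∃ h : T ⟶ H, a * (h ≫ u) = b := by
  constructor
  · intro h
    obtain ⟨l, hl₁, hl₂⟩ := (isKernelPair u).exists_lift a b h
    refine ⟨l ≫ snd G H, ?_⟩
    rw [← lift_act, ← hl₁, lift_comp_fst_snd, hl₂]
  · rintro ⟨h, rfl⟩
    rw [← lift_act, Category.assoc, ← coequalizer.condition]
    rw [lift_fst_assoc]

/-- Right translates of equivalent elements by a fixed element on the left are equivalent. -/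
lemma comp_π_eq_mul_left {T : Sheaf J (Type w)} (c : T ⟶ G) {a b : T ⟶ G}
    (h : a ≫ π u = b ≫ π u) : (c * a) ≫ π u = (c * b) ≫ π u := by
  obtain ⟨k, hk⟩ := (comp_π_eq_iff u a b).1 h
  exact (comp_π_eq_iff u _ _).2 ⟨k, by rw [_root_.mul_assoc, hk]⟩

end Quot

end Groth.Agent.H15Site.SheafQuot
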