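import Groth.Agent.H15Site.CechDerived
import Groth.Agent.H15Site.SieveAcyclic
import Groth.Agent.H15Site.CechDegZero
import Groth.Prelude.Def_CohCx

/-!
# Čech cohomology as cohomology of the generated sieve, in presheaves
-/

set_option autoImplicit false
set_option linter.style.haveILetI false
set_option linter.unusedSectionVars false
set_option backward.isDefEq.respectTransparency false
set_option backward.isDefEq.respectTransparency.types false

universe u

open CategoryTheory CategoryTheory.Limits Opposite CategoryTheory.Abelian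

namespace Groth.Agent.H15Site.SieveCech

open CechSite SieveAcyclic

attribute [local instance 10000] SiteInst.hasSheafifySite SiteInst.hasWeakSheafifySite
  SiteInst.hasExtSite SiteInst.enoughInjSite

variable {C : Type u} [SmallCategory C] [HasPullbacks C] {X : C} {ι : Type u} (Y : ι → Over X)

/-- The generated sieve. -/
abbrev RY : Sieve X := Sieve.ofArrows (fun i => (Y i).left) (fun i => (Y i).hom)

/-- A tuple lies over an element of the sieve. -/
theorem mem_of_tuple {V : C} {g : V ⟶ X} (t : T Y g) : RY Y g := by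
  rw [Sieve.mem_ofArrows_iff]
  exact ⟨t.1.1, t.1.2, t.2.symm⟩

theorem nonempty_T {V : C} {g : V ⟶ X} (hg : RY Y g) : Nonempty (T Y g) := by
  obtain ⟨i, k, hk⟩ := (Sieve.mem_ofArrows_iff (fun i => (Y i).left) (fun i => (Y i).hom) g).1 hg
  exact ⟨⟨⟨i, k⟩, hk.symm⟩⟩

/-- The complex of a presheaf. -/
noncomputable abbrev cx (P : Cᵒᵖ ⥤ AddCommGrpCat.{u}) : CochainComplex AddCommGrpCat.{u} ℕ :=
  (cechComplexFunctor Y).obj ((Over.forget X).op ⋙ P)

theorem homFS_app (R : Sieve X) (M : PB C) (φ : fS R ⟶ M) (V : Cᵒᵖ) (g : R.functor.obj V) :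
    (homFS R M φ).app V g = (φ.hom.app V).hom
      (((CategoryTheory.toSheafify (⊥ : GrothendieckTopology C) (R.functor ⋙ AddCommGrpCat.free.{u})).app V).hom
        (FreeAbelianGroup.of g)) := rfl

theorem homFS_add (R : Sieve X) (M : PB C) (φ ψ : fS R ⟶ M) (V : Cᵒᵖ) (g : R.functor.obj V) :
    (homFS R M (φ + ψ)).app V g = (show M.obj.obj V from (homFS R M φ).app V g) + (show M.obj.obj V from (homFS R M ψ).app V g) := by
  rw [homFS_app, homFS_app, homFS_app]
  rfl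

theorem of_natural (R : Sieve X) {P : Cᵒᵖ ⥤ AddCommGrpCat.{u}} (ψ : R.functor ⋙ AddCommGrpCat.free.{u} ⟶ P)
    {V W : C} (b : W ⟶ V) (g : R.functor.obj (op V)) :
    (ψ.app (op W)).hom (FreeAbelianGroup.of (R.functor.map b.op g)) =
      (P.map b.op).hom ((ψ.app (op V)).hom (FreeAbelianGroup.of g)) := by
  refine Eq.trans ?_ (ConcreteCategory.congr_hom (ψ.naturality b.op) (FreeAbelianGroup.of g))
  exact congrArg (ψ.app (op W)).hom (FreeAbelianGroup.map_of_apply g).symm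

theorem homFS_natural (R : Sieve X) (M : PB C) (φ : fS R ⟶ M) {V W : C} (b : W ⟶ V) (g : R.functor.obj (op V)) :
    (homFS R M φ).app (op W) (R.functor.map b.op g) =
      (M.obj.map b.op).hom ((homFS R M φ).app (op V) g) := by
  refine (homFS_app R M φ (op W) _).trans ?_
  refine Eq.trans ?_ (congrArg (M.obj.map b.op).hom (homFS_app R M φ (op V) g)).symm
  exact of_natural R (CategoryTheory.toSheafify (⊥ : GrothendieckTopology C) _ ≫ φ.hom) b g

/-- The cochain of a map out of the sieve. -/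
theorem exists_cochain (M : PB C) (φ : fS (RY Y) ⟶ M) :
    ∃ x : C' Y M.obj 0, (d Y M.obj 0).hom x = 0 ∧ ∀ (V : C) (g : V ⟶ X) (τ : Fin 1 → T Y g),
      ev Y M.obj τ x = (homFS (RY Y) M φ).app (op V) ⟨g, mem_of_tuple Y (τ 0)⟩ := by
  obtain ⟨x, hx⟩ := exists_ev_eq Y M.obj
    (fun V g τ => (homFS (RY Y) M φ).app (op V) ⟨g, mem_of_tuple Y (τ 0)⟩)
    (fun V W g b τ => homFS_natural (RY Y) M φ b ⟨g, mem_of_tuple Y (τ 0)⟩)
  exact ⟨x, d_eq_zero_of_ev_eq Y M.obj (fun V g τ τ' => (hx V g τ).trans (hx V g τ').symm), hx⟩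

/-- The cochain. -/
noncomputable def xc (M : PB C) (φ : fS (RY Y) ⟶ M) : C' Y M.obj 0 := (exists_cochain Y M φ).choose

theorem d_xc (M : PB C) (φ : fS (RY Y) ⟶ M) : (d Y M.obj 0).hom (xc Y M φ) = 0 :=
  (exists_cochain Y M φ).choose_spec.1

theorem ev_xc (M : PB C) (φ : fS (RY Y) ⟶ M) (V : C) (g : V ⟶ X) (τ : Fin 1 → T Y g) :
    ev Y M.obj τ (xc Y M φ) = (homFS (RY Y) M φ).app (op V) ⟨g, mem_of_tuple Y (τ 0)⟩ :=
  (exists_cochain Y M φ).choose_spec.2 V g τ

theorem xc_add (M : PB C) (φ ψ : fS (RY Y) ⟶ M) : xc Y M (φ + ψ) = xc Y M φ + xc Y M ψ := by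
  refine hom_ext Y M.obj fun V g τ => ?_
  rw [map_add, ev_xc, ev_xc, ev_xc]
  exact homFS_add (RY Y) M φ ψ (op V) _

theorem xc_injective (M : PB C) : Function.Injective (xc Y M) := fun φ ψ h => by
  apply (homFS (RY Y) M).injective
  refine NatTrans.ext (funext fun V => ?_)
  ext g
  obtain ⟨t⟩ := nonempty_T Y g.2
  have h' := congrArg (fun z => ev Y M.obj (fun _ : Fin 1 => t) z) h
  simp only [ev_xc] at h'
  exact h'

theorem exists_xc_eq (M : PB C) (c : C' Y M.obj 0) (hc : (d Y M.obj 0).hom c = 0) :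
    ∃ φ, xc Y M φ = c := by
  have hev : ∀ {V : C} {g : V ⟶ X} (t t' : T Y g),
      ev Y M.obj (fun _ : Fin 1 => t) c = ev Y M.obj (fun _ : Fin 1 => t') c :=
    fun t t' => ev_eq_of_d_eq_zero Y M.obj hc t t'
  let t₀ : ∀ {V : C} (g : {g : V ⟶ X // RY Y g}), T Y g.1 := fun g => (nonempty_T Y g.2).some
  let ν : (RY Y).functor ⟶ M.obj ⋙ CategoryTheory.forget AddCommGrpCat.{u} :=
    { app := fun V => TypeCat.ofHom fun g => ev Y M.obj (fun _ : Fin 1 => t₀ (V := V.unop) g) c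
      naturality := fun V W b => by
        ext g
        show ev Y M.obj (fun _ : Fin 1 => t₀ (V := W.unop) ((RY Y).functor.map b g)) c =
          (M.obj.map b).hom (ev Y M.obj (fun _ : Fin 1 => t₀ (V := V.unop) g) c)
        refine Eq.trans ?_ (ev_natural Y M.obj b.unop rfl (fun _ : Fin 1 => t₀ (V := V.unop) g) c)
        exact hev (g := b.unop ≫ g.1) (t₀ (V := W.unop) ((RY Y).functor.map b g))
          ⟨⟨_, b.unop ≫ (t₀ (V := V.unop) g).1.2⟩, by rw [Category.assoc, (t₀ (V := V.unop) g).2]⟩ }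
  refine ⟨(homFS (RY Y) M).symm ν, hom_ext Y M.obj fun V g τ => (ev_xc Y M _ V g τ).trans ?_⟩
  refine (congrArg (fun k : (RY Y).functor ⟶ M.obj ⋙ CategoryTheory.forget AddCommGrpCat.{u} =>
    k.app (op V) ⟨g, mem_of_tuple Y (τ 0)⟩) ((homFS (RY Y) M).apply_symm_apply ν)).trans ?_
  have e : τ = fun _ : Fin 1 => τ 0 := funext fun k => congrArg τ (Fin.fin_one_eq_zero k)
  rw [e]
  exact hev _ _

theorem xc_comp (M N : PB C) (f : M ⟶ N) (φ : fS (RY Y) ⟶ M) :
    xc Y N (φ ≫ f) = (mapC Y M.obj f.hom 0).hom (xc Y M φ) := by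
  refine hom_ext Y N.obj fun V g τ => ?_
  rw [ev_mapC, ev_xc, ev_xc]
  exact congrArg (fun k : (RY Y).functor ⟶ N.obj ⋙ CategoryTheory.forget AddCommGrpCat.{u} =>
    k.app (op V) ⟨g, mem_of_tuple Y (τ 0)⟩) (homFS_comp (RY Y) φ f)

/-- Maps out of the sieve as classes. -/
theorem exists_theta :
    ∃ Θ : ∀ M : PB C, (fS (RY Y) ⟶ M) ≃+ CohCx.cechH M.obj Y 0,
      ∀ (M N : PB C) (f : M ⟶ N) (φ : fS (RY Y) ⟶ M),
        Θ N (φ ≫ f) = CechEdge.cechHMap Y f.hom 0 (Θ M φ) := by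
  let θ : ∀ M : PB C, (fS (RY Y) ⟶ M) →+ CohCx.cechH M.obj Y 0 := fun M =>
    AddMonoidHom.mk' (fun φ => cls Y M.obj (xc Y M φ) (d_xc Y M φ)) fun φ ψ => rep_injective Y M.obj (by
      rw [map_add, rep_cls, rep_cls, rep_cls]
      exact xc_add Y M φ ψ)
  have hbij : ∀ M, Function.Bijective (θ M) := fun M => by
    refine ⟨fun φ ψ h => xc_injective Y M ?_, fun z => ?_⟩
    · exact (rep_cls Y M.obj (xc Y M φ) (d_xc Y M φ)).symm.trans
        ((congrArg (rep Y M.obj) h).trans (rep_cls Y M.obj (xc Y M ψ) (d_xc Y M ψ)))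
    · obtain ⟨φ, hφ⟩ := exists_xc_eq Y M (rep Y M.obj z) (d_rep Y M.obj z)
      exact ⟨φ, rep_injective Y M.obj ((rep_cls Y M.obj (xc Y M φ) (d_xc Y M φ)).trans hφ)⟩
  refine ⟨fun M => AddEquiv.ofBijective (θ M) (hbij M), fun M N f φ => rep_injective Y N.obj ?_⟩
  refine (rep_cls Y N.obj (xc Y N (φ ≫ f)) (d_xc Y N _)).trans ((xc_comp Y M N f φ).trans ?_)
  exact ((rep_cechHMap Y M.obj f.hom _).trans (congrArg _ (rep_cls Y M.obj (xc Y M φ) (d_xc Y M φ)))).symm

theorem isZero_cech_injective (I : PB C) [Injective I] (k : ℕ) :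
    IsZero (CohCx.cechH I.obj Y (k + 1)) := by
  haveI : Injective I.obj :=
    Injective.injective_of_adjoint (sheafificationAdjunction (⊥ : GrothendieckTopology C) AddCommGrpCat.{u}) I
  exact H18Cech.isZero_cechH_of_injective Y I.obj k

/-- Two cokernel presentations with compatible identifications. -/
theorem nonempty_addEquiv_of_exact {A₀ A₁ A₂ B₀ B₁ B₂ : Type*} [AddCommGroup A₀] [AddCommGroup A₁]
    [AddCommGroup A₂] [AddCommGroup B₀] [AddCommGroup B₁] [AddCommGroup B₂]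
    (f : A₀ →+ A₁) (g : A₁ →+ A₂) (hfg : Function.Exact f g) (hg : Function.Surjective g)
    (f' : B₀ →+ B₁) (g' : B₁ →+ B₂) (hfg' : Function.Exact f' g') (hg' : Function.Surjective g')
    (e₀ : A₀ ≃+ B₀) (e₁ : A₁ ≃+ B₁) (h : ∀ a, e₁ (f a) = f' (e₀ a)) : Nonempty (A₂ ≃+ B₂) := by
  have hker : g.ker = (g'.comp e₁.toAddMonoidHom).ker := by
    ext a
    constructor
    · intro ha
      obtain ⟨b, rfl⟩ := (hfg a).1 ha
      show g' (e₁ (f b)) = 0
      rw [h]
      exact hfg'.apply_apply_eq_zero _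
    · intro ha
      obtain ⟨b, hb⟩ := (hfg' (e₁ a)).1 ha
      obtain ⟨b, rfl⟩ := e₀.surjective b
      rw [← h] at hb
      rw [← e₁.injective hb]
      exact hfg.apply_apply_eq_zero _
  exact ⟨((QuotientAddGroup.quotientKerEquivOfSurjective g hg).symm.trans
    (QuotientAddGroup.quotientAddEquivOfEq hker)).trans
      (QuotientAddGroup.quotientKerEquivOfSurjective (g'.comp e₁.toAddMonoidHom) (hg'.comp e₁.surjective))⟩

/-- The short complex of complexes. -/
noncomputable abbrev seqK (S : ShortComplex (PB C)) : ShortComplex (CochainComplex AddCommGrpCat.{u} ℕ) :=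
  (S.map (sheafToPresheaf _ AddCommGrpCat.{u})).map (CechDerived.KC Y)

theorem shortExact_seqK {S : ShortComplex (PB C)} (hS : S.ShortExact) : (seqK Y S).ShortExact := by
  haveI := isEquivalence_bot (C := C)
  exact (hS.map_of_exact (sheafToPresheaf _ AddCommGrpCat.{u})).map_of_exact _

variable {S : ShortComplex (PB C)} (hS : S.ShortExact) [Injective S.X₂]

theorem ext_postcomp_surjective (A : PB C) (q : ℕ) :
    Function.Surjective (hS.extClass.postcomp A (show q + 1 = q + 1 from rfl)) := fun x => by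
  obtain ⟨y, hy⟩ := Ext.covariant_sequence_exact₁ _ hS x (Ext.eq_zero_of_injective _) rfl
  exact ⟨y, hy⟩

theorem ext_postcomp_injective (A : PB C) (q : ℕ) :
    Function.Injective (hS.extClass.postcomp A (show q + 1 + 1 = q + 1 + 1 from rfl)) :=
  (injective_iff_map_eq_zero _).2 fun x hx => by
    obtain ⟨y, hy⟩ := Ext.covariant_sequence_exact₃ _ hS x rfl hx
    rw [← hy, Ext.eq_zero_of_injective y, Ext.zero_comp]

theorem δ_surjective (q : ℕ) :
    Function.Surjective ((shortExact_seqK Y hS).δ q (q + 1) (by simp)).hom :=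
  (AddCommGrpCat.epi_iff_surjective _).1
    (((shortExact_seqK Y hS).homology_exact₁ q (q + 1) (by simp)).epi_f
      ((isZero_cech_injective Y S.X₂ q).eq_of_tgt _ _))

theorem δ_injective (q : ℕ) :
    Function.Injective ((shortExact_seqK Y hS).δ (q + 1) (q + 1 + 1) (by simp)).hom :=
  (AddCommGrpCat.mono_iff_injective _).1
    (((shortExact_seqK Y hS).homology_exact₃ (q + 1) (q + 1 + 1) (by simp)).mono_g
      ((isZero_cech_injective Y S.X₂ q).eq_of_src _ _))

include hS in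
theorem nonempty_step (q : ℕ)
    (h : Nonempty (CohCx.cechH S.X₃.obj Y (q + 1) ≃+ Ext (fS (RY Y)) S.X₃ (q + 1))) :
    Nonempty (CohCx.cechH S.X₁.obj Y (q + 1 + 1) ≃+ Ext (fS (RY Y)) S.X₁ (q + 1 + 1)) := by
  obtain ⟨e⟩ := h
  let δ : CohCx.cechH S.X₃.obj Y (q + 1) →+ CohCx.cechH S.X₁.obj Y (q + 1 + 1) :=
    ((shortExact_seqK Y hS).δ (q + 1) (q + 1 + 1) (by simp)).hom
  have hδ : Function.Bijective δ := ⟨δ_injective Y hS q, δ_surjective Y hS (q + 1)⟩
  exact ⟨((AddEquiv.ofBijective δ hδ).symm.trans e).trans (AddEquiv.ofBijective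
    (hS.extClass.postcomp (fS (RY Y)) (show q + 1 + 1 = q + 1 + 1 from rfl))
    ⟨ext_postcomp_injective hS _ q, ext_postcomp_surjective hS _ (q + 1)⟩)⟩

include hS in
theorem nonempty_one
    (Θ : ∀ M : PB C, (fS (RY Y) ⟶ M) ≃+ CohCx.cechH M.obj Y 0)
    (hΘ : ∀ (M N : PB C) (f : M ⟶ N) (φ : fS (RY Y) ⟶ M),
      Θ N (φ ≫ f) = CechEdge.cechHMap Y f.hom 0 (Θ M φ)) :
    Nonempty (CohCx.cechH S.X₁.obj Y 1 ≃+ Ext (fS (RY Y)) S.X₁ 1) := by
  let f : CohCx.cechH S.X₂.obj Y 0 →+ CohCx.cechH S.X₃.obj Y 0 := CechEdge.cechHMap Y S.g.hom 0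
  let δ : CohCx.cechH S.X₃.obj Y 0 →+ CohCx.cechH S.X₁.obj Y 1 :=
    ((shortExact_seqK Y hS).δ 0 1 (by simp)).hom
  let f' : (fS (RY Y) ⟶ S.X₂) →+ (fS (RY Y) ⟶ S.X₃) := Preadditive.rightComp _ S.g
  let γ' : (fS (RY Y) ⟶ S.X₃) →+ Ext (fS (RY Y)) S.X₁ 1 :=
    (hS.extClass.postcomp (fS (RY Y)) (show 0 + 1 = 0 + 1 from rfl)).comp
      (Ext.addEquiv₀ (X := fS (RY Y)) (Y := S.X₃)).symm.toAddMonoidHom
  have h1 : Function.Exact f δ :=
    (ShortComplex.ab_exact_iff_function_exact _).1 ((shortExact_seqK Y hS).homology_exact₃ 0 1 (by simp))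
  have h2 : Function.Exact f' γ' := fun φ => by
    constructor
    · intro h
      obtain ⟨y, hy⟩ := Ext.covariant_sequence_exact₃ _ hS (Ext.mk₀ φ) rfl h
      obtain ⟨y, rfl⟩ := (Ext.mk₀_bijective _ _).2 y
      rw [Ext.mk₀_comp_mk₀] at hy
      exact ⟨y, (Ext.mk₀_bijective _ _).1 hy⟩
    · rintro ⟨y, rfl⟩
      show (Ext.mk₀ (y ≫ S.g)).comp hS.extClass rfl = 0
      rw [← Ext.mk₀_comp_mk₀, Ext.comp_assoc _ _ _ (zero_add 0) (zero_add 1) rfl, hS.comp_extClass,
        Ext.comp_zero]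
  refine nonempty_addEquiv_of_exact f δ h1 (δ_surjective Y hS 0) f' γ' h2
    ((ext_postcomp_surjective hS _ 0).comp (AddEquiv.surjective _)) (Θ S.X₂).symm (Θ S.X₃).symm fun a => ?_
  apply (Θ S.X₃).injective
  rw [AddEquiv.apply_symm_apply]
  exact ((hΘ S.X₂ S.X₃ S.g _).trans (congrArg _ ((Θ S.X₂).apply_symm_apply a))).symm

omit hS in
theorem exists_seq (M : PB C) :
    ∃ (S : ShortComplex (PB C)) (_ : S.ShortExact) (_ : Injective S.X₂), S.X₁ = M :=
  ⟨Edge.injSeq M, Edge.injSeq_shortExact M, inferInstanceAs (Injective (Injective.under M)), rfl⟩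

omit hS in
theorem nonempty_equiv : ∀ (q : ℕ) (M : PB C),
    Nonempty (CohCx.cechH M.obj Y q ≃+ Ext (fS (RY Y)) M q) := by
  obtain ⟨Θ, hΘ⟩ := exists_theta Y
  intro q
  induction q with
  | zero => exact fun M => ⟨(Θ M).symm.trans (Ext.addEquiv₀).symm⟩
  | succ q ih =>
    intro M
    obtain ⟨S, hS, hI, rfl⟩ := exists_seq M
    cases q with
    | zero => exact nonempty_one Y hS Θ hΘ
    | succ q => exact nonempty_step Y hS q (ih _)

theorem nonempty_iso (M : Cᵒᵖ ⥤ AddCommGrpCat.{u}) (q : ℕ) :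
    Nonempty (CohCx.cechH M Y q ≅ AddCommGrpCat.of (CohCx.HK (J := (⊥ : GrothendieckTopology C))
      ⟨(RY Y).functor, Presheaf.isSheaf_bot _⟩ ⟨M, Presheaf.isSheaf_bot _⟩ q)) := by
  obtain ⟨e⟩ := nonempty_equiv Y q (ofP M)
  exact ⟨e.toAddCommGrpIso⟩

end Groth.Agent.H15Site.SieveCech
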