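import Groth.Agent.H15Site.SiteCmpTrunc
import Groth.Agent.S9069
import Groth.Agent.H16Derived.WayOut
import Mathlib.CategoryTheory.Abelian.GrothendieckCategory.EnoughInjectives

/-!
# `f^* : D_{A'} ≅ D_A : Rf_*` under bounded cohomological dimension
-/

set_option autoImplicit false
set_option linter.style.haveILetI false
set_option linter.unusedSectionVars false

universe w w' v u u'

open CategoryTheory CategoryTheory.Limits CategoryTheory.Pretriangulated Opposite DerivedCategory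
  DerivedCategory.TStructure

namespace Groth.Agent.H15Site.SiteCmpEquiv

section General

variable {A : Type u} [Category.{v} A] [Abelian A] [HasDerivedCategory.{w} A]
  {B : Type u'} [Category.{v} B] [Abelian B] [HasDerivedCategory.{w'} B]
  (G : A ⥤ B) [G.Additive] [PreservesFiniteLimits G] [PreservesFiniteColimits G]

/-- An exact functor preserves isomorphisms in high cohomology. -/
theorem isIso_homology_map_of_ge {X Y : DerivedCategory A} (φ : X ⟶ Y) (m : ℤ)
    (h : ∀ q, m ≤ q → IsIso ((homologyFunctor A q).map φ)) (i : ℤ) (hi : m + 1 ≤ i) :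
    IsIso ((homologyFunctor B i).map (G.mapDerivedCategory.map φ)) := by
  obtain ⟨Z, g, d, hT⟩ := Pretriangulated.distinguished_cocone_triangle φ
  haveI : DerivedCategory.IsLE Z (m - 1) := by
    rw [isLE_iff]
    intro q hq
    have h1 : Epi ((homologyFunctor A q).map (Triangle.mk φ g d).mor₁) :=
      @IsIso.epi_of_iso _ _ _ _ _ (h q (by omega))
    have h2 : Mono ((homologyFunctor A (q + 1)).map (Triangle.mk φ g d).mor₁) :=
      @IsIso.mono_of_iso _ _ _ _ _ (h (q + 1) (by omega))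
    exact (HomologySequence.exact₃ _ hT q (q + 1) rfl).isZero_of_both_zeros
      ((HomologySequence.epi_homologyMap_mor₁_iff _ hT q).1 h1)
      ((HomologySequence.mono_homologyMap_mor₁_iff _ hT q (q + 1)).1 h2)
  haveI := FlatAdjD.isLE_map G Z (m - 1)
  have hT' := G.mapDerivedCategory.map_distinguished _ hT
  let T' := G.mapDerivedCategory.mapTriangle.obj (Triangle.mk φ g d)
  have hle : T'.obj₃.IsLE (m - 1) := inferInstanceAs ((G.mapDerivedCategory.obj Z).IsLE (m - 1))
  have h1 : Epi ((homologyFunctor B i).map T'.mor₁) :=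
    (HomologySequence.epi_homologyMap_mor₁_iff T' hT' i).2
      ((T'.obj₃.isZero_of_isLE (m - 1) i (by omega)).eq_of_tgt _ _)
  have h2 : Mono ((homologyFunctor B i).map T'.mor₁) :=
    (HomologySequence.mono_homologyMap_mor₁_iff T' hT' (i - 1) i (by omega)).2
      ((T'.obj₃.isZero_of_isLE (m - 1) (i - 1) (by omega)).eq_of_src _ _)
  exact isIso_of_mono_of_epi ((homologyFunctor B i).map T'.mor₁)

/-- An exact functor commutes with truncations. -/
theorem exists_truncGE_iso (Y : DerivedCategory A) (n : ℤ) :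
    ∃ φ : (t.truncGE n).obj (G.mapDerivedCategory.obj Y) ≅
        G.mapDerivedCategory.obj ((t.truncGE n).obj Y),
      (t.truncGEπ n).app (G.mapDerivedCategory.obj Y) ≫ φ.hom =
        G.mapDerivedCategory.map ((t.truncGEπ n).app Y) := by
  haveI : DerivedCategory.IsGE ((t.truncGE n).obj Y) n := inferInstanceAs (t.IsGE _ n)
  haveI : t.IsGE (G.mapDerivedCategory.obj ((t.truncGE n).obj Y)) n :=
    FlatAdjD.isGE_map G ((t.truncGE n).obj Y) n
  obtain ⟨φ, hφ⟩ := t.descTruncGE_aux (G.mapDerivedCategory.map ((t.truncGEπ n).app Y)) n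
  suffices h : IsIso φ from ⟨@asIso _ _ _ _ φ h, hφ.symm⟩
  rw [DerivedCategory.isIso_iff]
  intro i
  rcases le_or_gt n i with hi | hi
  · haveI := H16Derived.DTrunc.isIso_homology_truncGEπ (G.mapDerivedCategory.obj Y) n i hi
    haveI : DerivedCategory.IsLE ((t.truncLT n).obj Y) (n - 1) := inferInstanceAs (t.IsLE _ (n - 1))
    haveI h1 : IsIso ((homologyFunctor B i).map
        (G.mapDerivedCategory.map ((t.truncGEπ n).app Y))) :=
      H16Derived.WayOut.isIso_homology_mor₂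
        (G.mapDerivedCategory.mapTriangle.obj ((t.triangleLTGE n).obj Y))
        (G.mapDerivedCategory.map_distinguished _ (t.triangleLTGE_distinguished n Y)) i
        (by
          have h2 := FlatAdjD.isLE_map G ((t.truncLT n).obj Y) (n - 1)
          exact t.isLE_of_le (G.mapDerivedCategory.obj ((t.truncLT n).obj Y)) (n - 1) (i - 1) (by omega))
    haveI : IsIso ((homologyFunctor B i).map ((t.truncGEπ n).app (G.mapDerivedCategory.obj Y)) ≫
        (homologyFunctor B i).map φ) := by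
      have e : (homologyFunctor B i).map (G.mapDerivedCategory.map ((t.truncGEπ n).app Y)) =
          (homologyFunctor B i).map ((t.truncGEπ n).app (G.mapDerivedCategory.obj Y)) ≫
            (homologyFunctor B i).map φ :=
        (congrArg (homologyFunctor B i).map hφ).trans (Functor.map_comp _ _ _)
      exact e ▸ h1
    exact IsIso.of_isIso_comp_left
      ((homologyFunctor B i).map ((t.truncGEπ n).app (G.mapDerivedCategory.obj Y))) _
  · haveI : DerivedCategory.IsGE ((t.truncGE n).obj (G.mapDerivedCategory.obj Y)) n :=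
      inferInstanceAs (t.IsGE _ n)
    haveI : DerivedCategory.IsGE (G.mapDerivedCategory.obj ((t.truncGE n).obj Y)) n :=
      FlatAdjD.isGE_map G ((t.truncGE n).obj Y) n
    exact ⟨0, (isZero_of_isGE _ n i hi).eq_of_src _ _, (isZero_of_isGE _ n i hi).eq_of_src _ _⟩

end General

attribute [local instance] HasDerivedCategory.standard

open SiteGen SiteGenInst H16Derived

variable {C D : Type u} [SmallCategory C] [SmallCategory D] {J : GrothendieckTopology C}
  {K : GrothendieckTopology D} {O_C : Sheaf J CommRingCat.{u}} {O_D : Sheaf K CommRingCat.{u}}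

theorem nonempty_push_single_iso (f : ModSite.RMor O_C O_D) [PreservesFiniteLimits f.pull]
    [SiteCmp.HasRpushD f] (adj : SiteCmp.pullD f ⊣ SiteCmp.RpushD f) (F' : ModSite.Mod O_D)
    {F : ModSite.Mod O_C} (e : f.pull.obj F' ≅ F)
    (h : IsIso (adj.unit.app (SiteCmp.inD O_D F'))) :
    Nonempty ((SiteCmp.RpushD f).obj (SiteCmp.inD O_C F) ≅ SiteCmp.inD O_D F') :=
  ⟨(SiteCmp.RpushD f).mapIso ((f.pull.mapDerivedCategorySingleFunctor 0).app F' ≪≫
    (singleFunctor (ModSite.Mod O_C) 0).mapIso e).symm ≪≫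
    (@asIso _ _ _ _ (adj.unit.app (SiteCmp.inD O_D F')) h).symm⟩

set_option maxHeartbeats 1000000 in
/-- The equivalence. -/
theorem main (f : ModSite.RMor O_C O_D) [PreservesFiniteLimits f.pull] [SiteCmp.HasRpushD f]
    (adj : SiteCmp.pullD f ⊣ SiteCmp.RpushD f)
    (A : ObjectProperty (ModSite.Mod O_C)) [WSerre.IsWeakSerre A]
    (A' : ObjectProperty (ModSite.Mod O_D)) [WSerre.IsWeakSerre A']
    (h2a : ∀ F' : ModSite.Mod O_D, A' F' → A (f.pull.obj F'))
    (h2b : ∀ F' G' : ModSite.Mod O_D, A' F' → A' G' →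
      Function.Bijective (fun φ : F' ⟶ G' => f.pull.map φ))
    (h2c : ∀ F : ModSite.Mod O_C, A F → ∃ F' : ModSite.Mod O_D, A' F' ∧ Nonempty (f.pull.obj F' ≅ F))
    (h3 : ∀ F' : ModSite.Mod O_D, A' F' → IsIso (adj.unit.app (SiteCmp.inD O_D F')))
    (B : Set C) (B' : Set D)
    (hB : ∀ U : C, ∃ (ι : Type u) (Y : ι → C) (g : ∀ i, Y i ⟶ U), Sieve.ofArrows Y g ∈ J U ∧ ∀ i, Y i ∈ B)
    (hA : ∀ V ∈ B, ∃ d : ℕ, ∀ T ∈ J V, ∃ (ι : Type u) (Y : ι → C) (g : ∀ i, Y i ⟶ V),
      (∀ i, T.arrows (g i)) ∧ Sieve.ofArrows Y g ∈ J V ∧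
      ∀ (i : ι) (F : ModSite.Mod O_C), A F → ∀ k : ℕ, d < k → Subsingleton (ModSite.HU O_C F k (Y i)))
    (hB' : ∀ U : D, ∃ (ι : Type u) (Y : ι → D) (g : ∀ i, Y i ⟶ U), Sieve.ofArrows Y g ∈ K U ∧ ∀ i, Y i ∈ B')
    (Good : ℕ → D → Prop)
    (hGood : ∀ V ∈ B', ∃ d : ℕ, ∀ T ∈ K V, ∃ (ι : Type u) (Y : ι → D) (g : ∀ i, Y i ⟶ V),
      (∀ i, T.arrows (g i)) ∧ Sieve.ofArrows Y g ∈ K V ∧ ∀ i, Good d (Y i))
    (hvan : ∀ (d : ℕ) (Y : D), Good d Y → ∀ (F : ModSite.Mod O_C), A F → ∀ i : ℤ, (d : ℤ) < i →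
      ∀ z : (singleFunctor _ 0).obj ((genMod O_D).G.obj Y) ⟶
        ((SiteCmp.RpushD f).obj (SiteCmp.inD O_C F))⟦i⟧, z = 0) :
    (∀ Y : DerivedCategory (ModSite.Mod O_D), WSerre.cohIn A' Y →
      WSerre.cohIn A ((SiteCmp.pullD f).obj Y) ∧ IsIso (adj.unit.app Y)) ∧
    (∀ X : DerivedCategory (ModSite.Mod O_C), WSerre.cohIn A X →
      WSerre.cohIn A' ((SiteCmp.RpushD f).obj X) ∧ IsIso (adj.counit.app X)) := by
  haveI := H10Coh.isGrothendieckAbelian_sheafOfModules (ModSite.ringSh O_C)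
  haveI : EnoughInjectives (ModSite.Mod O_C) := IsGrothendieckAbelian.enoughInjectives.{u}
  obtain ⟨hplus₁, hplus₂⟩ := S9069.result f adj A A' h2a h2b h2c h3
  have hzD : ∀ Z : ModSite.Mod O_D, IsZero Z → A' Z := fun Z hZ =>
    A'.prop_of_iso ((isZero_zero _).iso hZ) A'.prop_zero
  have hzC : ∀ Z : ModSite.Mod O_C, IsZero Z → A Z := fun Z hZ =>
    A.prop_of_iso ((isZero_zero _).iso hZ) A.prop_zero
  have hN : ∀ F : ModSite.Mod O_C, A F → ∀ p : ℕ, (0 : ℤ) < (p : ℤ) → IsZero ((f.Rpush p).obj F) := by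
    intro F hF p hp
    obtain ⟨F', hF', ⟨e⟩⟩ := h2c F hF
    obtain ⟨e'⟩ := nonempty_push_single_iso f adj F' e (h3 F' hF')
    obtain ⟨e''⟩ := RDerPlus.nonempty_homology_single_iso f.push F p
    exact IsZero.of_iso (isZero_of_isLE (SiteCmp.inD O_D F') 0 p hp)
      (e''.symm ≪≫ (homologyFunctor _ (p : ℤ)).mapIso e')
  have hR : ∀ X, WSerre.cohIn A X → ∀ (n : ℕ) (j : ℤ), -(n : ℤ) ≤ j →
      IsIso ((homologyFunctor (ModSite.Mod O_D) j).map
        ((SiteCmp.RpushD f).map ((t.truncGEπ (-(n : ℤ))).app X))) := fun X hX n j hj =>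
    SiteCmpTrunc.isIso_homology_push_truncGE f A B hB hA B' Good hB' hGood 0 hN
      (fun d Y hY F hF i hi => hvan d Y hY F hF i (by simpa using hi)) X hX n j (by omega)
  constructor
  · intro Y hY
    have hτ : ∀ n : ℕ, WSerre.cohInPlus A' ((t.truncGE (-(n : ℤ))).obj Y) := fun n =>
      ⟨WayOut.p_truncGE A' hzD hY _, ⟨-(n : ℤ), inferInstanceAs (t.IsGE _ _)⟩⟩
    have hG : WSerre.cohIn A ((SiteCmp.pullD f).obj Y) := fun i => by
      obtain ⟨φ, hφ⟩ := exists_truncGE_iso f.pull Y (-(i.natAbs : ℤ))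
      haveI := DTrunc.isIso_homology_truncGEπ ((SiteCmp.pullD f).obj Y) (-(i.natAbs : ℤ)) i (by omega)
      exact A.prop_of_iso (asIso ((homologyFunctor _ i).map
        ((t.truncGEπ (-(i.natAbs : ℤ))).app ((SiteCmp.pullD f).obj Y))) ≪≫
          (homologyFunctor _ i).mapIso φ).symm ((hplus₁ _ (hτ _)).1.1 i)
    refine ⟨hG, ?_⟩
    rw [DerivedCategory.isIso_iff]
    intro i
    obtain ⟨φ, hφ⟩ := exists_truncGE_iso f.pull Y (-(i.natAbs : ℤ))
    haveI := DTrunc.isIso_homology_truncGEπ Y (-(i.natAbs : ℤ)) i (by omega)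
    haveI := hR _ hG i.natAbs i (by omega)
    haveI := (hplus₁ _ (hτ i.natAbs)).2
    haveI : IsIso ((homologyFunctor _ i).map ((SiteCmp.RpushD f).map
        ((SiteCmp.pullD f).map ((t.truncGEπ (-(i.natAbs : ℤ))).app Y)))) := by
      have e : (SiteCmp.pullD f).map ((t.truncGEπ (-(i.natAbs : ℤ))).app Y) =
          (t.truncGEπ (-(i.natAbs : ℤ))).app ((SiteCmp.pullD f).obj Y) ≫ φ.hom := hφ.symm
      rw [e, Functor.map_comp, Functor.map_comp]
      infer_instance
    haveI : IsIso ((homologyFunctor _ i).map (adj.unit.app Y) ≫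
        (homologyFunctor _ i).map ((SiteCmp.RpushD f).map
          ((SiteCmp.pullD f).map ((t.truncGEπ (-(i.natAbs : ℤ))).app Y)))) := by
      rw [← Functor.map_comp]
      erw [← adj.unit.naturality ((t.truncGEπ (-(i.natAbs : ℤ))).app Y)]
      rw [Functor.map_comp]
      exact inferInstanceAs (IsIso ((homologyFunctor _ i).map ((t.truncGEπ (-(i.natAbs : ℤ))).app Y) ≫
        (homologyFunctor _ i).map (adj.unit.app ((t.truncGE (-(i.natAbs : ℤ))).obj Y))))
    exact IsIso.of_isIso_comp_right _ ((homologyFunctor _ i).map ((SiteCmp.RpushD f).map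
      ((SiteCmp.pullD f).map ((t.truncGEπ (-(i.natAbs : ℤ))).app Y))))
  · intro X hX
    have hτ : ∀ n : ℕ, WSerre.cohInPlus A ((t.truncGE (-(n : ℤ))).obj X) := fun n =>
      ⟨WayOut.p_truncGE A hzC hX _, ⟨-(n : ℤ), inferInstanceAs (t.IsGE _ _)⟩⟩
    have hG : WSerre.cohIn A' ((SiteCmp.RpushD f).obj X) := fun i => by
      haveI := hR X hX i.natAbs i (by omega)
      exact A'.prop_of_iso (asIso ((homologyFunctor _ i).map ((SiteCmp.RpushD f).map
        ((t.truncGEπ (-(i.natAbs : ℤ))).app X)))).symm ((hplus₂ _ (hτ _)).1.1 i)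
    refine ⟨hG, ?_⟩
    rw [DerivedCategory.isIso_iff]
    intro i
    let n : ℕ := i.natAbs + 1
    haveI := DTrunc.isIso_homology_truncGEπ X (-(n : ℤ)) i (by omega)
    haveI := isIso_homology_map_of_ge f.pull ((SiteCmp.RpushD f).map ((t.truncGEπ (-(n : ℤ))).app X))
      (-(n : ℤ)) (fun q hq => hR X hX n q hq) i (by omega)
    haveI := (hplus₂ _ (hτ n)).2
    haveI : IsIso ((homologyFunctor _ i).map (adj.counit.app X) ≫
        (homologyFunctor _ i).map ((t.truncGEπ (-(n : ℤ))).app X)) := by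
      rw [← Functor.map_comp]
      erw [← adj.counit.naturality ((t.truncGEπ (-(n : ℤ))).app X)]
      rw [Functor.map_comp]
      exact inferInstanceAs (IsIso ((homologyFunctor _ i).map ((SiteCmp.pullD f).map
        ((SiteCmp.RpushD f).map ((t.truncGEπ (-(n : ℤ))).app X))) ≫
          (homologyFunctor _ i).map (adj.counit.app ((t.truncGE (-(n : ℤ))).obj X))))
    exact IsIso.of_isIso_comp_right _ ((homologyFunctor _ i).map ((t.truncGEπ (-(n : ℤ))).app X))

end Groth.Agent.H15Site.SiteCmpEquiv
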