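import Groth.Agent.H15Site.FreePush
import Groth.Agent.H15Site.RDerPlus
import Groth.Agent.H15Site.RlimTruncApps
import Groth.Agent.H15Site.CohInTri
import Groth.Agent.H16Derived.KInjRes.Products

/-!
# `Rf_*` and truncations under bounded cohomological dimension
-/

set_option autoImplicit false
set_option linter.style.haveILetI false
set_option linter.unusedSectionVars false

universe u

open CategoryTheory CategoryTheory.Limits CategoryTheory.Pretriangulated Opposite DerivedCategory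
  DerivedCategory.TStructure

attribute [local instance] HasDerivedCategory.standard

namespace Groth.Agent.H15Site.SiteCmpTrunc

open SiteGen SiteGenInst RlimTrunc H16Derived

variable {C D : Type u} [SmallCategory C] [SmallCategory D] {J : GrothendieckTopology C}
  {K : GrothendieckTopology D} {O_C : Sheaf J CommRingCat.{u}} {O_D : Sheaf K CommRingCat.{u}}

/-- The cone of a transition map of the truncation tower is a cohomology object, shifted. -/
theorem exists_cone_truncTower (A : ObjectProperty (ModSite.Mod O_C)) [WSerre.IsWeakSerre A]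
    (X : DerivedCategory (ModSite.Mod O_C)) (hX : WSerre.cohIn A X) (n : ℕ) :
    ∃ (Z : DerivedCategory (ModSite.Mod O_C)) (g : CohCx.truncTower X n ⟶ Z)
      (d : Z ⟶ (CohCx.truncTower X (n + 1))⟦(1 : ℤ)⟧),
      Triangle.mk (CohCx.truncTowerMap X n) g d ∈ distTriang _ ∧
        ∃ F, A F ∧ Nonempty (Z ≅ ((singleFunctor (ModSite.Mod O_C) 0).obj F)⟦((n : ℤ) + 2)⟧) := by
  obtain ⟨Z, g, d, hT⟩ := Pretriangulated.distinguished_cocone_triangle (CohCx.truncTowerMap X n)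
  refine ⟨Z, g, d, hT, ?_⟩
  haveI : DerivedCategory.IsGE (CohCx.truncTower X (n + 1)) (-((n + 1 : ℕ) : ℤ)) :=
    inferInstanceAs (t.IsGE ((t.truncGE (-((n + 1 : ℕ) : ℤ))).obj X) (-((n + 1 : ℕ) : ℤ)))
  haveI hK : DerivedCategory.IsGE (CohCx.truncTower X n) (-(n : ℤ)) :=
    inferInstanceAs (t.IsGE ((t.truncGE (-(n : ℤ))).obj X) (-(n : ℤ)))
  haveI : DerivedCategory.IsGE (CohCx.truncTower X n) (-((n + 1 : ℕ) : ℤ) - 1) :=
    t.isGE_of_ge _ _ (-(n : ℤ)) (by omega)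
  haveI hZ := isGE_cone _ g d hT (-((n + 1 : ℕ) : ℤ))
  haveI : DerivedCategory.IsGE Z (-((n : ℤ) + 2)) := by
    have e : (-((n + 1 : ℕ) : ℤ) - 1) = -((n : ℤ) + 2) := by omega
    rwa [e] at hZ
  haveI : DerivedCategory.IsLE Z (-((n : ℤ) + 2)) := by
    rw [isLE_iff]
    intro q hq
    rcases eq_or_ne q (-(n : ℤ) - 1) with rfl | h''
    · haveI := isIso_truncTowerMap X n (-(n : ℤ) - 1 + 1) (by omega)
      refine (HomologySequence.exact₃ _ hT (-(n : ℤ) - 1) (-(n : ℤ) - 1 + 1)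
        rfl).isZero_of_both_zeros
        ((isZero_of_isGE (CohCx.truncTower X n) (-(n : ℤ)) (-(n : ℤ) - 1) (by omega)).eq_of_src _ _) ?_
      exact (HomologySequence.mono_homologyMap_mor₁_iff _ hT (-(n : ℤ) - 1) (-(n : ℤ) - 1 + 1)).1
        (inferInstanceAs (Mono ((homologyFunctor _ _).map (CohCx.truncTowerMap X n))))
    · haveI := isIso_truncTowerMap X n q (by omega)
      haveI := isIso_truncTowerMap X n (q + 1) (by omega)
      exact isZero_cone _ g d hT q
  obtain ⟨F, ⟨e⟩⟩ := Z.exists_iso_singleFunctor_obj_of_isGE_of_isLE (-((n : ℤ) + 2))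
  refine ⟨F, ?_, ⟨e ≪≫ (((singleFunctors (ModSite.Mod O_C)).shiftIso ((n : ℤ) + 2)
    (-((n : ℤ) + 2)) 0 (by omega)).app F).symm⟩⟩
  obtain ⟨e'⟩ := nonempty_cone_iso _ g d hT (-((n : ℤ) + 2))
    (isZero_of_isGE (CohCx.truncTower X n) (-(n : ℤ)) _ (by omega))
    (isZero_of_isGE (CohCx.truncTower X n) (-(n : ℤ)) _ (by omega))
  haveI : IsIso ((homologyFunctor _ (-((n : ℤ) + 2) + 1)).map (CohCx.toTruncTower X (n + 1))) :=
    DTrunc.isIso_homology_truncGEπ X (-((n + 1 : ℕ) : ℤ)) _ (by omega)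
  exact A.prop_of_iso ((asIso ((homologyFunctor _ (-((n : ℤ) + 2) + 1)).map
    (CohCx.toTruncTower X (n + 1)))) ≪≫ e'.symm ≪≫ (homologyFunctor _ _).mapIso e ≪≫
      (singleFunctorCompHomologyFunctorIso (ModSite.Mod O_C) _).app F) (hX _)

variable (f : ModSite.RMor O_C O_D) [SiteCmp.HasRpushD f]

theorem isGE_push (X : DerivedCategory (ModSite.Mod O_C)) (n : ℤ) [X.IsGE n] :
    ((SiteCmp.RpushD f).obj X).IsGE n :=
  haveI := H10Coh.isGrothendieckAbelian_sheafOfModules (ModSite.ringSh O_C)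
  RDerPlus.isGE_obj f.push X n

theorem isZero_push_single [HasInjectiveResolutions (ModSite.Mod O_C)] (F : ModSite.Mod O_C)
    (N : ℤ) (h : ∀ p : ℕ, N < (p : ℤ) → IsZero ((f.Rpush p).obj F)) (i : ℤ) (hi : i < 0 ∨ N < i) :
    IsZero ((homologyFunctor _ i).obj ((SiteCmp.RpushD f).obj (SiteCmp.inD O_C F))) := by
  haveI := H10Coh.isGrothendieckAbelian_sheafOfModules (ModSite.ringSh O_C)
  by_cases hi0 : i < 0
  · haveI := isGE_push f (SiteCmp.inD O_C F) 0
    exact isZero_of_isGE _ 0 i hi0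
  · obtain ⟨p, rfl⟩ : ∃ p : ℕ, i = p := ⟨i.toNat, by omega⟩
    obtain ⟨e⟩ := RDerPlus.nonempty_homology_single_iso f.push F p
    exact (h p (by omega)).of_iso e

theorem cohIn_push_single [HasInjectiveResolutions (ModSite.Mod O_C)] (F : ModSite.Mod O_C)
    (A' : ObjectProperty (ModSite.Mod O_D)) [WSerre.IsWeakSerre A']
    (h : ∀ p : ℕ, A' ((f.Rpush p).obj F)) :
    WSerre.cohIn A' ((SiteCmp.RpushD f).obj (SiteCmp.inD O_C F)) := fun i => by
  haveI := H10Coh.isGrothendieckAbelian_sheafOfModules (ModSite.ringSh O_C)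
  by_cases hi0 : i < 0
  · haveI := isGE_push f (SiteCmp.inD O_C F) 0
    exact A'.prop_of_iso ((isZero_zero _).iso (isZero_of_isGE _ 0 i hi0)) A'.prop_zero
  · obtain ⟨p, rfl⟩ : ∃ p : ℕ, i = p := ⟨i.toNat, by omega⟩
    obtain ⟨e⟩ := RDerPlus.nonempty_homology_single_iso f.push F p
    exact A'.prop_of_iso e.symm (h p)

set_option maxHeartbeats 1000000 in
/-- Truncation of the source does not affect the high cohomology of the direct image. -/
theorem isIso_homology_push_truncGE [HasInjectiveResolutions (ModSite.Mod O_C)]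
    (A : ObjectProperty (ModSite.Mod O_C)) [WSerre.IsWeakSerre A] (B : Set C)
    (hB : ∀ U : C, ∃ (ι : Type u) (Y : ι → C) (g : ∀ i, Y i ⟶ U), Sieve.ofArrows Y g ∈ J U ∧ ∀ i, Y i ∈ B)
    (hA : ∀ V ∈ B, ∃ d : ℕ, ∀ T ∈ J V, ∃ (ι : Type u) (Y : ι → C) (g : ∀ i, Y i ⟶ V),
      (∀ i, T.arrows (g i)) ∧ Sieve.ofArrows Y g ∈ J V ∧
      ∀ (i : ι) (F : ModSite.Mod O_C), A F → ∀ k : ℕ, d < k → Subsingleton (ModSite.HU O_C F k (Y i)))
    (B' : Set D) (Good : ℕ → D → Prop)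
    (hB' : ∀ U : D, ∃ (ι : Type u) (Y : ι → D) (g : ∀ i, Y i ⟶ U), Sieve.ofArrows Y g ∈ K U ∧ ∀ i, Y i ∈ B')
    (hGood : ∀ V ∈ B', ∃ d : ℕ, ∀ T ∈ K V, ∃ (ι : Type u) (Y : ι → D) (g : ∀ i, Y i ⟶ V),
      (∀ i, T.arrows (g i)) ∧ Sieve.ofArrows Y g ∈ K V ∧ ∀ i, Good d (Y i))
    (N : ℤ) (hN : ∀ F : ModSite.Mod O_C, A F → ∀ p : ℕ, N < (p : ℤ) → IsZero ((f.Rpush p).obj F))
    (hvan : ∀ (d : ℕ) (Y : D), Good d Y → ∀ (F : ModSite.Mod O_C), A F → ∀ i : ℤ, (d : ℤ) + |N| < i →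
      ∀ z : (singleFunctor _ 0).obj ((genMod O_D).G.obj Y) ⟶
        ((SiteCmp.RpushD f).obj (SiteCmp.inD O_C F))⟦i⟧, z = 0)
    (X : DerivedCategory (ModSite.Mod O_C)) (hX : WSerre.cohIn A X) (n : ℕ) (j : ℤ)
    (hj : N - (n : ℤ) ≤ j) :
    IsIso ((homologyFunctor (ModSite.Mod O_D) j).map
      ((SiteCmp.RpushD f).map ((t.truncGEπ (-(n : ℤ))).app X))) := by
  haveI := H10Coh.isGrothendieckAbelian_sheafOfModules (ModSite.ringSh O_C)
  haveI : HasProduct (CohCx.truncTower X) := by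
    haveI := KInjRes.hasProducts_derivedCategory (A := ModSite.Mod O_C)
    haveI : HasLimitsOfShape (Discrete ℕ) (DerivedCategory (ModSite.Mod O_C)) :=
      hasLimitsOfShape_of_equivalence (Discrete.equivalence Equiv.ulift.{u})
    infer_instance
  obtain ⟨Lf, _, _, ⟨adj⟩⟩ := AdaptedAdj.exists_triangulated_leftAdjoint
    (G := f.pull) (F := f.push) f.adj (PullAdapted.pullAdapted f)
  let R := SiteCmp.RpushD f
  letI := adj.rightAdjointCommShift ℤ
  haveI : adj.CommShift ℤ := adj.commShift_of_leftAdjoint ℤ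
  haveI : R.IsTriangulated := adj.isTriangulated_rightAdjoint
  haveI : PreservesLimit (Discrete.functor (CohCx.truncTower X)) R :=
    adj.rightAdjoint_preservesLimits.preservesLimitsOfShape.preservesLimit
  haveI : HasProduct fun k => R.obj (CohCx.truncTower X k) :=
    haveI : HasLimit (Discrete.functor (CohCx.truncTower X) ⋙ R) :=
      ⟨⟨⟨_, isLimitOfPreserves R (limit.isLimit _)⟩⟩⟩
    hasLimit_of_iso (Discrete.natIso (fun _ => Iso.refl _) :
      Discrete.functor (CohCx.truncTower X) ⋙ R ≅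
        Discrete.functor fun k => R.obj (CohCx.truncTower X k))
  have hL : CohCx.IsRlimVia (CohCx.truncTower X) (CohCx.truncTowerMap X) X (CohCx.toTruncTower X) := by
    refine RlimTruncApps.isRlimVia_truncTower_of_bound (genMod O_C) X B hB fun V hV => ?_
    obtain ⟨d, hd⟩ := hA V hV
    refine ⟨fun _ => (d : ℤ), fun T hT => ?_⟩
    obtain ⟨ι, Y, g, h1, h2, h3⟩ := hd T hT
    exact ⟨ι, Y, g, h1, h2, fun i m k hk =>
      (van_mod_iff O_C _ _ _).2 (h3 i _ (hX _) k (Int.ofNat_lt.1 hk))⟩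
  have hR := AdaptedAdj.isRlimVia_map adj hL
  have hcone : ∀ k : ℕ, ∃ (Z : DerivedCategory (ModSite.Mod O_D))
      (g : R.obj (CohCx.truncTower X k) ⟶ Z) (d : Z ⟶ (R.obj (CohCx.truncTower X (k + 1)))⟦(1 : ℤ)⟧),
      Triangle.mk (R.map (CohCx.truncTowerMap X k)) g d ∈ distTriang _ ∧
        ∃ F, A F ∧ Nonempty (Z ≅ (R.obj (SiteCmp.inD O_C F))⟦((k : ℤ) + 2)⟧) := by
    intro k
    obtain ⟨Z, g, d, hT, F, hF, ⟨e⟩⟩ := exists_cone_truncTower A X hX k
    exact ⟨R.obj Z, R.map g, R.map d ≫ (R.commShiftIso (1 : ℤ)).hom.app _, R.map_distinguished _ hT,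
      F, hF, ⟨R.mapIso e ≪≫ (R.commShiftIso ((k : ℤ) + 2)).app _⟩⟩
  refine isIso_homology (genMod O_D) (fun k => R.map (CohCx.toTruncTower X k)) hR n (fun k hk => ?_)
    fun U => ?_
  · obtain ⟨Z, g, d, hT, F, hF, ⟨e⟩⟩ := hcone k
    have hz : ∀ i : ℤ, N < i + ((k : ℤ) + 2) → IsZero ((homologyFunctor _ i).obj Z) := fun i hi =>
      IsZero.of_iso (isZero_push_single f F N (hN F hF) _ (Or.inr hi))
        ((homologyFunctor _ i).mapIso e ≪≫
          ((homologyFunctor _ 0).shiftIso ((k : ℤ) + 2) i (i + ((k : ℤ) + 2)) (by omega)).app _)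
    have h1 : Epi ((homologyFunctor _ j).map (R.map (CohCx.truncTowerMap X k))) :=
      (HomologySequence.epi_homologyMap_mor₁_iff _ hT j).2 ((hz j (by omega)).eq_of_tgt _ _)
    have h2 : Mono ((homologyFunctor _ j).map (R.map (CohCx.truncTowerMap X k))) :=
      (HomologySequence.mono_homologyMap_mor₁_iff _ hT (j - 1) j (by omega)).2
        ((hz (j - 1) (by omega)).eq_of_src _ _)
    exact isIso_of_mono_of_epi _
  · refine (cofAt_of_cofinal B' Good hB' hGood U).mono (fun d => n + (d + |N| + |j|).toNat)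
      fun d Y hY => ⟨Nat.le_add_right _ _, fun k hk => ?_⟩
    obtain ⟨Z, g, δ, hT, F, hF, ⟨e⟩⟩ := hcone k
    have hv : ∀ i : ℤ, j - 1 ≤ i →
        ∀ z : (singleFunctor _ 0).obj ((genMod O_D).G.obj Y) ⟶ Z⟦i⟧, z = 0 := fun i hi z => by
      let e' := (shiftFunctor _ i).mapIso e ≪≫
        ((shiftFunctorAdd' (DerivedCategory (ModSite.Mod O_D)) ((k : ℤ) + 2) i ((k : ℤ) + 2 + i)
          rfl).app _).symm
      have habs := neg_abs_le j
      have h0 : z ≫ e'.hom = 0 := hvan d Y hY F hF _ (by omega) _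
      exact (cancel_mono e'.hom).1 (h0.trans zero_comp.symm)
    exact ⟨RlimTriang.surjective_shift_of_cone _ g δ hT _ (j - 1) (hv _ le_rfl),
      RlimTriang.surjective_shift_of_cone _ g δ hT _ j (hv _ (by omega)),
      RlimTriang.injective_shift_of_cone _ g δ hT _ j (hv _ le_rfl)⟩

end Groth.Agent.H15Site.SiteCmpTrunc
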