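import Groth.Agent.H15Site.RlimTriang
import Groth.Agent.H15Site.DKill
import Groth.Agent.H15Site.DVanish

/-!
# Derived limits over a site, abstractly

An abelian category with generators `G U` indexed by a site, behaving like the free sheaves `ℤ_U`.
-/

set_option autoImplicit false
set_option linter.style.haveILetI false
set_option linter.unusedSectionVars false

universe w v u u'

open CategoryTheory CategoryTheory.Limits CategoryTheory.Pretriangulated CategoryTheory.Triangulated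
open DerivedCategory

namespace Groth.Agent.H15Site.SiteGen

variable {C : Type u'} [Category.{u'} C] (J : GrothendieckTopology C)
  (A : Type u) [Category.{v} A] [Abelian A]

/-- Objects `G U` of an abelian category indexed by a site, which are locally projective and
generate. -/
structure Gen where
  /-- the objects -/
  G : C ⥤ A
  loc : ∀ {X : A} {V : C} (p : X ⟶ G.obj V) [Epi p],
    ∃ S ∈ J V, ∀ ⦃Y : C⦄ (g : Y ⟶ V), S g → ∃ l : G.obj Y ⟶ X, l ≫ p = G.map g
  sep : ∀ {V : C} {S : Sieve V}, S ∈ J V → ∀ {X : A} (φ : G.obj V ⟶ X),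
    (∀ ⦃Y : C⦄ (g : Y ⟶ V), S g → G.map g ≫ φ = 0) → φ = 0
  gen : ∀ {X Y : A} (φ : X ⟶ Y), (∀ (U : C) (h : G.obj U ⟶ X), h ≫ φ = 0) → φ = 0

variable {J A} [HasDerivedCategory.{w} A]

/-- `(N, Y)` ranges over a family which is cofinal below `U`: for every sequence of covering sieves
`T N` of `U`, the `g : Y ⟶ U` with `T N g` and `P N Y` cover `U`. -/
def CofAt (J : GrothendieckTopology C) (U : C) (P : ℕ → C → Prop) : Prop :=
  ∀ T : ℕ → Sieve U, (∀ N, T N ∈ J U) →
    ∃ S ∈ J U, ∀ ⦃Y : C⦄ (g : Y ⟶ U), S g →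
      ∃ (Z : C) (p : Y ⟶ Z) (g' : Z ⟶ U) (N : ℕ), p ≫ g' = g ∧ T N g' ∧ P N Z

theorem CofAt.mono {U : C} {P Q : ℕ → C → Prop} (h : CofAt J U P) (f : ℕ → ℕ)
    (hPQ : ∀ N Y, P N Y → Q (f N) Y) : CofAt J U Q := fun T hT => by
  obtain ⟨S, hS, hS'⟩ := h (fun N => T (f N)) fun N => hT (f N)
  refine ⟨S, hS, fun Y g hg => ?_⟩
  obtain ⟨Z, p, g', N, hp, hT', hP⟩ := hS' g hg
  exact ⟨Z, p, g', f N, hp, hT', hPQ N Z hP⟩

/-- `X ≅ H⁰` of `X` in degree `0`. -/
noncomputable def ιX (X : A) : X ≅ (homologyFunctor A 0).obj ((singleFunctor A 0).obj X) :=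
  ((singleFunctorCompHomologyFunctorIso A 0).app X).symm

theorem ιX_naturality {X X' : A} (g : X' ⟶ X) :
    g ≫ (ιX X).hom = (ιX X').hom ≫ (homologyFunctor A 0).map ((singleFunctor A 0).map g) :=
  (singleFunctorCompHomologyFunctorIso A 0).inv.naturality g

/-- `H⁰(L⟦m⟧) ≅ H^m L`. -/
noncomputable def σ (L : DerivedCategory A) (m : ℤ) :
    (homologyFunctor A 0).obj (L⟦m⟧) ≅ (homologyFunctor A m).obj L :=
  ((homologyFunctor A 0).shiftIso m 0 m (add_zero m)).app L

theorem σ_naturality {L L' : DerivedCategory A} (f : L ⟶ L') (m : ℤ) :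
    (homologyFunctor A 0).map (f⟦m⟧') ≫ (σ L' m).hom = (σ L m).hom ≫ (homologyFunctor A m).map f :=
  ((homologyFunctor A 0).shiftIso m 0 m (add_zero m)).hom.naturality f

/-- The image in `H^m` of a class. -/
noncomputable def cls {X : A} {L : DerivedCategory A} {m : ℤ}
    (y : (singleFunctor A 0).obj X ⟶ L⟦m⟧) : X ⟶ (homologyFunctor A m).obj L :=
  (ιX X).hom ≫ (homologyFunctor A 0).map y ≫ (σ L m).hom

theorem cls_comp {X : A} {L L' : DerivedCategory A} {m : ℤ}
    (y : (singleFunctor A 0).obj X ⟶ L⟦m⟧) (f : L ⟶ L') :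
    cls (y ≫ f⟦m⟧') = cls y ≫ (homologyFunctor A m).map f := by
  unfold cls
  rw [Functor.map_comp, Category.assoc, σ_naturality, Category.assoc, Category.assoc]

theorem cls_precomp {X X' : A} {L : DerivedCategory A} {m : ℤ} (g : X' ⟶ X)
    (y : (singleFunctor A 0).obj X ⟶ L⟦m⟧) :
    cls ((singleFunctor A 0).map g ≫ y) = g ≫ cls y := by
  unfold cls
  rw [Functor.map_comp, Category.assoc, ← Category.assoc g, ιX_naturality, Category.assoc]

theorem cls_zero (X : A) (L : DerivedCategory A) (m : ℤ) :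
    cls (0 : (singleFunctor A 0).obj X ⟶ L⟦m⟧) = 0 := by
  unfold cls
  rw [Functor.map_zero, zero_comp, comp_zero]

theorem cls_eq_zero {X : A} {L : DerivedCategory A} {m : ℤ}
    (y : (singleFunctor A 0).obj X ⟶ L⟦m⟧) (h : cls y = 0) : (homologyFunctor A 0).map y = 0 := by
  unfold cls at h
  rw [← cancel_mono (σ L m).hom, ← cancel_epi (ιX X).hom, h, zero_comp, comp_zero]

variable (𝔾 : Gen J A)

/-- Sections of cohomology objects are locally given by classes. -/
theorem exists_local_lift {V : C} {L : DerivedCategory A} {m : ℤ}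
    (s : 𝔾.G.obj V ⟶ (homologyFunctor A m).obj L) :
    ∃ S ∈ J V, ∀ ⦃Y : C⦄ (g : Y ⟶ V), S g →
      ∃ y : (singleFunctor A 0).obj (𝔾.G.obj Y) ⟶ L⟦m⟧, cls y = 𝔾.G.map g ≫ s := by
  obtain ⟨X', p, y, hp, hy⟩ := DKill.exists_epi_lift (W := L⟦m⟧)
    ((ιX (𝔾.G.obj V)).inv ≫ s ≫ (σ L m).inv)
  obtain ⟨S, hS, hl⟩ := 𝔾.loc p
  refine ⟨S, hS, fun Y g hg => ?_⟩
  obtain ⟨l, hl⟩ := hl g hg
  refine ⟨(singleFunctor A 0).map l ≫ y, ?_⟩
  rw [cls_precomp, ← hl, Category.assoc]
  refine congrArg (l ≫ ·) ?_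
  unfold cls
  rw [hy, ← Category.assoc, ← Category.assoc, ← ιX_naturality]
  simp

/-- Classes vanishing in cohomology are locally zero. -/
theorem exists_local_zero {V : C} {L : DerivedCategory A} {m : ℤ}
    (y : (singleFunctor A 0).obj (𝔾.G.obj V) ⟶ L⟦m⟧) (h : cls y = 0) :
    ∃ S ∈ J V, ∀ ⦃Y : C⦄ (g : Y ⟶ V), S g →
      (singleFunctor A 0).map (𝔾.G.map g) ≫ y = 0 := by
  obtain ⟨X', p, hp, hy⟩ := DKill.exists_epi_comp_eq_zero y (cls_eq_zero y h)
  obtain ⟨S, hS, hl⟩ := 𝔾.loc p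
  refine ⟨S, hS, fun Y g hg => ?_⟩
  obtain ⟨l, hl⟩ := hl g hg
  rw [← hl, Functor.map_comp, Category.assoc, hy, comp_zero]

variable {K : ℕ → DerivedCategory A} {t : ∀ n, K (n + 1) ⟶ K n}
  {L : DerivedCategory A} (a : ∀ n, L ⟶ K n)

/-- Classes at `Y` of the limit are detected at stage `N`. -/
def DetInj (m : ℤ) (N : ℕ) (Y : C) : Prop :=
  ∀ y : (singleFunctor A 0).obj (𝔾.G.obj Y) ⟶ L⟦m⟧, y ≫ (a N)⟦m⟧' = 0 → y = 0

/-- Classes at `Y` of stage `N` come from the limit. -/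
def DetSurj (m : ℤ) (N : ℕ) (Y : C) : Prop :=
  ∀ x : (singleFunctor A 0).obj (𝔾.G.obj Y) ⟶ (K N)⟦m⟧, ∃ y, y ≫ (a N)⟦m⟧' = x

/-- A section of `H^m` of the limit killed at the stages which detect is zero. -/
theorem eq_zero_of_local {U : C} {m : ℤ} (P : ℕ → C → Prop) (hcof : CofAt J U P)
    (hP : ∀ N Y, P N Y → DetInj 𝔾 a m N Y) (s : 𝔾.G.obj U ⟶ (homologyFunctor A m).obj L)
    (hs : ∀ N Y, P N Y → s ≫ (homologyFunctor A m).map (a N) = 0) : s = 0 := by
  classical
  obtain ⟨S, hS, hlift⟩ := exists_local_lift 𝔾 s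
  choose y hy using hlift
  have key : ∀ N, s ≫ (homologyFunctor A m).map (a N) = 0 → ∀ ⦃Y : C⦄ (g : Y ⟶ U) (hg : S g),
      ∃ R ∈ J Y, ∀ ⦃Z : C⦄ (p : Z ⟶ Y), R p →
        (singleFunctor A 0).map (𝔾.G.map p) ≫ y g hg ≫ (a N)⟦m⟧' = 0 := fun N hN Y g hg =>
    exists_local_zero 𝔾 _ (by rw [cls_comp, hy g hg, Category.assoc, hN, comp_zero])
  choose R hR hR' using key
  let T : ℕ → Sieve U := fun N =>
    if h : s ≫ (homologyFunctor A m).map (a N) = 0 then Sieve.bind S.arrows (R N h) else ⊤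
  have hT : ∀ N, T N ∈ J U := fun N => by
    dsimp only [T]
    split_ifs with h
    · exact J.bind_covering hS (hR N h)
    · exact J.top_mem U
  obtain ⟨S', hS', hS''⟩ := hcof T hT
  refine 𝔾.sep hS' s fun Y g hg => ?_
  obtain ⟨Z, p, g', N, rfl, hTg, hPN⟩ := hS'' g hg
  have hN := hs N Z hPN
  dsimp only [T] at hTg
  rw [dif_pos hN] at hTg
  obtain ⟨W, q, f, hf, hq, rfl⟩ := hTg
  have h0 : (singleFunctor A 0).map (𝔾.G.map q) ≫ y f hf = 0 :=
    hP N Z hPN _ (by rw [Category.assoc]; exact hR' N hN f hf q hq)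
  rw [Functor.map_comp, Functor.map_comp, Category.assoc, Category.assoc, ← hy f hf, ← cls_precomp,
    h0, cls_zero, comp_zero]

variable (hcomm : ∀ n, a (n + 1) ≫ t n = a n)

include hcomm in
theorem eq_zero_of_stable_mono {m : ℤ} (n₀ : ℕ)
    (hst : ∀ n, n₀ ≤ n → Mono ((homologyFunctor A m).map (t n)))
    {Q : A} (s : Q ⟶ (homologyFunctor A m).obj L)
    (hs : s ≫ (homologyFunctor A m).map (a n₀) = 0) (N : ℕ) :
    s ≫ (homologyFunctor A m).map (a N) = 0 := by
  rcases le_or_gt n₀ N with h | h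
  · induction N, h using Nat.le_induction with
    | base => exact hs
    | succ n hn ih =>
      haveI := hst n hn
      rw [← cancel_mono ((homologyFunctor A m).map (t n)), Category.assoc, ← Functor.map_comp,
        hcomm, ih, zero_comp]
  · obtain ⟨k, rfl⟩ : ∃ k, n₀ = N + k := ⟨n₀ - N, by omega⟩
    clear h hst
    induction k with
    | zero => exact hs
    | succ k ih =>
      refine ih ?_
      rw [← hcomm (N + k), Functor.map_comp, ← Category.assoc]
      exact (congrArg (· ≫ _) hs).trans zero_comp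

include hcomm in
/-- `H^m` of the limit injects into a stable stage. -/
theorem mono_homology {m : ℤ} (n₀ : ℕ)
    (hst : ∀ n, n₀ ≤ n → Mono ((homologyFunctor A m).map (t n)))
    (hcof : ∀ U, CofAt J U (DetInj 𝔾 a m)) : Mono ((homologyFunctor A m).map (a n₀)) :=
  Preadditive.mono_of_cancel_zero _ fun g hg => 𝔾.gen g fun U h =>
    eq_zero_of_local 𝔾 a _ (hcof U) (fun _ _ h => h) (h ≫ g) fun N _ _ =>
      eq_zero_of_stable_mono a hcomm n₀ hst _ (by rw [Category.assoc, hg, comp_zero]) N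

include hcomm in
/-- `H^m` of the limit surjects onto a stable stage. -/
theorem epi_homology {m : ℤ} (n₀ : ℕ)
    (hst : ∀ n, n₀ ≤ n → IsIso ((homologyFunctor A m).map (t n)))
    (hcof : ∀ U, CofAt J U (fun N Y => n₀ ≤ N ∧ DetSurj 𝔾 a m N Y)) :
    Epi ((homologyFunctor A m).map (a n₀)) := by
  refine Preadditive.epi_of_cancel_zero _ fun {Q} φ hφ => 𝔾.gen φ fun U s => ?_
  have hlift : ∀ N, n₀ ≤ N → ∃ sN : 𝔾.G.obj U ⟶ (homologyFunctor A m).obj (K N),
      ∀ {X : A} (g : X ⟶ 𝔾.G.obj U) (w : X ⟶ (homologyFunctor A m).obj L),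
        w ≫ (homologyFunctor A m).map (a N) = g ≫ sN →
          w ≫ (homologyFunctor A m).map (a n₀) = g ≫ s := by
    intro N hN
    induction N, hN using Nat.le_induction with
    | base => exact ⟨s, fun g w h => h⟩
    | succ n hn ih =>
      obtain ⟨sN, hsN⟩ := ih
      haveI := hst n hn
      refine ⟨sN ≫ inv ((homologyFunctor A m).map (t n)), fun g w h => hsN g w ?_⟩
      rw [← hcomm n, Functor.map_comp, ← Category.assoc, h]
      simp
  choose sN hsN using hlift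
  have key : ∀ N (hN : n₀ ≤ N), ∃ R ∈ J U, ∀ ⦃Y : C⦄ (g : Y ⟶ U), R g →
      ∃ x : (singleFunctor A 0).obj (𝔾.G.obj Y) ⟶ (K N)⟦m⟧, cls x = 𝔾.G.map g ≫ sN N hN :=
    fun N hN => exists_local_lift 𝔾 (sN N hN)
  choose R hR hR' using key
  let T : ℕ → Sieve U := fun N => if h : n₀ ≤ N then R N h else ⊤
  have hT : ∀ N, T N ∈ J U := fun N => by
    dsimp only [T]
    split_ifs with h
    · exact hR N h
    · exact J.top_mem U
  obtain ⟨S', hS', hS''⟩ := hcof U T hT
  refine 𝔾.sep hS' _ fun Y g hg => ?_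
  obtain ⟨Z, p, g', N, rfl, hTg, hN, hdet⟩ := hS'' g hg
  dsimp only [T] at hTg
  rw [dif_pos hN] at hTg
  obtain ⟨x, hx⟩ := hR' N hN g' hTg
  obtain ⟨y, rfl⟩ := hdet x
  rw [cls_comp] at hx
  have := hsN N hN _ _ hx
  rw [Functor.map_comp, Category.assoc, ← Category.assoc (𝔾.G.map g'), ← this, Category.assoc,
    hφ, comp_zero, comp_zero]

/-- The transition maps are well behaved at `Y` from stage `N` on. -/
def GoodTr (K : ℕ → DerivedCategory A) (t : ∀ n, K (n + 1) ⟶ K n) (m : ℤ) (N : ℕ) (Y : C) : Prop :=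
  ∀ n, N ≤ n →
    (∀ x : (singleFunctor A 0).obj (𝔾.G.obj Y) ⟶ (K n)⟦m - 1⟧, ∃ x', x' ≫ (t n)⟦m - 1⟧' = x) ∧
    (∀ x : (singleFunctor A 0).obj (𝔾.G.obj Y) ⟶ (K n)⟦m⟧, ∃ x', x' ≫ (t n)⟦m⟧' = x) ∧
    (∀ x : (singleFunctor A 0).obj (𝔾.G.obj Y) ⟶ (K (n + 1))⟦m⟧, x ≫ (t n)⟦m⟧' = 0 → x = 0)

omit a in
/-- An element of a stage of an eventually surjective tower extends to a compatible family. -/
theorem exists_compatible {M : ℕ → Type*} [∀ n, AddCommGroup (M n)] (s : ∀ n, M (n + 1) →+ M n)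
    (N : ℕ) (hs : ∀ n, N ≤ n → Function.Surjective (s n)) (x : M N) :
    ∃ f : ∀ n, M n, f N = x ∧ ∀ n, s n (f (n + 1)) = f n := by
  induction N generalizing M with
  | zero =>
    choose r hr using fun n => hs n (Nat.zero_le _)
    let f : ∀ n, M n := fun n => Nat.rec x (fun k fk => r k fk) n
    exact ⟨f, rfl, fun n => hr n (f n)⟩
  | succ N ih =>
    obtain ⟨f, hf, hf'⟩ := ih (M := fun n => M (n + 1)) (fun n => s (n + 1))
      (fun n hn => hs (n + 1) (by omega)) x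
    let g : ∀ n, M n := fun n => match n with
      | 0 => s 0 (f 0)
      | k + 1 => f k
    refine ⟨g, hf, fun n => ?_⟩
    match n with
    | 0 => rfl
    | k + 1 => exact hf' k

theorem comm_of_isRlimVia [HasProduct K] (hL : CohCx.IsRlimVia K t L a) (n : ℕ) :
    a (n + 1) ≫ t n = a n := by
  obtain ⟨c, hT⟩ := hL
  have h : Pi.lift a ≫ RlimTriang.diff K t = 0 := comp_distTriang_mor_zero₁₂ _ hT
  have := congrArg (· ≫ Pi.π K n) h
  simp only [zero_comp] at this
  rw [RlimTriang.comp_lift_diff, sub_eq_zero] at this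
  exact this.symm

theorem detSurj_of_goodTr [HasProduct K] (hL : CohCx.IsRlimVia K t L a) {m : ℤ} {N : ℕ} {Y : C}
    (h : GoodTr 𝔾 K t m N Y) : DetSurj 𝔾 a m N Y := fun x => by
  obtain ⟨f, hf, hf'⟩ := exists_compatible
    (M := fun n => (singleFunctor A 0).obj (𝔾.G.obj Y) ⟶ (K n)⟦m⟧)
    (fun n => Preadditive.rightComp _ ((t n)⟦m⟧')) N (fun n hn z => (h n hn).2.1 z) x
  obtain ⟨y, hy⟩ := RlimTriang.exists_lift hL m f hf'
  exact ⟨y, (hy N).trans hf⟩

theorem detInj_of_goodTr [HasProduct K] (hL : CohCx.IsRlimVia K t L a) {m : ℤ} {N : ℕ} {Y : C}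
    (h : GoodTr 𝔾 K t m N Y) : DetInj 𝔾 a m N Y := fun y hy => by
  refine RlimTriang.eq_zero hL m (fun z => ?_) y fun n => ?_
  · exact RlimTriang.exists_sub_eq
      (M := fun n => (singleFunctor A 0).obj (𝔾.G.obj Y) ⟶ (K n)⟦m - 1⟧)
      (fun n => Preadditive.rightComp _ ((t n)⟦m - 1⟧')) N (fun n hn x => (h n hn).1 x) z
  · rcases le_or_gt N n with hn | hn
    · induction n, hn using Nat.le_induction with
      | base => exact hy
      | succ k hk ih =>
        refine (h k hk).2.2 _ ?_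
        rw [Category.assoc, ← Functor.map_comp, comm_of_isRlimVia a hL, ih]
    · obtain ⟨k, rfl⟩ : ∃ k, N = n + k := ⟨N - n, by omega⟩
      clear hn h
      induction k with
      | zero => exact hy
      | succ k ih =>
        refine ih ?_
        rw [← comm_of_isRlimVia a hL (n + k), Functor.map_comp, ← Category.assoc]
        exact (congrArg (· ≫ _) hy).trans zero_comp

/-- The main theorem: `H^m` of a derived limit is the stable value. -/
theorem isIso_homology [HasProduct K] (hL : CohCx.IsRlimVia K t L a) {m : ℤ} (n₀ : ℕ)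
    (hst : ∀ n, n₀ ≤ n → IsIso ((homologyFunctor A m).map (t n)))
    (hcof : ∀ U, CofAt J U (fun N Y => n₀ ≤ N ∧ GoodTr 𝔾 K t m N Y)) :
    IsIso ((homologyFunctor A m).map (a n₀)) := by
  have hcomm := comm_of_isRlimVia a hL
  haveI := mono_homology 𝔾 a hcomm n₀ (fun n hn => by have := hst n hn; infer_instance)
    fun U => (hcof U).mono id fun N Y h => detInj_of_goodTr 𝔾 a hL h.2
  haveI := epi_homology 𝔾 a hcomm n₀ hst
    fun U => (hcof U).mono id fun N Y h => ⟨h.1, detSurj_of_goodTr 𝔾 a hL h.2⟩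
  exact isIso_of_mono_of_epi _

end Groth.Agent.H15Site.SiteGen
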