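import Mathlib
import Groth.Agent.H15Site.CoskLib
set_option linter.style.haveILetI false

open CategoryTheory CategoryTheory.Limits Opposite Simplicial AlgebraicTopology

universe v u

namespace Groth.Agent.H15Site.SkelAb

variable {A : Type u} [Category.{v} A] [Abelian A]

/-- The images of all operators coming from dimensions `≤ n`. -/
abbrev gens (U : SimplicialObject A) (n m : ℕ) : Set (Subobject (U _⦋m⦌)) :=
  Set.range (fun φ : Σ i : Fin (n + 1), (⦋m⦌ ⟶ SimplexCategory.mk i) => imageSubobject (U.map φ.2.op))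

variable {U : SimplicialObject A} {n : ℕ} {U' : ∀ m : ℕ, Subobject (U _⦋m⦌)}
  (hU' : ∀ m : ℕ, IsLUB (gens U n m) (U' m))

include hU' in
lemma gen_le {m i : ℕ} (hi : i ≤ n) (φ : ⦋m⦌ ⟶ ⦋i⦌) :
    imageSubobject (U.map φ.op) ≤ U' m :=
  (hU' m).1 ⟨⟨⟨i, Nat.lt_succ_of_le hi⟩, φ⟩, rfl⟩

include hU' in
lemma map_le {m m' : ℕ} (ψ : ⦋m'⦌ ⟶ ⦋m⦌) :
    imageSubobject ((U' m).arrow ≫ U.map ψ.op) ≤ U' m' := by
  have h : U' m ≤ (Subobject.pullback (U.map ψ.op)).obj (U' m') := by
    refine (hU' m).2 ?_
    rintro _ ⟨⟨i, φ⟩, rfl⟩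
    have hf : (U' m').Factors (U.map φ.op ≫ U.map ψ.op) := by
      rw [← U.map_comp, ← op_comp]
      exact Subobject.factors_of_le _ (gen_le hU' (Nat.le_of_lt_succ i.2) (ψ ≫ φ))
        (by simpa using imageSubobject_factors_comp_self (U.map (ψ ≫ φ).op) (𝟙 _))
    exact Limits.imageSubobject_le (X := (Subobject.pullback (U.map ψ.op)).obj (U' m')) _
      ((Subobject.isPullback (U.map ψ.op) (U' m')).lift ((U' m').factorThru _ hf) (U.map φ.op)
        (Subobject.factorThru_arrow _ _ hf)) ((Subobject.isPullback _ _).lift_snd ..)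
  refine Limits.imageSubobject_le _ (Subobject.ofLE _ _ h ≫ Subobject.pullbackπ _ _) ?_
  rw [Category.assoc, (Subobject.isPullback (U.map ψ.op) (U' m')).w, Subobject.ofLE_arrow_assoc]

include hU' in
lemma eq_top {i : ℕ} (hi : i ≤ n) : U' i = ⊤ := by
  refine top_unique ((le_of_eq ?_).trans (gen_le hU' hi (𝟙 ⦋i⦌)))
  rw [op_id, CategoryTheory.Functor.map_id]
  have : IsSplitEpi (imageSubobject (𝟙 (U _⦋i⦌))).arrow :=
    IsSplitEpi.mk' ⟨factorThruImageSubobject _, imageSubobject_arrow_comp _⟩
  exact ((Subobject.isIso_arrow_iff_eq_top _).1 (isIso_of_mono_of_epi _)).symm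

/-- The subobject of `U_m` killed by `P∞`. -/
lemma comp_PInfty {m i : ℕ} (hi : i < m) (φ : ⦋m⦌ ⟶ ⦋i⦌) :
    U.map φ.op ≫ (DoldKan.PInfty (X := U)).f m = 0 := by
  obtain ⟨m, rfl⟩ : ∃ k, m = k + 1 := ⟨m - 1, by omega⟩
  obtain ⟨j, θ, rfl⟩ := SimplexCategory.eq_σ_comp_of_not_injective φ (fun h => by
    have := Fintype.card_le_of_injective _ h
    simp at this
    omega)
  rw [op_comp, Functor.map_comp, Category.assoc]
  have h := DoldKan.σ_comp_PInfty U j
  simp only [SimplicialObject.σ] at h
  rw [h, comp_zero]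

lemma objX_arrow_comp_PInfty (U : SimplicialObject A) (m : ℕ) :
    (NormalizedMooreComplex.objX U m).arrow ≫ (DoldKan.PInfty (X := U)).f m =
      (NormalizedMooreComplex.objX U m).arrow := by
  cases m with
  | zero => simp
  | succ m =>
    refine DoldKan.HigherFacesVanish.comp_P_eq_self (X := U) (q := m + 1) (fun j _ => ?_)
    have h := Subobject.finset_inf_arrow_factors Finset.univ (fun k : Fin (m + 1) => kernelSubobject (U.δ k.succ))
      j (Finset.mem_univ _)
    have h2 := (kernelSubobject_factors_iff (U.δ j.succ) _).1 h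
    exact h2

include hU' in
lemma arrow_comp_PInfty {m : ℕ} (hm : n < m) :
    (U' m).arrow ≫ (DoldKan.PInfty (X := U)).f m = 0 := by
  have h : U' m ≤ kernelSubobject ((DoldKan.PInfty (X := U)).f m) := by
    refine (hU' m).2 ?_
    rintro _ ⟨⟨i, φ⟩, rfl⟩
    exact Limits.imageSubobject_le _ (factorThruKernelSubobject _ _ (comp_PInfty (by omega) φ))
      (factorThruKernelSubobject_comp_arrow ..)
  rw [← Subobject.ofLE_arrow h, Category.assoc, kernelSubobject_arrow_comp, comp_zero]

include hU' in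
lemma inf_objX_eq_bot {m : ℕ} (hm : n < m) : U' m ⊓ NormalizedMooreComplex.objX U m = ⊥ := by
  set N := NormalizedMooreComplex.objX U m
  rw [← Subobject.mk_arrow (U' m ⊓ N), Subobject.mk_eq_bot_iff_zero]
  have h1 : (U' m ⊓ N).arrow ≫ (DoldKan.PInfty (X := U)).f m = 0 := by
    rw [← Subobject.ofLE_arrow (inf_le_left : U' m ⊓ N ≤ U' m), Category.assoc,
      arrow_comp_PInfty hU' hm, comp_zero]
  have h2 : (U' m ⊓ N).arrow ≫ (DoldKan.PInfty (X := U)).f m = (U' m ⊓ N).arrow := by
    rw [← Subobject.ofLE_arrow (inf_le_right : U' m ⊓ N ≤ N), Category.assoc,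
      objX_arrow_comp_PInfty]
  exact h2.symm.trans h1

/-- The simplicial subobject with components `U'`. -/
noncomputable def sub : SimplicialObject A where
  obj Δ := (U' Δ.unop.len : A)
  map {Δ Δ'} g := (U' Δ'.unop.len).factorThru ((U' Δ.unop.len).arrow ≫ U.map g)
    (Subobject.factors_of_le _ (map_le hU' (m := Δ.unop.len) (m' := Δ'.unop.len) g.unop)
      (by simpa using imageSubobject_factors_comp_self ((U' Δ.unop.len).arrow ≫ U.map g) (𝟙 _)))
  map_id Δ := by
    rw [← cancel_mono (U' Δ.unop.len).arrow, Subobject.factorThru_arrow]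
    simp
  map_comp g g' := by
    rw [← cancel_mono (U' _).arrow, Subobject.factorThru_arrow, Category.assoc,
      Subobject.factorThru_arrow, Subobject.factorThru_arrow_assoc, Category.assoc, U.map_comp]

/-- The inclusion of `sub` into `U`. -/
noncomputable def subι : sub hU' ⟶ U where
  app Δ := (U' Δ.unop.len).arrow
  naturality _ _ g := by simp [sub]

variable [∀ F : (SimplexCategory.Truncated n)ᵒᵖ ⥤ A,
  (SimplexCategory.Truncated.inclusion n).op.HasLeftKanExtension F]

lemma isIso_truncation_subι : IsIso ((SimplicialObject.truncation n).map (subι hU')) := by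
  rw [NatTrans.isIso_iff_isIso_app]
  rintro ⟨⟨Δ, hΔ⟩⟩
  induction Δ using SimplexCategory.rec with | _ i
  change IsIso (U' i).arrow
  exact (Subobject.isIso_arrow_iff_eq_top _).2 (eq_top hU' hΔ)

/-- The counit of the skeleton adjunction factors through `sub`. -/
lemma exists_factor :
    ∃ t : (SimplicialObject.Truncated.sk n).obj ((SimplicialObject.truncation n).obj U) ⟶ sub hU',
      t ≫ subι hU' = (SimplicialObject.skAdj n).counit.app U := by
  have := isIso_truncation_subι hU'
  refine ⟨((SimplicialObject.skAdj n).homEquiv _ _).symm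
    (inv ((SimplicialObject.truncation n).map (subι hU'))), ?_⟩
  apply ((SimplicialObject.skAdj n).homEquiv _ _).injective
  rw [Adjunction.homEquiv_naturality_right, Equiv.apply_symm_apply, IsIso.inv_hom_id,
    Adjunction.homEquiv_unit]
  exact ((SimplicialObject.skAdj n).right_triangle_components U).symm

omit hU'

/-- A left Kan extension from the truncation is generated in dimensions `≤ n`. -/
lemma sk_eq_top (V : SimplicialObject.Truncated A n)
    {W : ∀ m : ℕ, Subobject (((SimplicialObject.Truncated.sk n).obj V) _⦋m⦌)}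
    (hW : ∀ m : ℕ, IsLUB (gens ((SimplicialObject.Truncated.sk n).obj V) n m) (W m)) (m : ℕ) :
    W m = ⊤ := by
  have := isIso_truncation_subι hW
  let t : (SimplicialObject.Truncated.sk n).obj V ⟶ sub hW := ((SimplicialObject.skAdj n).homEquiv V (sub hW)).symm
    ((SimplicialObject.skAdj n).unit.app V ≫ inv ((SimplicialObject.truncation n).map (subι hW)))
  have ht : t ≫ subι hW = 𝟙 _ := by
    apply ((SimplicialObject.skAdj n).homEquiv V _).injective
    rw [Adjunction.homEquiv_naturality_right, Equiv.apply_symm_apply, Category.assoc,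
      IsIso.inv_hom_id, Adjunction.homEquiv_unit, CategoryTheory.Functor.map_id]
    rfl
  have h1 : IsSplitEpi (W m).arrow :=
    IsSplitEpi.mk' ⟨(show _ ⟶ (W m : A) from t.app (op ⦋m⦌)),
      Eq.trans rfl (NatTrans.congr_app ht (op ⦋m⦌))⟩
  exact (Subobject.isIso_arrow_iff_eq_top _).1 (isIso_of_mono_of_epi _)

lemma exists_isLUB (U : SimplicialObject A) (n m : ℕ) : ∃ s, IsLUB (gens U n m) s :=
  let f : (Σ i : Fin (n + 1), (⦋m⦌ ⟶ SimplexCategory.mk i)) → Subobject (U _⦋m⦌) :=
    fun φ => imageSubobject (U.map φ.2.op)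
  have : Fintype (Σ i : Fin (n + 1), (⦋m⦌ ⟶ SimplexCategory.mk i)) := Fintype.ofFinite _
  ⟨Finset.univ.sup f, by
    constructor
    · rintro _ ⟨φ, rfl⟩
      exact Finset.le_sup (f := f) (Finset.mem_univ φ)
    · exact fun b hb => Finset.sup_le fun φ _ => hb ⟨φ, rfl⟩⟩

lemma sk_objX_eq_bot (V : SimplicialObject.Truncated A n) {m : ℕ} (hm : n < m) :
    NormalizedMooreComplex.objX ((SimplicialObject.Truncated.sk n).obj V) m = ⊥ := by
  choose W hW using fun m => exists_isLUB ((SimplicialObject.Truncated.sk n).obj V) n m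
  have h := inf_objX_eq_bot hW hm
  rwa [sk_eq_top V hW m, top_inf_eq] at h

omit [∀ F : (SimplexCategory.Truncated n)ᵒᵖ ⥤ A,
  (SimplexCategory.Truncated.inclusion n).op.HasLeftKanExtension F] in
lemma PInfty_eq_zero {m : ℕ} (h : NormalizedMooreComplex.objX U m = ⊥) :
    (DoldKan.PInfty (X := U)).f m = 0 :=
  (Subobject.bot_factors_iff_zero _).1 (h ▸ DoldKan.factors_normalizedMooreComplex_PInfty m)

omit [∀ F : (SimplexCategory.Truncated n)ᵒᵖ ⥤ A,
  (SimplexCategory.Truncated.inclusion n).op.HasLeftKanExtension F] in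
/-- A simplicial object killed by `P∞` vanishes. -/
lemma isZero_of_PInfty_eq_zero (X : SimplicialObject A)
    (h : ∀ m, (DoldKan.PInfty (X := X)).f m = 0) (m : ℕ) : IsZero (X _⦋m⦌) := by
  induction m with
  | zero =>
    rw [IsZero.iff_id_eq_zero, ← h 0]
    exact (DoldKan.PInfty_f_0 (X := X)).symm
  | succ m ih =>
    rw [IsZero.iff_id_eq_zero]
    have e := (DoldKan.PInfty_f_add_QInfty_f (X := X) (m + 1)).symm
    rw [h, zero_add, DoldKan.QInfty_f, DoldKan.decomposition_Q] at e
    refine e.trans (Finset.sum_eq_zero fun i _ => ?_)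
    rw [ih.eq_of_src (X.σ i.rev) 0]
    simp

variable (U n) in
lemma mono_counit (m : ℕ) : Mono (((SimplicialObject.skAdj n).counit.app U).app (op ⦋m⦌)) := by
  have hpw := hasPointwiseLeftKanExtension_inclusion (C := A) n
  set c := (SimplicialObject.skAdj n).counit.app U
  set κ := kernel.ι c
  have hK : ∀ m, (DoldKan.PInfty (X := kernel c)).f m = 0 := by
    intro m
    have : Mono (κ.app (op ⦋m⦌)) := inferInstance
    rw [← cancel_mono (κ.app (op ⦋m⦌)), zero_comp, ← DoldKan.PInfty_f_naturality]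
    by_cases hm : n < m
    · rw [PInfty_eq_zero (sk_objX_eq_bot _ hm), comp_zero]
    · have h1 : IsIso ((SimplicialObject.skAdj (C := A) n).unit.app ((SimplicialObject.truncation n).obj U)) :=
        inferInstance
      have h2 : IsIso ((SimplicialObject.truncation n).map c) :=
        IsIso.of_isIso_fac_left ((SimplicialObject.skAdj n).right_triangle_components U)
      have h3 : Mono (c.app (op ⦋m⦌)) := by
        have := (NatTrans.isIso_iff_isIso_app _).1 h2 (op ⟨⦋m⦌, not_lt.1 hm⟩)
        exact (this : IsIso (c.app (op ⦋m⦌))) |>.mono_of_iso |> fun h => h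
      have : κ.app (op ⦋m⦌) = 0 := by
        rw [← cancel_mono (c.app (op ⦋m⦌)), zero_comp]
        exact NatTrans.congr_app (kernel.condition c) (op ⦋m⦌)
      rw [this, zero_comp]
  have hz := isZero_of_PInfty_eq_zero _ hK m
  refine Preadditive.mono_of_isZero_kernel' (KernelFork.ofι _ ((NatTrans.congr_app (kernel.condition c) (op ⦋m⦌)))) ?_ hz
  exact isLimitForkMapOfIsLimit ((evaluation SimplexCategoryᵒᵖ A).obj (op ⦋m⦌)) _ (kernelIsKernel c) |> fun h => h.ofIsoLimit (Fork.ext (Iso.refl _))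

end Groth.Agent.H15Site.SkelAb
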