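import Groth.Agent.H15Site.SpHyper
import Groth.Agent.H15Site.CechFill
import Groth.Agent.H15Site.CohPush
import Groth.Agent.H15Site.CohTerminal
import Groth.Agent.H15Site.OverInj

/-!
# Spectral sequences of hypercoverings of an object; cohomology presheaves of restrictions
-/

set_option linter.style.haveILetI false
set_option linter.unusedSectionVars false
set_option backward.isDefEq.respectTransparency false

universe u

open CategoryTheory CategoryTheory.Limits Opposite CategoryTheory.Abelian

namespace Groth.Agent.H15Site.SpCover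

attribute [local instance 10000] SiteInst.hasSheafifySite SiteInst.hasWeakSheafifySite
  SiteInst.hasExtSite SiteInst.enoughInjSite

section Push

variable {C D : Type u} [SmallCategory C] [SmallCategory D] {J : GrothendieckTopology C}
  {K : GrothendieckTopology D} (r : D ⥤ C) [r.IsContinuous K J] [r.IsCocontinuous K J]

/-- Cohomology presheaves of the restriction along a continuous and cocontinuous functor. -/
theorem nonempty_cohP_push
    (hr : ∀ I : Sheaf J AddCommGrpCat.{u}, Injective I → Injective ((CohSite.push J K r).obj I))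
    (F : Sheaf J AddCommGrpCat.{u}) (q : ℕ) :
    Nonempty (Sheaf.cohomologyPresheaf.{u} ((CohSite.push J K r).obj F) q ≅
      r.op ⋙ Sheaf.cohomologyPresheaf.{u} F q) := by
  haveI := CohPush.preservesFiniteLimits_push (J := K) (K := J) r
  haveI := CohPush.preservesFiniteColimits_push (J := K) (K := J) r
  haveI : r.IsContinuous (⊥ : GrothendieckTopology D) J := ⟨fun _ => by
    rw [← isSheaf_iff_isSheaf_of_type]
    exact Presheaf.isSheaf_bot _⟩
  let P := CohSite.push J K r
  let G := CohSite.push J (⊥ : GrothendieckTopology D) r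
  let R := injectiveResolution F
  let L : CochainComplex (Sheaf K AddCommGrpCat.{u}) ℤ :=
    (P.mapHomologicalComplex (ComplexShape.up ℤ)).obj R.cochainComplex
  have : L.IsStrictlyGE 0 := by
    rw [CochainComplex.isStrictlyGE_iff]
    intro i hi
    exact P.map_isZero (CochainComplex.isZero_of_isStrictlyGE R.cochainComplex 0 i hi)
  let ι : (CochainComplex.singleFunctor _ 0).obj (P.obj F) ⟶ L :=
    (HomologicalComplex.singleMapHomologicalComplex P (ComplexShape.up ℤ) 0).inv.app F ≫
      (P.mapHomologicalComplex (ComplexShape.up ℤ)).map R.ι'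
  haveI : QuasiIso ((P.mapHomologicalComplex (ComplexShape.up ℤ)).map R.ι') := inferInstance
  haveI : QuasiIso ι := quasiIso_comp _ _
  obtain ⟨e₁⟩ := H16Derived.AcyclicLES.nonempty_rightDerived_iso (SpPre.forget K) L 0
    (fun k => hr _ inferInstance) ι q
  obtain ⟨e₂⟩ := H16Derived.AcyclicLES.nonempty_rightDerived_iso G R.cochainComplex 0
    (fun k => inferInstance) R.ι' q
  obtain ⟨a⟩ := SpPre.nonempty_rightDerived_forget K (P.obj F) q
  obtain ⟨b⟩ := HigherDirectSite.nonempty_Rpush_iso_sheafify (J := J)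
    (K := (⊥ : GrothendieckTopology D)) r q F
  let c : ((SpPre.forget K).mapHomologicalComplex (ComplexShape.up ℤ)).obj L ≅
      (G.mapHomologicalComplex (ComplexShape.up ℤ)).obj R.cochainComplex :=
    HomologicalComplex.Hom.isoOfComponents (fun _ => Iso.refl _) (fun i j _ => by
      rw [Iso.refl_hom, Iso.refl_hom, Category.id_comp, Category.comp_id]
      rfl)
  let b' : (CohSite.Rpush J (⊥ : GrothendieckTopology D) r q).obj F ≅
      (⟨r.op ⋙ Sheaf.cohomologyPresheaf.{u} F q, Presheaf.isSheaf_bot _⟩ :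
        Sheaf (⊥ : GrothendieckTopology D) AddCommGrpCat.{u}) :=
    b ≪≫ (asIso (sheafificationAdjunction (⊥ : GrothendieckTopology D)
      AddCommGrpCat.{u}).counit).app
        (⟨r.op ⋙ Sheaf.cohomologyPresheaf.{u} F q, Presheaf.isSheaf_bot _⟩ :
          Sheaf (⊥ : GrothendieckTopology D) AddCommGrpCat.{u})
  exact ⟨(sheafToPresheaf _ _).mapIso
    (a.symm ≪≫ e₁ ≪≫ HomologicalComplex.homologyMapIso c (q : ℤ) ≪≫ e₂.symm ≪≫ b')⟩

end Push

variable {C : Type u} [SmallCategory C] (J : GrothendieckTopology C)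

/-- `Ȟ^p(K, H^q(M)) ⇒ H^n(X, M)` for a hypercovering `K` of `X`. -/
theorem exists_spectralSequence (X : C) (K : SimplicialObject (FormalCoproduct.{u} (Over X)))
    (hK : HyperFill.LocFill (J.over X) (HyperSite.XK K)) (M : Sheaf J AddCommGrpCat.{u})
    (E₂ : ℤ → ℤ → AddCommGrpCat.{u}) (H : ℤ → AddCommGrpCat.{u})
    (he : ∀ p q : ℤ, 0 ≤ p → 0 ≤ q → Nonempty
      ((Hyper.cechCx X K (Sheaf.cohomologyPresheaf.{u} M q.toNat)).homology p.toNat ≃+ E₂ p q))
    (hz : ∀ p q : ℤ, ¬ (0 ≤ p ∧ 0 ≤ q) → IsZero (E₂ p q))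
    (hH : ∀ n : ℤ, 0 ≤ n → Nonempty (CohSite.HU M n.toNat X ≃+ H n))
    (hHz : ∀ n : ℤ, n < 0 → IsZero (H n)) :
    ∃ (E : E₂CohomologicalSpectralSequence AddCommGrpCat.{u}) (a : SpSeq.Abutment E H),
      (∀ n, a.IsFinite n) ∧ SpSeq.IsBounded E ∧
      ∀ p q : ℤ, Nonempty ((E.page 2 le_rfl).X (p, q) ≅ E₂ p q) := by
  let r := Over.forget X
  let P := CohSite.push J (J.over X) r
  refine SpHyper.exists_spectralSequence (J.over X) K hK (P.obj M) E₂ H ?_ hz ?_ hHz
  · intro p q hp hq
    obtain ⟨e'⟩ := he p q hp hq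
    obtain ⟨e⟩ := nonempty_cohP_push (J := J) (K := J.over X) r
      (fun I _ => OverInj.injective_over X I) M q.toNat
    exact ⟨((HomologicalComplex.homologyFunctor _ _ p.toNat).mapIso
      ((FormalCoproduct.cochainComplexFunctor K).mapIso e)).addCommGroupIsoToAddEquiv.trans e'⟩
  · intro n hn
    obtain ⟨e'⟩ := hH n hn
    obtain ⟨eT⟩ := CohTerminal.nonempty_H_addEquiv (J := J.over X)
      (Over.mkIdTerminal (X := X)) (P.obj M) n.toNat
    obtain ⟨eP⟩ := CohPush.nonempty_HU_push_addEquiv (J := J.over X) (K := J) r (Over.mk (𝟙 X))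
      (fun I _ k =>
        haveI := OverInj.injective_over (J := J) X I
        Edge.subsingleton_HU_of_injective _ k _) M n.toNat
    let eZ : HyperCech.Z (J.over X) ≅ CohTerminal.constZ (J.over X) :=
      (constantSheaf (J.over X) AddCommGrpCat.{u}).mapIso
        ((FreeAbelianGroup.uniqueEquiv PUnit.{u + 1}).trans AddEquiv.ulift.symm).toAddCommGrpIso
    exact ⟨(((((Abelian.extFunctor.{u} n.toNat).mapIso eZ.op).app
      (P.obj M)).symm.addCommGroupIsoToAddEquiv.trans eT).trans eP).trans e'⟩

end Groth.Agent.H15Site.SpCover
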