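import Groth.Agent.H15Site.SpTrunc
import Groth.Agent.H15Site.SpHom
import Groth.Agent.H16Derived.AcyclicLES
import Mathlib.CategoryTheory.Abelian.Injective.Ext

/-!
# The spectral sequence `Ext^p(F, R^q G M) ⇒ Ext^n(F', M)` when `Hom(F, G -) = Hom(F', -)`
-/

set_option linter.style.haveILetI false
set_option linter.unusedSectionVars false
set_option backward.isDefEq.respectTransparency false

universe u v v' u₁ u₂

open CategoryTheory CategoryTheory.Limits CategoryTheory.Abelian

namespace Groth.Agent.H15Site.SpGroth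

variable {A : Type u₁} [Category.{v} A] [Abelian A] [HasExt.{u} A] [EnoughInjectives A]
  {B : Type u₂} [Category.{v'} B] [Abelian B] [HasExt.{u} B]
  (G : A ⥤ B) [G.Additive] (F : B) (F' : A)
  (φ : ∀ Y : A, (F ⟶ G.obj Y) ≃+ (F' ⟶ Y))

/-- A Grothendieck spectral sequence for a functor preserving injectives. -/
theorem exists_spectralSequence (hG : ∀ I : A, Injective I → Injective (G.obj I))
    (hφ : ∀ (Y Y' : A) (h : Y ⟶ Y') (f : F ⟶ G.obj Y), φ Y' (f ≫ G.map h) = φ Y f ≫ h)
    (M : A) (E₂ : ℤ → ℤ → AddCommGrpCat.{u}) (H : ℤ → AddCommGrpCat.{u})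
    (he : ∀ p q : ℤ, 0 ≤ p → 0 ≤ q →
      Nonempty (Ext.{u} F ((G.rightDerived q.toNat).obj M) p.toNat ≃+ E₂ p q))
    (hz : ∀ p q : ℤ, ¬ (0 ≤ p ∧ 0 ≤ q) → IsZero (E₂ p q))
    (hH : ∀ n : ℤ, 0 ≤ n → Nonempty (Ext.{u} F' M n.toNat ≃+ H n))
    (hHz : ∀ n : ℤ, n < 0 → IsZero (H n)) :
    ∃ (E : E₂CohomologicalSpectralSequence AddCommGrpCat.{u}) (a : SpSeq.Abutment E H),
      (∀ n, a.IsFinite n) ∧ SpSeq.IsBounded E ∧
      ∀ p q : ℤ, Nonempty ((E.page 2 le_rfl).X (p, q) ≅ E₂ p q) := by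
  letI := HasDerivedCategory.standard B
  let R := injectiveResolution M
  let L : CochainComplex B ℤ := (G.mapHomologicalComplex (ComplexShape.up ℤ)).obj R.cochainComplex
  have hL : ∀ k, Injective (L.X k) := fun k => hG _ inferInstance
  have : L.IsStrictlyGE 0 := by
    rw [CochainComplex.isStrictlyGE_iff]
    intro i hi
    exact G.map_isZero (CochainComplex.isZero_of_isStrictlyGE R.cochainComplex 0 i hi)
  have := CochainComplex.isKInjective_of_injective L 0
  let P : DerivedCategory B := (DerivedCategory.singleFunctor B 0).obj F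
  have hX : (DerivedCategory.Q.obj L).IsGE 0 := inferInstance
  refine SpTrunc.exists_spectralSequence P (DerivedCategory.Q.obj L) E₂ H ?_ hz ?_ hHz
  · intro p q hp hq
    obtain ⟨e'⟩ := he p q hp hq
    obtain ⟨p, rfl⟩ := Int.eq_ofNat_of_zero_le hp
    obtain ⟨q, rfl⟩ := Int.eq_ofNat_of_zero_le hq
    let eY : (DerivedCategory.homologyFunctor B (q : ℤ)).obj (DerivedCategory.Q.obj L) ≅
        (G.rightDerived q).obj M :=
      (DerivedCategory.homologyFunctorFactors B (q : ℤ)).app L ≪≫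
        (Classical.choice (H16Derived.AcyclicLES.nonempty_rightDerived_iso G R.cochainComplex 0
          (fun k => inferInstance) R.ι' q)).symm
    let e₁ := ((preadditiveCoyoneda.obj (Opposite.op P)).mapIso
      ((shiftFunctor _ (p : ℤ)).mapIso ((DerivedCategory.singleFunctor B 0).mapIso eY))
      ).addCommGroupIsoToAddEquiv
    let e₂ : (P ⟶ ((DerivedCategory.singleFunctor B 0).obj
        ((G.rightDerived q).obj M))⟦(p : ℤ)⟧) ≃+ Ext.{u} F ((G.rightDerived q).obj M) p :=
      (Ext.homAddEquiv (X := F) (Y := (G.rightDerived q).obj M) (n := p)).symm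
    exact ⟨(AddEquiv.trans e₁ e₂).trans e'⟩
  · intro n hn
    obtain ⟨e'⟩ := hH n hn
    obtain ⟨n, rfl⟩ := Int.eq_ofNat_of_zero_le hn
    exact ⟨((SpHom.qAddEquiv ((CochainComplex.singleFunctor B 0).obj F) L n).trans
      ((SpHom.classAddEquiv (L' := R.cochainComplex) (fun q => φ (R.cochainComplex.X q))
        (fun q q' f => hφ _ _ (R.cochainComplex.d q q') f) n).trans
        (R.extAddEquivCohomologyClass (X := F') (n := n)).symm)).trans e'⟩

end Groth.Agent.H15Site.SpGroth
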