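import Groth.Agent.H15Site.SpPre
import Groth.Agent.H15Site.SpHomAdj
import Groth.Agent.H15Site.HyperCech
import Groth.Agent.H15Site.SieveAcyclic
import Mathlib.Algebra.Homology.Embedding.ExtendHomology
import Mathlib.CategoryTheory.Abelian.Projective.Extend

/-!
# The spectral sequence of a hypercovering of a site
-/

set_option linter.style.haveILetI false
set_option linter.unusedSectionVars false
set_option backward.isDefEq.respectTransparency false

universe u

open CategoryTheory CategoryTheory.Limits Opposite CategoryTheory.Abelian AlgebraicTopology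
  CochainComplex.HomComplex

namespace Groth.Agent.H15Site.SpHyper

attribute [local instance 10000] SiteInst.hasSheafifySite SiteInst.hasWeakSheafifySite
  SiteInst.hasExtSite SiteInst.enoughInjSite

variable {C : Type u} [SmallCategory C] (J : GrothendieckTopology C)

/-- Sections are exact for the trivial topology. -/
lemma surjective_app_of_epi {M N : Sheaf (⊥ : GrothendieckTopology C) AddCommGrpCat.{u}}
    (g : M ⟶ N) [Epi g] (U : Cᵒᵖ) : Function.Surjective (g.hom.app U) := by
  haveI := SieveAcyclic.isEquivalence_bot (C := C)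
  have : Epi g.hom := inferInstanceAs
    (Epi ((sheafToPresheaf (⊥ : GrothendieckTopology C) AddCommGrpCat.{u}).map g))
  exact (AddCommGrpCat.epi_iff_surjective _).1 inferInstance

instance projective_frF (L : FormalCoproduct.{u} C) :
    Projective ((HyperCech.frF (⊥ : GrothendieckTopology C)).obj L) where
  factors {E X} f e he := by
    haveI : IsIso (HyperCech.evGen X L) :=
      (ConcreteCategory.isIso_iff_bijective _).2 (HyperCech.evGen_bijective X L)
    choose t ht using fun i : L.I =>
      surjective_app_of_epi e (op (L.obj i))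
        (Pi.π (fun i => X.obj.obj (op (L.obj i))) i (HyperCech.evGen X L f))
    obtain ⟨f', hf'⟩ := (HyperCech.evGen_bijective E L).2
      ((Concrete.productEquiv (C := AddCommGrpCat.{u}) fun i => E.obj.obj (op (L.obj i))).symm t)
    refine ⟨f', (HyperCech.evGen_bijective X L).1 ?_⟩
    refine Concrete.limit_ext (C := AddCommGrpCat.{u})
      (Discrete.functor fun i => X.obj.obj (op (L.obj i))) _ _ fun ⟨i⟩ => ?_
    refine (HyperCech.evGen_π X L i _).trans (Eq.trans ?_ (ht i))
    have h : HyperCech.toPre X (f' ≫ e) = HyperCech.toPre E f' ≫ e.hom :=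
      Adjunction.homEquiv_naturality_right _ _ _
    refine (ConcreteCategory.congr_hom (congr_app h (op (L.obj i))) (HyperCech.gen L i)).trans ?_
    refine congrArg (e.hom.app (op (L.obj i))) ?_
    refine (HyperCech.evGen_π E L i f').symm.trans ?_
    rw [hf']
    exact Concrete.productEquiv_symm_apply_π (C := AddCommGrpCat.{u})
      (fun i => E.obj.obj (op (L.obj i))) t i

/-- Sheafifying a sheaf for the trivial topology. -/
noncomputable def sheafifyIso :
    presheafToSheaf (⊥ : GrothendieckTopology C) AddCommGrpCat.{u} ⋙ SpPre.sheafify J ≅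
      presheafToSheaf J AddCommGrpCat.{u} :=
  Functor.isoWhiskerRight
    ((NatIso.ofComponents (fun P : Cᵒᵖ ⥤ AddCommGrpCat.{u} =>
      isoSheafify (⊥ : GrothendieckTopology C) (P := P) (Presheaf.isSheaf_bot _))
      fun f => (sheafificationAdjunction (⊥ : GrothendieckTopology C) AddCommGrpCat.{u}).unit.naturality f
      ).symm : presheafToSheaf (⊥ : GrothendieckTopology C) AddCommGrpCat.{u} ⋙
        sheafToPresheaf (⊥ : GrothendieckTopology C) AddCommGrpCat.{u} ≅ 𝟭 _)
    (presheafToSheaf J AddCommGrpCat.{u})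

/-- The adjunction between sheafification and the forgetful functor. -/
noncomputable def adj : SpPre.sheafify J ⊣ SpPre.forget J :=
  Adjunction.mkOfHomEquiv
    { homEquiv := fun P G => (SpPre.homAddEquiv J P G).symm.toEquiv
      homEquiv_naturality_left_symm := fun {P' P G} f g =>
        (sheafificationAdjunction J AddCommGrpCat.{u}).homEquiv_naturality_left_symm f.hom g.hom
      homEquiv_naturality_right := fun {P G G'} f g => by
        apply (SpPre.homAddEquiv J P G').injective
        refine (AddEquiv.apply_symm_apply _ _).trans ?_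
        refine Eq.trans ?_ (SpPre.homAddEquiv_natural J P g _).symm
        exact congrArg (· ≫ g) ((SpPre.homAddEquiv J P G).apply_symm_apply f).symm }

variable (K : SimplicialObject (FormalCoproduct.{u} C))

/-- The free complex for the trivial topology, as a cochain complex. -/
noncomputable abbrev Kext :
    CochainComplex (Sheaf (⊥ : GrothendieckTopology C) AddCommGrpCat.{u}) ℤ :=
  (HyperCech.cplx K (⊥ : GrothendieckTopology C)).extend ComplexShape.embeddingDownNat

instance projective_cplx (n : ℕ) :
    Projective ((HyperCech.cplx K (⊥ : GrothendieckTopology C)).X n) :=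
  projective_frF (K.obj (op (SimplexCategory.mk n)))

instance isKProjective_Kext : (Kext K).IsKProjective := inferInstance

/-- Sheafifying the free complex. -/
noncomputable def sheafifyKext :
    ((SpPre.sheafify J).mapHomologicalComplex (ComplexShape.up ℤ)).obj (Kext K) ≅
      (HyperCech.cplx K J).extend ComplexShape.embeddingDownNat :=
  SpHomAdj.mapExtendIso (SpPre.sheafify J) _ ≪≫
    (ComplexShape.embeddingDownNat.extendFunctor _).mapIso
      (AugQuasiIso.altIso (SpPre.sheafify J)
          (HyperCech.SX K (⊥ : GrothendieckTopology C)) ≪≫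
        (alternatingFaceMapComplex (Sheaf J AddCommGrpCat.{u})).mapIso
          (Functor.isoWhiskerLeft (HyperExact.FX (HyperSite.XK K)) (sheafifyIso J)))

/-- `Ȟ^p(K, H^q(F)) ⇒ H^n(F)` for a hypercovering `K` of the site. -/
theorem exists_spectralSequence (hK : HyperFill.LocFill J (HyperSite.XK K)) (F : Sheaf J AddCommGrpCat.{u})
    (E₂ : ℤ → ℤ → AddCommGrpCat.{u}) (H : ℤ → AddCommGrpCat.{u})
    (he : ∀ p q : ℤ, 0 ≤ p → 0 ≤ q → Nonempty
      ((Hyper.cechCxSite K (F.cohomologyPresheaf q.toNat)).homology p.toNat ≃+ E₂ p q))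
    (hz : ∀ p q : ℤ, ¬ (0 ≤ p ∧ 0 ≤ q) → IsZero (E₂ p q))
    (hH : ∀ n : ℤ, 0 ≤ n → Nonempty (Ext.{u} (HyperCech.Z J) F n.toNat ≃+ H n))
    (hHz : ∀ n : ℤ, n < 0 → IsZero (H n)) :
    ∃ (E : E₂CohomologicalSpectralSequence AddCommGrpCat.{u}) (a : SpSeq.Abutment E H),
      (∀ n, a.IsFinite n) ∧ SpSeq.IsBounded E ∧
      ∀ p q : ℤ, Nonempty ((E.page 2 le_rfl).X (p, q) ≅ E₂ p q) := by
  letI := HasDerivedCategory.standard (Sheaf (⊥ : GrothendieckTopology C) AddCommGrpCat.{u})
  letI := HasDerivedCategory.standard (Sheaf J AddCommGrpCat.{u})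
  let G := SpPre.forget J
  let R := injectiveResolution F
  let L : CochainComplex (Sheaf (⊥ : GrothendieckTopology C) AddCommGrpCat.{u}) ℤ :=
    (G.mapHomologicalComplex (ComplexShape.up ℤ)).obj R.cochainComplex
  have : L.IsStrictlyGE 0 := by
    rw [CochainComplex.isStrictlyGE_iff]
    intro i hi
    exact G.map_isZero (CochainComplex.isZero_of_isStrictlyGE R.cochainComplex 0 i hi)
  refine SpTrunc.exists_spectralSequence (DerivedCategory.Q.obj (Kext K)) (DerivedCategory.Q.obj L)
    E₂ H ?_ hz ?_ hHz
  · intro p q hp hq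
    obtain ⟨e'⟩ := he p q hp hq
    obtain ⟨p, rfl⟩ := Int.eq_ofNat_of_zero_le hp
    obtain ⟨q, rfl⟩ := Int.eq_ofNat_of_zero_le hq
    let Y : Sheaf (⊥ : GrothendieckTopology C) AddCommGrpCat.{u} :=
      ⟨F.cohomologyPresheaf q, Presheaf.isSheaf_bot _⟩
    let eY : (DerivedCategory.homologyFunctor _ (q : ℤ)).obj (DerivedCategory.Q.obj L) ≅ Y :=
      (DerivedCategory.homologyFunctorFactors _ (q : ℤ)).app L ≪≫
        (Classical.choice (H16Derived.AcyclicLES.nonempty_rightDerived_iso G R.cochainComplex 0
          (fun k => inferInstance) R.ι' q)).symm ≪≫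
        Classical.choice (SpPre.nonempty_rightDerived_forget J F q)
    let e₁ := ((preadditiveCoyoneda.obj (op (DerivedCategory.Q.obj (Kext K)))).mapIso
      ((shiftFunctor _ (p : ℤ)).mapIso ((DerivedCategory.singleFunctor _ 0).mapIso eY))
      ).addCommGroupIsoToAddEquiv
    let e₂ := SpHomAdj.qAddEquivProj (Kext K)
      ((CochainComplex.singleFunctor _ 0).obj Y) (p : ℤ)
    let e₃ : (HyperCech.hCx Y K).homology p ≃+
        CohomologyClass (Kext K) ((CochainComplex.singleFunctor _ 0).obj Y) (p : ℤ) :=
      SpHomAdj.toSingleClassEquiv (HyperCech.cplx K (⊥ : GrothendieckTopology C)) Y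
        (HyperCech.hCx Y K) (fun n => AddEquiv.refl _) (fun n x => HyperCech.d_eq Y K n x) p
    exact ⟨((AddEquiv.trans e₁ e₂).trans (e₃.symm.trans
      (HomologicalComplex.homologyMapIso (HyperCech.cechIso Y K) p).addCommGroupIsoToAddEquiv
      )).trans e'⟩
  · intro n hn
    obtain ⟨e'⟩ := hH n hn
    obtain ⟨n, rfl⟩ := Int.eq_ofNat_of_zero_le hn
    haveI := HyperCech.quasiIso_augS (J := J) K hK
    haveI := (SpHyper.adj J).left_adjoint_additive
    let aK := (HyperCech.cplx K J).extend ComplexShape.embeddingDownNat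
    haveI := (HomologicalComplex.quasiIso_extendMap_iff (HyperCech.augS (J := J) K)
      ComplexShape.embeddingDownNat).2 inferInstance
    let eK : DerivedCategory.Q.obj
          (((SpPre.sheafify J).mapHomologicalComplex (ComplexShape.up ℤ)).obj (Kext K)) ≅
        (DerivedCategory.singleFunctor _ 0).obj (HyperCech.Z J) :=
      DerivedCategory.Q.mapIso (sheafifyKext J K) ≪≫
        asIso (DerivedCategory.Q.map (HomologicalComplex.extendMap (HyperCech.augS (J := J) K)
          ComplexShape.embeddingDownNat)) ≪≫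
        DerivedCategory.Q.mapIso (HomologicalComplex.extendSingleIso
          (i := 0) (i' := 0) ComplexShape.embeddingDownNat _ (by simp))
    let eR : DerivedCategory.Q.obj R.cochainComplex ≅
        (DerivedCategory.singleFunctor _ 0).obj F :=
      (asIso (DerivedCategory.Q.map R.ι')).symm
    let e₁ := SpHomAdj.qAddEquivProj (Kext K) L (n : ℤ)
    let e₂ := SpHomAdj.adjClassEquiv (SpHyper.adj J) (Kext K) R.cochainComplex (n : ℤ)
    let e₃ := SpHom.qAddEquiv
      (((SpPre.sheafify J).mapHomologicalComplex (ComplexShape.up ℤ)).obj (Kext K))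
      R.cochainComplex (n : ℤ)
    let e₄ : _ ≃+ (((DerivedCategory.singleFunctor _ 0).obj (HyperCech.Z J)) ⟶
        ((DerivedCategory.singleFunctor _ 0).obj F)⟦(n : ℤ)⟧) :=
      { eK.homCongr ((shiftFunctor _ (n : ℤ)).mapIso eR) with
        map_add' := fun x y => by
          show eK.inv ≫ (x + y) ≫ _ = eK.inv ≫ x ≫ _ + eK.inv ≫ y ≫ _
          simp [Preadditive.add_comp, Preadditive.comp_add] }
    exact ⟨((e₁.trans e₂).trans (e₃.symm.trans (AddEquiv.trans e₄
      (Ext.homAddEquiv (X := HyperCech.Z J) (Y := F) (n := n)).symm))).trans e'⟩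

end Groth.Agent.H15Site.SpHyper
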