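import Groth.Agent.H15Site.HUBasic
import Groth.Agent.H15Site.TorsionFree
import Groth.Agent.H10Coh.ExtMap
import Mathlib.CategoryTheory.Sites.Pullback

/-!
# Direct images of totally acyclic sheaves
-/

set_option linter.style.haveILetI false
set_option linter.unusedSectionVars false

universe u

open CategoryTheory CategoryTheory.Limits Opposite CategoryTheory.Abelian

namespace Groth.Agent.H15Site.TotPush

attribute [local instance 10000] SiteInst.hasSheafifySite SiteInst.hasWeakSheafifySite
  SiteInst.hasExtSite SiteInst.enoughInjSite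

variable {C D : Type u} [SmallCategory C] [SmallCategory D]
  {J : GrothendieckTopology C} {K : GrothendieckTopology D} (F : D ⥤ C) [F.IsContinuous K J]

/-- The adjunction `f⁻¹ ∘ free ⊣ forget ∘ f_*`. -/
noncomputable def adjA :
    TorsionFree.freeSet K ⋙ F.sheafPullback AddCommGrpCat.{u} K J ⊣
      CohSite.push J K F ⋙ sheafCompose K (CategoryTheory.forget AddCommGrpCat.{u}) :=
  (Sheaf.adjunction K AddCommGrpCat.adj.{u}).comp
    (F.sheafAdjunctionContinuous AddCommGrpCat.{u} K J)

/-- The adjunction `free ∘ f⁻¹ ⊣ forget ∘ f_*`. -/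
noncomputable def adjB :
    F.sheafPullback (Type u) K J ⋙ TorsionFree.freeSet J ⊣
      CohSite.push J K F ⋙ sheafCompose K (CategoryTheory.forget AddCommGrpCat.{u}) :=
  ((F.sheafAdjunctionContinuous (Type u) K J).comp
    (Sheaf.adjunction J AddCommGrpCat.adj.{u})).ofNatIsoRight (Iso.refl _)

/-- Pullback commutes with free abelian sheaves. -/
noncomputable def freePullIso (S : Sheaf K (Type u)) :
    (F.sheafPullback AddCommGrpCat.{u} K J).obj ((TorsionFree.freeSet K).obj S) ≅
      (TorsionFree.freeSet J).obj ((F.sheafPullback (Type u) K J).obj S) :=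
  ((adjA F).leftAdjointUniq (adjB F)).app S

theorem subsingleton_ext_pull_free {X : Sheaf J AddCommGrpCat.{u}} (hX : CohCx.IsTotallyAcyclic X)
    (S : Sheaf K (Type u)) (n : ℕ) :
    Subsingleton (Ext ((F.sheafPullback AddCommGrpCat.{u} K J).obj
      ((TorsionFree.freeSet K).obj S)) X (n + 1)) := by
  refine subsingleton_of_forall_eq 0 fun x => ?_
  haveI : Subsingleton (Ext ((TorsionFree.freeSet J).obj ((F.sheafPullback (Type u) K J).obj S)) X
      (n + 1)) := hX _ n
  rw [← Ext.mk₀_id_comp x, ← (freePullIso F S).hom_inv_id, ← Ext.mk₀_comp_mk₀_assoc,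
    Subsingleton.elim ((Ext.mk₀ (freePullIso F S).inv).comp x (zero_add (n + 1))) 0, Ext.comp_zero]

/-- If `f_*` preserves injectives, it preserves totally acyclic sheaves. -/
theorem isTotallyAcyclic_push
    (hinj : ∀ (I : Sheaf J AddCommGrpCat.{u}), Injective I → Injective ((CohSite.push J K F).obj I))
    (X : Sheaf J AddCommGrpCat.{u}) (hX : CohCx.IsTotallyAcyclic X) :
    CohCx.IsTotallyAcyclic ((CohSite.push J K F).obj X) := by
  intro S n
  let A := (TorsionFree.freeSet K).obj S
  change Subsingleton (Ext A ((CohSite.push J K F).obj X) (n + 1))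
  induction n generalizing X with
  | zero | succ n ih =>
    have hS := H10Coh.injSeq_shortExact X
    let G := CohSite.push J K F
    haveI : G.IsRightAdjoint := (F.sheafAdjunctionContinuous AddCommGrpCat.{u} K J).isRightAdjoint
    have hS' : ((H10Coh.injSeq X).map G).ShortExact := by
      haveI : Mono ((H10Coh.injSeq X).map G).f := by
        haveI := hS.mono_f
        exact inferInstanceAs (Mono (G.map (H10Coh.injSeq X).f))
      haveI : Epi ((H10Coh.injSeq X).map G).g := by
        haveI : ∀ V : Dᵒᵖ, Epi (((sheafToPresheaf K AddCommGrpCat.{u}).map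
            ((H10Coh.injSeq X).map G).g).app V) := fun V => by
          rw [AddCommGrpCat.epi_iff_surjective]
          haveI := HUBasic.subsingleton_HU_of_totallyAcyclic X hX (F.obj V.unop) 0
          exact Edge.surjective_app_of_subsingleton hS (F.obj V.unop)
        haveI : Epi ((sheafToPresheaf K AddCommGrpCat.{u}).map ((H10Coh.injSeq X).map G).g) :=
          NatTrans.epi_of_epi_app _
        exact (sheafToPresheaf K AddCommGrpCat.{u}).epi_of_epi_map this
      refine { exact := ?_, mono_f := inferInstance, epi_g := inferInstance }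
      haveI : PreservesFiniteLimits G := inferInstance
      exact ShortComplex.exact_of_f_is_kernel _
        (KernelFork.mapIsLimit _ (hS.fIsKernel) G)
    haveI := hinj _ (H10Coh.injSeq_injective X)
    haveI : Subsingleton (Ext A ((H10Coh.injSeq X).map G).X₂ 1) :=
      subsingleton_of_forall_eq 0 fun y => Ext.eq_zero_of_injective (I := G.obj _) y
    first
    | refine H10Coh.subsingleton_ext_one hS' fun φ => ?_
      obtain ⟨φ, rfl⟩ := ((F.sheafAdjunctionContinuous AddCommGrpCat.{u} K J).homEquiv A _).surjective φ
      haveI := subsingleton_ext_pull_free F hX S 0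
      obtain ⟨y, hy⟩ := Ext.covariant_sequence_exact₃ _ hS (Ext.mk₀ φ) (show 0 + 1 = 1 from rfl)
        (Subsingleton.elim _ _)
      obtain ⟨y, rfl⟩ := (Ext.mk₀_bijective _ _).2 y
      rw [Ext.mk₀_comp_mk₀] at hy
      refine ⟨(F.sheafAdjunctionContinuous AddCommGrpCat.{u} K J).homEquiv A _ y, ?_⟩
      refine ((F.sheafAdjunctionContinuous AddCommGrpCat.{u} K J).homEquiv_naturality_right y
        (H10Coh.injSeq X).g).symm.trans ?_
      exact congrArg _ ((Ext.mk₀_bijective _ _).1 hy)
    | haveI : Subsingleton (Ext A ((H10Coh.injSeq X).map G).X₂ (n + 1 + 1)) :=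
        subsingleton_of_forall_eq 0 fun y => Ext.eq_zero_of_injective (I := G.obj _) y
      refine H10Coh.subsingleton_ext_X₁ hS' (ih _ fun S' p => ?_)
      refine subsingleton_of_forall_eq 0 fun q => ?_
      haveI : Subsingleton (CohCx.HK S' X (p + 1 + 1)) := hX S' (p + 1)
      obtain ⟨j, hj⟩ := Ext.covariant_sequence_exact₃ _ hS q rfl (Subsingleton.elim _ _)
      rw [← hj, Ext.eq_zero_of_injective j, Ext.zero_comp]

/-- Restriction-type and flat direct images: when `f⁻¹` is left exact. -/
theorem injective_push [PreservesFiniteLimits (F.sheafPullback AddCommGrpCat.{u} K J)]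
    (I : Sheaf J AddCommGrpCat.{u}) [Injective I] : Injective ((CohSite.push J K F).obj I) :=
  Injective.injective_of_adjoint (F.sheafAdjunctionContinuous AddCommGrpCat.{u} K J) I

end Groth.Agent.H15Site.TotPush
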