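import Groth.Agent.H15Site.SpGroth
import Groth.Agent.H15Site.TotPush
import Groth.Agent.H15Site.LanExact

/-!
# The Leray spectral sequence over an object of the site
-/

set_option linter.style.haveILetI false
set_option linter.unusedSectionVars false
set_option backward.isDefEq.respectTransparency false

universe u

open CategoryTheory CategoryTheory.Limits Opposite CategoryTheory.Abelian

namespace Groth.Agent.H15Site.SpLeray

attribute [local instance 10000] SiteInst.hasSheafifySite SiteInst.hasWeakSheafifySite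
  SiteInst.hasExtSite SiteInst.enoughInjSite

variable {C D : Type u} [SmallCategory C] [SmallCategory D]
  {J : GrothendieckTopology C} {K : GrothendieckTopology D} (w : D ⥤ C) [w.IsContinuous K J]

/-- The canonical map from the free sheaf on `V`. -/
noncomputable def gen (V : D) :
    CohCx.freeSheaf K V ⟶ (CohSite.push J K w).obj (CohCx.freeSheaf J (w.obj V)) :=
  CohFree.ofSect K V _ (CohFree.gen J (w.obj V))

lemma bijective_gen (V : D) (G : Sheaf J AddCommGrpCat.{u}) :
    Function.Bijective fun φ : CohCx.freeSheaf J (w.obj V) ⟶ G =>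
      gen w V ≫ (CohSite.push J K w).map φ := by
  have h : ∀ φ : CohCx.freeSheaf J (w.obj V) ⟶ G,
      CohFree.homEquivSect K V _ (gen w V ≫ (CohSite.push J K w).map φ) =
        CohFree.homEquivSect J (w.obj V) G φ := by
    intro φ
    change (φ.hom.app (op (w.obj V))).hom ((CohFree.evalGen K V _ (gen w V))) = _
    exact congrArg (φ.hom.app (op (w.obj V))).hom (CohFree.evalGen_ofSect K V _ _)
  refine (Function.Bijective.of_comp_iff' (CohFree.homEquivSect K V _).bijective _).1 ?_
  rw [show ⇑(CohFree.homEquivSect K V _) ∘ (fun φ : CohCx.freeSheaf J (w.obj V) ⟶ G =>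
      gen w V ≫ (CohSite.push J K w).map φ) = ⇑(CohFree.homEquivSect J (w.obj V) G) from funext h]
  exact (CohFree.homEquivSect J (w.obj V) G).bijective

/-- `Hom(free (w V), G) ≃+ Hom(free V, w_* G)`. -/
noncomputable def genEquiv (V : D) (G : Sheaf J AddCommGrpCat.{u}) :
    (CohCx.freeSheaf J (w.obj V) ⟶ G) ≃+ (CohCx.freeSheaf K V ⟶ (CohSite.push J K w).obj G) :=
  AddEquiv.ofBijective (AddMonoidHom.mk' (fun φ : CohCx.freeSheaf J (w.obj V) ⟶ G =>
    gen w V ≫ (CohSite.push J K w).map φ) fun a b => by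
      rw [Functor.map_add, Preadditive.comp_add]) (bijective_gen w V G)

/-- The Leray spectral sequence. -/
theorem exists_spectralSequence [PreservesFiniteLimits (w.sheafPullback (Type u) K J)]
    (M : Sheaf J AddCommGrpCat.{u}) (V : D) (E₂ : ℤ → ℤ → AddCommGrpCat.{u})
    (H : ℤ → AddCommGrpCat.{u})
    (he : ∀ p q : ℤ, 0 ≤ p → 0 ≤ q → Nonempty
      (Ext.{u} (CohCx.freeSheaf K V) ((CohSite.Rpush J K w q.toNat).obj M) p.toNat ≃+ E₂ p q))
    (hz : ∀ p q : ℤ, ¬ (0 ≤ p ∧ 0 ≤ q) → IsZero (E₂ p q))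
    (hH : ∀ n : ℤ, 0 ≤ n →
      Nonempty (Ext.{u} (CohCx.freeSheaf J (w.obj V)) M n.toNat ≃+ H n))
    (hHz : ∀ n : ℤ, n < 0 → IsZero (H n)) :
    ∃ (E : E₂CohomologicalSpectralSequence AddCommGrpCat.{u}) (a : SpSeq.Abutment E H),
      (∀ n, a.IsFinite n) ∧ SpSeq.IsBounded E ∧
      ∀ p q : ℤ, Nonempty ((E.page 2 le_rfl).X (p, q) ≅ E₂ p q) := by
  haveI := LanExact.preservesFiniteLimits (u := w) (J := J) (K := K)
  refine SpGroth.exists_spectralSequence (CohSite.push J K w) (CohCx.freeSheaf K V)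
    (CohCx.freeSheaf J (w.obj V)) (fun Y => (genEquiv w V Y).symm)
    (fun I hI => TotPush.injective_push (J := J) (K := K) w I) ?_ M E₂ H he hz hH hHz
  intro Y Y' h f
  refine (genEquiv (K := K) w V Y').injective ?_
  rw [AddEquiv.apply_symm_apply]
  conv_lhs => rw [← (genEquiv (K := K) w V Y).apply_symm_apply f]
  show (gen w V ≫ _) ≫ _ = gen w V ≫ _
  rw [Category.assoc, ← Functor.map_comp]

end Groth.Agent.H15Site.SpLeray
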