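import Groth.Agent.H15Site.SpGroth
import Groth.Agent.H15Site.HigherDirectSite

/-!
# The forgetful functor to sheaves for the trivial topology
-/

set_option linter.style.haveILetI false
set_option linter.unusedSectionVars false
set_option backward.isDefEq.respectTransparency false

universe u

open CategoryTheory CategoryTheory.Limits Opposite CategoryTheory.Abelian

namespace Groth.Agent.H15Site.SpPre

attribute [local instance 10000] SiteInst.hasSheafifySite SiteInst.hasWeakSheafifySite
  SiteInst.hasExtSite SiteInst.enoughInjSite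

variable {C : Type u} [SmallCategory C] (J : GrothendieckTopology C)

instance isContinuous_id : (𝟭 C).IsContinuous (⊥ : GrothendieckTopology C) J :=
  ⟨fun _ => by
    rw [← isSheaf_iff_isSheaf_of_type]
    exact Presheaf.isSheaf_bot _⟩

/-- The forgetful functor to sheaves for the trivial topology. -/
noncomputable abbrev forget :
    Sheaf J AddCommGrpCat.{u} ⥤ Sheaf (⊥ : GrothendieckTopology C) AddCommGrpCat.{u} :=
  CohSite.push J ⊥ (𝟭 C)

/-- The left adjoint: sheafification. -/
noncomputable abbrev sheafify :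
    Sheaf (⊥ : GrothendieckTopology C) AddCommGrpCat.{u} ⥤ Sheaf J AddCommGrpCat.{u} :=
  sheafToPresheaf _ _ ⋙ presheafToSheaf J AddCommGrpCat.{u}

/-- `Hom(P, forget G) ≃+ Hom(aP, G)`. -/
noncomputable def homAddEquiv (P : Sheaf (⊥ : GrothendieckTopology C) AddCommGrpCat.{u})
    (G : Sheaf J AddCommGrpCat.{u}) : (P ⟶ (forget J).obj G) ≃+ ((sheafify J).obj P ⟶ G) where
  toFun f := ((sheafificationAdjunction J AddCommGrpCat.{u}).homEquiv P.obj G).symm f.hom
  invFun g := ⟨(sheafificationAdjunction J AddCommGrpCat.{u}).homEquiv P.obj G g⟩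
  left_inv f := Sheaf.hom_ext (Equiv.apply_symm_apply _ _)
  right_inv g := Equiv.symm_apply_apply _ _
  map_add' f g := by
    have := (sheafificationAdjunction J AddCommGrpCat.{u}).right_adjoint_additive
    exact ((sheafificationAdjunction J AddCommGrpCat.{u}).homAddEquiv P.obj G).symm.map_add
      f.hom g.hom

lemma homAddEquiv_natural (P : Sheaf (⊥ : GrothendieckTopology C) AddCommGrpCat.{u})
    {G G' : Sheaf J AddCommGrpCat.{u}} (h : G ⟶ G') (f : P ⟶ (forget J).obj G) :
    homAddEquiv J P G' (f ≫ (forget J).map h) = homAddEquiv J P G f ≫ h :=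
  (sheafificationAdjunction J AddCommGrpCat.{u}).homEquiv_naturality_right_symm f.hom h

lemma injective_forget (I : Sheaf J AddCommGrpCat.{u}) [Injective I] :
    Injective ((forget J).obj I) where
  factors {A B} g f _ := by
    have : Mono f.hom := inferInstanceAs (Mono ((sheafToPresheaf _ _).map f))
    have : Mono ((presheafToSheaf J AddCommGrpCat.{u}).map f.hom) := inferInstance
    obtain ⟨h, hh⟩ := Injective.factors (homAddEquiv J A I g)
      ((presheafToSheaf J AddCommGrpCat.{u}).map f.hom)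
    refine ⟨(homAddEquiv J B I).symm h, Sheaf.hom_ext ?_⟩
    have e : (homAddEquiv J A I g) =
      ((sheafificationAdjunction J AddCommGrpCat.{u}).homEquiv A.obj I).symm g.hom := rfl
    rw [e] at hh
    exact ((sheafificationAdjunction J AddCommGrpCat.{u}).homEquiv_naturality_left f.hom h).symm.trans
      ((congrArg _ hh).trans (Equiv.apply_symm_apply _ _))

/-- The right derived functors of the forgetful functor are the cohomology presheaves. -/
lemma nonempty_rightDerived_forget (M : Sheaf J AddCommGrpCat.{u}) (q : ℕ) :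
    Nonempty (((forget J).rightDerived q).obj M ≅
      (⟨M.cohomologyPresheaf q, Presheaf.isSheaf_bot _⟩ :
        Sheaf (⊥ : GrothendieckTopology C) AddCommGrpCat.{u})) := by
  obtain ⟨e⟩ := HigherDirectSite.nonempty_Rpush_iso_sheafify (J := J)
    (K := (⊥ : GrothendieckTopology C)) (𝟭 C) q M
  exact ⟨e ≪≫ (asIso (sheafificationAdjunction (⊥ : GrothendieckTopology C)
    AddCommGrpCat.{u}).counit).app
      (⟨M.cohomologyPresheaf q, Presheaf.isSheaf_bot _⟩ :
        Sheaf (⊥ : GrothendieckTopology C) AddCommGrpCat.{u})⟩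

/-- `Ext^p(P, H^q(M)) ⇒ Ext^n(aP, M)`. -/
theorem exists_spectralSequence (P : Sheaf (⊥ : GrothendieckTopology C) AddCommGrpCat.{u})
    (M : Sheaf J AddCommGrpCat.{u}) (E₂ : ℤ → ℤ → AddCommGrpCat.{u}) (H : ℤ → AddCommGrpCat.{u})
    (he : ∀ p q : ℤ, 0 ≤ p → 0 ≤ q → Nonempty
      (Ext.{u} P (⟨M.cohomologyPresheaf q.toNat, Presheaf.isSheaf_bot _⟩ :
        Sheaf (⊥ : GrothendieckTopology C) AddCommGrpCat.{u}) p.toNat ≃+ E₂ p q))
    (hz : ∀ p q : ℤ, ¬ (0 ≤ p ∧ 0 ≤ q) → IsZero (E₂ p q))
    (hH : ∀ n : ℤ, 0 ≤ n → Nonempty (Ext.{u} ((sheafify J).obj P) M n.toNat ≃+ H n))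
    (hHz : ∀ n : ℤ, n < 0 → IsZero (H n)) :
    ∃ (E : E₂CohomologicalSpectralSequence AddCommGrpCat.{u}) (a : SpSeq.Abutment E H),
      (∀ n, a.IsFinite n) ∧ SpSeq.IsBounded E ∧
      ∀ p q : ℤ, Nonempty ((E.page 2 le_rfl).X (p, q) ≅ E₂ p q) := by
  refine SpGroth.exists_spectralSequence (forget J) P ((sheafify J).obj P) (homAddEquiv J P)
    (fun I hI => injective_forget J I) (fun Y Y' h f => homAddEquiv_natural J P h f) M E₂ H
    ?_ hz hH hHz
  intro p q hp hq
  obtain ⟨e⟩ := nonempty_rightDerived_forget J M q.toNat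
  obtain ⟨e'⟩ := he p q hp hq
  exact ⟨(((extFunctorObj P p.toNat).mapIso e).addCommGroupIsoToAddEquiv).trans e'⟩

end Groth.Agent.H15Site.SpPre
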