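import Mathlib.Algebra.Homology.SpectralObject.HasSpectralSequence
import Mathlib.Algebra.Homology.ShortComplex.Ab
import Mathlib.Algebra.Category.Grp.Abelian
import Mathlib.Algebra.Group.Shrink
import Mathlib.Logic.Small.Basic
import Mathlib.Algebra.Category.Grp.Zero
import Mathlib.Algebra.Homology.SpectralObject.Page

/-!
# Spectral objects in abelian groups with small values

A first quadrant spectral object `X` in `AddCommGrpCat.{w}` all of whose `H^n(q ≤ q + 1)` are
`u`-small has all its values `u`-small, and can be transported to `AddCommGrpCat.{u}`.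
-/

set_option linter.style.haveILetI false
set_option linter.unusedSectionVars false
set_option backward.isDefEq.respectTransparency false

universe u w

open CategoryTheory CategoryTheory.Limits CategoryTheory.ComposableArrows

namespace Groth.Agent.H15Site.SpShrink

variable {ι : Type*}

lemma small_of_exact {S : ShortComplex AddCommGrpCat.{w}} (hS : S.Exact)
    (h₁ : Small.{u} S.X₁) (h₃ : Small.{u} S.X₃) : Small.{u} S.X₂ := by
  rw [ShortComplex.ab_exact_iff] at hS
  have : Small.{u} (Set.range (fun x : S.X₂ => S.g x)) := inferInstance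
  choose s hs using fun c : Set.range (fun x : S.X₂ => S.g x) => c.2
  refine small_of_surjective
    (f := fun p : S.X₁ × Set.range (fun x : S.X₂ => S.g x) => S.f p.1 + s p.2) fun x => ?_
  obtain ⟨a, ha⟩ := hS (x - s ⟨_, x, rfl⟩) (by rw [map_sub, sub_eq_zero]; exact (hs ⟨(fun y => S.g y) x, x, rfl⟩).symm)
  exact ⟨(a, ⟨_, x, rfl⟩), by simp [ha]⟩

section Shrink

variable [Category* ι] (X : Abelian.SpectralObject AddCommGrpCat.{w} ι)
  [∀ (n : ℤ) (D : ComposableArrows ι 1), Small.{u} ((X.H n).obj D)]

/-- The comparison bijection. -/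
noncomputable abbrev eqv (n : ℤ) (D : ComposableArrows ι 1) :
    Shrink.{u} ((X.H n).obj D) ≃+ (X.H n).obj D := Shrink.addEquiv

/-- The functor `H^n` with values in small abelian groups. -/
noncomputable def H' (n : ℤ) : ComposableArrows ι 1 ⥤ AddCommGrpCat.{u} where
  obj D := AddCommGrpCat.of (Shrink.{u} ((X.H n).obj D))
  map {D D'} φ := AddCommGrpCat.ofHom (((eqv X n D').symm.toAddMonoidHom.comp
    ((X.H n).map φ).hom).comp (eqv X n D).toAddMonoidHom)
  map_id D := by ext x; simp
  map_comp φ ψ := by ext x; simp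

lemma exact_transport {A B C : AddCommGrpCat.{w}} {A' B' C' : AddCommGrpCat.{u}}
    (f : A ⟶ B) (g : B ⟶ C) {f' : A' ⟶ B'} {g' : B' ⟶ C'}
    (ea : A' ≃+ A) (eb : B' ≃+ B) (ec : C' ≃+ C)
    (hf : ∀ x, eb (f' x) = f (ea x)) (hg : ∀ x, ec (g' x) = g (eb x))
    (hex : (mk₂ f g).Exact) : (mk₂ f' g').Exact := by
  rw [exact₂_iff _ (isComplex₂_mk _ ?_)]
  · have h := (exact₂_iff _ hex.toIsComplex).1 hex
    rw [ShortComplex.ab_exact_iff] at h ⊢
    intro (x : B') (hx : g' x = 0)
    obtain ⟨a, ha⟩ := h (eb x) (show g (eb x) = 0 by rw [← hg, hx, map_zero])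
    exact ⟨ea.symm a, show f' (ea.symm a) = x from eb.injective (by
      rw [hf, AddEquiv.apply_symm_apply]; exact ha)⟩
  · ext x
    apply ec.injective
    have h0 : f ≫ g = 0 := hex.toIsComplex.zero 0
    show ec (g' (f' x)) = ec 0
    rw [hg, hf, map_zero]
    exact congrArg (fun k => k.hom (ea x)) h0

/-- The spectral object with values in small abelian groups. -/
noncomputable def shrink : Abelian.SpectralObject AddCommGrpCat.{u} ι where
  H := H' X
  δ' n₀ n₁ h :=
    { app := fun D => AddCommGrpCat.ofHom (((eqv X n₁ _).symm.toAddMonoidHom.comp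
        ((X.δ' n₀ n₁ h).app D).hom).comp (eqv X n₀ _).toAddMonoidHom)
      naturality := fun D D' φ => by
        ext x
        dsimp [H']
        simp only [AddEquiv.apply_symm_apply]
        exact congrArg (eqv X n₁ _).symm (congrArg (fun k => k.hom (eqv X n₀ _ x))
          ((X.δ' n₀ n₁ h).naturality φ)) }
  exact₁' n₀ n₁ h D := exact_transport _ _ (eqv X n₀ _) (eqv X n₁ _) (eqv X n₁ _)
    (fun _ => AddEquiv.apply_symm_apply _ _) (fun _ => AddEquiv.apply_symm_apply _ _)
    (X.exact₁' n₀ n₁ h D)
  exact₂' n D := exact_transport _ _ (eqv X n _) (eqv X n _) (eqv X n _)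
    (fun _ => AddEquiv.apply_symm_apply _ _) (fun _ => AddEquiv.apply_symm_apply _ _)
    (X.exact₂' n D)
  exact₃' n₀ n₁ h D := exact_transport _ _ (eqv X n₀ _) (eqv X n₀ _) (eqv X n₁ _)
    (fun _ => AddEquiv.apply_symm_apply _ _) (fun _ => AddEquiv.apply_symm_apply _ _)
    (X.exact₃' n₀ n₁ h D)

/-- `H^n` of the small spectral object is in bijection with `H^n`. -/
noncomputable def shrinkEquiv (n : ℤ) (D : ComposableArrows ι 1) :
    ((shrink X).H n).obj D ≃+ (X.H n).obj D := eqv X n D

lemma isZero_shrink (n : ℤ) (D : ComposableArrows ι 1) (h : IsZero ((X.H n).obj D)) :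
    IsZero (((shrink X).H n).obj D) := by
  have := AddCommGrpCat.subsingleton_of_isZero h
  have := (shrinkEquiv X n D).toEquiv.subsingleton
  exact AddCommGrpCat.isZero_of_subsingleton _

end Shrink

section Small

open CategoryTheory.Abelian.SpectralObject

variable (X : Abelian.SpectralObject AddCommGrpCat.{w} EInt) [X.IsFirstQuadrant]

/-- All values of a first quadrant spectral object are small if the `H^n(q ≤ q + 1)` are. -/
lemma small_obj (hq : ∀ (n q : ℤ) (h : (q : EInt) ≤ ((q + 1 : ℤ) : EInt)),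
      Small.{u} ((X.H n).obj (mk₁ (homOfLE h))))
    (n : ℤ) (D : ComposableArrows EInt 1) : Small.{u} ((X.H n).obj D) := by
  have hzero : ∀ (m : ℤ) {i j : EInt} (h : i ≤ j), IsZero ((X.H m).obj (mk₁ (homOfLE h))) →
      Small.{u} ((X.H m).obj (mk₁ (homOfLE h))) := fun m i j h hz => by
    have := AddCommGrpCat.subsingleton_of_isZero hz
    infer_instance
  have mid : ∀ (m : ℤ) {i j k : EInt} (h : i ≤ j) (h' : j ≤ k),
      Small.{u} ((X.H m).obj (mk₁ (homOfLE h))) → Small.{u} ((X.H m).obj (mk₁ (homOfLE h'))) →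
      Small.{u} ((X.H m).obj (mk₁ (homOfLE (h.trans h')))) := fun m i j k h h' h₁ h₃ =>
    small_of_exact (X.exact₂ _ _ _ (homOfLE_comp h h') m) h₁ h₃
  have fin : ∀ (k : ℕ) (m a b : ℤ) (hb : a + k = b) (h : (a : EInt) ≤ (b : EInt)),
      Small.{u} ((X.H m).obj (mk₁ (homOfLE h))) := by
    intro k
    induction k with
    | zero =>
      intro m a b hb h
      obtain rfl : a = b := by simpa using hb
      exact hzero m h (X.isZero_H_obj_of_isIso _ (show IsIso (𝟙 (a : EInt)) from inferInstance) m)
    | succ k ih =>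
      intro m a b hb h
      obtain rfl : (a + k) + 1 = b := by push_cast at hb; lia
      exact mid m (show (a : EInt) ≤ ((a + k : ℤ) : EInt) by simp) (by simp)
        (ih m a (a + k) rfl _) (hq m (a + k) _)
  have fin' : ∀ (m a b : ℤ) (h : (a : EInt) ≤ (b : EInt)),
      Small.{u} ((X.H m).obj (mk₁ (homOfLE h))) := fun m a b h => by
    have h' : a ≤ b := by simpa using h
    exact fin (b - a).toNat m a b (by lia) h
  have right : ∀ (m a : ℤ) {j : EInt} (h : (a : EInt) ≤ j),
      Small.{u} ((X.H m).obj (mk₁ (homOfLE h))) := by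
    intro m a j
    induction j using WithBotTop.rec with
    | bot => intro h; exact absurd h (by simp)
    | coe b => exact fun h => fin' m a b h
    | top =>
      intro h
      exact mid m (show (a : EInt) ≤ ((max a (m + 1) : ℤ) : EInt) by simp) le_top
        (fin' m a _ _) (hzero m _ (X.isZero₂_of_isFirstQuadrant _ _ _ m (by simp)))
  obtain ⟨i, j, f, rfl⟩ := mk₁_surjective D
  rw [show f = homOfLE (leOfHom f) from Subsingleton.elim _ _]
  generalize leOfHom f = h
  clear f
  induction i using WithBotTop.rec with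
  | coe a => exact right n a h
  | top =>
    obtain rfl : j = ⊤ := top_le_iff.1 h
    exact hzero n h (X.isZero_H_obj_of_isIso _ (show IsIso (𝟙 (⊤ : EInt)) from inferInstance) n)
  | bot =>
    rcases le_total j ((0 : ℤ) : EInt) with hj | hj
    · exact hzero n h (X.isZero₁_of_isFirstQuadrant _ _ _ hj n)
    · exact mid n (bot_le : (⊥ : EInt) ≤ ((0 : ℤ) : EInt)) hj
        (hzero n _ (X.isZero₁_of_isFirstQuadrant _ _ _ le_rfl n)) (right n 0 hj)

instance isFirstQuadrant_shrink [∀ (n : ℤ) (D : ComposableArrows EInt 1), Small.{u} ((X.H n).obj D)] :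
    (shrink.{u} X).IsFirstQuadrant where
  isZero₁ i j hij hj n := isZero_shrink X n _ (X.isZero₁_of_isFirstQuadrant i j hij hj n)
  isZero₂ i j hij n hi := isZero_shrink X n _ (X.isZero₂_of_isFirstQuadrant i j hij n hi)

end Small

end Groth.Agent.H15Site.SpShrink
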