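import Groth.Agent.H15Site.SpAbutment
import Groth.Agent.H15Site.SpHomological
import Groth.Agent.H15Site.SpShrink
import Mathlib.CategoryTheory.Triangulated.TStructure.SpectralObject
import Mathlib.CategoryTheory.Triangulated.Yoneda
import Mathlib.Algebra.Homology.DerivedCategory.TStructure
import Mathlib.Algebra.Homology.DerivedCategory.HomologySequence
import Mathlib.Algebra.Homology.SingleHomology

/-!
# The spectral sequence `Hom_D(P, H^q(X)[p]) ⇒ Hom_D(P, X[p + q])`

For objects `P ≤ 0` and `X ≥ 0` of the derived category of an abelian category, the truncations of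
`X` give a first quadrant `E₂` spectral sequence with the above `E₂` terms and a finite abutment.
-/

set_option linter.style.haveILetI false
set_option linter.unusedSectionVars false
set_option backward.isDefEq.respectTransparency false

universe u w v u₁

open CategoryTheory CategoryTheory.Limits CategoryTheory.Triangulated
  CategoryTheory.Pretriangulated CategoryTheory.ComposableArrows Opposite

namespace Groth.Agent.H15Site.SpTrunc

variable {A : Type u₁} [Category.{v} A] [Abelian A] [HasDerivedCategory.{w} A]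

open DerivedCategory

/-- The canonical `t`-structure. -/
noncomputable abbrev t : TStructure (DerivedCategory A) := DerivedCategory.TStructure.t

/-- `τ_{≥ i} τ_{< j} X`. -/
noncomputable abbrev piece (X : DerivedCategory A) (i j : EInt) : DerivedCategory A :=
  ((t (A := A)).eTruncGE.obj i).obj (((t (A := A)).eTruncLT.obj j).obj X)

variable (P X : DerivedCategory A)

/-- The spectral object `H^n(i ≤ j) = Hom(P, (τ_{≥ i} τ_{< j} X)[n])`. -/
noncomputable abbrev spObj : Abelian.SpectralObject AddCommGrpCat.{w} EInt :=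
  SpHomological.mk ((t (A := A)).spectralObject X) (preadditiveCoyoneda.obj (op P))

/-- The values of the spectral object. -/
noncomputable def objEquiv (n : ℤ) {i j : EInt} (h : i ≤ j) :
    ((spObj P X).H n).obj (mk₁ (homOfLE h)) ≃+ (P ⟶ (piece X i j)⟦n⟧) := AddEquiv.refl _

lemma isZero_H_of_zero (n : ℤ) {i j : EInt} (h : i ≤ j)
    (hz : ∀ f : P ⟶ (piece X i j)⟦n⟧, f = 0) :
    IsZero (((spObj P X).H n).obj (mk₁ (homOfLE h))) := by
  have : Subsingleton (P ⟶ (piece X i j)⟦n⟧) := ⟨fun a b => by rw [hz a, hz b]⟩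
  have := (objEquiv P X n h).toEquiv.subsingleton
  exact AddCommGrpCat.isZero_of_subsingleton _

instance isFirstQuadrant [P.IsLE 0] [X.IsGE 0] : (spObj P X).IsFirstQuadrant where
  isZero₁ i j hij hj n := by
    refine isZero_H_of_zero P X n hij fun f => ?_
    have h1 := (t (A := A)).isZero_eTruncLT_obj_obj X 0 j hj
    exact ((shiftFunctor _ n).map_isZero (Functor.map_isZero _ h1)).eq_of_tgt _ _
  isZero₂ i j hij n hi := by
    refine isZero_H_of_zero P X n hij fun f => ?_
    have hi' : ((n + 1 : ℤ) : EInt) ≤ i := by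
      induction i using WithBotTop.rec with
      | bot => exact absurd hi (by simp)
      | coe a => simp at hi ⊢; lia
      | top => exact le_top
    have := (t (A := A)).isGE_eTruncGE_obj_obj (n + 1) i hi'
      (((t (A := A)).eTruncLT.obj j).obj X)
    have := (t (A := A)).isGE_shift (piece X i j) (n + 1) n 1
    exact (t (A := A)).zero f 0 1

section Piece

variable (q : ℤ)

instance : (piece X (q : EInt) ((q + 1 : ℤ) : EInt)).IsGE q :=
  inferInstanceAs ((t (A := A)).IsGE (((t (A := A)).truncGE q).obj _) q)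

instance : (piece X (q : EInt) ((q + 1 : ℤ) : EInt)).IsLE q :=
  inferInstanceAs ((t (A := A)).IsLE
    (((t (A := A)).truncGE q).obj (((t (A := A)).truncLT (q + 1)).obj X)) q)

/-- `H^q` of `τ_{≥ q} τ_{< q + 1} X` is `H^q(X)`. -/
lemma nonempty_homology_piece :
    Nonempty ((homologyFunctor A q).obj (piece X (q : EInt) ((q + 1 : ℤ) : EInt)) ≅
      (homologyFunctor A q).obj X) := by
  let Y := ((t (A := A)).truncLT (q + 1)).obj X
  have : IsIso ((homologyFunctor A q).map (((t (A := A)).truncLTι (q + 1)).app X)) := by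
    let T := ((t (A := A)).triangleLTGE (q + 1)).obj X
    have hT : T ∈ distTriang _ := (t (A := A)).triangleLTGE_distinguished (q + 1) X
    have : T.obj₃.IsGE (q + 1) :=
      inferInstanceAs ((t (A := A)).IsGE (((t (A := A)).truncGE (q + 1)).obj X) (q + 1))
    have h₁ : IsZero ((homologyFunctor A (q - 1)).obj T.obj₃) :=
      isZero_of_isGE T.obj₃ (q + 1) (q - 1) (by lia)
    have h₂ : IsZero ((homologyFunctor A q).obj T.obj₃) :=
      isZero_of_isGE T.obj₃ (q + 1) q (by lia)
    have := (HomologySequence.mono_homologyMap_mor₁_iff T hT (q - 1) q).2 (h₁.eq_of_src _ _)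
    have := (HomologySequence.epi_homologyMap_mor₁_iff T hT q).2 (h₂.eq_of_tgt _ _)
    exact isIso_of_mono_of_epi ((homologyFunctor A q).map T.mor₁)
  have : IsIso ((homologyFunctor A q).map (((t (A := A)).truncGEπ q).app Y)) := by
    let T := ((t (A := A)).triangleLTGE q).obj Y
    have hT : T ∈ distTriang _ := (t (A := A)).triangleLTGE_distinguished q Y
    have : T.obj₁.IsLE (q - 1) :=
      inferInstanceAs ((t (A := A)).IsLE (((t (A := A)).truncLT q).obj Y) (q - 1))
    have h₁ : IsZero ((homologyFunctor A q).obj T.obj₁) :=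
      isZero_of_isLE T.obj₁ (q - 1) q (by lia)
    have h₂ : IsZero ((homologyFunctor A (q + 1)).obj T.obj₁) :=
      isZero_of_isLE T.obj₁ (q - 1) (q + 1) (by lia)
    have := (HomologySequence.mono_homologyMap_mor₂_iff T hT q).2 (h₁.eq_of_src _ _)
    have := (HomologySequence.epi_homologyMap_mor₂_iff T hT q (q + 1)).2 (h₂.eq_of_tgt _ _)
    exact isIso_of_mono_of_epi ((homologyFunctor A q).map T.mor₂)
  exact ⟨(asIso ((homologyFunctor A q).map (((t (A := A)).truncGEπ q).app Y))).symm ≪≫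
    asIso ((homologyFunctor A q).map (((t (A := A)).truncLTι (q + 1)).app X))⟩

/-- `τ_{≥ q} τ_{< q + 1} X` is `H^q(X)` placed in degree `q`. -/
lemma nonempty_piece_iso :
    Nonempty (piece X (q : EInt) ((q + 1 : ℤ) : EInt) ≅
      (singleFunctor A q).obj ((homologyFunctor A q).obj X)) := by
  obtain ⟨Y, ⟨e⟩⟩ := exists_iso_singleFunctor_obj_of_isGE_of_isLE
    (piece X (q : EInt) ((q + 1 : ℤ) : EInt)) q
  obtain ⟨e'⟩ := nonempty_homology_piece X q
  let eY : Y ≅ (homologyFunctor A q).obj X :=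
    ((homologyFunctor A q).mapIso ((singleFunctorIsoCompQ A q).app Y) ≪≫
      (homologyFunctorFactors A q).app _ ≪≫
      HomologicalComplex.singleObjHomologySelfIso (ComplexShape.up ℤ) q Y).symm ≪≫
    (homologyFunctor A q).mapIso e.symm ≪≫ e'
  exact ⟨e ≪≫ (singleFunctor A q).mapIso eY⟩

/-- The `E₂` term. -/
lemma nonempty_E₂ (p : ℤ) (h : (q : EInt) ≤ ((q + 1 : ℤ) : EInt)) :
    Nonempty (((spObj P X).H (p + q)).obj (mk₁ (homOfLE h)) ≃+
      (P ⟶ ((singleFunctor A 0).obj ((homologyFunctor A q).obj X))⟦p⟧)) := by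
  obtain ⟨e⟩ := nonempty_piece_iso X q
  let e' : (piece X (q : EInt) ((q + 1 : ℤ) : EInt))⟦p + q⟧ ≅
      ((singleFunctor A 0).obj ((homologyFunctor A q).obj X))⟦p⟧ :=
    (shiftFunctor _ (p + q)).mapIso e ≪≫
      ((singleFunctors A).shiftIso (p + q) (-p) q (by lia)).app _ ≪≫
      (((singleFunctors A).shiftIso p (-p) 0 (by lia)).app _).symm
  exact ⟨(objEquiv P X (p + q) h).trans
    ((preadditiveCoyoneda.obj (op P)).mapIso e').addCommGroupIsoToAddEquiv⟩

/-- The abutment. -/
lemma nonempty_total (n : ℤ) :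
    Nonempty (((spObj P X).H n).obj (mk₁ (homOfLE (bot_le : (⊥ : EInt) ≤ ⊤))) ≃+ (P ⟶ X⟦n⟧)) := by
  let e : piece X ⊥ ⊤ ≅ X := (asIso (((t (A := A)).eTruncGEπ ⊥).app _)).symm
  exact ⟨(objEquiv P X n bot_le).trans
    ((preadditiveCoyoneda.obj (op P)).mapIso ((shiftFunctor _ n).mapIso e)).addCommGroupIsoToAddEquiv⟩

end Piece

/-- The truncation spectral sequence with values in `AddCommGrpCat.{u}`. -/
theorem exists_spectralSequence [P.IsLE 0] [X.IsGE 0]
    (E₂ : ℤ → ℤ → AddCommGrpCat.{u}) (H : ℤ → AddCommGrpCat.{u})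
    (he : ∀ p q : ℤ, 0 ≤ p → 0 ≤ q → Nonempty
      ((P ⟶ ((singleFunctor A 0).obj ((homologyFunctor A q).obj X))⟦p⟧) ≃+ E₂ p q))
    (hz : ∀ p q : ℤ, ¬ (0 ≤ p ∧ 0 ≤ q) → IsZero (E₂ p q))
    (hH : ∀ n : ℤ, 0 ≤ n → Nonempty ((P ⟶ X⟦n⟧) ≃+ H n))
    (hHz : ∀ n : ℤ, n < 0 → IsZero (H n)) :
    ∃ (E : E₂CohomologicalSpectralSequence AddCommGrpCat.{u}) (a : SpSeq.Abutment E H),
      (∀ n, a.IsFinite n) ∧ SpSeq.IsBounded E ∧
      ∀ p q : ℤ, Nonempty ((E.page 2 le_rfl).X (p, q) ≅ E₂ p q) := by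
  have hq : ∀ (n q : ℤ) (h : (q : EInt) ≤ ((q + 1 : ℤ) : EInt)),
      Small.{u} (((spObj P X).H n).obj (mk₁ (homOfLE h))) := by
    intro n q h
    by_cases hq : 0 ≤ q ∧ q ≤ n
    · obtain ⟨p, rfl⟩ : ∃ p, p + q = n := ⟨n - q, by lia⟩
      obtain ⟨e⟩ := nonempty_E₂ P X q p h
      obtain ⟨e'⟩ := he p q (by lia) hq.1
      exact small_map (e.trans e').toEquiv
    · have hz : IsZero (((spObj P X).H n).obj (mk₁ (homOfLE h))) := by
        rw [not_and_or, not_le, not_le] at hq
        rcases hq with hq | hq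
        · exact (spObj P X).isZero₁_of_isFirstQuadrant _ _ h (by simp; lia) n
        · exact (spObj P X).isZero₂_of_isFirstQuadrant _ _ h n (by simpa using hq)
      have := AddCommGrpCat.subsingleton_of_isZero hz
      infer_instance
  have := SpShrink.small_obj.{u} (spObj P X) hq
  refine SpAbutment.exists_spectralSequence (SpShrink.shrink.{u} (spObj P X)) E₂ ?_ hz ?_
  · intro p q hp hq'
    obtain ⟨e⟩ := nonempty_E₂ P X q p (show (q : EInt) ≤ ((q + 1 : ℤ) : EInt) by simp)
    obtain ⟨e'⟩ := he p q hp hq'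
    exact ⟨(((SpShrink.shrinkEquiv (spObj P X) _ _).trans e).trans e').toAddCommGrpIso⟩
  · intro n
    by_cases hn : 0 ≤ n
    · obtain ⟨e⟩ := nonempty_total P X n
      obtain ⟨e'⟩ := hH n hn
      exact ⟨(((SpShrink.shrinkEquiv (spObj P X) _ _).trans e).trans e').toAddCommGrpIso⟩
    · exact ⟨(SpAbutment.isZero_neg (SpShrink.shrink.{u} (spObj P X)) n (not_le.1 hn)).iso
        (hHz n (not_le.1 hn))⟩

end Groth.Agent.H15Site.SpTrunc
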