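import Groth.Agent.H15Site.PBC.SpecStalk
import Groth.Agent.H15Site.LerayDeg
import Groth.Agent.H15Site.Godement
import Groth.Agent.S0471
import Mathlib.Topology.KrullDimension

/-!
# Cohomology of spectral spaces vanishes above the dimension
-/

set_option autoImplicit false
set_option linter.style.haveILetI false
set_option linter.unusedSectionVars false
set_option backward.isDefEq.respectTransparency false
set_option backward.isDefEq.respectTransparency.types false

universe u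

open CategoryTheory CategoryTheory.Limits Opposite TopologicalSpace Abelian

namespace Groth.Agent.H15Site.SpecVanish

open Groth.Agent.H10Coh Groth.Agent.H15Site.PBC

attribute [local instance 10000] hasSheafifyAb hasWeakSheafifyAb hasExtAb enoughInjAb

variable {X : TopCat.{u}}

/-- There is a chain of `n` strict specializations starting at the point. -/
def Big : ℕ → X → Prop
  | 0, _ => True
  | n + 1, x => ∃ y, x ⤳ y ∧ x ≠ y ∧ Big n y

/-- The stalks vanish at the points with long chains of specializations. -/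
def SuppBig (n : ℕ) (F : CohTop.Ab X) : Prop := ∀ x : X, Big n x → ∀ a : CohTop.stalk F x, a = 0

theorem exists_lt_series (n : ℕ) : ∀ x : X, Big n x → [T0Space X] →
    ∃ p : LTSeries (IrreducibleCloseds X), p.length = n ∧ (p.last : Set X) = closure {x} := by
  induction n with
  | zero =>
    intro x _ _
    exact ⟨RelSeries.singleton _ ⟨closure {x}, isIrreducible_singleton.closure, isClosed_closure⟩, rfl, rfl⟩
  | succ n ih =>
    rintro x ⟨y, hxy, hne, hy⟩ _
    obtain ⟨p, hp, hl⟩ := ih y hy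
    let W : IrreducibleCloseds X := ⟨closure {x}, isIrreducible_singleton.closure, isClosed_closure⟩
    have hlt : p.last < W := by
      refine lt_of_le_of_ne (fun z hz => ?_) fun e => hne ?_
      · exact specializes_iff_closure_subset.1 hxy (hl.subset hz)
      · have h' : closure {x} = closure {y} :=
          (congrArg (fun A : IrreducibleCloseds X => (A : Set X)) e).symm.trans hl
        exact ((inseparable_iff_closure_eq).2 h').eq
    exact ⟨p.snoc W hlt, by simp [RelSeries.snoc, hp], by rw [RelSeries.last_snoc]; rfl⟩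

theorem not_big [T0Space X] (d : ℕ) (hd : topologicalKrullDim X ≤ d) (x : X) : ¬ Big (d + 1) x := fun h => by
  obtain ⟨p, hp, -⟩ := exists_lt_series (d + 1) x h
  have h1 := (Order.LTSeries.length_le_krullDim p).trans hd
  rw [hp] at h1
  exact absurd (show d + 1 ≤ d from by exact_mod_cast h1) (Nat.not_succ_le_self d)

/-- The underlying set with the constructible topology. -/
abbrev Xc (X : TopCat.{u}) : TopCat.{u} := @TopCat.of X (constructibleTopology X)

variable [SpectralSpace X]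

/-- The identity `Xc ⟶ X`. -/
def toXc (X : TopCat.{u}) [SpectralSpace X] : Xc X ⟶ X :=
  @TopCat.ofHom X X (constructibleTopology X) _ (@ContinuousMap.mk X X (constructibleTopology X) _ id H28Top.continuous_id_constr)

instance compactSpace_Xc : CompactSpace (Xc X) := H28Top.compactSpace_constr X

instance t2Space_Xc : T2Space (Xc X) := H28Top.t2Space_constr X

instance totallySeparatedSpace_Xc : TotallySeparatedSpace (Xc X) := H28Top.totallySeparatedSpace_constr X

instance totallyDisconnectedSpace_Xc : TotallyDisconnectedSpace (Xc X) :=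
  TotallySeparatedSpace.totallyDisconnectedSpace _

theorem isClopen_preimage (U : Opens X) (hU : IsCompact (U : Set X)) :
    IsClopen (((Opens.map (toXc X)).obj U : Opens (Xc X)) : Set (Xc X)) :=
  ⟨H28Top.isClosed_constr_of_compactOpen (X := X) U.isOpen hU, H28Top.isOpen_constr_of_compactOpen (X := X) U.isOpen hU⟩

variable (F : CohTop.Ab X)

/-- A family of germs is induced by a section, locally for the constructible topology. -/
def LocGerm (W : Opens (Xc X)) (s : ∀ x : {x : X // x ∈ (W : Set (Xc X))}, CohTop.stalk F x.1) : Prop :=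
  ∀ x : {x : X // x ∈ (W : Set (Xc X))}, ∃ (U : Opens X) (W' : Opens (Xc X))
    (_ : x.1 ∈ (W' : Set (Xc X))) (t : F.obj.obj (op U)),
    ∀ (y : {x : X // x ∈ (W : Set (Xc X))}) (_ : y.1 ∈ (W' : Set (Xc X))),
      ∃ hy : y.1 ∈ U, gm F y.1 hy t = s y

/-- Families of germs locally induced by sections. -/
noncomputable def cgrp (W : Opens (Xc X)) :
    AddSubgroup (∀ x : {x : X // x ∈ (W : Set (Xc X))}, CohTop.stalk F x.1) where
  carrier := {s | LocGerm F W s}
  zero_mem' := fun x => ⟨⊤, ⊤, trivial, 0, fun y _ => ⟨trivial, map_zero _⟩⟩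
  add_mem' := fun {a b} ha hb x => by
    obtain ⟨U₁, W₁, h₁, t₁, e₁⟩ := ha x
    obtain ⟨U₂, W₂, h₂, t₂, e₂⟩ := hb x
    refine ⟨U₁ ⊓ U₂, W₁ ⊓ W₂, ⟨h₁, h₂⟩, F.obj.map (homOfLE inf_le_left).op t₁ +
      F.obj.map (homOfLE inf_le_right).op t₂, fun y hy => ?_⟩
    obtain ⟨hy₁, f₁⟩ := e₁ y hy.1
    obtain ⟨hy₂, f₂⟩ := e₂ y hy.2
    refine ⟨⟨hy₁, hy₂⟩, (gm_add _ _ _ _).trans ?_⟩
    rw [gm_res, gm_res, f₁, f₂]
    rfl
  neg_mem' := fun {a} ha x => by
    obtain ⟨U₁, W₁, h₁, t₁, e₁⟩ := ha x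
    refine ⟨U₁, W₁, h₁, -t₁, fun y hy => ?_⟩
    obtain ⟨hy₁, f₁⟩ := e₁ y hy
    exact ⟨hy₁, (map_neg _ _).trans (congrArg _ f₁)⟩

/-- The presheaf of families of germs locally induced by sections. -/
noncomputable def cpre : (Opens (Xc X))ᵒᵖ ⥤ AddCommGrpCat.{u} where
  obj W := AddCommGrpCat.of (cgrp F W.unop)
  map {W V} k := AddCommGrpCat.ofHom
    { toFun := fun s => ⟨fun x => s.1 ⟨x.1, k.unop.le x.2⟩, fun x => by
        obtain ⟨U, W', h, t, e⟩ := s.2 ⟨x.1, k.unop.le x.2⟩
        exact ⟨U, W', h, t, fun y hy => e ⟨y.1, k.unop.le y.2⟩ hy⟩⟩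
      map_zero' := rfl
      map_add' := fun _ _ => rfl }
  map_id _ := rfl
  map_comp _ _ := rfl

theorem isSheaf_cpre : TopCat.Presheaf.IsSheaf (cpre F) := by
  rw [TopCat.Presheaf.isSheaf_iff_isSheafUniqueGluing]
  intro ι U sf hsf
  have hex : ∀ x : {x : X // x ∈ ((iSup U : Opens (Xc X)) : Set (Xc X))}, ∃ i, x.1 ∈ (U i : Set (Xc X)) :=
    fun x => Opens.mem_iSup.1 x.2
  choose i hi using hex
  have hind : ∀ (x : {x : X // x ∈ ((iSup U : Opens (Xc X)) : Set (Xc X))}) (j : ι)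
      (hj : x.1 ∈ (U j : Set (Xc X))), (sf (i x)).1 ⟨x.1, hi x⟩ = (sf j).1 ⟨x.1, hj⟩ := fun x j hj =>
    congrFun (congrArg Subtype.val (hsf (i x) j)) ⟨x.1, hi x, hj⟩
  refine ⟨⟨fun x => (sf (i x)).1 ⟨x.1, hi x⟩, fun x => ?_⟩, fun j => ?_, fun t ht => ?_⟩
  · obtain ⟨V, W', h, t, e⟩ := (sf (i x)).2 ⟨x.1, hi x⟩
    refine ⟨V, W' ⊓ U (i x), ⟨h, hi x⟩, t, fun y hy => ?_⟩
    obtain ⟨hy', e'⟩ := e ⟨y.1, hy.2⟩ hy.1
    exact ⟨hy', e'.trans (hind y _ hy.2).symm⟩
  · exact Subtype.ext (funext fun x => hind ⟨x.1, Opens.mem_iSup.2 ⟨j, x.2⟩⟩ j x.2)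
  · exact Subtype.ext (funext fun x => congrFun (congrArg Subtype.val (ht (i x))) ⟨x.1, hi x⟩)

/-- Families of germs locally induced by sections, as a sheaf. -/
noncomputable def cSh : CohTop.Ab (Xc X) := ⟨cpre F, isSheaf_cpre F⟩

/-- Its direct image. -/
noncomputable abbrev cGod : CohTop.Ab X := (CohTop.push (toXc X)).obj (cSh F)

/-- `F ⟶ cGod F`. -/
noncomputable def toCGod : F ⟶ cGod F where
  hom :=
    { app := fun U => AddCommGrpCat.ofHom
        { toFun := fun s => ⟨fun x => gm F x.1 x.2 s,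
            fun x => ⟨U.unop, (Opens.map (toXc X)).obj U.unop, x.2, s, fun y _ => ⟨y.2, rfl⟩⟩⟩
          map_zero' := Subtype.ext (funext fun _ => map_zero _)
          map_add' := fun _ _ => Subtype.ext (funext fun _ => map_add _ _ _) }
      naturality := fun U V k => by
        ext s
        exact Subtype.ext (funext fun x => TopCat.Presheaf.germ_res_apply F.obj k.unop x.1 x.2 s) }

instance mono_toCGod : Mono (toCGod F) := by
  have : ∀ U, Mono ((toCGod F).hom.app U) := fun U => by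
    rw [AddCommGrpCat.mono_iff_injective]
    intro s t h
    exact TopCat.Presheaf.section_ext (F : TopCat.Sheaf AddCommGrpCat.{u} X) U.unop s t
      fun x hx => congrFun (congrArg Subtype.val h) ⟨x, hx⟩
  have : Mono (toCGod F).hom := NatTrans.mono_of_mono_app _
  exact (sheafToPresheaf _ _).mono_of_mono_map this

theorem exists_lift_near {n : ℕ} (hF : SuppBig (n + 1) F) (x : X) (hx : Big n x) (V : Opens X)
    (hxV : x ∈ V) (a : (cGod F).obj.obj (op V)) :
    ∃ (V' : Opens X) (hV' : V' ≤ V) (_ : x ∈ V') (t : F.obj.obj (op V')),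
      (toCGod F).hom.app (op V') t = (cGod F).obj.map (homOfLE hV').op a := by
  let xx : {x : X // x ∈ (((Opens.map (toXc X)).obj V : Opens (Xc X)) : Set (Xc X))} := ⟨x, hxV⟩
  obtain ⟨U, hxU, t, ht⟩ := TopCat.Presheaf.exists_germ_eq F.obj (a.1 xx)
  obtain ⟨S, ⟨hSo, hSc⟩, hxS, hS⟩ :=
    (PrespectralSpace.isTopologicalBasis (X := X)).exists_subset_of_mem_open
      (show x ∈ ((U ⊓ V : Opens X) : Set X) from ⟨hxU, hxV⟩) (U ⊓ V).isOpen
  let D : Set (Xc X) := {y | ∃ (h1 : y ∈ (U : Set X)) (h2 : y ∈ (V : Set X)),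
    gm F y h1 t = a.1 ⟨y, h2⟩}
  have hD : IsOpen D := by
    rw [isOpen_iff_forall_mem_open]
    rintro y ⟨h1, h2, e⟩
    obtain ⟨U', W', hy, t', e'⟩ := a.2 ⟨y, h2⟩
    obtain ⟨hyU', ey⟩ := e' ⟨y, h2⟩ hy
    refine ⟨(W' : Set (Xc X)) ∩ ((Opens.map (toXc X)).obj V : Opens (Xc X)) ∩
      ((Opens.map (toXc X)).obj (eqLocus F t t') : Opens (Xc X)), ?_,
      (W'.isOpen.inter (Opens.isOpen _)).inter (Opens.isOpen _), ⟨hy, h2⟩, h1, hyU', e.trans ey.symm⟩
    rintro z ⟨⟨hzW, hzV⟩, hz1, hz2, ez⟩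
    obtain ⟨hzU', ez'⟩ := e' ⟨z, hzV⟩ hzW
    exact ⟨hz1, hzV, ez.trans ez'⟩
  have hgen : ∀ y : X, y ⤳ x → (y : Xc X) ∈ D := fun y hyx => by
    refine ⟨hyx.mem_open U.isOpen hxU, hyx.mem_open V.isOpen hxV, ?_⟩
    by_cases e : y = x
    · subst e
      exact ht
    · exact (hF y ⟨x, hyx, e, hx⟩ _).trans (hF y ⟨x, hyx, e, hx⟩ _).symm
  let 𝒱 := {O : Opens X // x ∈ O ∧ IsCompact (O : Set X)}
  have hclosed : IsClosed ((((Opens.map (toXc X)).obj ⟨S, hSo⟩ : Opens (Xc X)) : Set (Xc X)) \ D) :=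
    (isClopen_preimage ⟨S, hSo⟩ hSc).1.inter hD.isClosed_compl
  obtain ⟨T, hT⟩ := hclosed.isCompact.elim_finite_subfamily_closed
    (fun O : 𝒱 => (((Opens.map (toXc X)).obj O.1 : Opens (Xc X)) : Set (Xc X)))
    (fun O => (isClopen_preimage O.1 O.2.2).1) (by
      refine Set.eq_empty_iff_forall_notMem.2 fun y hy => hy.1.2 (hgen y ?_)
      refine specializes_iff_forall_open.2 fun O hO hxO => ?_
      obtain ⟨O', ⟨h1, h2⟩, h3, h4⟩ :=
        (PrespectralSpace.isTopologicalBasis (X := X)).exists_subset_of_mem_open hxO hO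
      exact h4 (Set.mem_iInter.1 hy.2 ⟨⟨O', h1⟩, h3, h2⟩))
  let V' : Opens X := ⟨S ∩ ⋂ O ∈ T, (O.1 : Set X), hSo.inter (isOpen_biInter_finset fun O _ => O.1.isOpen)⟩
  have hV'D : ∀ y : X, y ∈ V' → (y : Xc X) ∈ D := fun y hy => by
    by_contra hn
    exact Set.eq_empty_iff_forall_notMem.1 hT y
      ⟨⟨hy.1, hn⟩, Set.mem_iInter₂.2 fun O hO => Set.mem_iInter₂.1 hy.2 O hO⟩
  refine ⟨V', fun y hy => (hS hy.1).2, ⟨hxS, Set.mem_iInter₂.2 fun O _ => O.2.1⟩,
    F.obj.map (homOfLE (fun y hy => (hS hy.1).1 : V' ≤ U)).op t, Subtype.ext (funext fun y => ?_)⟩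
  obtain ⟨h1, h2, e⟩ := hV'D y.1 y.2
  exact (gm_res F _ y.1 y.2 t).trans e

theorem suppBig_cokernel {n : ℕ} (hF : SuppBig (n + 1) F) : SuppBig n (cokernel (toCGod F)) := by
  intro x hx q
  obtain ⟨U, hxU, c, rfl⟩ := TopCat.Presheaf.exists_germ_eq (cokernel (toCGod F)).obj q
  have hepi := (TopCat.Sheaf.isLocallySurjective_iff_epi (cokernel.π (toCGod F))).mpr inferInstance
  obtain ⟨V, hVU, ⟨a, ha⟩, hxV⟩ :=
    (TopCat.Presheaf.isLocallySurjective_iff (cokernel.π (toCGod F)).hom).mp hepi U c x hxU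
  obtain ⟨V', hV', hxV', t, ht⟩ := exists_lift_near F hF x hx V hxV a
  have h0 : (cokernel.π (toCGod F)).hom.app (op V') ((cGod F).obj.map (homOfLE hV').op a) = 0 := by
    rw [← ht]
    exact congr($(congrArg (fun k : F ⟶ cokernel (toCGod F) => k.hom.app (op V'))
      (cokernel.condition (toCGod F))) t)
  have h1 : (cokernel (toCGod F)).obj.map (homOfLE hV').op
      ((cokernel (toCGod F)).obj.map (homOfLE hVU).op c) = 0 := by
    refine Eq.trans ?_ h0
    refine (congrArg _ (show (cokernel (toCGod F)).obj.map (homOfLE hVU).op c =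
      (cokernel.π (toCGod F)).hom.app (op V) a from ha.symm)).trans ?_
    exact (ConcreteCategory.congr_hom ((cokernel.π (toCGod F)).hom.naturality (homOfLE hV').op) a).symm
  refine ((TopCat.Presheaf.germ_res_apply (cokernel (toCGod F)).obj (homOfLE hVU) x hxV c).symm.trans
    ((TopCat.Presheaf.germ_res_apply (cokernel (toCGod F)).obj (homOfLE hV') x hxV' _).symm.trans ?_))
  rw [h1]
  exact map_zero _

theorem isZero_of_suppBig_zero {G : CohTop.Ab X} (h : SuppBig 0 G) : IsZero G := by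
  rw [IsZero.iff_id_eq_zero]
  refine CategoryTheory.Sheaf.hom_ext (NatTrans.ext (funext fun U => ?_))
  ext s
  exact TopCat.Presheaf.section_ext (G : TopCat.Sheaf AddCommGrpCat.{u} X) U.unop _ _
    fun x hx => (h x trivial _).trans (h x trivial _).symm

theorem spectralSpace_Xc : SpectralSpace (Xc X) := by
  haveI : PrespectralSpace (Xc X) :=
    PrespectralSpace.of_isTopologicalBasis isTopologicalBasis_isClopen fun U hU => hU.1.isCompact
  haveI : QuasiSeparatedSpace (Xc X) := ⟨fun U V _ hU _ hV => hU.inter hV⟩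
  constructor

theorem isSpectralMap_toXc : IsSpectralMap (toXc X) :=
  ⟨(toXc X).hom.continuous, fun U hU hUc => @IsClosed.isCompact X (constructibleTopology X) _ (H28Top.compactSpace_constr X)
    (H28Top.isClosed_constr_of_compactOpen (X := X) hU hUc)⟩

theorem isZero_Rpush_toXc (A : CohTop.Ab (Xc X)) (q : ℕ) :
    IsZero ((CohTop.Rpush (toXc X) (q + 1)).obj A) := by
  haveI : SpectralSpace (Xc X) := spectralSpace_Xc
  rw [IsZero.iff_id_eq_zero]
  refine CategoryTheory.Sheaf.hom_ext (NatTrans.ext (funext fun U => ?_))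
  ext s
  refine TopCat.Presheaf.section_ext ((CohTop.Rpush (toXc X) (q + 1)).obj A : TopCat.Sheaf AddCommGrpCat.{u} X)
    U.unop _ _ fun x hx => ?_
  let S : Set (Xc X) := {z : Xc X | toXc X z ⤳ x}
  let i : TopCat.of S ⟶ Xc X := @TopCat.ofHom S (Xc X) _ (Xc X).str
    ⟨Subtype.val, @continuous_subtype_val (Xc X) (Xc X).str _⟩
  have hr : Set.range i = {z : Xc X | toXc X z ⤳ x} := Subtype.range_coe
  obtain ⟨e⟩ := nonempty_stalk_Rpush_iso_gen (toXc X) i x Topology.IsEmbedding.subtypeVal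
    (hr ▸ genIn_preimage (toXc X) x isSpectralMap_toXc) isSpectralMap_toXc (fun z hz => hr.ge hz)
    (fun z => z.2) A (q + 1)
  haveI : CompactSpace (TopCat.of S) :=
    isCompact_iff_compactSpace.1 (genIn_preimage (toXc X) x isSpectralMap_toXc).1
  haveI := S0471.subsingleton_of_profinite ((CohTop.pull i).obj A) q ⊤ isClopen_univ
  haveI : Subsingleton (CohTop.H ((CohTop.pull i).obj A) (q + 1)) :=
    (topEquiv ((CohTop.pull i).obj A) (q + 1)).toEquiv.subsingleton
  haveI : Subsingleton (CohTop.stalk ((CohTop.Rpush (toXc X) (q + 1)).obj A) x) :=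
    e.addCommGroupIsoToAddEquiv.toEquiv.subsingleton
  exact Subsingleton.elim _ _

theorem subsingleton_Hn_cGod (U : Opens X) (hU : IsCompact (U : Set X)) (p : ℕ) :
    Subsingleton (Hn (cGod F) (p + 1) U) := by
  haveI := S0471.subsingleton_of_profinite (cSh F) p ((Opens.map (toXc X)).obj U) (isClopen_preimage U hU)
  obtain ⟨e⟩ := LerayDeg.nonempty_equiv_push (toXc X) U (p + 1) (cSh F) fun q => isZero_Rpush_toXc _ q
  exact e.symm.toEquiv.subsingleton

theorem surjective_res_cGod (U : Opens X) (hU : IsCompact (U : Set X)) :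
    Function.Surjective ((cGod F).obj.map (homOfLE (le_top : U ≤ ⊤)).op) := by
  intro a
  classical
  let W := (Opens.map (toXc X)).obj U
  refine ⟨⟨fun x => if h : x.1 ∈ U then a.1 ⟨x.1, h⟩ else 0, fun x => ?_⟩, Subtype.ext (funext fun y => dif_pos y.2)⟩
  by_cases h : x.1 ∈ U
  · obtain ⟨V, W', hx, t, e⟩ := a.2 ⟨x.1, h⟩
    refine ⟨V, W' ⊓ W, ⟨hx, h⟩, t, fun y hy => ?_⟩
    obtain ⟨hy', e'⟩ := e ⟨y.1, hy.2⟩ hy.1
    refine ⟨hy', e'.trans ?_⟩
    dsimp only
    split_ifs with h'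
    · rfl
    · exact absurd hy.2 h'
  · refine ⟨⊤, ⟨(W : Set (Xc X))ᶜ, (isClopen_preimage U hU).1.isOpen_compl⟩, h, 0, fun y hy => ⟨trivial, ?_⟩⟩
    dsimp only
    split_ifs with h'
    · exact absurd h' hy
    · exact map_zero _

theorem ses (F : CohTop.Ab X) :
    (ShortComplex.mk (toCGod F) (cokernel.π (toCGod F)) (cokernel.condition _)).ShortExact :=
  { exact := ShortComplex.exact_cokernel (toCGod F) }

theorem subsingleton_Hn_of_suppBig (n : ℕ) : ∀ (F : CohTop.Ab X), SuppBig n F →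
    ∀ (U : Opens X), IsCompact (U : Set X) → ∀ p : ℕ, n ≤ p → Subsingleton (Hn F p U) := by
  induction n with
  | zero =>
    intro F hF U _ p _
    exact subsingleton_of_forall_eq 0 fun x => by
      rw [← Ext.comp_mk₀_id x, (IsZero.iff_id_eq_zero F).1 (isZero_of_suppBig_zero hF), Ext.mk₀_zero,
        Ext.comp_zero]
  | succ n ih =>
    intro F hF U hU p hp
    obtain ⟨m, rfl⟩ : ∃ m, p = m + 1 := ⟨p - 1, by omega⟩
    have h₂ := subsingleton_Hn_cGod F U hU m
    have h₃ := ih _ (suppBig_cokernel F hF) U hU m (by omega)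
    exact subsingleton_of_forall_eq 0 fun x => by
      obtain ⟨y, rfl⟩ := Ext.covariant_sequence_exact₁ _ (ses F) x (h₂.elim _ _) rfl
      rw [h₃.elim y 0, Ext.zero_comp]

theorem surjective_resH_of_suppBig (n : ℕ) : ∀ (F : CohTop.Ab X), SuppBig (n + 1) F →
    ∀ (U : Opens X), IsCompact (U : Set X) →
      Function.Surjective (resH F n (le_top : U ≤ ⊤)) := by
  induction n with
  | zero =>
    intro F hF U hU x
    have hQ := isZero_of_suppBig_zero (suppBig_cokernel F hF)
    haveI : Epi (toCGod F) := Preadditive.epi_of_isZero_cokernel _ hQ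
    haveI : IsIso (toCGod F) := isIso_of_mono_of_epi _
    obtain ⟨a, ha⟩ := surjective_res_cGod F U hU ((toCGod F).hom.app (op U) (H0Equiv F U x))
    refine ⟨(H0Equiv F ⊤).symm ((inv (toCGod F)).hom.app (op ⊤) a), (H0Equiv F U).injective ?_⟩
    rw [H0Equiv_res, AddEquiv.apply_symm_apply]
    refine (ConcreteCategory.congr_hom ((inv (toCGod F)).hom.naturality (homOfLE (le_top : U ≤ ⊤)).op) a).symm.trans ?_
    refine (congrArg ((inv (toCGod F)).hom.app (op U)) ha).trans ?_
    exact congr($(congrArg (fun k : F ⟶ F => k.hom.app (op U)) (IsIso.hom_inv_id (toCGod F))) (H0Equiv F U x))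
  | succ n ih =>
    intro F hF U hU x
    obtain ⟨y, rfl⟩ := Ext.covariant_sequence_exact₁ _ (ses F) x
      ((subsingleton_Hn_cGod F U hU n).elim _ _) rfl
    obtain ⟨z, rfl⟩ := ih _ (suppBig_cokernel F hF) U hU y
    exact ⟨z.comp (ses F).extClass rfl, resH_comp _ _ _ _⟩

end Groth.Agent.H15Site.SpecVanish
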