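import Groth.Agent.H15Site.StalkFree
import Mathlib.RingTheory.LocalRing.Module

/-!
# Free neighbourhoods: finitely presented modules with free stalks, summands of free modules
-/

universe u

open CategoryTheory CategoryTheory.Limits Opposite TopologicalSpace

set_option linter.style.haveILetI false
set_option backward.isDefEq.respectTransparency false

namespace Groth.Agent.H15Site.StalkFree

open ModTensor ModRel LocGen LocFP

attribute [local instance 10000] SiteInst.hasSheafifySite SiteInst.hasWeakSheafifySite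

section Reindex

variable {C : Type u} [SmallCategory C] {J : GrothendieckTopology C} {O : Sheaf J CommRingCat.{u}}
  {U : C} {F : ModSite.Mod O}

theorem gen_reindex {I I' : Type*} [Fintype I] [Fintype I'] (σ : I' ≃ I)
    {s : I → ((forg O).obj F).obj (op U)} (hs : Gen s) : Gen (s ∘ σ) := fun V g t => by
  obtain ⟨S, hS, hS'⟩ := hs g t
  refine ⟨S, hS, fun W h hh => ?_⟩
  obtain ⟨r, hr⟩ := hS' h hh
  exact ⟨r ∘ σ, hr.trans (σ.sum_comp fun j => r j • rs ((forg O).obj F) (h ≫ g).op (s j)).symm⟩

theorem indep_reindex {I I' : Type*} [Fintype I] [Fintype I'] (σ : I' ≃ I)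
    {s : I → ((forg O).obj F).obj (op U)} (hs : Indep s) : Indep (s ∘ σ) := fun V g c hc => by
  have := hs g (c ∘ σ.symm) (Eq.trans ?_ hc)
  · funext i
    simpa using congrFun this (σ i)
  · rw [← σ.sum_comp]
    simp

theorem rel_reindex {I I' K K' : Type*} [Fintype I] [Fintype I'] [Fintype K] [Fintype K']
    (σ : I' ≃ I) (τ : K' ≃ K) {s : I → ((forg O).obj F).obj (op U)}
    {r : K → I → O.obj.obj (op U)} (hr : Rel s r) : Rel (s ∘ σ) fun k i => r (τ k) (σ i) where
  zero k := (σ.sum_comp fun i => r (τ k) i • s i).trans (hr.zero (τ k))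
  complete V g c hc := by
    obtain ⟨S, hS, hS'⟩ := hr.complete g (c ∘ σ.symm) (Eq.trans (by rw [← σ.sum_comp]; simp) hc)
    refine ⟨S, hS, fun W h hh => ?_⟩
    obtain ⟨d, hd⟩ := hS' h hh
    refine ⟨d ∘ τ, fun i => ?_⟩
    have := hd (σ i)
    simp only [Function.comp_apply, Equiv.symm_apply_apply] at this
    exact this.trans (τ.sum_comp fun k => d k * rr O (h ≫ g).op (r k (σ i))).symm

/-- Free on a finite index, through sections indexed by `Fin r`. -/
theorem free_iff_fin {r : ℕ} :
    Nonempty ((ModSite.restr O U).obj F ≅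
        SheafOfModules.free (R := ModSite.ringSh (O.over U)) (ULift.{u} (Fin r))) ↔
      ∃ s : Fin r → ((forg O).obj F).obj (op U), Gen s ∧ Indep s := by
  rw [free_iff]
  exact ⟨fun ⟨s, h1, h2⟩ => ⟨s ∘ Equiv.ulift.symm, gen_reindex _ h1, indep_reindex _ h2⟩,
    fun ⟨s, h1, h2⟩ => ⟨s ∘ Equiv.ulift, gen_reindex _ h1, indep_reindex _ h2⟩⟩

end Reindex

variable {X : TopCat.{u}} {O : TopCat.Sheaf CommRingCat.{u} X}

/-- On a space, a finitely presented module has finitely many generators and relations near a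
point. -/
theorem exists_pres_nhd (F : ModSite.Mod O)
    [SheafOfModules.IsFinitePresentation (R := ModSite.ringSh O) F] (x : X) :
    ∃ U : Opens X, x ∈ U ∧ ∃ (n K : ℕ) (t : Fin n → ((forg O).obj F).obj (op U))
      (R : Fin K → Fin n → O.obj.obj (op U)), Gen t ∧ Rel t R := by
  obtain ⟨ι, U, hU, h⟩ := exists_pres F
  obtain ⟨i, hxi⟩ := Opens.mem_iSup.1
    (((Opens.coversTop_iff _ _).1 hU).symm ▸ Opens.mem_top x : x ∈ ⨆ i, U i)
  obtain ⟨I, K, _, _, s, r, hs, hr⟩ := h i
  exact ⟨U i, hxi, _, _, _, _, gen_reindex (Fintype.equivFin I).symm hs,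
    rel_reindex (Fintype.equivFin I).symm (Fintype.equivFin K).symm hr⟩

/-- Generators, relations and a basis of the stalk give a free neighbourhood. -/
theorem exists_free_opens {F : ModSite.Mod O} {x : X} {U : Opens X} (hx : x ∈ U) {n K r : ℕ}
    (t : Fin n → ((forg O).obj F).obj (op U)) (R : Fin K → Fin n → O.obj.obj (op U)) (hG : Gen t)
    (hR : Rel t R) (b : Module.Basis (Fin r) (ModSite.stalkRing (Opens.pointGrothendieckTopology x) O)
      (ModSite.stalkMod (Opens.pointGrothendieckTopology x) F)) :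
    ∃ W : Opens X, x ∈ W ∧ Nonempty ((ModSite.restr O W).obj F ≅
      SheafOfModules.free (R := ModSite.ringSh (O.over W)) (ULift.{u} (Fin r))) := by
  obtain ⟨W, -, ⟨w⟩, hW⟩ :=
    exists_free_nhd F (Opens.pointGrothendieckTopology x) (mk hx) t R hG hR b
  exact ⟨W, w.down.down, free_iff_fin.2 hW⟩

open Classical in
/-- A direct summand of a free module on finitely many sections: the relations of its generators. -/
theorem rel_of_retract {C : Type u} [SmallCategory C] {J : GrothendieckTopology C}
    {O : Sheaf J CommRingCat.{u}} {U : C} {F H : ModSite.Mod O} (i : F ⟶ H) (p : H ⟶ F)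
    (hip : i ≫ p = 𝟙 F) {I : Type*} [Fintype I] {h : I → ((forg O).obj H).obj (op U)} (hg : Gen h)
    (hi : Indep h) {E : I → I → O.obj.obj (op U)}
    (hE : ∀ j, (i.val.app (op U)).hom ((p.val.app (op U)).hom (h j)) = ∑ k, E j k • h k) :
    Gen (fun j => (p.val.app (op U)).hom (h j) : I → ((forg O).obj F).obj (op U)) ∧
      Rel (fun j => (p.val.app (op U)).hom (h j) : I → ((forg O).obj F).obj (op U))
        fun j k => (if j = k then 1 else 0) - E j k := by
  have hpi : ∀ {V : Cᵒᵖ} (m : ((forg O).obj F).obj V),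
      (p.val.app V).hom ((i.val.app V).hom m) = m := fun {V} m =>
    congrArg (fun φ : F ⟶ F => (φ.val.app V).hom m) hip
  refine ⟨fun V g t => ?_, ⟨fun j => ?_, fun V g c hc => ?_⟩⟩
  · obtain ⟨S, hS, hS'⟩ := hg g ((i.val.app (op V)).hom t)
    refine ⟨S, hS, fun W a ha => ?_⟩
    obtain ⟨r, hr⟩ := hS' a ha
    refine ⟨r, ?_⟩
    have e := congrArg (p.val.app (op W)).hom hr
    rw [← LocPres.app_rs, hpi, map_sum] at e
    refine e.trans (Finset.sum_congr rfl fun k _ => ((p.val.app (op W)).hom.map_smul _ _).trans ?_)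
    rw [← LocPres.app_rs]
  · simp only [sub_smul, Finset.sum_sub_distrib, ite_smul, one_smul, zero_smul, Finset.sum_ite_eq,
      Finset.mem_univ, if_true]
    have e := congrArg (p.val.app (op U)).hom (hE j)
    rw [hpi, map_sum] at e
    refine sub_eq_zero.2 (e.trans (Finset.sum_congr rfl fun k _ => ?_))
    exact (p.val.app (op U)).hom.map_smul _ _
  · have e : ∑ j, c j • rs ((forg O).obj H) g.op (∑ k, E j k • h k) = 0 := by
      have := congrArg (i.val.app (op V)).hom hc
      rw [map_sum, map_zero] at this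
      refine Eq.trans (Finset.sum_congr rfl fun j _ => ?_) this
      refine Eq.symm (((i.val.app (op V)).hom.map_smul _ _).trans ?_)
      rw [LocPres.app_rs, hE]
    simp only [rs_sum, rs_smul', Finset.smul_sum, ← mul_smul] at e
    rw [Finset.sum_comm] at e
    simp only [← Finset.sum_smul] at e
    have hk := hi g _ e
    refine ⟨⊤, J.top_mem V, fun W a _ => ⟨fun k => rr O a.op (c k), fun k => ?_⟩⟩
    have e2 : c k = ∑ j, c j * rr O g.op ((if j = k then 1 else 0) - E j k) := by
      simp only [map_sub, mul_sub, Finset.sum_sub_distrib, apply_ite, map_one, map_zero]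
      rw [congrFun hk k, Pi.zero_apply, sub_zero]
      simp
    refine (congrArg (O.obj.map a.op).hom e2).trans ((map_sum _ _ _).trans ?_)
    simp only [map_mul, rr_rr, ← op_comp]

end Groth.Agent.H15Site.StalkFree
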