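import Groth.Agent.H15Site.StalkFreeApps
import Groth.Agent.H15Site.CoprodSect
import Mathlib.RingTheory.OrzechProperty

/-!
# Stalks of locally free modules: bases on arbitrary index sets, and rank arguments
-/

universe u

open CategoryTheory CategoryTheory.Limits Opposite TopologicalSpace

set_option linter.style.haveILetI false
set_option backward.isDefEq.respectTransparency false

namespace Groth.Agent.H15Site.StalkFree

open ModTensor ModRel LocGen LocFP

attribute [local instance 10000] SiteInst.hasSheafifySite SiteInst.hasWeakSheafifySite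

variable {C : Type u} [SmallCategory C] {J : GrothendieckTopology C} {O : Sheaf J CommRingCat.{u}}
  {U : C} {F : ModSite.Mod O}

open Classical in
/-- An isomorphism with a free module of any index set gives sections of which every finite
subfamily is independent and which generate locally through finite subfamilies. -/
theorem exists_sections_of_free {I : Type u}
    (ψ : (ModSite.restr O U).obj F ≅ SheafOfModules.free (R := ModSite.ringSh (O.over U)) I) :
    ∃ s : I → ((forg O).obj F).obj (op U),
      (∀ (n : ℕ) (σ : Fin n → I), Function.Injective σ → Indep (s ∘ σ)) ∧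
      ∀ ⦃V : C⦄ (g : V ⟶ U) (t : ((forg O).obj F).obj (op V)), ∃ S ∈ J V, ∀ ⦃W : C⦄ (h : W ⟶ V),
        S h → ∃ (A : Finset I) (c : I → O.obj.obj (op W)),
          rs ((forg O).obj F) h.op t = ∑ i ∈ A, c i • rs ((forg O).obj F) (h ≫ g).op (s i) := by
  obtain ⟨s, hs⟩ := exists_eq_genMor (F := F) (U := U) ψ.inv
  haveI : IsIso (genMor s) := hs ▸ (inferInstance : IsIso ψ.inv)
  refine ⟨s, fun n σ hσ V g c hc => ?_, fun V g t => ?_⟩
  · let A : Finset I := Finset.univ.map ⟨σ, hσ⟩
    let d : I → O.obj.obj (op V) := Function.extend σ c 0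
    have hd : ∀ k, d (σ k) = c k := fun k => hσ.extend_apply c 0 k
    have h0 : ((genMor s).val.app (op (Over.mk g))).hom
        (∑ i ∈ A, e (O := O) (W := Over.mk g) i (d i)) = 0 := by
      rw [map_sum]
      simp only [genMor_e, A, Finset.sum_map, Function.Embedding.coeFn_mk, hd]
      exact hc
    have h1 := LocPres.injective_app (genMor s) (op (Over.mk g)) (h0.trans (map_zero _).symm)
    funext k
    rw [← hd k]
    exact CoprodSect.eq_zero_of_sum_eq_zero (V := op (Over.mk g))
      (fun _ : I => SheafOfModules.unit (ModSite.ringSh (O.over U))) A d h1 (σ k)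
      (Finset.mem_map.2 ⟨k, Finset.mem_univ k, rfl⟩)
  · let z : ((SheafOfModules.free (R := ModSite.ringSh (O.over U)) I).val.obj (op (Over.mk g)) :
      Type u) := ((inv (genMor s)).val.app (op (Over.mk g))).hom t
    have hz : ((genMor s).val.app (op (Over.mk g))).hom z = t :=
      congrArg (fun φ : (ModSite.restr O U).obj F ⟶ (ModSite.restr O U).obj F =>
        (φ.val.app (op (Over.mk g))).hom t) (IsIso.inv_hom_id (genMor s))
    obtain ⟨S, hS, hS'⟩ := CoprodSect.exists_local_combination
      (fun _ : I => SheafOfModules.unit (ModSite.ringSh (O.over U))) (V := Over.mk g) z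
    refine ⟨Sieve.overEquiv _ S, hS, fun W h hh => ?_⟩
    obtain ⟨A, y, hy⟩ := hS' (Over.homMk (U := Over.mk (h ≫ g)) h : Over.mk (h ≫ g) ⟶ Over.mk g)
      ((Sieve.overEquiv_iff S h).1 hh)
    refine ⟨A, y, ?_⟩
    have h1 := congrArg ((genMor s).val.app (op (Over.mk (h ≫ g)))).hom hy
    erw [LocPres.app_rs (genMor s), hz, map_sum] at h1
    refine h1.trans (Finset.sum_congr rfl fun i _ => ?_)
    exact genMor_e s i (y i)

/-- Those sections give a basis of the stalk at every point over `U`. -/
noncomputable def stalkBasisOfFree (p : GrothendieckTopology.Point.{u} J) (x : p.fiber.obj U)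
    {I : Type u} (s : I → ((forg O).obj F).obj (op U))
    (h1 : ∀ (n : ℕ) (σ : Fin n → I), Function.Injective σ → Indep (s ∘ σ))
    (h2 : ∀ ⦃V : C⦄ (g : V ⟶ U) (t : ((forg O).obj F).obj (op V)), ∃ S ∈ J V,
      ∀ ⦃W : C⦄ (h : W ⟶ V), S h → ∃ (A : Finset I) (c : I → O.obj.obj (op W)),
        rs ((forg O).obj F) h.op t = ∑ i ∈ A, c i • rs ((forg O).obj F) (h ≫ g).op (s i)) :
    Module.Basis I (ModSite.stalkRing p O) (ModSite.stalkMod p F) :=
  Module.Basis.mk (M := ModSite.stalkMod p F) (v := fun i => ModSite.germ p F U x (s i))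
    (linearIndependent_iff'.2 fun A a ha i hi => by
      classical
      have := Fintype.linearIndependent_iff.1
        (indep_germ p x (h1 A.card (fun k => (A.equivFin.symm k).1)
          (Subtype.val_injective.comp A.equivFin.symm.injective)))
        (fun k => a (A.equivFin.symm k).1)
        (by
          refine Eq.trans ?_ ha
          refine (A.equivFin.symm.sum_comp fun j : A =>
            a j.1 • ModSite.germ p F U x (s j.1)).trans ?_
          exact Finset.sum_coe_sort A fun j => a j • ModSite.germ p F U x (s j))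
        (A.equivFin ⟨i, hi⟩)
      simpa using this)
    (fun m _ => by
      obtain ⟨V, g, v, hv, -, m₀, -, hm⟩ := PointGerm.exists_rep p F (U := U) x
        (fun e : Fin 0 => e.elim0) (fun _ : Unit => m)
      obtain ⟨S, hS, hS'⟩ := h2 g (m₀ ())
      obtain ⟨W, h, hh, w, hw⟩ := p.jointly_surjective S hS v
      obtain ⟨A, c, hc⟩ := hS' h hh
      have := congrArg (ModSite.germ p F W w) hc
      rw [PointGerm.germ_rs, hw, hm, PointGerm.germ_sum] at this
      rw [this]
      refine Submodule.sum_mem _ fun i _ => ?_
      rw [ModSite.germ_smul, PointGerm.germ_rs, Functor.map_comp]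
      refine Submodule.smul_mem _ _ (Submodule.subset_span ⟨i, ?_⟩)
      simp [hw, hv])

/-- An epimorphism is surjective on stalks. -/
theorem surjective_stalkMap {G : ModSite.Mod O} (φ : F ⟶ G) [Epi φ]
    (p : GrothendieckTopology.Point.{u} J) : Function.Surjective (ModSite.stalkMap p φ).hom := by
  intro m
  obtain ⟨V, v, t, rfl⟩ := p.toPresheafFiber_jointly_surjective (P := (ModSite.toAb G).obj) m
  obtain ⟨S, hS, hS'⟩ := (epi_iff_locSurj φ).1 inferInstance V t
  obtain ⟨W, h, hh, w, hw⟩ := p.jointly_surjective S hS v
  obtain ⟨z, hz⟩ := hS' h hh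
  refine ⟨ModSite.germ p F W w z, ?_⟩
  rw [stalkMap_germ, hz, PointGerm.germ_rs, hw]

/-- A surjection between free modules of the same finite rank is bijective. -/
theorem bijective_of_surjective_of_basis {R M N ι : Type*} [CommRing R] [AddCommGroup M]
    [Module R M] [AddCommGroup N] [Module R N] [Finite ι] (bM : Module.Basis ι R M)
    (bN : Module.Basis ι R N) (f : M →ₗ[R] N) (hf : Function.Surjective f) :
    Function.Bijective f := by
  haveI := Module.Finite.of_basis bM
  let g : M →ₗ[R] M := (bN.equiv bM (Equiv.refl ι)).toLinearMap.comp f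
  have hg : Function.Surjective g := (bN.equiv bM (Equiv.refl ι)).surjective.comp hf
  exact ⟨fun a b h => OrzechProperty.injective_of_surjective_endomorphism g hg
    (congrArg (bN.equiv bM (Equiv.refl ι)) h), hf⟩

end Groth.Agent.H15Site.StalkFree
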