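import Groth.Agent.H15Site.LocCoh
import Groth.Agent.S6857

/-!
# Sections with support as a sheaf on the closed complement
-/

set_option linter.style.haveILetI false
set_option linter.unusedSectionVars false
set_option backward.isDefEq.respectTransparency false

universe u

open CategoryTheory CategoryTheory.Limits Opposite TopologicalSpace

namespace Groth.Agent.H15Site.SuppPush

open SuppSect

attribute [local instance 10000] Groth.Agent.H10Coh.hasSheafifyAb Groth.Agent.H10Coh.hasWeakSheafifyAb
  Groth.Agent.H10Coh.hasExtAb Groth.Agent.H10Coh.enoughInjAb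

variable {Y : TopCat.{u}}

/-- Maps out of sheaves on the complement die on `U`. -/
theorem push_comp_unit (U : Opens Y) {G : CohTop.Ab Y}
    (B : CohTop.Ab (TopCat.of ((U : Set Y)ᶜ : Set Y))) (φ : (CohTop.push (CohCx.inclCompl U)).obj B ⟶ G) :
    φ ≫ η U G = 0 := by
  let i := CohCx.inclCompl U
  let j := CohCx.incl U
  have hj : Topology.IsOpenEmbedding j := U.isOpenEmbedding'
  rw [comp_unit_eq_zero_iff U φ]
  refine Sheaf.hom_ext (NatTrans.ext (funext fun W => ?_))
  have hb : (Opens.map i).obj (H10Coh.im hj W.unop) = ⊥ := le_bot_iff.1 fun z hz => by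
    obtain ⟨w, -, hw⟩ := hz
    exact absurd (show (i z : Y) ∈ U from hw ▸ w.2) z.2
  have := ClosedPushAb.subsingleton_sections_bot B hb
  ext s
  have hs : s = 0 := Subsingleton.elim (α := B.obj.obj (op ((Opens.map i).obj (H10Coh.im hj W.unop)))) _ _
  rw [hs, map_zero]
  rfl

theorem sectSupp_mem_essImage (U : Opens Y) (G : CohTop.Ab Y) :
    (CohTop.push (CohCx.inclCompl U)).essImage (CohCx.sectSupp U G) := by
  let i := CohCx.inclCompl U
  let j := CohCx.incl U
  have hi : Topology.IsClosedEmbedding i := U.isOpen.isClosed_compl.isClosedEmbedding_subtypeVal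
  have hj : Topology.IsOpenEmbedding j := U.isOpenEmbedding'
  obtain ⟨-, -, -, hess, -⟩ := Groth.Agent.S6857.result i hi
  let ι : CohCx.sectSupp U G ⟶ G := kernel.ι (η U G)
  have hι : (H10Coh.Rf hj).map ι = 0 := (comp_unit_eq_zero_iff U ι).mp (kernel.condition (η U G))
  haveI hR : (sheafToPresheaf (Opens.grothendieckTopology Y) AddCommGrpCat.{u}).IsRightAdjoint :=
    (sheafificationAdjunction _ _).isRightAdjoint
  haveI : Mono ι := inferInstanceAs (Mono (kernel.ι (η U G)))
  haveI : Mono ι.hom := inferInstanceAs (Mono ((sheafToPresheaf _ _).map ι))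
  have hKe : (CohTop.push i).essImage (CohCx.sectSupp U G) := by
    rw [hess]
    intro y hy
    have hyU : y ∈ U := not_not.mp fun h => hy ⟨⟨y, h⟩, rfl⟩
    refine @AddCommGrpCat.isZero_of_subsingleton _ ⟨fun a b => ?_⟩
    suffices h0 : ∀ a : CohTop.stalk (CohCx.sectSupp U G) y, a = 0 from (h0 a).trans (h0 b).symm
    intro a
    obtain ⟨W, hW, s, rfl⟩ := TopCat.Presheaf.exists_germ_eq (CohCx.sectSupp U G).obj a
    let W' : Opens (TopCat.of U) := (Opens.map j).obj W
    have hle : H10Coh.im hj W' ≤ W := by rintro _ ⟨z, hz, rfl⟩; exact hz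
    have hz : ι.hom.app (op (H10Coh.im hj W')) ((CohCx.sectSupp U G).obj.map (homOfLE hle).op s) = 0 :=
      congr($(congrArg (fun φ : (H10Coh.Rf hj).obj (CohCx.sectSupp U G) ⟶ (H10Coh.Rf hj).obj G => φ.hom.app (op W')) hι) ((CohCx.sectSupp U G).obj.map (homOfLE hle).op s))
    have hz' : (CohCx.sectSupp U G).obj.map (homOfLE hle).op s = 0 :=
      (AddCommGrpCat.mono_iff_injective _).1 inferInstance (hz.trans (map_zero _).symm)
    rw [← TopCat.Presheaf.germ_res_apply (CohCx.sectSupp U G).obj (homOfLE hle) y ⟨⟨y, hyU⟩, hW, rfl⟩ s, hz',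
      map_zero]
  exact hKe

end Groth.Agent.H15Site.SuppPush
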