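import Groth.Agent.H15Site.ZqHom
import Groth.Agent.H10Coh.OpenEmb

/-!
# Global sections of the sheaf of sections with support
-/

set_option linter.style.haveILetI false
set_option linter.unusedSectionVars false
set_option backward.isDefEq.respectTransparency false

universe u

open CategoryTheory CategoryTheory.Limits Opposite TopologicalSpace LocCohZ

namespace Groth.Agent.H15Site.SuppSect

attribute [local instance 10000] Groth.Agent.H10Coh.hasSheafifyAb Groth.Agent.H10Coh.hasWeakSheafifyAb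
  Groth.Agent.H10Coh.hasExtAb Groth.Agent.H10Coh.enoughInjAb

variable {Y : TopCat.{u}}

/-- The unit `F ⟶ j_* j⁻¹ F`. -/
noncomputable abbrev η (U : Opens Y) (F : CohTop.Ab Y) :=
  (TopCat.Sheaf.pullbackPushforwardAdjunction AddCommGrpCat.{u} (CohCx.incl U)).unit.app F

lemma comp_unit_eq_zero_iff (U : Opens Y) {A G : CohTop.Ab Y} (φ : A ⟶ G) :
    φ ≫ η U G = 0 ↔
      (H10Coh.Rf (j := CohCx.incl U) U.isOpenEmbedding').map φ = 0 := by
  let j := CohCx.incl U
  have hj : Topology.IsOpenEmbedding j := U.isOpenEmbedding'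
  let adj := TopCat.Sheaf.pullbackPushforwardAdjunction AddCommGrpCat.{u} j
  let e := hj.sheafPullbackIso AddCommGrpCat.{u}
  have h1 : φ ≫ η U G = adj.homEquiv _ _ ((TopCat.Sheaf.pullback AddCommGrpCat.{u} j).map φ) := by
    rw [Adjunction.homEquiv_unit]
    exact (adj.unit.naturality φ)
  haveI : (TopCat.Sheaf.pushforward AddCommGrpCat.{u} j).Additive :=
    { map_add := rfl }
  rw [h1]
  have h0 : ∀ B C, adj.homEquiv B C 0 = 0 := fun B C => by
    rw [Adjunction.homEquiv_unit, Functor.map_zero, comp_zero]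
  have hnat : (TopCat.Sheaf.pullback AddCommGrpCat.{u} j).map φ ≫ e.hom.app G =
      e.hom.app A ≫ (hj.sheafPullback AddCommGrpCat.{u}).map φ := e.hom.naturality φ
  constructor
  · intro h
    have h2 : (TopCat.Sheaf.pullback AddCommGrpCat.{u} j).map φ = 0 :=
      (adj.homEquiv _ _).injective (h.trans (h0 _ _).symm)
    rw [h2] at hnat
    exact (cancel_epi (e.hom.app A)).mp ((hnat.symm.trans zero_comp).trans comp_zero.symm)
  · intro h
    have h2 : (TopCat.Sheaf.pullback AddCommGrpCat.{u} j).map φ = 0 := by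
      refine (cancel_mono (e.hom.app G)).mp (hnat.trans ?_)
      rw [show (hj.sheafPullback AddCommGrpCat.{u}).map φ = 0 from h]
      exact comp_zero.trans zero_comp.symm
    rw [h2]
    exact h0 _ _

/-- A map out of `ℤ_Y` dies in `j_* j⁻¹ F` iff it dies on `ℤ_U`. -/
lemma free_comp_unit_eq_zero_iff (U : Opens Y) (F : CohTop.Ab Y)
    (x : CohCx.freeSheaf (Opens.grothendieckTopology Y) (⊤ : Opens Y) ⟶ F) :
    x ≫ η U F = 0 ↔
      CohCx.freeSheafMap (Opens.grothendieckTopology Y) (homOfLE (le_top : U ≤ ⊤)) ≫ x = 0 := by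
  let J := Opens.grothendieckTopology Y
  let i := CohCx.freeSheafMap J (homOfLE (le_top : U ≤ ⊤))
  constructor
  · intro h
    have hR := (comp_unit_eq_zero_iff U (i ≫ x)).1 (by rw [Category.assoc, h, comp_zero])
    have hzero : ∀ W : Opens Y, W = U → (i ≫ x).hom.app (op W) = 0 →
        (i ≫ x).hom.app (op U) = 0 := by
      rintro _ rfl h; exact h
    have hU : H10Coh.im (j := CohCx.incl U) U.isOpenEmbedding' ⊤ = U :=
      Opens.ext (show Subtype.val '' Set.univ = (U : Set Y) by rw [Set.image_univ]; exact Subtype.range_coe)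
    have happ := hzero _ hU (congrArg
      (fun ψ : (H10Coh.Rf (j := CohCx.incl U) U.isOpenEmbedding').obj _ ⟶ _ => ψ.hom.app (op ⊤)) hR)
    have : CohFree.evalGen J U F (i ≫ x) = 0 := by
      show ((i ≫ x).hom.app (op U)).hom _ = 0
      rw [happ]; rfl
    rw [← CohFree.ofSect_evalGen J U F (i ≫ x), this, ← (CohFree.evalGen J U F).map_zero,
      CohFree.ofSect_evalGen]
  · intro h
    let T := ((CohTop.pull (CohCx.incl U)) ⋙ CohTop.push (CohCx.incl U)).obj F
    have hres : CohFree.evalGen J U T (i ≫ x ≫ η U F) = 0 := by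
      rw [← Category.assoc, h, zero_comp, map_zero]
    rw [CohFree.evalGen_freeSheafMap_comp] at hres
    have htop : (Opens.map (CohCx.incl U)).obj (⊤ : Opens Y) = (Opens.map (CohCx.incl U)).obj U :=
      Opens.ext (Set.ext fun z => ⟨fun _ => z.2, fun _ => trivial⟩)
    have hbij : IsIso (T.obj.map (homOfLE (le_top : U ≤ ⊤)).op) := by
      change IsIso (((TopCat.Sheaf.pullback AddCommGrpCat.{u} (CohCx.incl U)).obj F).obj.map
        ((Opens.map (CohCx.incl U)).map (homOfLE (le_top : U ≤ ⊤))).op)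
      haveI : IsIso ((Opens.map (CohCx.incl U)).map (homOfLE (le_top : U ≤ ⊤))) :=
        ⟨homOfLE htop.le, Subsingleton.elim _ _, Subsingleton.elim _ _⟩
      infer_instance
    have hs : CohFree.evalGen J ⊤ T (x ≫ η U F) = 0 :=
      (injective_iff_map_eq_zero _).1 ((ConcreteCategory.bijective_of_isIso
        (T.obj.map (homOfLE (le_top : U ≤ ⊤)).op)).1) _ hres
    exact (CohFree.ofSect_evalGen J ⊤ T (x ≫ η U F)).symm.trans
      ((congrArg (CohFree.ofSect J ⊤ T) hs).trans
        ((congrArg (CohFree.ofSect J ⊤ T) (CohFree.evalGen J ⊤ T).map_zero.symm).trans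
          (CohFree.ofSect_evalGen J ⊤ T 0)))

/-- `Hom(ℤ_Y, Γ_Z F) ≃+ Hom(ℤ_Y/ℤ_U, F)`. -/
noncomputable def toZq (U : Opens Y) (F : CohTop.Ab Y) :
    (CohCx.freeSheaf (Opens.grothendieckTopology Y) (⊤ : Opens Y) ⟶ (sectSuppF U).obj F) →+
      (zq (le_top : U ≤ ⊤) ⟶ F) :=
  AddMonoidHom.mk'
    (fun x => cokernel.desc _ (x ≫ kernel.ι (η U F)) ((free_comp_unit_eq_zero_iff U F _).1 (by
      rw [Category.assoc, kernel.condition, comp_zero])))
    (fun a b => by
      apply (cancel_epi (cokernel.π _)).1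
      simp only [Preadditive.comp_add, cokernel.π_desc]
      exact Preadditive.add_comp ..)

lemma toZq_bijective (U : Opens Y) (F : CohTop.Ab Y) : Function.Bijective (toZq U F) := by
  constructor
  · intro a b h
    apply (cancel_mono (kernel.ι (η U F))).1
    have := congrArg (fun t => cokernel.π _ ≫ t) h
    simpa [toZq] using this
  · intro y
    refine ⟨kernel.lift (η U F) (cokernel.π _ ≫ y) ((free_comp_unit_eq_zero_iff U F _).2 (by
      rw [cokernel.condition_assoc, zero_comp])), ?_⟩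
    apply (cancel_epi (cokernel.π _)).1
    exact (cokernel.π_desc _ _ _).trans (kernel.lift_ι _ _ _)

/-- `Hom(ℤ_Y, Γ_Z F) ≃+ Hom(ℤ_Y/ℤ_U, F)`. -/
noncomputable def homEquiv (U : Opens Y) (F : CohTop.Ab Y) :
    (CohCx.freeSheaf (Opens.grothendieckTopology Y) (⊤ : Opens Y) ⟶ (sectSuppF U).obj F) ≃+
      (zq (le_top : U ≤ ⊤) ⟶ F) :=
  AddEquiv.ofBijective (toZq U F) (toZq_bijective U F)

lemma homEquiv_comp (U : Opens Y) {F G : CohTop.Ab Y} (g : F ⟶ G)
    (x : CohCx.freeSheaf (Opens.grothendieckTopology Y) (⊤ : Opens Y) ⟶ (sectSuppF U).obj F) :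
    homEquiv U G (x ≫ (sectSuppF U).map g) = homEquiv U F x ≫ g := by
  apply (cancel_epi (cokernel.π _)).1
  refine (cokernel.π_desc _ _ _).trans ?_
  refine Eq.trans ?_ ((congrArg (· ≫ g) (cokernel.π_desc _ _ _)).symm.trans (Category.assoc _ _ _))
  refine (Category.assoc _ _ _).trans (Eq.trans ?_ (Category.assoc _ _ _).symm)
  exact congrArg (x ≫ ·) (kernel.lift_ι _ _ _)

end Groth.Agent.H15Site.SuppSect
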