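import Groth.Prelude.Def_W4c5suslinpi1abAdj

/-!
Helper (helper15): algebra of projection morphisms and exterior products for
`Def_W4c5suslinpi1abAdj`.
-/

set_option autoImplicit false
set_option linter.unusedSectionVars false

universe v u

open CategoryTheory MonoidalCategory Functor.LaxMonoidal Functor.OplaxMonoidal

namespace H15SuslinAdj

open W4c5suslinpi1ab

variable {C : Type u} [Category.{v} C] [MonoidalCategory C]
variable {D : Type u} [Category.{v} D] [MonoidalCategory D]
variable {L : C ⥤ D} {R : D ⥤ C} (adj : L ⊣ R) [R.LaxMonoidal]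

@[reassoc]
lemma projR_natural {A A' : D} {B B' : C} (a : A ⟶ A') (b : B ⟶ B') :
    (R.map a ⊗ₘ b) ≫ projR adj A' B' = projR adj A B ≫ R.map (a ⊗ₘ L.map b) := by
  have h := adj.unit.naturality b
  dsimp at h
  simp only [projR, Category.assoc, ← μ_natural]
  simp only [← id_tensorHom, tensorHom_comp_tensorHom_assoc, Category.comp_id, Category.id_comp, h]

@[reassoc]
lemma projL_natural {A A' : C} {B B' : D} (a : A ⟶ A') (b : B ⟶ B') :
    (a ⊗ₘ R.map b) ≫ projL adj A' B' = projL adj A B ≫ R.map (L.map a ⊗ₘ b) := by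
  have h := adj.unit.naturality a
  dsimp at h
  simp only [projL, Category.assoc, ← μ_natural]
  simp only [← tensorHom_id, tensorHom_comp_tensorHom_assoc, Category.comp_id, Category.id_comp, h]

lemma projR_natural_right (A : D) {B B' : C} (b : B ⟶ B') :
    (R.obj A ◁ b) ≫ projR adj A B' = projR adj A B ≫ R.map (A ◁ L.map b) := by
  simpa using projR_natural adj (𝟙 A) b

lemma symm_projR [L.OplaxMonoidal] [adj.IsMonoidal] (A : D) (B : C) :
    (adj.homEquiv _ _).symm (projR adj A B) =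
      δ L (R.obj A) B ≫ (adj.counit.app A ⊗ₘ 𝟙 (L.obj B)) := by
  rw [Adjunction.homEquiv_counit, projR, L.map_comp, Category.assoc,
    Adjunction.map_μ_comp_counit_app_tensor (adj := adj), ← id_tensorHom]
  erw [← δ_natural_assoc]
  rw [tensorHom_comp_tensorHom, L.map_id, Category.id_comp]
  erw [adj.left_triangle_components]

lemma symm_projL [L.OplaxMonoidal] [adj.IsMonoidal] (A : C) (B : D) :
    (adj.homEquiv _ _).symm (projL adj A B) =
      δ L A (R.obj B) ≫ (𝟙 (L.obj A) ⊗ₘ adj.counit.app B) := by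
  rw [Adjunction.homEquiv_counit, projL, L.map_comp, Category.assoc,
    Adjunction.map_μ_comp_counit_app_tensor (adj := adj), ← tensorHom_id]
  erw [← δ_natural_assoc]
  rw [tensorHom_comp_tensorHom, L.map_id, Category.id_comp]
  erw [adj.left_triangle_components]
  rfl

lemma map_cupShriek_counit {S : C ⥤ D} (adj' : R ⊣ S)
    [∀ (A : D) (B : C), IsIso (projR adj A B)] (A B : C) :
    R.map (cupShriek adj adj' A B) ≫ adj'.counit.app (A ⊗ B) =
      inv (projR adj (S.obj A) B) ≫ (adj'.counit.app A ▷ B) := by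
  exact (adj'.homEquiv_counit (g := cupShriek adj adj' A B)).symm.trans
    ((adj'.homEquiv _ _).symm_apply_apply _)

lemma cupShriek_natural_right {S : C ⥤ D} (adj' : R ⊣ S)
    [∀ (A : D) (B : C), IsIso (projR adj A B)] (A : C) {B B' : C} (b : B ⟶ B') :
    cupShriek adj adj' A B ≫ S.map (A ◁ b) = (S.obj A ◁ L.map b) ≫ cupShriek adj adj' A B' := by
  unfold cupShriek
  rw [← Adjunction.homEquiv_naturality_right, ← Adjunction.homEquiv_naturality_left]
  congr 1
  rw [Category.assoc]
  erw [← whisker_exchange]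
  rw [IsIso.inv_comp_eq, ← Category.assoc (projR _ _ _), ← projR_natural_right, Category.assoc,
    IsIso.hom_inv_id_assoc]
  rfl

section Square

variable {S₀ : Type u} [Category.{v} S₀] [MonoidalCategory S₀]
variable {Y₁ : Type u} [Category.{v} Y₁] [MonoidalCategory Y₁]
variable {Y₂ : Type u} [Category.{v} Y₂] [MonoidalCategory Y₂]
variable {X : Type u} [Category.{v} X] [MonoidalCategory X]
variable {fL : S₀ ⥤ Y₁} {fR : Y₁ ⥤ S₀} (adjf : fL ⊣ fR) [fR.LaxMonoidal]
variable {gR : Y₂ ⥤ S₀} {pL : Y₁ ⥤ X} {pR : X ⥤ Y₁} (adjp : pL ⊣ pR) [pR.LaxMonoidal]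
variable {qL : Y₂ ⥤ X} {qR : X ⥤ Y₂} (adjq : qL ⊣ qR) (ν : qR ⋙ gR ⟶ pR ⋙ fR)

lemma extProd_natural {A A' : Y₁} {B B' : Y₂} (a : A ⟶ A') (b : B ⟶ B') :
    extProd adjf adjp adjq ν A B ≫ fR.map (pR.map (pL.map a ⊗ₘ qL.map b)) =
      (fR.map a ⊗ₘ gR.map b) ≫ extProd adjf adjp adjq ν A' B' := by
  have hbc := (bcMor adjf adjq ν).naturality b
  dsimp at hbc
  simp only [extProd, Category.assoc]
  rw [projR_natural_assoc, ← fR.map_comp, ← fR.map_comp, ← fR.map_comp, ← fR.map_comp,
    ← projL_natural, ← id_tensorHom, ← id_tensorHom, tensorHom_comp_tensorHom_assoc,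
    tensorHom_comp_tensorHom_assoc, Category.comp_id, Category.id_comp, hbc]

lemma isIso_extProd [∀ (A : Y₁) (B : S₀), IsIso (projR adjf A B)]
    [∀ (A : Y₁) (B : X), IsIso (projL adjp A B)]
    [∀ B : Y₂, IsIso ((bcMor adjf adjq ν).app B)] (A : Y₁) (B : Y₂) :
    IsIso (extProd adjf adjp adjq ν A B) := by
  unfold extProd
  infer_instance

variable {fS : S₀ ⥤ Y₁} (adjf' : fR ⊣ fS) {gS : S₀ ⥤ Y₂} (adjg' : gR ⊣ gS)
  {pS : Y₁ ⥤ X} (adjp' : pR ⊣ pS)
  [∀ (A : Y₁) (B : S₀), IsIso (projR adjf A B)]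
  [∀ (A : Y₁) (B : X), IsIso (projL adjp A B)]
  [∀ B : Y₂, IsIso ((bcMor adjf adjq ν).app B)]

lemma extProd_prodShriek_counit (A B : S₀) :
    extProd adjf adjp adjq ν (fS.obj A) (gS.obj B) ≫
      fR.map (pR.map (prodShriek adjf adjf' adjg' adjp adjp' adjq ν A B)) ≫
        fR.map (adjp'.counit.app (fS.obj (A ⊗ B))) =
      (fR.obj (fS.obj A) ◁ adjg'.counit.app B) ≫ projR adjf (fS.obj A) B ≫
        fR.map (cupShriek adjf adjf' A B) := by
  have hP : pR.map (prodShriek adjf adjf' adjg' adjp adjp' adjq ν A B) ≫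
      adjp'.counit.app (fS.obj (A ⊗ B)) =
      inv (projL adjp (fS.obj A) (qL.obj (gS.obj B))) ≫
      (fS.obj A ◁ inv ((bcMor adjf adjq ν).app (gS.obj B))) ≫
      cupShriek adjf adjf' A (gR.obj (gS.obj B)) ≫ fS.map (A ◁ adjg'.counit.app B) := by
    exact (adjp'.homEquiv_counit
      (g := prodShriek adjf adjf' adjg' adjp adjp' adjq ν A B)).symm.trans
        ((adjp'.homEquiv _ _).symm_apply_apply _)
  rw [← fR.map_comp, hP, cupShriek_natural_right]
  simp only [extProd, Category.assoc, ← fR.map_comp]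
  rw [IsIso.hom_inv_id_assoc]
  rw [← whiskerLeft_comp_assoc]
  simp only [IsIso.hom_inv_id, whiskerLeft_id, Category.id_comp]
  rw [fR.map_comp, ← Category.assoc]
  erw [← projR_natural_right adjf (fS.obj A) (adjg'.counit.app B)]
  exact Category.assoc _ _ _

lemma extProd_symm_prodShriek (A B : S₀) :
    extProd adjf adjp adjq ν (fS.obj A) (gS.obj B) ≫
      ((adjp'.comp adjf').homEquiv _ _).symm
        (prodShriek adjf adjf' adjg' adjp adjp' adjq ν A B) =
      (adjf'.counit.app A ⊗ₘ adjg'.counit.app B) := by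
  rw [Adjunction.comp_homEquiv]
  simp only [Equiv.symm_trans_apply, Adjunction.homEquiv_counit, Functor.map_comp, Category.assoc]
  rw [← Category.assoc, ← Category.assoc, Category.assoc (extProd _ _ _ _ _ _),
    extProd_prodShriek_counit, Category.assoc, Category.assoc, map_cupShriek_counit,
    IsIso.hom_inv_id_assoc]
  exact (tensorHom_def' _ _).symm

end Square

end H15SuslinAdj
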