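import Groth.Agent.H15Site.PullFlatness
import Mathlib.Topology.Sheaves.Stalks
import Mathlib.RingTheory.Flat.EquationalCriterion
import Mathlib.RingTheory.RingHom.Flat

/-!
# Flat morphisms of ringed spaces have exact inverse image

`isFlat_ofFlat_of_stalkMaps`: if every stalk map `O_{Y, f x} ⟶ O_{X, x}` is flat then `f^*` is exact.
-/

universe u

open CategoryTheory CategoryTheory.Limits Opposite TopologicalSpace

set_option linter.style.haveILetI false
set_option backward.isDefEq.respectTransparency false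

namespace Groth.Agent.H15Site.TopFlat

open ModTensor ModRel PullTensor

attribute [local instance 10000] SiteInst.hasSheafifySite SiteInst.hasWeakSheafifySite

section Germs

variable {X : TopCat.{u}} (F : X.Presheaf CommRingCat.{u}) (x : X)

/-- Finitely many germs are germs on one neighbourhood under a given one. -/
theorem exists_rep {ι : Type} [Fintype ι] (V₀ : Opens X) (hx : x ∈ V₀) (t : ι → F.stalk x) :
    ∃ (V : Opens X) (_ : V ≤ V₀) (hV : x ∈ V) (s : ι → F.obj (op V)),
      ∀ i, F.germ V x hV (s i) = t i := by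
  classical
  have h : ∀ S : Finset ι, ∃ (V : Opens X) (_ : V ≤ V₀) (hV : x ∈ V), ∀ i ∈ S,
      ∃ s : F.obj (op V), F.germ V x hV s = t i := by
    intro S
    induction S using Finset.induction with
    | empty => exact ⟨V₀, le_rfl, hx, by simp⟩
    | @insert i S _ ih =>
      obtain ⟨V, hV₀, hV, hS⟩ := ih
      obtain ⟨W, hWV, hW, s, hs⟩ := F.exists_le_germ_eq (t i) hV
      refine ⟨W, hWV.trans hV₀, hW, fun j hj => ?_⟩
      rcases Finset.mem_insert.1 hj with rfl | hj
      · exact ⟨s, hs⟩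
      · obtain ⟨s', hs'⟩ := hS j hj
        exact ⟨F.map (homOfLE hWV).op s', (F.germ_res_apply (homOfLE hWV) x hW s').trans hs'⟩
  obtain ⟨V, hV₀, hV, hS⟩ := h Finset.univ
  choose s hs using fun i => hS i (Finset.mem_univ i)
  exact ⟨V, hV₀, hV, s, hs⟩

lemma map_map' {U V W : Opens X} (i : U ⟶ V) (k : W ⟶ U) (h : W ⟶ V) (s : F.obj (op V)) :
    F.map k.op (F.map i.op s) = F.map h.op s := by
  rw [Subsingleton.elim h (k ≫ i), op_comp, F.map_comp, ConcreteCategory.comp_apply]

/-- Finitely many coincidences of germs hold on one neighbourhood. -/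
theorem exists_eq {ι : Type} [Fintype ι] (V₀ : Opens X) (hx : x ∈ V₀) (s t : ι → F.obj (op V₀))
    (h : ∀ i, F.germ V₀ x hx (s i) = F.germ V₀ x hx (t i)) :
    ∃ (V : Opens X) (hle : V ≤ V₀), x ∈ V ∧
      ∀ i, F.map (homOfLE hle).op (s i) = F.map (homOfLE hle).op (t i) := by
  classical
  have h' : ∀ S : Finset ι, ∃ (V : Opens X) (hle : V ≤ V₀), x ∈ V ∧
      ∀ i ∈ S, F.map (homOfLE hle).op (s i) = F.map (homOfLE hle).op (t i) := by
    intro S
    induction S using Finset.induction with
    | empty => exact ⟨V₀, le_rfl, hx, by simp⟩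
    | @insert i S _ ih =>
      obtain ⟨V, hle, hV, hS⟩ := ih
      obtain ⟨W, hW, iU, iV, e⟩ := F.germ_eq x hx hx _ _ (h i)
      refine ⟨V ⊓ W, inf_le_left.trans hle, ⟨hV, hW⟩, fun j hj => ?_⟩
      rcases Finset.mem_insert.1 hj with rfl | hj
      · rw [← map_map' F iU (homOfLE inf_le_right : V ⊓ W ⟶ W), e,
          map_map' F iV (homOfLE inf_le_right : V ⊓ W ⟶ W) (homOfLE (inf_le_left.trans hle))]
      · rw [← map_map' F (homOfLE hle) (homOfLE inf_le_left : V ⊓ W ⟶ V), hS j hj, map_map']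
  obtain ⟨V, hle, hV, hS⟩ := h' Finset.univ
  exact ⟨V, hle, hV, fun i => hS i (Finset.mem_univ i)⟩

end Germs

variable {X Y : TopCat.{u}} (f : X ⟶ Y) (O_X : TopCat.Sheaf CommRingCat.{u} X)
  (O_Y : TopCat.Sheaf CommRingCat.{u} Y)
  (c : O_Y ⟶ ((TopologicalSpace.Opens.map f).sheafPushforwardContinuous CommRingCat.{u}
    (Opens.grothendieckTopology Y) (Opens.grothendieckTopology X)).obj O_X)

/-- The stalk map. -/
noncomputable abbrev stalkφ (x : X) : O_Y.presheaf.stalk (f x) ⟶ O_X.presheaf.stalk x :=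
  (TopCat.Presheaf.stalkFunctor CommRingCat.{u} (f x)).map
      (show O_Y.presheaf ⟶ (TopCat.Presheaf.pushforward CommRingCat.{u} f).obj O_X.presheaf from c.hom) ≫
    TopCat.Presheaf.stalkPushforward CommRingCat.{u} f O_X.presheaf x

lemma stalkφ_germ (x : X) (V : Opens Y) (hV : f x ∈ V) (r : O_Y.presheaf.obj (op V)) :
    stalkφ f O_X O_Y c x (O_Y.presheaf.germ V (f x) hV r) =
      O_X.presheaf.germ ((Opens.map f).obj V) x hV ((c.hom.app (op V)).hom r) := by
  show TopCat.Presheaf.stalkPushforward CommRingCat.{u} f O_X.presheaf x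
    ((TopCat.Presheaf.stalkFunctor CommRingCat.{u} (f x)).map _ (O_Y.presheaf.germ V (f x) hV r)) = _
  erw [TopCat.Presheaf.stalkFunctor_map_germ_apply]
  exact TopCat.Presheaf.stalkPushforward_germ_apply CommRingCat.{u} f O_X.presheaf V x hV _

theorem refTriv_of_stalkMaps (hflat : ∀ x : X, (stalkφ f O_X O_Y c x).hom.Flat) :
    RefTriv (ModSite.RMor.ofFlat (TopologicalSpace.Opens.map f) c)
      ((forg O_X).obj (ModSite.unit O_X)) := by
  intro U e b n α z hz
  let z' : Fin n → O_X.presheaf.obj (op U) := z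
  have hz' : ∑ j, (O_X.presheaf.map b.op).hom ((c.hom.app (op e)).hom (α j)) * z' j = 0 := hz
  let R := ModSite.RMor.ofFlat (TopologicalSpace.Opens.map f) c
  let S : Sieve U :=
    { arrows := fun c' v => RefAlong R ((forg O_X).obj (ModSite.unit O_X)) b v (fun _ : Unit => α) z
      downward_closed := by
        rintro c' c'' v ⟨e', g, b', hb, l, y, a, h1, h2⟩ w
        refine ⟨e', g, w ≫ b', by rw [Category.assoc, hb, Category.assoc], l,
          fun k => rs _ w.op (y k), a, fun j => ?_, h2⟩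
        rw [op_comp, ← rs_rs, h1, ModRel.rs_sum]
        refine Finset.sum_congr rfl fun k _ => ?_
        rw [rs_smul']
        congr 1
        exact (rho_mv w (StructuredArrow.mk b') (a j k)).symm }
  refine ⟨S, fun x hx => ?_, fun c' v hv => hv⟩
  letI := (stalkφ f O_X O_Y c x).hom.toAlgebra
  have : Module.Flat (O_Y.presheaf.stalk (f x)) (O_X.presheaf.stalk x) := hflat x
  have hrel : ∑ j, O_Y.presheaf.germ e (f x) (b.le hx) (α j) •
      O_X.presheaf.germ U x hx (z' j) = 0 := by
    refine Eq.trans (Finset.sum_congr rfl fun j _ => ?_)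
      ((congrArg (O_X.presheaf.germ U x hx).hom hz').trans (map_zero _) |> (map_sum _ _ _).symm.trans)
    rw [map_mul, Algebra.smul_def]
    congr 1
    refine (stalkφ_germ f O_X O_Y c x e (b.le hx) (α j)).trans ?_
    exact (O_X.presheaf.germ_res_apply b x hx _).symm
  obtain ⟨k, a, y, hzy, ha⟩ := Module.Flat.iff_forall_isTrivialRelation.1 this hrel
  obtain ⟨V, hVe, hfV, a₀, ha₀⟩ := exists_rep O_Y.presheaf (f x) (ι := Fin n × Fin k) e (b.le hx)
    (fun p => a p.1 p.2)
  obtain ⟨V', hV', hfV', hVeq⟩ := exists_eq O_Y.presheaf (f x) (ι := Fin k) V hfV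
    (fun q => ∑ j, a₀ (j, q) * O_Y.presheaf.map (homOfLE hVe).op (α j)) (fun _ => 0) (fun q => by
      rw [map_zero, map_sum]
      refine Eq.trans (Finset.sum_congr rfl fun j _ => ?_) (ha q)
      rw [map_mul, mul_comm]
      congr 1
      · exact O_Y.presheaf.germ_res_apply (homOfLE hVe) (f x) hfV (α j)
      · exact ha₀ (j, q))
  have hxW : x ∈ U ⊓ (Opens.map f).obj V' := ⟨hx, hfV'⟩
  obtain ⟨W, hW, hxW', y₀, hy₀⟩ := exists_rep O_X.presheaf x (U ⊓ (Opens.map f).obj V') hxW y
  let b' : W ⟶ (Opens.map f).obj V' := homOfLE (hW.trans inf_le_right)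
  let img : Fin n × Fin k → O_X.presheaf.obj (op W) := fun p =>
    (O_X.presheaf.map b'.op).hom ((c.hom.app (op V')).hom (O_Y.presheaf.map (homOfLE hV').op (a₀ p)))
  obtain ⟨W', hW', hxW'', hWeq⟩ := exists_eq O_X.presheaf x (ι := Fin n) W hxW'
    (fun j => O_X.presheaf.map (homOfLE (hW.trans inf_le_left) : W ⟶ U).op (z' j))
    (fun j => ∑ q, img (j, q) * y₀ q) (fun j => by
      rw [TopCat.Presheaf.germ_res_apply, map_sum]
      refine (hzy j).trans ?_
      refine Finset.sum_congr rfl fun q _ => ?_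
      rw [map_mul, hy₀, Algebra.smul_def]
      congr 1
      refine Eq.trans ?_ (O_X.presheaf.germ_res_apply b' x hxW' _).symm
      refine Eq.trans ?_ (stalkφ_germ f O_X O_Y c x V' hfV' _)
      refine congrArg (stalkφ f O_X O_Y c x).hom ?_
      exact ((O_Y.presheaf.germ_res_apply (homOfLE hV') (f x) hfV' _).trans (ha₀ (j, q))).symm)
  refine ⟨W', homOfLE (hW'.trans (hW.trans inf_le_left)), ⟨V', homOfLE (hV'.trans hVe),
    homOfLE hW' ≫ b', Subsingleton.elim _ _, k, fun q => O_X.presheaf.map (homOfLE hW').op (y₀ q),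
    fun j q => O_Y.presheaf.map (homOfLE hV').op (a₀ (j, q)), fun j => ?_, fun _ q => ?_⟩, hxW''⟩
  · show O_X.presheaf.map (homOfLE (hW'.trans (hW.trans inf_le_left))).op (z' j) = _
    have e := hWeq j
    rw [← ConcreteCategory.comp_apply, ← Functor.map_comp, map_sum] at e
    refine Eq.trans e (Finset.sum_congr rfl fun q _ => ?_)
    rw [map_mul]
    show _ = _ * _
    congr 1
    show _ = (O_X.presheaf.map (homOfLE hW' ≫ b').op).hom _
    rw [op_comp, Functor.map_comp]
    rfl
  · have e := hVeq q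
    rw [map_zero, map_sum] at e
    refine Eq.trans (Finset.sum_congr rfl fun j _ => ?_) e
    rw [map_mul, ← ConcreteCategory.comp_apply, ← Functor.map_comp]
    rfl

theorem isFlat_ofFlat_of_stalkMaps (hflat : ∀ x : X, (stalkφ f O_X O_Y c x).hom.Flat) :
    (ModSite.RMor.ofFlat (TopologicalSpace.Opens.map f) c).IsFlat :=
  isFlat_of_refTriv (refTriv_of_stalkMaps f O_X O_Y c hflat)

end Groth.Agent.H15Site.TopFlat
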