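import Groth.Agent.H15Site.TorsionSh
import Groth.Agent.H15Site.CoreflDer
import Groth.Agent.H15Site.CohInTri
import Mathlib.Algebra.Homology.HomologicalComplexAbelian
import Mathlib.CategoryTheory.Sites.Abelian

/-!
# The derived category of torsion sheaves
-/

set_option autoImplicit false
set_option linter.style.haveILetI false

universe u

open CategoryTheory CategoryTheory.Limits Opposite

attribute [local instance] HasDerivedCategory.standard

namespace Groth.Agent.H15Site.TorsionDer

attribute [local instance 10000] SiteInst.hasSheafifySite SiteInst.hasWeakSheafifySite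
  SiteInst.hasExtSite SiteInst.enoughInjSite

open TorsionSh H16Derived

variable {C : Type u} [SmallCategory C] {J : GrothendieckTopology C}

/-- For a complex of injectives with torsion cohomology, the inclusion of the torsion subcomplex is
a quasi-isomorphism. -/
theorem quasiIso_tors [(SiteCmp.torsionSh J).IsSerreClass] [(Γt J).Additive]
    (I : CochainComplex (Sheaf J AddCommGrpCat.{u}) ℤ) (hI : ∀ n, Injective (I.X n))
    (hh : ∀ i, SiteCmp.torsionSh J (I.homology i)) :
    QuasiIso ((mapHomologicalComplexAdj (adj J) (ComplexShape.up ℤ)).counit.app I) := by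
  let c := (mapHomologicalComplexAdj (adj J) (ComplexShape.up ℤ)).counit.app I
  have hcf : ∀ n, c.f n = torsι (I.X n) := fun n => adj_counit_app (I.X n)
  haveI : ∀ n, Mono (c.f n) := fun n => by rw [hcf]; exact mono_torsι _
  haveI : Mono c := HomologicalComplex.mono_of_mono_f _ inferInstance
  refine KInjRes.quasiIso_of_mono c fun i => ?_
  have hS := KInjRes.shortExact_cokernel c
  let Qc := cokernel c
  have hn : ∀ (n : ℤ), n ≠ 0 → IsIso (n • 𝟙 Qc) := fun n hn => by
    haveI : ∀ k, IsIso ((n • 𝟙 Qc).f k) := fun k => by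
      have hk := hS.map_of_exact (HomologicalComplex.eval _ (ComplexShape.up ℤ) k)
      have htf : TorsionFree.TF (Qc.X k) :=
        tf_quotient hk (I.X k) (𝟙 _) (Iso.refl _) (𝟙 _)
          (by
            exact (Category.comp_id _).trans ((hcf k).trans (Category.id_comp _).symm))
          (by
            exact (Category.id_comp _).trans ((hcf k).trans (Category.comp_id _).symm))
      haveI : Mono (n • 𝟙 (Qc.X k)) := htf n hn
      haveI : Epi (n • 𝟙 (I.X k)) := by
        refine (sheafToPresheaf J AddCommGrpCat.{u}).epi_of_epi_map ?_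
        haveI : ∀ U, Epi (((sheafToPresheaf J AddCommGrpCat.{u}).map (n • 𝟙 (I.X k))).app U) :=
          fun U => by
            rw [AddCommGrpCat.epi_iff_surjective]
            intro s
            haveI := hI k
            obtain ⟨t, ht⟩ := exists_zsmul_eq (I.X k) hn U.unop s
            refine ⟨t, ?_⟩
            have e : ((sheafToPresheaf J AddCommGrpCat.{u} ⋙
                (evaluation Cᵒᵖ AddCommGrpCat.{u}).obj U).map (n • 𝟙 (I.X k))).hom t = n • t := by
              rw [Functor.map_zsmul, CategoryTheory.Functor.map_id]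
              rfl
            exact e.trans ht
        exact NatTrans.epi_of_epi_app _
      let π : I.X k ⟶ Qc.X k := (cokernel.π c).f k
      haveI : Epi π := hk.epi_g
      haveI : Epi (π ≫ (n • 𝟙 (Qc.X k))) := by
        rw [Preadditive.comp_zsmul, Category.comp_id]
        have : n • π = (n • 𝟙 (I.X k)) ≫ π := by rw [Preadditive.zsmul_comp, Category.id_comp]
        rw [this]
        exact epi_comp _ _
      haveI : Epi (n • 𝟙 (Qc.X k)) := epi_of_epi π _
      haveI : IsIso (n • 𝟙 (Qc.X k)) := isIso_of_mono_of_epi _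
      have e : (n • 𝟙 Qc).f k = n • 𝟙 (Qc.X k) :=
        (HomologicalComplex.eval (Sheaf J AddCommGrpCat.{u}) (ComplexShape.up ℤ) k).map_zsmul
          (f := 𝟙 Qc) (r := n)
      rw [e]
      infer_instance
    exact HomologicalComplex.Hom.isIso_of_components _
  rw [HomologicalComplex.exactAt_iff_isZero_homology]
  refine isZero_of_torsion_of_tf ?_ fun n h => ?_
  · refine (SiteCmp.torsionSh J).prop_X₂_of_exact (hS.homology_exact₃ i (i + 1) rfl) (hh i) ?_
    let T := ((Γt J).mapHomologicalComplex (ComplexShape.up ℤ) ⋙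
      (SiteCmp.torsionSh J).ι.mapHomologicalComplex (ComplexShape.up ℤ)).obj I
    exact (SiteCmp.torsionSh J).prop_of_epi (T.homologyπ (i + 1))
      ((SiteCmp.torsionSh J).prop_of_mono (T.iCycles (i + 1))
        (isTorsion_tors (I.X (i + 1))))
  · haveI := hn n h
    have e : HomologicalComplex.homologyMap (n • 𝟙 Qc) i = n • 𝟙 (Qc.homology i) :=
      ((HomologicalComplex.homologyFunctor _ (ComplexShape.up ℤ) i).map_zsmul).trans
        (congrArg (n • ·) ((HomologicalComplex.homologyFunctor _ (ComplexShape.up ℤ) i).map_id Qc))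
    change Mono (n • 𝟙 (Qc.homology i))
    rw [← e]
    infer_instance

/-- `D(torsion sheaves) → D_tors(C)` is an equivalence. -/
theorem main (J : GrothendieckTopology C) [(SiteCmp.torsionSh J).IsSerreClass] :
    (WSerre.toDerived (SiteCmp.torsionSh J)).Full ∧
      (WSerre.toDerived (SiteCmp.torsionSh J)).Faithful ∧
      ∀ K : DerivedCategory (Sheaf J AddCommGrpCat.{u}),
        WSerre.cohIn (SiteCmp.torsionSh J) K ↔
          (WSerre.toDerived (SiteCmp.torsionSh J)).essImage K := by
  haveI := additive_Γt (J := J)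
  obtain ⟨R, adjD, hR⟩ := CoreflDer.exists_adjunction (adj J)
  have hcoh : ∀ K, WSerre.cohIn (SiteCmp.torsionSh J) K → IsIso (adjD.counit.app K) := by
    intro K hK
    let K₀ := DerivedCategory.Q.objPreimage K
    let e : DerivedCategory.Q.obj K₀ ≅ K := DerivedCategory.Q.objObjPreimageIso K
    obtain ⟨N, j, hN⟩ := KInjRes.exists_resolution_functor (A := Sheaf J AddCommGrpCat.{u})
    obtain ⟨_, hq, hKI, hinj⟩ := hN K₀
    haveI := hq
    haveI : IsIso (DerivedCategory.Q.map (j.app K₀)) :=
      (DerivedCategory.isIso_Q_map_iff_quasiIso _ _).2 hq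
    let e' : DerivedCategory.Q.obj (N.obj K₀) ≅ K :=
      (asIso (DerivedCategory.Q.map (j.app K₀))).symm ≪≫ e
    have := hR _ hKI (quasiIso_tors _ hinj fun i =>
      (SiteCmp.torsionSh J).prop_of_iso
        (((DerivedCategory.homologyFunctor _ i).mapIso e'.symm) ≪≫
          (DerivedCategory.homologyFunctorFactors _ i).app (N.obj K₀)) (hK i))
    exact WayOut.isIso_of_iso adjD.counit e' this
  have hrange : ∀ X, WSerre.cohIn (SiteCmp.torsionSh J)
      ((WSerre.toDerived (SiteCmp.torsionSh J)).obj X) := fun X i => by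
    let K₀ := DerivedCategory.Q.objPreimage X
    let T := ((SiteCmp.torsionSh J).ι.mapHomologicalComplex (ComplexShape.up ℤ)).obj K₀
    refine (SiteCmp.torsionSh J).prop_of_iso
      ((DerivedCategory.homologyFunctorFactors _ i).app T ≪≫ Iso.refl (T.homology i)).symm ?_
      |> fun h => (SiteCmp.torsionSh J).prop_of_iso
        ((DerivedCategory.homologyFunctor _ i).mapIso
          (((SiteCmp.torsionSh J).ι.mapDerivedCategoryFactors.app K₀).symm ≪≫
            (WSerre.toDerived (SiteCmp.torsionSh J)).mapIso
              (DerivedCategory.Q.objObjPreimageIso X))) h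
    exact (SiteCmp.torsionSh J).prop_of_epi (T.homologyπ i)
      ((SiteCmp.torsionSh J).prop_of_mono (T.iCycles i) (K₀.X i).property)
  haveI := CoreflDer.isIso_unit adjD fun X => hcoh _ (hrange X)
  let ff := adjD.fullyFaithfulLOfIsIsoUnit
  refine ⟨ff.full, ff.faithful, fun K => ⟨fun hK => ?_, ?_⟩⟩
  · haveI := hcoh K hK
    exact ⟨R.obj K, ⟨asIso (adjD.counit.app K)⟩⟩
  · rintro ⟨X, ⟨e⟩⟩
    exact CohInTri.cohIn_of_iso _ e (hrange X)

end Groth.Agent.H15Site.TorsionDer
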