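import Groth.Agent.H15Site.SiteInst
import Groth.Agent.H15Site.TorsionFree
import Groth.Agent.H15Site.OverInj
import Groth.Prelude.Def_SiteCmp
import Mathlib.CategoryTheory.Sites.LeftExact
import Mathlib.CategoryTheory.ObjectProperty.FullSubcategory

/-!
# The torsion subsheaf of an abelian sheaf
-/

set_option linter.style.haveILetI false

universe u

open CategoryTheory CategoryTheory.Limits Opposite

namespace Groth.Agent.H15Site.TorsionSh

attribute [local instance 10000] SiteInst.hasSheafifySite SiteInst.hasWeakSheafifySite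
  SiteInst.hasExtSite SiteInst.enoughInjSite

variable {C : Type u} [SmallCategory C] {J : GrothendieckTopology C}

/-- Sections which are locally of finite order. -/
def torsSub (F : Cᵒᵖ ⥤ AddCommGrpCat.{u}) (J : GrothendieckTopology C) (U : Cᵒᵖ) :
    AddSubgroup (F.obj U) where
  carrier := {s | ∃ S ∈ J U.unop, ∀ ⦃V : C⦄ (g : V ⟶ U.unop), S g →
    IsOfFinAddOrder ((F.map g.op).hom s)}
  zero_mem' := ⟨⊤, J.top_mem _, fun V g _ => by rw [map_zero]; exact IsOfFinAddOrder.zero⟩
  add_mem' := by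
    rintro a b ⟨S, hS, ha⟩ ⟨T, hT, hb⟩
    exact ⟨S ⊓ T, J.intersection_covering hS hT, fun V g hg => by
      rw [map_add]; exact (ha g hg.1).add (hb g hg.2)⟩
  neg_mem' := by
    rintro a ⟨S, hS, ha⟩
    exact ⟨S, hS, fun V g hg => by rw [map_neg]; exact (ha g hg).neg⟩

theorem map_mem_torsSub (F : Cᵒᵖ ⥤ AddCommGrpCat.{u}) {U U' : Cᵒᵖ} (b : U ⟶ U') {s : F.obj U}
    (hs : s ∈ torsSub F J U) : (F.map b).hom s ∈ torsSub F J U' := by
  obtain ⟨S, hS, h⟩ := hs
  refine ⟨S.pullback b.unop, J.pullback_stable _ hS, fun V g hg => ?_⟩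
  have e : (F.map g.op).hom ((F.map b).hom s) = (F.map (g ≫ b.unop).op).hom s := by
    rw [op_comp, F.map_comp]; rfl
  rw [e]
  exact h _ hg

/-- The presheaf of locally torsion sections. -/
noncomputable def torsPre (F : Cᵒᵖ ⥤ AddCommGrpCat.{u}) (J : GrothendieckTopology C) :
    Cᵒᵖ ⥤ AddCommGrpCat.{u} where
  obj U := AddCommGrpCat.of (torsSub F J U)
  map {U U'} b := AddCommGrpCat.ofHom (((F.map b).hom.comp (torsSub F J U).subtype).codRestrict
    (torsSub F J U') fun s => map_mem_torsSub F b s.2)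
  map_id U := by
    ext s
    exact ConcreteCategory.congr_hom (F.map_id U) s.1
  map_comp b b' := by
    ext s
    exact ConcreteCategory.congr_hom (F.map_comp b b') s.1

/-- The inclusion. -/
noncomputable def torsIncl (F : Cᵒᵖ ⥤ AddCommGrpCat.{u}) (J : GrothendieckTopology C) :
    torsPre F J ⟶ F where
  app U := AddCommGrpCat.ofHom (torsSub F J U).subtype
  naturality _ _ _ := rfl

theorem isSheaf_torsPre (F : Sheaf J AddCommGrpCat.{u}) : Presheaf.IsSheaf J (torsPre F.obj J) := by
  refine (Presheaf.isSheaf_iff_isSheaf_forget J _ (forget AddCommGrpCat.{u})).2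
    ((isSheaf_iff_isSheaf_of_type _ _).2 fun U S hS => ?_)
  have hF : Presieve.IsSheafFor (F.obj ⋙ forget AddCommGrpCat.{u}) S.arrows :=
    ((isSheaf_iff_isSheaf_of_type _ _).1
      ((sheafCompose J (forget AddCommGrpCat.{u})).obj F).property) S hS
  intro x hx
  let y : Presieve.FamilyOfElements (F.obj ⋙ forget AddCommGrpCat.{u}) S.arrows :=
    fun V g hg => (x g hg).1
  have hy : y.Compatible := fun Y₁ Y₂ Z g₁ g₂ f₁ f₂ h₁ h₂ e =>
    congrArg Subtype.val (hx g₁ g₂ h₁ h₂ e)
  obtain ⟨t, ht, huniq⟩ := hF y hy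
  have ht' : t ∈ torsSub F.obj J (op U) := by
    choose T hT hord using fun (V : C) (g : V ⟶ U) (hg : S g) => (x g hg).2
    refine ⟨Sieve.bind S.arrows fun V g hg => T V g hg, J.bind_covering hS fun V g hg => hT V g hg,
      ?_⟩
    rintro W _ ⟨V, p, g, hg, hp, rfl⟩
    have e : (F.obj.map (p ≫ g).op).hom t = (F.obj.map p.op).hom (x g hg).1 := by
      have := ht g hg
      rw [op_comp, F.obj.map_comp]
      exact congrArg (F.obj.map p.op).hom this
    rw [e]
    exact hord V g hg p hp
  refine ⟨⟨t, ht'⟩, fun V g hg => Subtype.ext (ht g hg), fun z hz => Subtype.ext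
    (huniq z.1 fun V g hg => congrArg Subtype.val (hz g hg))⟩

/-- The torsion subsheaf. -/
noncomputable def tors (F : Sheaf J AddCommGrpCat.{u}) : Sheaf J AddCommGrpCat.{u} :=
  ⟨torsPre F.obj J, isSheaf_torsPre F⟩

/-- Its inclusion. -/
noncomputable def torsι (F : Sheaf J AddCommGrpCat.{u}) : tors F ⟶ F := ⟨torsIncl F.obj J⟩

theorem isTorsion_tors (F : Sheaf J AddCommGrpCat.{u}) : SiteCmp.IsTorsionSh J (tors F) := by
  intro U s
  obtain ⟨S, hS, h⟩ := s.2
  refine ⟨S, hS, fun V g hg => ?_⟩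
  obtain ⟨n, hn, he⟩ := (h g hg).exists_nsmul_eq_zero
  refine isOfFinAddOrder_iff_nsmul_eq_zero.2 ⟨n, hn, Subtype.ext ?_⟩
  exact he

theorem exists_lift_tors {T F : Sheaf J AddCommGrpCat.{u}} (hT : SiteCmp.IsTorsionSh J T)
    (φ : T ⟶ F) : ∃ ψ : T ⟶ tors F, ψ ≫ torsι F = φ := by
  have h : ∀ (U : Cᵒᵖ) (s : T.obj.obj U), (φ.hom.app U).hom s ∈ torsSub F.obj J U := fun U s => by
    obtain ⟨S, hS, hs⟩ := hT U.unop s
    refine ⟨S, hS, fun V g hg => ?_⟩
    have e : (F.obj.map g.op).hom ((φ.hom.app U).hom s) =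
        (φ.hom.app (op V)).hom ((T.obj.map g.op).hom s) :=
      (ConcreteCategory.congr_hom (φ.hom.naturality g.op) s).symm
    rw [e]
    exact AddMonoidHom.isOfFinAddOrder _ (hs g hg)
  refine ⟨⟨{ app := fun U => AddCommGrpCat.ofHom ((φ.hom.app U).hom.codRestrict _ (h U))
             naturality := fun U U' b => ?_ }⟩, rfl⟩
  ext s
  exact Subtype.ext (ConcreteCategory.congr_hom (φ.hom.naturality b) s)

instance mono_torsι (F : Sheaf J AddCommGrpCat.{u}) : Mono (torsι F) := by
  refine (sheafToPresheaf J AddCommGrpCat.{u}).mono_of_mono_map ?_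
  haveI : ∀ U, Mono (((sheafToPresheaf J AddCommGrpCat.{u}).map (torsι F)).app U) := fun U =>
    (AddCommGrpCat.mono_iff_injective _).2 Subtype.val_injective
  exact NatTrans.mono_of_mono_app _

/-- Functoriality of the torsion subsheaf. -/
noncomputable def torsMap {F F' : Sheaf J AddCommGrpCat.{u}} (φ : F ⟶ F') : tors F ⟶ tors F' :=
  (exists_lift_tors (isTorsion_tors F) (torsι F ≫ φ)).choose

theorem torsMap_ι {F F' : Sheaf J AddCommGrpCat.{u}} (φ : F ⟶ F') :
    torsMap φ ≫ torsι F' = torsι F ≫ φ :=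
  (exists_lift_tors (isTorsion_tors F) (torsι F ≫ φ)).choose_spec

variable (J) in
/-- The torsion functor to the category of torsion sheaves. -/
noncomputable def Γt : Sheaf J AddCommGrpCat.{u} ⥤ (SiteCmp.torsionSh J).FullSubcategory where
  obj F := ⟨tors F, isTorsion_tors F⟩
  map φ := ⟨torsMap φ⟩
  map_id F := ObjectProperty.hom_ext _ ((cancel_mono (torsι F)).1 (by
    rw [torsMap_ι, Category.comp_id]
    exact (Category.id_comp _).symm))
  map_comp {F G H} φ ψ := ObjectProperty.hom_ext _ ((cancel_mono (torsι H)).1 (by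
    rw [torsMap_ι]
    change _ = (torsMap φ ≫ torsMap ψ) ≫ torsι H
    rw [Category.assoc, torsMap_ι, ← Category.assoc, ← Category.assoc, torsMap_ι]))

variable (J) in
/-- The counit of the coreflection. -/
noncomputable def counit : Γt J ⋙ (SiteCmp.torsionSh J).ι ⟶ 𝟭 (Sheaf J AddCommGrpCat.{u}) where
  app F := torsι F
  naturality _ _ φ := torsMap_ι φ

variable (J) in
/-- The torsion functor is right adjoint to the inclusion. -/
noncomputable def adj : (SiteCmp.torsionSh J).ι ⊣ Γt J :=
  Adjunction.mkOfHomEquiv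
    { homEquiv := fun T F =>
        { toFun := fun φ => ⟨(exists_lift_tors T.property φ).choose⟩
          invFun := fun ψ => ψ.hom ≫ torsι F
          left_inv := fun φ => (exists_lift_tors T.property φ).choose_spec
          right_inv := fun ψ => ObjectProperty.hom_ext _ ((cancel_mono (torsι F)).1
            (exists_lift_tors T.property (ψ.hom ≫ torsι F)).choose_spec) }
      homEquiv_naturality_left_symm := fun {T T' F} f g => by
        change (f.hom ≫ g.hom) ≫ torsι F = f.hom ≫ (g.hom ≫ torsι F)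
        exact Category.assoc _ _ _
      homEquiv_naturality_right := fun {T F F'} φ g => ObjectProperty.hom_ext _
        ((cancel_mono (torsι F')).1 ((exists_lift_tors T.property (φ ≫ g)).choose_spec.trans (by
          change φ ≫ g = ((exists_lift_tors T.property φ).choose ≫ torsMap g) ≫ torsι F'
          rw [Category.assoc, torsMap_ι, ← Category.assoc,
            (exists_lift_tors T.property φ).choose_spec]))) }

theorem adj_counit_app (F : Sheaf J AddCommGrpCat.{u}) : (adj J).counit.app F = torsι F := by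
  simp [adj]

theorem additive_Γt : (Γt J).Additive where
  map_add {F G φ ψ} := ObjectProperty.hom_ext _ ((cancel_mono (torsι G)).1 (by
    change torsMap (φ + ψ) ≫ torsι G = (torsMap φ + torsMap ψ) ≫ torsι G
    rw [Preadditive.add_comp, torsMap_ι, torsMap_ι, torsMap_ι, Preadditive.comp_add]))

/-- A torsion sheaf without torsion is zero. -/
theorem isZero_of_torsion_of_tf {F : Sheaf J AddCommGrpCat.{u}} (hT : SiteCmp.IsTorsionSh J F)
    (hF : TorsionFree.TF F) : IsZero F := by
  rw [IsZero.iff_id_eq_zero]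
  apply Sheaf.hom_ext
  ext U s
  change s = (0 : F.obj.obj U)
  obtain ⟨S, hS, hs⟩ := hT U.unop s
  refine F.isSeparated U.unop S hS _ _ fun V g hg => ?_
  obtain ⟨n, hn, he⟩ := (hs g hg).exists_nsmul_eq_zero
  refine (hF.eq_zero_of_zsmul (op V) (n := n) (by exact_mod_cast hn.ne') _ ?_).trans
    (map_zero (F.obj.map g.op).hom).symm
  rw [natCast_zsmul]
  exact he

/-- An injective sheaf is divisible. -/
theorem exists_zsmul_eq (I : Sheaf J AddCommGrpCat.{u}) [Injective I] {n : ℤ} (hn : n ≠ 0) (U : C)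
    (s : I.obj.obj (op U)) : ∃ t, n • t = s := by
  haveI := TorsionFree.tf_sheafify_free (J := J) (yoneda.obj U) n hn
  let φ : CohCx.freeSheaf J U ⟶ I := CohFree.ofSect J U I s
  haveI : Mono (n • 𝟙 (CohCx.freeSheaf J U)) := TorsionFree.tf_sheafify_free (yoneda.obj U) n hn
  let ψ := Injective.factorThru φ (n • 𝟙 (CohCx.freeSheaf J U))
  refine ⟨CohFree.evalGen J U I ψ, ?_⟩
  have h : n • ψ = φ := by
    have := Injective.comp_factorThru φ (n • 𝟙 (CohCx.freeSheaf J U))
    rwa [Preadditive.zsmul_comp, Category.id_comp] at this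
  rw [← map_zsmul, h, CohFree.evalGen_ofSect]

/-- The quotient of a sheaf by its torsion is torsion-free. -/
theorem tf_quotient {S : ShortComplex (Sheaf J AddCommGrpCat.{u})} (hS : S.ShortExact)
    (F : Sheaf J AddCommGrpCat.{u}) (e₁ : S.X₁ ⟶ tors F) (e₂ : S.X₂ ≅ F) (e₁' : tors F ⟶ S.X₁)
    (h₁ : S.f ≫ e₂.hom = e₁ ≫ torsι F) (h₁' : e₁' ≫ S.f = torsι F ≫ e₂.inv) :
    TorsionFree.TF S.X₃ := by
  intro n hn
  refine (sheafToPresheaf J AddCommGrpCat.{u}).mono_of_mono_map ?_
  haveI : ∀ U, Mono (((sheafToPresheaf J AddCommGrpCat.{u}).map (n • 𝟙 S.X₃)).app U) := fun U => by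
    let G : Sheaf J AddCommGrpCat.{u} ⥤ AddCommGrpCat.{u} :=
      sheafToPresheaf J _ ⋙ (evaluation Cᵒᵖ AddCommGrpCat.{u}).obj U
    rw [AddCommGrpCat.mono_iff_injective, injective_iff_map_eq_zero]
    intro s hs
    have hs' : n • s = 0 := by
      have e : (G.map (n • 𝟙 S.X₃)).hom s = n • s := by
        rw [Functor.map_zsmul, G.map_id]
        rfl
      exact e.symm.trans hs
    refine S.X₃.isSeparated U.unop _ (Edge.imageSieve_mem_of_shortExact hS s) _ _ fun V g hg => ?_
    obtain ⟨t, ht⟩ := hg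
    obtain ⟨a, ha⟩ := (Edge.exact_sections hS (op V)).2 (n • t) (by
      rw [map_zsmul, ht]
      exact (map_zsmul (S.X₃.obj.map g.op).hom n s).symm.trans
        ((congrArg _ hs').trans (map_zero _)))
    have hm : (e₂.hom.hom.app (op V)).hom t ∈ torsSub F.obj J (op V) := by
      let r : torsSub F.obj J (op V) := (e₁.hom.app (op V)).hom a
      have hr : (r : F.obj.obj (op V)) = n • (e₂.hom.hom.app (op V)).hom t := by
        refine (ConcreteCategory.congr_hom
          (congrArg (fun m : S.X₁ ⟶ F => m.hom.app (op V)) h₁) a).symm.trans ?_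
        exact (congrArg (e₂.hom.hom.app (op V)).hom ha).trans (map_zsmul _ _ _)
      obtain ⟨T, hT, h⟩ := r.2
      refine ⟨T, hT, fun W g' hg' => ?_⟩
      have h' := h g' hg'
      rw [hr, map_zsmul] at h'
      obtain ⟨m, hm, hm0⟩ := h'.exists_nsmul_eq_zero
      refine isOfFinAddOrder_iff_zsmul_eq_zero.2 ⟨(m : ℤ) * n,
        mul_ne_zero (by exact_mod_cast hm.ne') hn, ?_⟩
      rw [mul_zsmul, natCast_zsmul]
      exact hm0
    refine Eq.trans ?_ (map_zero (S.X₃.obj.map g.op).hom).symm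
    refine ht.symm.trans ?_
    have hb : (S.f.hom.app (op V)).hom ((e₁'.hom.app (op V)).hom ⟨_, hm⟩) = t := by
      refine (ConcreteCategory.congr_hom
        (congrArg (fun m : tors F ⟶ S.X₂ => m.hom.app (op V)) h₁') ⟨_, hm⟩).trans ?_
      exact ConcreteCategory.congr_hom
        (congrArg (fun m : S.X₂ ⟶ S.X₂ => m.hom.app (op V)) e₂.hom_inv_id) t
    rw [← hb]
    exact ConcreteCategory.congr_hom (congrArg (fun m : S.X₁ ⟶ S.X₃ => m.hom.app (op V)) S.zero) _
  exact NatTrans.mono_of_mono_app _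

end Groth.Agent.H15Site.TorsionSh
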