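import Groth.Agent.H15Site.CechTotAcyclic
import Groth.Agent.H15Site.TotPush
import Groth.Agent.H15Site.HomInjAcyclic
import Mathlib.CategoryTheory.Limits.Preserves.Shapes.Over
import Mathlib.CategoryTheory.Limits.Constructions.FiniteProductsOfBinaryProducts

/-!
# Direct images along a continuous functor whose sheaf pullback commutes with fibre products
-/

set_option autoImplicit false
set_option linter.style.haveILetI false
set_option linter.unusedSectionVars false
set_option backward.isDefEq.respectTransparency false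
set_option backward.isDefEq.respectTransparency.types false

universe w v v' u

open CategoryTheory CategoryTheory.Limits Opposite AlgebraicTopology
open scoped Simplicial

namespace Groth.Agent.H15Site.TotPrecomp

attribute [local instance 10000] SiteInst.hasSheafifySite SiteInst.hasWeakSheafifySite
  SiteInst.hasExtSite SiteInst.enoughInjSite

section WidePullback

variable {A : Type w} [Category.{v} A] {B : Type w} [Category.{v'} B] (G : A ⥤ B)
  [PreservesLimitsOfShape WalkingCospan G]

theorem existsUnique_lift [HasFiniteWidePullbacks A] {K' K : A} (f : K' ⟶ K) (n : ℕ) {T : B} (m : Fin (n + 1) → (T ⟶ G.obj K'))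
    (t : T ⟶ G.obj K) (hm : ∀ k, m k ≫ G.map f = t) :
    ∃! l : T ⟶ G.obj (widePullback K (fun _ : Fin (n + 1) => K') fun _ => f),
      ∀ k, l ≫ G.map (WidePullback.π (fun _ : Fin (n + 1) => f) k) = m k := by
  haveI : PreservesLimitsOfShape (WidePullbackShape WalkingPair) G :=
    inferInstanceAs (PreservesLimitsOfShape WalkingCospan G)
  haveI : PreservesLimitsOfShape (Discrete WalkingPair)
      (Over.post G : Over K ⥤ Over (G.obj K)) := inferInstance
  let tt : IsTerminal ((Over.post G).obj (Over.mk (𝟙 K))) :=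
    Over.mkIdTerminal.ofIso (Over.isoMk (Iso.refl _) ((Category.id_comp _).trans (G.map_id K)))
  haveI : PreservesLimit (Functor.empty.{0} (Over K)) (Over.post G : Over K ⥤ Over (G.obj K)) :=
    preservesLimit_of_preserves_limit_cone Over.mkIdTerminal
      ((isLimitMapConeEmptyConeEquiv (Over.post G) (Over.mk (𝟙 K))).symm tt)
  haveI := preservesLimitsOfShape_pempty_of_preservesTerminal
    (Over.post G : Over K ⥤ Over (G.obj K))
  haveI : PreservesFiniteProducts (Over.post G : Over K ⥤ Over (G.obj K)) :=
    PreservesFiniteProducts.of_preserves_binary_and_terminal _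
  let W : Over K := Over.mk (WidePullback.base (fun _ : Fin (n + 1) => f))
  let p : ∀ k : Fin (n + 1), W ⟶ Over.mk f := fun k =>
    Over.homMk (WidePullback.π (fun _ : Fin (n + 1) => f) k) (WidePullback.π_arrow _ k)
  let hW : IsLimit (Fan.mk W p) := mkFanLimit _
    (fun s => Over.homMk (WidePullback.lift s.pt.hom (fun k => (s.proj k).left) fun k => Over.w (s.proj k))
      (WidePullback.lift_base _ _ _ _))
    (fun s k => Over.OverMorphism.ext (WidePullback.lift_π _ _ _ _ _))
    (fun s g hg => Over.OverMorphism.ext (WidePullback.hom_ext _ _ _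
      (fun k => (congrArg CommaMorphism.left (hg k)).trans (by exact (WidePullback.lift_π (fun _ : Fin (n + 1) => f) s.pt.hom (fun k => (s.proj k).left) (fun k => Over.w (s.proj k)) k).symm))
      ((Over.w g).trans (WidePullback.lift_base _ _ _ _).symm)))
  let hG := isLimitFanMkObjOfIsLimit (Over.post G) _ p hW
  let l₀ := Fan.IsLimit.lift hG fun k =>
    (Over.homMk (m k) (hm k) : Over.mk t ⟶ (Over.post G).obj (Over.mk f))
  have h₀ : ∀ k, l₀.left ≫ G.map (WidePullback.π (fun _ : Fin (n + 1) => f) k) = m k := fun k =>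
    congrArg CommaMorphism.left (Fan.IsLimit.fac hG (fun k =>
      (Over.homMk (m k) (hm k) : Over.mk t ⟶ (Over.post G).obj (Over.mk f))) k)
  refine ⟨l₀.left, h₀, fun l hl => ?_⟩
  have hw : l ≫ G.map (WidePullback.base (fun _ : Fin (n + 1) => f)) = t := by
    rw [← WidePullback.π_arrow (fun _ : Fin (n + 1) => f) 0, G.map_comp, ← Category.assoc, hl 0]
    exact hm 0
  have e : (Over.homMk l hw : Over.mk t ⟶ (Over.post G).obj W) = l₀ :=
    Fan.IsLimit.hom_ext hG _ _ fun k => Over.OverMorphism.ext ((hl k).trans (h₀ k).symm)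
  exact congrArg CommaMorphism.left e

/-- Čech nerves commute with functors preserving fibre products. -/
theorem exists_cechNerveIso [HasFiniteWidePullbacks A] [HasFiniteWidePullbacks B]
    {K' K : A} (f : K' ⟶ K) :
    Nonempty ((Arrow.mk (G.map f)).cechNerve ≅ (Arrow.mk f).cechNerve ⋙ G) := by
  let c : ∀ n : SimplexCategoryᵒᵖ, G.obj ((Arrow.mk f).cechNerve.obj n) ⟶ (Arrow.mk (G.map f)).cechNerve.obj n :=
    fun n => WidePullback.lift (G.map (WidePullback.base _))
      (fun k => G.map (WidePullback.π (fun _ : Fin (n.unop.len + 1) => f) k))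
      (fun k => (G.map_comp _ _).symm.trans (congrArg G.map (WidePullback.π_arrow _ k)))
  have hc : ∀ n, IsIso (c n) := fun n => by
    obtain ⟨l, hl, -⟩ := existsUnique_lift G f n.unop.len
      (fun k => WidePullback.π (fun _ : Fin (n.unop.len + 1) => G.map f) k)
      (WidePullback.base _) (fun k => WidePullback.π_arrow _ k)
    refine ⟨l, ?_, ?_⟩
    · obtain ⟨l', -, hu⟩ := existsUnique_lift G f n.unop.len
        (fun k => G.map (WidePullback.π (fun _ : Fin (n.unop.len + 1) => f) k)) (G.map (WidePullback.base _))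
        (fun k => (G.map_comp _ _).symm.trans (congrArg G.map (WidePullback.π_arrow _ k)))
      refine (hu _ fun k => ?_).trans (hu _ fun k => Category.id_comp _).symm
      exact (Category.assoc _ _ _).trans ((congrArg (c n ≫ ·) (hl k)).trans (WidePullback.lift_π _ _ _ _ _))
    · have h1 : ∀ k, (l ≫ c n) ≫ WidePullback.π (fun _ : Fin (n.unop.len + 1) => G.map f) k =
          WidePullback.π (fun _ : Fin (n.unop.len + 1) => G.map f) k := fun k =>
        (Category.assoc _ _ _).trans ((congrArg (l ≫ ·) (WidePullback.lift_π _ _ _ _ _)).trans (hl k))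
      refine WidePullback.hom_ext _ _ _ (fun k => (h1 k).trans (Category.id_comp _).symm) ?_
      refine Eq.trans ?_ (Category.id_comp _).symm
      exact (congrArg ((l ≫ c n) ≫ ·)
        (WidePullback.π_arrow (fun _ : Fin (n.unop.len + 1) => G.map f) 0).symm).trans
        ((Category.assoc _ _ _).symm.trans ((congrArg (· ≫ G.map f) (h1 0)).trans (WidePullback.π_arrow _ 0)))
  haveI := hc
  refine ⟨(NatIso.ofComponents (fun n => asIso (c n)) fun {n m} g => ?_).symm⟩
  have h2 : ∀ k, (G.map ((Arrow.mk f).cechNerve.map g) ≫ c m) ≫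
      WidePullback.π (fun _ : Fin (m.unop.len + 1) => G.map f) k =
      (c n ≫ (Arrow.mk (G.map f)).cechNerve.map g) ≫
        WidePullback.π (fun _ : Fin (m.unop.len + 1) => G.map f) k := fun k => by
    refine ((Category.assoc _ _ _).trans ((congrArg (G.map _ ≫ ·) (WidePullback.lift_π _ _ _ _ _)).trans ?_)).trans
      (Category.assoc _ _ _).symm
    refine ((G.map_comp _ _).symm.trans (congrArg G.map (WidePullback.lift_π _ _ _ _ _))).trans ?_
    exact ((congrArg (c n ≫ ·)
      (WidePullback.lift_π (fun _ : Fin (m.unop.len + 1) => G.map f) _ _ _ k)).trans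
        (WidePullback.lift_π (fun _ : Fin (n.unop.len + 1) => G.map f) _ _ _ _)).symm
  refine WidePullback.hom_ext _ _ _ h2 ?_
  refine Eq.trans (congrArg (_ ≫ ·) (WidePullback.π_arrow (fun _ : Fin (m.unop.len + 1) => G.map f) 0).symm) ?_
  refine Eq.trans ?_ (congrArg (_ ≫ ·) (WidePullback.π_arrow (fun _ : Fin (m.unop.len + 1) => G.map f) 0))
  exact (Category.assoc _ _ _).symm.trans ((congrArg (· ≫ G.map f) (h2 0)).trans (Category.assoc _ _ _))

end WidePullback

open CechTot

variable {C D : Type u} [SmallCategory C] [SmallCategory D]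
  {J : GrothendieckTopology C} {L : GrothendieckTopology D} (F : C ⥤ D) [F.IsContinuous J L]

set_option maxHeartbeats 1000000 in
/-- If sheaf pullback commutes with fibre products, direct image preserves total acyclicity. -/
theorem isTotallyAcyclic_push
    [PreservesLimitsOfShape WalkingCospan (F.sheafPullback (Type u) J L)]
    (X : Sheaf L AddCommGrpCat.{u}) (hX : CohCx.IsTotallyAcyclic X) :
    CohCx.IsTotallyAcyclic ((CohSite.push L J F).obj X) := by
  let P := CohSite.push L J F
  let g := F.sheafPullback (Type u) J L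
  let adj := F.sheafAdjunctionContinuous AddCommGrpCat.{u} J L
  haveI : (F.sheafPullback AddCommGrpCat.{u} J L).Additive := by
    haveI := adj.leftAdjoint_preservesColimits
    haveI := adj.isLeftAdjoint
    haveI : (F.sheafPullback AddCommGrpCat.{u} J L).PreservesZeroMorphisms :=
      Functor.preservesZeroMorphisms_of_isLeftAdjoint _
    haveI : PreservesBinaryBiproducts (F.sheafPullback AddCommGrpCat.{u} J L) :=
      preservesBinaryBiproducts_of_preservesBinaryCoproducts _
    exact Functor.additive_of_preservesBinaryBiproducts _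
  haveI : P.Additive := adj.right_adjoint_additive
  refine totallyAcyclic_of_cechAcyclic fun K' K f hf q => ?_
  haveI : g.IsLeftAdjoint := (F.sheafAdjunctionContinuous (Type u) J L).isLeftAdjoint
  haveI : Epi (g.map f) := g.map_epi f
  obtain ⟨θ⟩ := exists_cechNerveIso g f
  let Φ : ∀ M : Sheaf J (Type u), (frS M ⟶ P.obj X) → (frS (g.obj M) ⟶ X) := fun M x =>
    ((TotPush.adjA F).leftAdjointUniq (TotPush.adjB F)).inv.app M ≫ (adj.homEquiv _ _).symm x
  have hΦ : ∀ {M N : Sheaf J (Type u)} (a : M ⟶ N) (x : frS N ⟶ P.obj X),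
      Φ M ((Sheaf.composeAndSheafify J AddCommGrpCat.free.{u}).map a ≫ x) =
        (Sheaf.composeAndSheafify L AddCommGrpCat.free.{u}).map (g.map a) ≫ Φ N x := fun {M N} a x => by
    show _ ≫ (adj.homEquiv _ _).symm _ = _
    rw [adj.homEquiv_naturality_left_symm, ← Category.assoc]
    refine (congrArg (· ≫ _) ?_).trans (Category.assoc _ _ _)
    exact (((TotPush.adjA F).leftAdjointUniq (TotPush.adjB F)).inv.naturality a).symm
  have hΦadd : ∀ {M : Sheaf J (Type u)} (x y : frS M ⟶ P.obj X), Φ M (x + y) = Φ M x + Φ M y := fun x y => by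
    haveI := adj.left_adjoint_additive
    show _ ≫ (adj.homEquiv _ _).symm _ = _
    rw [← Preadditive.comp_add]
    exact congrArg _ ((adj.homAddEquiv _ _).symm.map_add x y)
  have hΦbij : ∀ M, Function.Bijective (Φ M) := fun M => by
    refine Function.Bijective.comp (g := fun y =>
      ((TotPush.adjA F).leftAdjointUniq (TotPush.adjB F)).inv.app M ≫ y) ?_ (adj.homEquiv _ _).symm.bijective
    exact ((((TotPush.adjA F).leftAdjointUniq (TotPush.adjB F)).app M).homFromEquiv (Z := X)).bijective
  let E : ∀ n : ℕ, ((cplx f).X n ⟶ P.obj X) →+ ((cplx (g.map f)).X n ⟶ X) := fun n =>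
    AddMonoidHom.mk' (fun x => (Sheaf.composeAndSheafify L AddCommGrpCat.free.{u}).map
      (θ.hom.app (op ⦋n⦌)) ≫ Φ _ x) (fun x y => (congrArg _ (hΦadd x y)).trans (Preadditive.comp_add _ _ _ _ _ _))
  have hEbij : ∀ n, Function.Bijective (E n) := fun n =>
    Function.Bijective.comp (g := fun y => (Sheaf.composeAndSheafify L AddCommGrpCat.free.{u}).map
      (θ.hom.app (op ⦋n⦌)) ≫ y)
      (((Sheaf.composeAndSheafify L AddCommGrpCat.free.{u}).mapIso (θ.app (op ⦋n⦌))).symm.homFromEquiv
        (Z := X)).bijective (hΦbij _)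
  have hd : ∀ (n : ℕ) (x : (cplx f).X n ⟶ P.obj X),
      E (n + 1) ((cplx f).d (n + 1) n ≫ x) = (cplx (g.map f)).d (n + 1) n ≫ E n x := fun n x => by
    rw [AlternatingFaceMapComplex.obj_d_eq, AlternatingFaceMapComplex.obj_d_eq, Preadditive.sum_comp,
      Preadditive.sum_comp, map_sum]
    refine Finset.sum_congr rfl fun i _ => ?_
    rw [Preadditive.zsmul_comp, Preadditive.zsmul_comp, map_zsmul]
    refine congrArg _ ?_
    refine (congrArg (_ ≫ ·) (hΦ _ x)).trans ?_
    refine ((Category.assoc _ _ _).symm.trans (congrArg (· ≫ _) ?_)).trans (Category.assoc _ _ _)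
    refine ((Functor.map_comp _ _ _).symm.trans (congrArg _ ?_)).trans (Functor.map_comp _ _ _)
    exact (θ.hom.naturality ((SimplexCategory.δ i).op)).symm
  rw [isZero_homology_iff]
  intro x hx
  obtain ⟨y, hy⟩ := (isZero_homology_iff (g.map f) X q).1 (isZero_cech_of_totallyAcyclic _ _ hX q)
    (E (q + 1) x) ((hd (q + 1) x).symm.trans ((congrArg _ hx).trans (map_zero _)))
  obtain ⟨y, rfl⟩ := (hEbij q).2 y
  exact ⟨y, (hEbij (q + 1)).1 ((hd q y).trans hy)⟩

theorem isTotallyAcyclic_injective {O : Sheaf L CommRingCat.{u}} (I : ModSite.Mod O) [Injective I] :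
    CohCx.IsTotallyAcyclic (ModSite.toAb I) :=
  fun K p => ModInjAcyclic.subsingleton_ext (ModSite.ringSh O) I p _ (TorsionFree.tf_sheafify_free K.obj)

end Groth.Agent.H15Site.TotPrecomp
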