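import Mathlib.CategoryTheory.Sites.Coverage
import Mathlib.CategoryTheory.Sites.PrecoverageToGrothendieck

/-!
# Topologies generated by two precoverages `P`, `P'` with `P'` living on a class of objects
-/

set_option autoImplicit false
set_option linter.unusedSectionVars false
set_option linter.unusedVariables false
set_option linter.style.haveILetI false

universe w v u

open CategoryTheory CategoryTheory.Limits Opposite

namespace Groth.Agent.H15Site.TwoPrecov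

variable {C : Type u} [Category.{v} C] {C' : C → Prop} {P P' : Precoverage C}

/-- A composite of a `P`-cover by members of `P`-covers is a `P`-cover. -/
lemma exists_comp_mem [P.IsStableUnderComposition] {X : C} {R : Presieve X} (hR : R ∈ P X)
    (Q : ∀ ⦃Y : C⦄ ⦃f : Y ⟶ X⦄, R f → Presieve Y)
    (hQ : ∀ ⦃Y : C⦄ ⦃f : Y ⟶ X⦄ (hf : R f), Q hf ∈ P Y) :
    ∃ T ∈ P X, ∀ ⦃Z : C⦄ ⦃q : Z ⟶ X⦄, T q →
      ∃ (Y : C) (f : Y ⟶ X) (hf : R f) (g : Z ⟶ Y), Q hf g ∧ g ≫ f = q := by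
  obtain ⟨ι, Z, g, rfl⟩ := R.exists_eq_ofArrows
  have h := fun i : ι => (Q (Presieve.ofArrows.mk (f := g) i)).exists_eq_ofArrows
  choose σ W k hk using h
  refine ⟨_, Precoverage.comp_mem_coverings g hR k
    (fun i => by rw [← hk i]; exact hQ _), ?_⟩
  rintro V q ⟨⟨i, j⟩⟩
  refine ⟨_, _, Presieve.ofArrows.mk i, k i j, ?_, rfl⟩
  rw [hk i]
  exact ⟨j⟩

variable [P.HasPullbacks] [P.IsStableUnderBaseChange] [P.IsStableUnderComposition]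
  (hb : ∀ X : C, ∃ R ∈ P X, ∀ ⦃Y : C⦄ ⦃f : Y ⟶ X⦄, R f → C' Y)

include hb in
/-- Refinement of a `P`-cover by objects of `C'`. -/
lemma exists_refine {X : C} {R : Presieve X} (hR : R ∈ P X) :
    ∃ T ∈ P X, ∀ ⦃Z : C⦄ ⦃q : Z ⟶ X⦄, T q →
      C' Z ∧ ∃ (Y : C) (f : Y ⟶ X) (g : Z ⟶ Y), R f ∧ g ≫ f = q := by
  choose Rb hRb hC using hb
  obtain ⟨T, hT, h⟩ := exists_comp_mem hR (fun Y _ _ => Rb Y) (fun Y _ _ => hRb Y)
  refine ⟨T, hT, fun Z q hq => ?_⟩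
  obtain ⟨Y, f, hf, g, hg, e⟩ := h hq
  exact ⟨hC Y hg, Y, f, g, hf, e⟩

include hb in
/-- Pull back a `P`-cover and refine it by objects of `C'`. -/
lemma exists_refine_pullback {X T : C} {R : Presieve X} (hR : R ∈ P X) (t : T ⟶ X) :
    ∃ Q ∈ P T, ∀ ⦃Z : C⦄ ⦃q : Z ⟶ T⦄, Q q →
      C' Z ∧ ∃ (Y : C) (f : Y ⟶ X) (g : Z ⟶ Y), R f ∧ g ≫ f = q ≫ t := by
  haveI := P.hasPullbacks_of_mem t hR
  obtain ⟨Q, hQ, h⟩ := exists_refine hb (P.pullbackArrows_mem t hR)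
  refine ⟨Q, hQ, fun Z q hq => ?_⟩
  obtain ⟨hZ, Y, f, g, hf, e⟩ := h hq
  refine ⟨hZ, ?_⟩
  cases hf with
  | mk W k hk =>
    haveI := Presieve.hasPullback t hk
    exact ⟨W, k, g ≫ pullback.fst k t, hk, by rw [← e, Category.assoc, Category.assoc,
      pullback.condition]⟩

/-- `S` contains a `P' ∘ P` family with middle objects in `C'`. -/
def Good (C' : C → Prop) (P P' : Precoverage C) {X : C} (S : Sieve X) : Prop :=
  ∃ R ∈ P X, ∀ ⦃Y : C⦄ ⦃f : Y ⟶ X⦄, R f →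
    C' Y ∧ ∃ R' ∈ P' Y, ∀ ⦃Z : C⦄ ⦃g : Z ⟶ Y⦄, R' g → S (g ≫ f)

variable (hP'C : ∀ ⦃X : C⦄ ⦃R : Presieve X⦄, R ∈ P' X → C' X ∧ ∀ ⦃Y : C⦄ ⦃f : Y ⟶ X⦄, R f → C' Y)
  (hP'id : ∀ ⦃X : C⦄, C' X → Presieve.singleton (𝟙 X) ∈ P' X)
  (ha : ∀ ⦃X : C⦄ ⦃R : Presieve X⦄, R ∈ P' X → ∀ ⦃T : C⦄ (g : T ⟶ X), C' T →
    ∃ _ : R.HasPullbacks g, Presieve.pullbackArrows g R ∈ P' T)

include hb hP'C hP'id ha in
lemma good_of_mem
    (hc : ∀ ⦃S : C⦄ ⦃R₁ : Presieve S⦄, R₁ ∈ P' S →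
      ∀ (R₂ : ∀ ⦃Y : C⦄ ⦃f : Y ⟶ S⦄, R₁ f → Presieve Y),
        (∀ ⦃Y : C⦄ ⦃f : Y ⟶ S⦄ (hf : R₁ f), R₂ hf ∈ P Y ∧ ∀ ⦃Z : C⦄ ⦃g : Z ⟶ Y⦄, R₂ hf g → C' Z) →
      ∀ (R₃ : ∀ ⦃Y : C⦄ ⦃f : Y ⟶ S⦄ (hf : R₁ f) ⦃Z : C⦄ ⦃g : Z ⟶ Y⦄, R₂ hf g → Presieve Z),
        (∀ ⦃Y : C⦄ ⦃f : Y ⟶ S⦄ (hf : R₁ f) ⦃Z : C⦄ ⦃g : Z ⟶ Y⦄ (hg : R₂ hf g), R₃ hf hg ∈ P' Z) →
      ∃ T ∈ P' S, ∀ ⦃W : C⦄ ⦃q : W ⟶ S⦄, T q →
        ∃ (Y Z V : C) (f : Y ⟶ S) (hf : R₁ f) (g : Z ⟶ Y) (hg : R₂ hf g) (h : V ⟶ Z) (_ : R₃ hf hg h)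
          (r : W ⟶ V), r ≫ h ≫ g ≫ f = q)
    {X : C} {S : Sieve X} (hS : S ∈ (P ⊔ P').toGrothendieck X) : Good C' P P' S := by
  rw [Precoverage.mem_toGrothendieck_iff] at hS
  induction hS with
  | of X R hR =>
    rcases hR with hR | hR
    · obtain ⟨T, hT, h⟩ := exists_refine hb hR
      refine ⟨T, hT, fun Y f hf => ?_⟩
      obtain ⟨hY, W, k, g, hk, e⟩ := h hf
      refine ⟨hY, _, hP'id hY, fun Z z hz => ?_⟩
      cases hz
      exact ⟨W, g, k, hk, by rw [Category.id_comp, e]⟩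
    · obtain ⟨T, hT, h⟩ := hb X
      refine ⟨T, hT, fun Y f hf => ?_⟩
      obtain ⟨hh, hmem⟩ := ha hR f (h hf)
      refine ⟨h hf, _, hmem, fun Z z hz => ?_⟩
      cases hz with
      | mk W k hk =>
        haveI := hh.hasPullback hk
        exact ⟨W, pullback.fst k f, k, hk, pullback.condition⟩
  | top X =>
    obtain ⟨T, hT, h⟩ := hb X
    exact ⟨T, hT, fun Y f hf => ⟨h hf, _, hP'id (h hf), fun Z z _ => trivial⟩⟩
  | pullback X S _ T t ih =>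
    obtain ⟨R, hR, h⟩ := ih
    obtain ⟨Q, hQ, h'⟩ := exists_refine_pullback hb hR t
    refine ⟨Q, hQ, fun Z q hq => ?_⟩
    obtain ⟨hZ, Y, f, g, hf, e⟩ := h' hq
    obtain ⟨hY, R', hR', hS'⟩ := h hf
    obtain ⟨hh, hmem⟩ := ha hR' g hZ
    refine ⟨hZ, _, hmem, fun V z hz => ?_⟩
    cases hz with
    | mk W k hk =>
      haveI := hh.hasPullback hk
      rw [Sieve.pullback_apply, Category.assoc, ← e, ← Category.assoc, ← pullback.condition,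
        Category.assoc]
      exact S.downward_closed (hS' hk) _
  | transitive X S T _ _ ih ih' =>
    obtain ⟨R, hR, h⟩ := ih
    refine ⟨R, hR, fun Y f hf => ?_⟩
    obtain ⟨hY, R', hR', hS'⟩ := h hf
    have key : ∀ ⦃Z : C⦄ ⦃g : Z ⟶ Y⦄, R' g → Good C' P P' (T.pullback (g ≫ f)) :=
      fun Z g hg => ih' (hS' hg)
    choose R₂ hR₂ hR₂' using key
    choose hC₂ R₃ hR₃ hT₃ using hR₂'
    obtain ⟨U, hU, hU'⟩ := hc hR' (fun Z g hg => R₂ hg) (fun Z g hg => ⟨hR₂ hg, fun V v hv => hC₂ hg hv⟩)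
      (fun Z g hg V v hv => R₃ hg hv) (fun Z g hg V v hv => hR₃ hg hv)
    refine ⟨hY, U, hU, fun W q hq => ?_⟩
    obtain ⟨Y', Z, V, g, hg, v, hv, k, hk, r, e⟩ := hU' hq
    have := T.downward_closed (hT₃ hg hv hk) r
    rw [← e]
    simpa only [Category.assoc] using this

lemma mem_of_good {X : C} {S : Sieve X} (hS : Good C' P P' S) :
    S ∈ (P ⊔ P').toGrothendieck X := by
  obtain ⟨R, hR, h⟩ := hS
  refine GrothendieckTopology.transitive _ (Precoverage.generate_mem_toGrothendieck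
    (J := P ⊔ P') (Or.inl hR)) S ?_
  rintro Y f ⟨W, a, k, hk, rfl⟩
  rw [Sieve.pullback_comp]
  refine GrothendieckTopology.pullback_stable _ _ ?_
  obtain ⟨-, R', hR', hS'⟩ := h hk
  refine GrothendieckTopology.superset_covering _ ?_
    (Precoverage.generate_mem_toGrothendieck (J := P ⊔ P') (Or.inr hR'))
  rw [Sieve.generate_le_iff]
  exact fun Z g hg => hS' hg

include hb hP'C ha in
lemma isSheafFor_pullback (F : Cᵒᵖ ⥤ Type w)
    (hF : ∀ ⦃X : C⦄ ⦃R : Presieve X⦄, R ∈ P X → Presieve.IsSheafFor F R)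
    (hF' : ∀ ⦃X : C⦄ ⦃R : Presieve X⦄, R ∈ P' X → Presieve.IsSheafFor F R)
    {X T : C} {R : Presieve X} (hR : R ∈ P' X) (f : T ⟶ X) :
    Presieve.IsSheafFor F ((Sieve.generate R).pullback f).arrows := by
  -- the pullback to an object of `C'` is a sheaf condition of `P'`
  have hW : ∀ ⦃W : C⦄ (g : W ⟶ T), C' W →
      Presieve.IsSheafFor F (((Sieve.generate R).pullback f).pullback g).arrows := by
    intro W g hW
    rw [← Sieve.pullback_comp]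
    obtain ⟨hh, hmem⟩ := ha hR (g ≫ f) hW
    haveI := hh
    rw [← Sieve.pullbackArrows_comm, ← Presieve.isSheafFor_iff_generate]
    exact hF' hmem
  obtain ⟨R₀, hR₀, hC₀⟩ := hb T
  rw [← Presieve.isSeparatedFor_and_exists_isAmalgamation_iff_isSheafFor]
  refine ⟨fun x t₁ t₂ h₁ h₂ => ?_, fun x hx => ?_⟩
  · refine (hF hR₀).isSeparatedFor.ext fun W g hg => (hW g (hC₀ hg)).isSeparatedFor.ext
      fun V v hv => ?_
    have e₁ := h₁ (v ≫ g) hv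
    have e₂ := h₂ (v ≫ g) hv
    rw [op_comp, Functor.map_comp] at e₁ e₂
    simp only [types_comp_apply] at e₁ e₂
    rw [e₁, e₂]
  let xg : ∀ ⦃W : C⦄ (g : W ⟶ T),
      Presieve.FamilyOfElements F (((Sieve.generate R).pullback f).pullback g).arrows :=
    fun W g V v hv => x (v ≫ g) hv
  have hxg : ∀ ⦃W : C⦄ (g : W ⟶ T), (xg g).Compatible := fun W g Y₁ Y₂ Z g₁ g₂ f₁ f₂ h₁ h₂ e =>
    hx g₁ g₂ h₁ h₂ (by rw [reassoc_of% e])
  let y : Presieve.FamilyOfElements F R₀ := fun W g hg =>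
    (hW g (hC₀ hg)).amalgamate (xg g) (hxg g)
  have hy : ∀ ⦃W : C⦄ (g : W ⟶ T) (hg : R₀ g) ⦃V : C⦄ (v : V ⟶ W)
      (hv : ((Sieve.generate R).pullback f) (v ≫ g)), F.map v.op (y g hg) = x (v ≫ g) hv :=
    fun W g hg V v hv => (hW g (hC₀ hg)).valid_glue (hxg g) v hv
  have hyc : y.Compatible := by
    intro Y₁ Y₂ Z g₁ g₂ f₁ f₂ h₁ h₂ e
    obtain ⟨Q, hQ, hCQ⟩ := hb Z
    refine (hF hQ).isSeparatedFor.ext fun W z hz => (hW (z ≫ g₁ ≫ f₁) (hCQ hz)).isSeparatedFor.ext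
      fun V v hv => ?_
    have hv₁ : ((Sieve.generate R).pullback f) ((v ≫ z ≫ g₁) ≫ f₁) := by
      simpa only [Sieve.pullback_apply, Category.assoc] using hv
    have hv₂ : ((Sieve.generate R).pullback f) ((v ≫ z ≫ g₂) ≫ f₂) := by
      simpa only [Category.assoc, e] using hv₁
    simp only [← types_comp_apply (F.map _) (F.map _), ← Functor.map_comp, ← op_comp]
    rw [hy f₁ h₁ _ hv₁, hy f₂ h₂ _ hv₂]
    congr 1
    simp only [Category.assoc, e]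
  obtain ⟨t, ht, -⟩ := hF hR₀ y hyc
  refine ⟨t, fun Z s hs => ?_⟩
  obtain ⟨Q, hQ, hQ'⟩ := exists_refine_pullback hb hR₀ s
  refine (hF hQ).isSeparatedFor.ext fun W q hq => ?_
  obtain ⟨-, Y, k, g, hk, e⟩ := hQ' hq
  have hgk : ((Sieve.generate R).pullback f) (g ≫ k) := by
    rw [e]; exact Sieve.downward_closed _ hs q
  have h1 : F.map q.op (F.map s.op t) = F.map g.op (F.map k.op t) := by
    simp only [← types_comp_apply (F.map _) (F.map _), ← Functor.map_comp, ← op_comp, e]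
  rw [h1, ht k hk, hy k hk g hgk]
  have h2 := hx (𝟙 W) q hgk hs (by rw [Category.id_comp, e])
  simpa only [op_id, Functor.map_id_apply] using h2

include hb hP'C ha in
lemma isSheaf_iff (F : Cᵒᵖ ⥤ Type w) :
    Presieve.IsSheaf (P ⊔ P').toGrothendieck F ↔
      (∀ ⦃X : C⦄ ⦃R : Presieve X⦄, R ∈ P X → Presieve.IsSheafFor F R) ∧
      (∀ ⦃X : C⦄ ⦃R : Presieve X⦄, R ∈ P' X → Presieve.IsSheafFor F R) := by
  refine ⟨fun h => ⟨fun X R hR => h.isSheafFor_of_mem_precoverage (Or.inl hR),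
    fun X R hR => h.isSheafFor_of_mem_precoverage (Or.inr hR)⟩, fun ⟨hF, hF'⟩ => ?_⟩
  rw [Precoverage.isSheaf_toGrothendieck_iff]
  rintro X Y f R (hR | hR)
  · haveI := P.hasPullbacks_of_mem f hR
    rw [← Sieve.pullbackArrows_comm, ← Presieve.isSheafFor_iff_generate]
    exact hF (P.pullbackArrows_mem f hR)
  · exact isSheafFor_pullback hb hP'C ha F hF hF' hR f

end Groth.Agent.H15Site.TwoPrecov
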