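import Groth.Prelude.Def_LocCohZ
import Groth.Agent.H15Site.SiteInst
import Groth.Agent.H15Site.ClosedPushAb

/-!
# Maps out of `ℤ_V/ℤ_W`
-/

set_option linter.style.haveILetI false
set_option linter.unusedSectionVars false
set_option backward.isDefEq.respectTransparency false

universe u

open CategoryTheory CategoryTheory.Limits Opposite TopologicalSpace LocCohZ

namespace Groth.Agent.H15Site.ZqHom


variable {X : TopCat.{u}}

/-- The section of a map out of `ℤ_V/ℤ_W`. -/
noncomputable def toSect (F : CohTop.Ab X) {W V : Opens X} (h : W ≤ V) :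
    (zq h ⟶ F) →+ sectZ F h where
  toFun x := ⟨CohFree.evalGen (Opens.grothendieckTopology X) V F (cokernel.π _ ≫ x), by
    rw [AddMonoidHom.mem_ker, ← CohFree.evalGen_freeSheafMap_comp, cokernel.condition_assoc, zero_comp, map_zero]⟩
  map_zero' := by apply Subtype.ext; simp
  map_add' x y := by
    apply Subtype.ext
    change CohFree.evalGen (Opens.grothendieckTopology X) V F _ =
      CohFree.evalGen (Opens.grothendieckTopology X) V F _ + CohFree.evalGen (Opens.grothendieckTopology X) V F _
    rw [Preadditive.comp_add, map_add]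

lemma toSect_bijective (F : CohTop.Ab X) {W V : Opens X} (h : W ≤ V) :
    Function.Bijective (toSect F h) := by
  constructor
  · intro x y hxy
    apply (cancel_epi (cokernel.π _)).1
    rw [← CohFree.ofSect_evalGen (Opens.grothendieckTopology X) V F (cokernel.π _ ≫ x),
      ← CohFree.ofSect_evalGen (Opens.grothendieckTopology X) V F (cokernel.π _ ≫ y)]
    have h2 := congrArg Subtype.val hxy
    exact congrArg (CohFree.ofSect (Opens.grothendieckTopology X) V F) h2
  · intro s
    refine ⟨cokernel.desc _ (CohFree.ofSect (Opens.grothendieckTopology X) V F s.1) ?_, ?_⟩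
    · have hs : CohFree.evalGen (Opens.grothendieckTopology X) W F
          (CohCx.freeSheafMap (Opens.grothendieckTopology X) (homOfLE h) ≫
            CohFree.ofSect (Opens.grothendieckTopology X) V F s.1) = 0 := by
        rw [CohFree.evalGen_freeSheafMap_comp, CohFree.evalGen_ofSect]
        exact s.2
      rw [← CohFree.ofSect_evalGen (Opens.grothendieckTopology X) W F (_ ≫ _), hs,
        ← (CohFree.evalGen (Opens.grothendieckTopology X) W F).map_zero, CohFree.ofSect_evalGen]
    · apply Subtype.ext
      change CohFree.evalGen (Opens.grothendieckTopology X) V F (cokernel.π _ ≫ cokernel.desc _ _ _) = s.1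
      rw [cokernel.π_desc]
      exact CohFree.evalGen_ofSect _ _ _ _

/-- `Hom(ℤ_V/ℤ_W, F) ≃+ Γ_{V∖W}(V, F)`. -/
noncomputable def homEquiv (F : CohTop.Ab X) {W V : Opens X} (h : W ≤ V) :
    (zq h ⟶ F) ≃+ sectZ F h :=
  AddEquiv.ofBijective (toSect F h) (toSect_bijective F h)

lemma homEquiv_apply_val (F : CohTop.Ab X) {W V : Opens X} (h : W ≤ V) (x : zq h ⟶ F) :
    (homEquiv F h x).1 =
      CohFree.evalGen (Opens.grothendieckTopology X) V F (cokernel.π _ ≫ x) := rfl

lemma homEquiv_comp {F G : CohTop.Ab X} (g : F ⟶ G) {W V : Opens X} (h : W ≤ V) (x : zq h ⟶ F) :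
    (homEquiv G h (x ≫ g)).1 = (g.hom.app (op V)).hom (homEquiv F h x).1 := by
  rw [homEquiv_apply_val, homEquiv_apply_val, ← Category.assoc]
  rfl

end Groth.Agent.H15Site.ZqHom
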